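import Cfsg.Statements.S5618
import Mathlib
import Cfsg.Agent.Lib.Helper9.M24Dod
import Cfsg.Agent.Lib.Helper9.M24List
import Cfsg.Agent.S5614

set_option autoImplicit false
open scoped Pointwise
open Cfsg

namespace Cfsg.Agent.S5618

open Cfsg.Agent.Lib.Helper9
open Cfsg
open Cfsg.Agent.S5614
open scoped Pointwise

def hexA_X : ℕ := 0x827008826900826402826084825802825480825104824c0482488882450882418282400e823880823404823102822c0882280682258082210c82208a821d0082180c82140a821188821086820c8282098482090a82050682048c807804807500807082806c8080680a80640c806188806106805c0880598080540680510a80508c804d0280490c80488680458480448a803c0280390880348880318480300e802d0480298280288c80250a802486801c8480190680188a80158280150c800d88800c0e80018e027c0002718002700602688202680c02650402648802610a02590802588402550202540c02508a024d80024c0a02490602448602418c02390402380a02350802348202308c022d02022c8402298802240e022186021c88021c0602198202158402110e020d0c02088e02058a00790200788800748400740a00710c006d08006c0600698400658200608e005d04005c8200580e005588005186004c8c00498a00450e003d80003c0c00388600350600318a002c8a00290e00258c001d0a00198c00148e000d86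

def hexA_P : ℕ := 0x1003d02003c01004c02004e01001601006501001702001702006001007302007600007802005502000001001401007100003002006702002001002b00005a01003c02000102006602004902005b02007c00003a00007801007602001600004700002500004400002800004c02007101000600005201001d01006202002b02004c00006802003d00002000004302004f01005f01003a01008300000100002b02003202007d01002d00007000006602005601001500002d00006d01008102007801007201002c02001502007200003802006401002000005600006202002d01003202006201005602000601003802008101006901000000007c00001702003400004001007801005902004400007900005500001501006601000100006400007d00003700005b02002501006700003c00008102004001003900004901007b02002802003a01004400000001004702005202003e00006f01003402007000002400004e02008302002e01005a00005000002201005400002c000072020039020068010079010037020047000067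

def hexA_D : ℕ := 0x40503050405030304050400050305040402030304050405050404030104040305020503040404050303030404030404050305040304040204050404020504010305040304040304030204030404040405030403050401040205050405040404050405020504040505050503020303040505050405050505040505050503050405050302

def hexA_levels : List (ℕ × List (List ℕ)) :=
  [(0, [[0, 1, 2, 3, 4, 5, 6, 7, 8, 9, 10, 11, 12, 13, 14, 15, 16, 17, 18, 19, 20, 21, 22, 23],
      [5, 23, 1, 2, 18, 0, 16, 7, 11, 6, 13, 8, 10, 12, 17, 19, 15, 3, 20, 22, 4, 21, 9, 14]]),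
   (1, [[0, 1, 2, 3, 4, 5, 6, 7, 8, 9, 10, 11, 12, 13, 14, 15, 16, 17, 18, 19, 20, 21, 22, 23],
      [0, 2, 17, 14, 6, 5, 16, 11, 10, 20, 7, 13, 12, 8, 1, 4, 22, 3, 21, 9, 18, 19, 15, 23],
      [0, 3, 23, 1, 6, 5, 4, 8, 7, 19, 10, 11, 13, 12, 14, 18, 16, 17, 15, 9, 22, 21, 20, 2],
      [0, 14, 23, 1, 20, 5, 15, 7, 8, 16, 12, 11, 13, 10, 3, 22, 19, 2, 4, 9, 18, 21, 6, 17],
      [0, 17, 23, 1, 22, 5, 9, 11, 13, 4, 7, 12, 10, 8, 3, 18, 15, 14, 21, 19, 20, 16, 6, 2],
      [0, 23, 14, 1, 20, 5, 18, 13, 8, 4, 12, 10, 7, 11, 3, 19, 22, 17, 16, 9, 15, 6, 21, 2]]),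
   (2, [[0, 1, 2, 3, 4, 5, 6, 7, 8, 9, 10, 11, 12, 13, 14, 15, 16, 17, 18, 19, 20, 21, 22, 23],
      [0, 1, 3, 23, 6, 5, 18, 13, 12, 16, 8, 7, 10, 11, 14, 15, 22, 17, 4, 21, 19, 20, 9, 2],
      [0, 1, 14, 2, 19, 5, 4, 13, 7, 20, 10, 8, 11, 12, 17, 22, 18, 23, 21, 15, 16, 9, 6, 3],
      [0, 1, 17, 2, 9, 5, 19, 7, 10, 22, 13, 12, 8, 11, 3, 6, 18, 23, 15, 16, 21, 4, 20, 14],
      [0, 1, 23, 2, 18, 5, 4, 11, 10, 22, 12, 13, 8, 7, 14, 15, 9, 17, 6, 20, 21, 19, 16, 3]]),
   (3, [[0, 1, 2, 3, 4, 5, 6, 7, 8, 9, 10, 11, 12, 13, 14, 15, 16, 17, 18, 19, 20, 21, 22, 23],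
      [0, 1, 2, 14, 19, 5, 20, 10, 12, 4, 13, 8, 11, 7, 17, 16, 21, 3, 18, 9, 22, 15, 6, 23],
      [0, 1, 2, 17, 9, 5, 22, 13, 11, 19, 7, 12, 8, 10, 3, 21, 15, 14, 18, 4, 6, 16, 20, 23],
      [0, 1, 2, 23, 18, 5, 20, 8, 13, 9, 12, 10, 11, 7, 3, 16, 22, 17, 19, 4, 21, 6, 15, 14]]),
   (6, [[0, 1, 2, 3, 4, 5, 6, 7, 8, 9, 10, 11, 12, 13, 14, 15, 16, 17, 18, 19, 20, 21, 22, 23],
      [0, 1, 2, 3, 4, 5, 16, 10, 13, 19, 12, 8, 7, 11, 23, 20, 21, 14, 9, 18, 22, 6, 15, 17],
      [0, 1, 2, 3, 4, 5, 21, 12, 11, 18, 7, 13, 10, 8, 17, 22, 6, 23, 19, 9, 15, 16, 20, 14]])]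

set_option maxHeartbeats 40000000 in
theorem hexA : (orbS Kdod (mset 8536078)).ncard = 132 ∧
    Nat.card ↥(Kdod ⊓ MulAction.stabilizer (Equiv.Perm GolayPt) (mset 8536078)) = 720 := by
  have h := orb1_exact Kdod 95040 card_Kdod (fun l => actM l 0 8551822 == 8551822) memKdod
    gensKdod gensKdod_ok hexA_X hexA_P hexA_D 132 120 8536078 (by decide +kernel)
    (by decide +kernel) (by decide +kernel) hexA_levels (by decide +kernel) (by decide +kernel)
  have e : chainProd hexA_levels = 720 := by decide +kernel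
  rw [e] at h
  exact h

def cntB (P : ℕ → Bool) : ℕ → ℕ
  | 0 => 0
  | k + 1 => (if P k = true then 1 else 0) + cntB P k

theorem cntB_eq (P : ℕ → Bool) (k : ℕ) :
    cntB P k = ((Finset.range k).filter (fun n => P n = true)).card := by
  induction k with
  | zero => simp [cntB]
  | succ k ih =>
    rw [cntB, ih, Finset.range_add_one, Finset.filter_insert]
    by_cases h : P k = true
    · rw [if_pos h, if_pos h, Finset.card_insert_of_notMem (by simp)]; omega
    · rw [if_neg h, if_neg h]; omega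

def hexP (n : ℕ) : Bool := pc 24 (cw n) == 8 && pc 24 (cw n &&& 8551822) == 6

theorem cnt_hex : cntB hexP 4096 = 132 := by decide +kernel

theorem hexads_subset : hexadsOn (mset 8551822) ⊆
    (fun n => mset (cw n &&& 8551822)) '' ((Finset.range 4096).filter (fun n => hexP n = true) : Set ℕ) := by
  rintro h ⟨hc, o, ho, rfl⟩
  obtain ⟨n, hn, hpc, rfl⟩ := (mem_octads_iff o).mp ho
  refine ⟨n, ?_, mset_and _ _⟩
  simp only [Finset.coe_filter, Finset.mem_range, Set.mem_setOf_eq]
  refine ⟨hn, ?_⟩
  unfold hexP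
  rw [Bool.and_eq_true, beq_iff_eq, beq_iff_eq]
  refine ⟨hpc, ?_⟩
  rw [← mset_and, card_mset] at hc
  exact hc

theorem hexads_finite : (hexadsOn (mset 8551822)).Finite :=
  Set.Finite.subset (Set.toFinite _) hexads_subset

theorem ncard_hexads_le : (hexadsOn (mset 8551822)).ncard ≤ 132 := by
  have h1 := Set.ncard_le_ncard hexads_subset (Set.toFinite _)
  have h2 := Set.ncard_image_le (f := fun n => mset (cw n &&& 8551822))
    (s := ((Finset.range 4096).filter (fun n => hexP n = true) : Set ℕ)) (Set.toFinite _)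
  rw [Set.ncard_coe_finset, ← cntB_eq, cnt_hex] at h2
  exact le_trans h1 h2

theorem smul_mem_hexadsOn {g : Equiv.Perm GolayPt} (hg : g ∈ M24) {d C : Finset GolayPt}
    (h : C ∈ hexadsOn d) : g • C ∈ hexadsOn (g • d) := by
  obtain ⟨hc, o, ho, rfl⟩ := h
  exact ⟨by rw [Finset.card_smul_finset]; exact hc, g • o, smul_mem_octads hg ho,
    by rw [Finset.smul_finset_inter]⟩

theorem C0_mem : mset 8536078 ∈ hexadsOn (mset 8551822) := by
  refine ⟨by rw [card_mset]; decide, mset 8536111, mset_o0_mem, ?_⟩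
  rw [← mset_and]
  congr 1

theorem hexads_eq_orbit : orbS Kdod (mset 8536078) = hexadsOn (mset 8551822) :=
  orbS_eq_of_ncard Kdod _ hexads_finite (fun g hg s hs => by
      have := smul_mem_hexadsOn hg.1 hs
      have e : g • mset 8551822 = mset 8551822 := hg.2
      rw [e] at this
      exact this) _ C0_mem (by rw [hexA.1]; exact ncard_hexads_le)

theorem exists_pair {d C : Finset GolayPt} (hd : d ∈ dodecads) (hC : C ∈ hexadsOn d) :
    ∃ a ∈ M24, a • mset 8551822 = d ∧ a • mset 8536078 = C := by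
  obtain ⟨a, ha, rfl⟩ := exists_smul_eq_dodecad hd
  have h1 := smul_mem_hexadsOn (M24.inv_mem ha) hC
  rw [inv_smul_smul, ← hexads_eq_orbit] at h1
  obtain ⟨k, hk, hk'⟩ := h1
  have hk2 : k • mset 8551822 = mset 8551822 := hk.2
  exact ⟨a * k, M24.mul_mem ha hk.1, by rw [mul_smul, hk2], by rw [mul_smul, hk', smul_inv_smul]⟩

theorem E_stab : ∀ l ∈ fixE16, actM l 0 8551822 = 8551822 →
    l = [0, 1, 2, 3, 4, 5, 6, 7, 8, 9, 10, 11, 12, 13, 14, 15, 16, 17, 18, 19, 20, 21, 22, 23] := by
  decide +kernel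

theorem E_lt : ∀ l ∈ fixE16, actM l 0 8551822 < 2 ^ 24 := by decide +kernel

theorem ker0 (g : Equiv.Perm GolayPt) (hg : g ∈ M24) (hd : g • mset 8551822 = mset 8551822)
    (hfix : ∀ p ∈ mset 8536078, g p = p) : g = 1 := by
  obtain ⟨l, hl, rfl⟩ := fixE_eq g hg hfix
  have hok := fixE16_ok
  rw [List.all_eq_true] at hok
  have hl' := hok l hl
  rw [Bool.and_eq_true] at hl'
  have hp := isPermL_of_isM24L hl'.1
  rw [permL_smul_mset hp] at hd
  have h3 := mset_injOn (E_lt l hl) (by norm_num) hd
  rw [E_stab l hl h3]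
  exact permL_id

def hswap : List ℕ := [0, 11, 7, 13, 15, 5, 4, 2, 14, 6, 23, 1, 3, 17, 10, 9, 16, 12, 21, 22, 20, 19, 18, 8]

theorem hswap_ok : (isM24L hswap && actM hswap 0 8551822 == 8551822 &&
    actM hswap 0 8536078 == 15744) = true := by decide +kernel

theorem ker1 (g : Equiv.Perm GolayPt) (hg : g ∈ M24) (hd : g • mset 8551822 = mset 8551822)
    (hfix : ∀ p ∈ mset 15744, g p = p) : g = 1 := by
  have hok := hswap_ok
  rw [Bool.and_eq_true, Bool.and_eq_true, beq_iff_eq, beq_iff_eq] at hok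
  have hp := isPermL_of_isM24L hok.1.1
  have hm := permL_mem_M24 hok.1.1
  have h1 : permL hswap • mset 8551822 = mset 8551822 := by rw [permL_smul_mset hp, hok.1.2]
  have h2 : permL hswap • mset 8536078 = mset 15744 := by rw [permL_smul_mset hp, hok.2]
  have key := ker0 ((permL hswap)⁻¹ * g * permL hswap)
    (M24.mul_mem (M24.mul_mem (M24.inv_mem hm) hg) hm)
    (by rw [mul_smul, mul_smul, h1, hd, inv_smul_eq_iff, h1])
    (by
      intro p hp'
      have : permL hswap p ∈ mset 15744 := by
        rw [← h2]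
        exact Finset.smul_mem_smul_finset hp'
      simp only [Equiv.Perm.coe_mul, Function.comp_apply]
      rw [hfix _ this]
      simp)
  have e : g = permL hswap * ((permL hswap)⁻¹ * g * permL hswap) * (permL hswap)⁻¹ := by group
  rw [e, key]
  group

theorem base_iso : Nonempty (↥((M24 ⊓ MulAction.stabilizer (Equiv.Perm GolayPt) (mset 8551822)) ⊓
    MulAction.stabilizer (Equiv.Perm GolayPt) (mset 8536078)) ≃* Equiv.Perm (Fin 6)) := by
  refine restrict_iso _ (mset 8536078) ?_ 6 (by rw [card_mset]; decide) hexA.2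
    (fun g hg hfix => ker0 g hg.1.1 hg.1.2 hfix)
  intro g hg x
  exact (smul_finset_eq_iff g _).mp hg.2 x

theorem sdiff_eq : mset 8551822 \ mset 8536078 = mset 15744 := by
  have e : (15744 : ℕ) = 8551822 &&& (8536078 ^^^ 16777215) := by decide
  rw [e, mset_and, mset_xor_full]
  ext p
  simp

/-- For a dodecad d of the length-24 code and a hexad C on it (a 6-point intersection of d with an octad): the joint stabiliser of d and C in the code's group is isomorphic to the symmetric group of degree 6, and it acts faithfully both on the six points of C and on the six points of d outside C. -/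
theorem result (d : Finset Cfsg.GolayPt) (hd : d ∈ Cfsg.dodecads) (C : Finset Cfsg.GolayPt) (hC : C ∈ Cfsg.hexadsOn d) : Nonempty (↥(MulAction.stabilizer Cfsg.M24 d ⊓ MulAction.stabilizer Cfsg.M24 C) ≃* Equiv.Perm (Fin 6)) ∧ (∀ g ∈ MulAction.stabilizer Cfsg.M24 d ⊓ MulAction.stabilizer Cfsg.M24 C, (∀ p ∈ C, ((g : ↥Cfsg.M24) : Equiv.Perm Cfsg.GolayPt) p = p) → g = 1) ∧ ∀ g ∈ MulAction.stabilizer Cfsg.M24 d ⊓ MulAction.stabilizer Cfsg.M24 C, (∀ p ∈ d \ C, ((g : ↥Cfsg.M24) : Equiv.Perm Cfsg.GolayPt) p = p) → g = 1 := by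
  obtain ⟨a, ha, rfl, rfl⟩ := exists_pair hd hC
  refine ⟨?_, ?_, ?_⟩
  · obtain ⟨e⟩ := base_iso
    exact ⟨(bridgeStab2 _ _).trans ((conjStab2 ha _ _).symm.trans e)⟩
  · intro g hg hfix
    have h1 : (g : Equiv.Perm GolayPt) • (a • mset 8551822) = a • mset 8551822 := hg.1
    have key := ker0 (a⁻¹ * (g : Equiv.Perm GolayPt) * a)
      (M24.mul_mem (M24.mul_mem (M24.inv_mem ha) g.2) ha)
      (by rw [mul_smul, mul_smul, h1, inv_smul_smul])
      (by
        intro p hp
        have := hfix (a p) (Finset.smul_mem_smul_finset hp)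
        simp only [Equiv.Perm.coe_mul, Function.comp_apply]
        rw [this]
        simp)
    apply Subtype.ext
    have e : (g : Equiv.Perm GolayPt) = a * (a⁻¹ * (g : Equiv.Perm GolayPt) * a) * a⁻¹ := by group
    rw [e, key]
    simp
  · intro g hg hfix
    have h1 : (g : Equiv.Perm GolayPt) • (a • mset 8551822) = a • mset 8551822 := hg.1
    have key := ker1 (a⁻¹ * (g : Equiv.Perm GolayPt) * a)
      (M24.mul_mem (M24.mul_mem (M24.inv_mem ha) g.2) ha)
      (by rw [mul_smul, mul_smul, h1, inv_smul_smul])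
      (by
        intro p hp
        have hm : a p ∈ a • mset 8551822 \ a • mset 8536078 := by
          rw [← Finset.smul_finset_sdiff, sdiff_eq]
          exact Finset.smul_mem_smul_finset hp
        have := hfix (a p) hm
        simp only [Equiv.Perm.coe_mul, Function.comp_apply]
        rw [this]
        simp)
    apply Subtype.ext
    have e : (g : Equiv.Perm GolayPt) = a * (a⁻¹ * (g : Equiv.Perm GolayPt) * a) * a⁻¹ := by group
    rw [e, key]
    simp

end Cfsg.Agent.S5618
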