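import Mathlib
import Cfsg.Statements.S1443
import Cfsg.Agent.Lib.Helper1.ThompsonJ
import Cfsg.Agent.Lib.Helper3.HallHigman
import Cfsg.Agent.Lib.Helper5.CoprimeAB

set_option autoImplicit false
open Cfsg

namespace Cfsg.Agent.S1443

/-- Let G be a finite group, p an odd prime, H a p-subgroup, E an elementary abelian subgroup of H, and A a subgroup of order coprime to p normalizing H. If A centralizes every element of order p in H ∩ C_G(E), then A centralizes H. -/
theorem result {G : Type*} [Group G] [Finite G] (p : ℕ) [Fact p.Prime] (hp : p ≠ 2) (H E A : Subgroup G) (hH : IsPGroup p H) (hE : E ≤ H) (hEe : Cfsg.IsElementaryAbelian p E)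
    (hA : (A ≤ Subgroup.normalizer (H : Set G))) (hcop : (Nat.card A).Coprime p)
    (hfix : ∀ x ∈ (H ⊓ Subgroup.centralizer (E : Set G)), orderOf x = p → A ≤ Subgroup.centralizer ({x} : Set G)) :
    A ≤ Subgroup.centralizer (H : Set G) := by
  classical
  have hEab : ∀ a ∈ E, ∀ b ∈ E, a * b = b * a :=
    fun a ha b hb => Cfsg.Agent.Lib.Helper1.ea_comm hEe ha hb
  have hED : E ≤ H ⊓ Subgroup.centralizer (E : Set G) := by
    intro e he
    refine Subgroup.mem_inf.mpr ⟨hE he, ?_⟩
    rw [Subgroup.mem_centralizer_iff]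
    intro b hb
    exact hEab b hb e he
  have hfix' : ∀ y ∈ A, ∀ x ∈ H ⊓ Subgroup.centralizer (E : Set G), x ^ p = 1 →
      y * x * y⁻¹ = x := by
    intro y hy x hx hxp
    by_cases hx1 : x = 1
    · rw [hx1]; group
    · have ho : orderOf x = p := orderOf_eq_prime hxp hx1
      have h1 := hfix x hx ho hy
      rw [Subgroup.mem_centralizer_iff] at h1
      have h2 := h1 x (Set.mem_singleton x)
      calc y * x * y⁻¹ = (x * y) * y⁻¹ := by rw [h2]
        _ = x := by group
  intro y hy
  have hyN : y ∈ Subgroup.normalizer (H : Set G) := hA hy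
  have hyH : ∀ a ∈ H, y * a * y⁻¹ ∈ H :=
    fun a ha => (Subgroup.mem_normalizer_iff.mp hyN a).mp ha
  have hyE : ∀ b ∈ E, y * b = b * y := by
    intro b hb
    have h1 := hfix' y hy b (hED hb) (hEe.2 b hb)
    calc y * b = (y * b * y⁻¹) * y := by group
      _ = b * y := by rw [h1]
  have hycop : (orderOf y).Coprime p :=
    Nat.Coprime.coprime_dvd_left (Subgroup.orderOf_dvd_natCard A hy) hcop
  have hyD : ∀ a ∈ H ⊓ Subgroup.centralizer (E : Set G),
      y * a * y⁻¹ ∈ H ⊓ Subgroup.centralizer (E : Set G) := by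
    intro a ha
    obtain ⟨haH, haC⟩ := Subgroup.mem_inf.mp ha
    refine Subgroup.mem_inf.mpr ⟨hyH a haH, ?_⟩
    rw [Subgroup.mem_centralizer_iff] at haC ⊢
    intro b hb
    have h1 := haC b hb
    have h2 := hyE b hb
    have h3 : y⁻¹ * b = b * y⁻¹ := by
      calc y⁻¹ * b = y⁻¹ * (b * y) * y⁻¹ := by group
        _ = y⁻¹ * (y * b) * y⁻¹ := by rw [h2]
        _ = b * y⁻¹ := by group
    calc b * (y * a * y⁻¹) = (b * y) * a * y⁻¹ := by group
      _ = (y * b) * a * y⁻¹ := by rw [h2]
      _ = y * (b * a) * y⁻¹ := by group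
      _ = y * (a * b) * y⁻¹ := by rw [h1]
      _ = y * a * (b * y⁻¹) := by group
      _ = y * a * (y⁻¹ * b) := by rw [h3]
      _ = y * a * y⁻¹ * b := by group
  have hDp : IsPGroup p ↥(H ⊓ Subgroup.centralizer (E : Set G) : Subgroup G) :=
    hH.to_le inf_le_left
  have hyDc : ∀ a ∈ H ⊓ Subgroup.centralizer (E : Set G), y * a * y⁻¹ = a := by
    by_contra hnc
    obtain ⟨R, hRD, hyR, hncR, hexp⟩ :=
      Cfsg.Agent.Lib.Helper3.exists_small_exponent_not_centralized _ hDp y hyD hycop hnc
    apply hncR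
    intro a ha
    rcases hexp a ha with h1 | ⟨h2, -⟩
    · exact hfix' y hy a (hRD ha) h1
    · exact absurd h2 hp
  have hEp : IsPGroup p ↥E := hH.to_le hE
  have hEN : E ≤ Subgroup.normalizer (H : Set G) := hE.trans Subgroup.le_normalizer
  have hfinal := Cfsg.Agent.Lib.Helper5.thompson_AB5 H E hH hEp hEN y hyN hyE hycop (by
    intro e he hb
    apply hyDc
    refine Subgroup.mem_inf.mpr ⟨he, ?_⟩
    rw [Subgroup.mem_centralizer_iff]
    intro b hbE
    exact hb b hbE)
  rw [Subgroup.mem_centralizer_iff]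
  intro h hh
  have h1 := hfinal h hh
  calc h * y = (y * h * y⁻¹) * y := by rw [h1]
    _ = y * h := by group

end Cfsg.Agent.S1443
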