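import Cfsg.Statements.S0242
import Mathlib
import Cfsg.Agent.Lib.Lead.SylowAux2

set_option autoImplicit false
open Cfsg Cfsg.Agent.Lib.Lead

namespace Cfsg.Agent.S0242

open scoped Pointwise commutatorElement

/-- Order of the special linear group: (q - 1) |SL_n(q)| = prod_{i<n} (q^n - q^i) = |GL_n(q)|, for n at least 1. -/
theorem result {F : Type*} [Field F] [Fintype F] {q : ℕ} (hF : Fintype.card F = q) (n : ℕ) (hn : 1 ≤ n) : (q - 1) * Nat.card (Matrix.SpecialLinearGroup (Fin n) F) = ∏ i : Fin n, (q ^ n - q ^ (i : ℕ)) := by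
  classical
  haveI : Nonempty (Fin n) := ⟨⟨0, hn⟩⟩
  have h1 := Matrix.card_GL_field (𝔽 := F) (n := n)
  rw [hF] at h1
  rw [← h1]
  have hdet : Function.Surjective (Matrix.GeneralLinearGroup.det : GL (Fin n) F →* Fˣ) :=
    Matrix.GeneralLinearGroup.det_surjective
  have h2 := Subgroup.card_mul_index (Matrix.GeneralLinearGroup.det : GL (Fin n) F →* Fˣ).ker
  rw [Subgroup.index_ker, MonoidHom.range_eq_top.mpr hdet, Subgroup.card_top] at h2
  have h3 : Nat.card Fˣ = q - 1 := by rw [Nat.card_units, Nat.card_eq_fintype_card, hF]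
  have h4 : Nat.card (Matrix.SpecialLinearGroup (Fin n) F) =
      Nat.card (Matrix.GeneralLinearGroup.det : GL (Fin n) F →* Fˣ).ker := by
    rw [← Nat.card_range_of_injective Matrix.SpecialLinearGroup.toGL_injective]
    apply Nat.card_congr
    apply Equiv.setCongr
    rw [Matrix.SpecialLinearGroup.range_toGL]
    ext x
    simp [MonoidHom.mem_ker]
  rw [h4, ← h2, h3, mul_comm]

end Cfsg.Agent.S0242
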