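import Cfsg.Statements.S0243
import Mathlib
import Cfsg.Agent.Lib.Lead.SylowAux2
import Cfsg.Agent.S0242

set_option autoImplicit false
open Cfsg Cfsg.Agent.Lib.Lead

namespace Cfsg.Agent.S0243

open scoped Pointwise commutatorElement

/-- Order of PSL_n(q): gcd(n, q-1) (q-1) |PSL_n(q)| = prod_{i<n} (q^n - q^i). -/
theorem result {F : Type*} [Field F] [Fintype F] {q : ℕ} (hF : Fintype.card F = q) (n : ℕ) (hn : 2 ≤ n) : Nat.gcd n (q - 1) * ((q - 1) * Nat.card (Matrix.ProjectiveSpecialLinearGroup (Fin n) F)) = ∏ i : Fin n, (q ^ n - q ^ (i : ℕ)) := by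
  classical
  have h242 := Cfsg.Agent.S0242.result hF n (by omega)
  rw [← h242]
  have hcard := Subgroup.card_eq_card_quotient_mul_card_subgroup
    (Subgroup.center (Matrix.SpecialLinearGroup (Fin n) F))
  have hc : Nat.card (Subgroup.center (Matrix.SpecialLinearGroup (Fin n) F)) =
      Nat.gcd n (q - 1) := by
    rw [Nat.card_congr (Matrix.SpecialLinearGroup.center_equiv_rootsOfUnity'
      (⟨0, by omega⟩ : Fin n)).toEquiv]
    have e : rootsOfUnity (Fintype.card (Fin n)) F = (powMonoidHom n : Fˣ →* Fˣ).ker := by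
      ext x
      rw [mem_rootsOfUnity, MonoidHom.mem_ker, powMonoidHom_apply, Fintype.card_fin]
    rw [e, IsCyclic.card_powMonoidHom_ker, Nat.card_units, Nat.card_eq_fintype_card, hF,
      Nat.gcd_comm]
  show Nat.gcd n (q - 1) * ((q - 1) * Nat.card (Matrix.SpecialLinearGroup (Fin n) F ⧸
    Subgroup.center (Matrix.SpecialLinearGroup (Fin n) F))) = _
  rw [hcard, hc]; ring

end Cfsg.Agent.S0243
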