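import Cfsg.Statements.S4399
import Mathlib
import Cfsg.Agent.Lib.Lead.UniqueSub
import Cfsg.Agent.Lib.Helper4.DihedralHom
import Cfsg.Agent.Lib.Helper3.PGroup

set_option autoImplicit false
open Cfsg

universe u

namespace Cfsg.Agent.S4399

theorem mem_two {G : Type*} [Group G] [Finite G] {c z : G} (hc : c ^ 2 = 1)
    (hz : z ∈ Subgroup.zpowers c) : z = 1 ∨ z = c := by
  obtain ⟨j, rfl⟩ := (Submonoid.mem_powers_iff _ _).1 (mem_powers_iff_mem_zpowers.2 hz)
  rw [pow_eq_pow_mod j hc]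
  have : j % 2 = 0 ∨ j % 2 = 1 := by omega
  rcases this with h | h
  · left; rw [h, pow_zero]
  · right; rw [h, pow_one]

theorem exists_nat_pow {G : Type*} [Group G] [Finite G] {c z : G}
    (hz : z ∈ Subgroup.zpowers c) : ∃ j : ℕ, z = c ^ j := by
  obtain ⟨j, rfl⟩ := (Submonoid.mem_powers_iff _ _).1 (mem_powers_iff_mem_zpowers.2 hz)
  exact ⟨j, rfl⟩

/-- all commutators of a group with an abelian subgroup `M` of index two lie in `[M, y]` -/
theorem comm_le_of_index_two {S : Type*} [Group S] (M D : Subgroup S) (hM : M.index = 2)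
    (hab : ∀ m₁ ∈ M, ∀ m₂ ∈ M, m₁ * m₂ = m₂ * m₁) (y : S) (hy : y ∉ M)
    (hD : ∀ m ∈ M, y * m * y⁻¹ * m⁻¹ ∈ D) : commutator S ≤ D := by
  haveI : M.Normal := Subgroup.normal_of_index_eq_two hM
  rw [commutator_def, Subgroup.commutator_le]
  intro g₁ _ g₂ _
  rw [commutatorElement_def]
  have hdec : ∀ g : S, g ∈ M ∨ ∃ m ∈ M, g = y * m := by
    intro g
    by_cases hg : g ∈ M
    · exact Or.inl hg
    · right
      refine ⟨y⁻¹ * g, ?_, by group⟩
      rw [Subgroup.mul_mem_iff_of_index_two hM]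
      constructor
      · intro h; exact absurd (M.inv_mem_iff.1 h) hy
      · intro h; exact absurd h hg
  rcases hdec g₁ with h1 | ⟨m₁, h1, rfl⟩ <;> rcases hdec g₂ with h2 | ⟨m₂, h2, rfl⟩
  · rw [hab g₁ h1 g₂ h2]
    have : g₂ * g₁ * g₁⁻¹ * g₂⁻¹ = 1 := by group
    rw [this]; exact D.one_mem
  · -- g₁ ∈ M, g₂ = y m₂
    have h3 : m₂ * g₁⁻¹ = g₁⁻¹ * m₂ := hab m₂ h2 g₁⁻¹ (M.inv_mem h1)
    have : g₁ * (y * m₂) * g₁⁻¹ * (y * m₂)⁻¹ = (y * g₁ * y⁻¹ * g₁⁻¹)⁻¹ := by
      calc g₁ * (y * m₂) * g₁⁻¹ * (y * m₂)⁻¹ = g₁ * y * (m₂ * g₁⁻¹) * m₂⁻¹ * y⁻¹ := by group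
        _ = g₁ * y * (g₁⁻¹ * m₂) * m₂⁻¹ * y⁻¹ := by rw [h3]
        _ = (y * g₁ * y⁻¹ * g₁⁻¹)⁻¹ := by group
    rw [this]; exact D.inv_mem (hD g₁ h1)
  · -- g₁ = y m₁, g₂ ∈ M
    have h3 : m₁ * g₂ = g₂ * m₁ := hab m₁ h1 g₂ h2
    have : y * m₁ * g₂ * (y * m₁)⁻¹ * g₂⁻¹ = y * g₂ * y⁻¹ * g₂⁻¹ := by
      calc y * m₁ * g₂ * (y * m₁)⁻¹ * g₂⁻¹ = y * (m₁ * g₂) * m₁⁻¹ * y⁻¹ * g₂⁻¹ := by group
        _ = y * (g₂ * m₁) * m₁⁻¹ * y⁻¹ * g₂⁻¹ := by rw [h3]
        _ = y * g₂ * y⁻¹ * g₂⁻¹ := by group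
    rw [this]; exact hD g₂ h2
  · obtain ⟨v, hv⟩ : ∃ v, v = y * (m₂ * m₁⁻¹) * y⁻¹ := ⟨_, rfl⟩
    have hvM : v ∈ M := by
      rw [hv]; exact ‹M.Normal›.conj_mem _ (M.mul_mem h2 (M.inv_mem h1)) y
    have h3 : m₁ * v = v * m₁ := hab m₁ h1 v hvM
    have : y * m₁ * (y * m₂) * (y * m₁)⁻¹ * (y * m₂)⁻¹ = y * v * y⁻¹ * v⁻¹ := by
      calc y * m₁ * (y * m₂) * (y * m₁)⁻¹ * (y * m₂)⁻¹
          = y * (m₁ * (y * (m₂ * m₁⁻¹) * y⁻¹)) * m₂⁻¹ * y⁻¹ := by group
        _ = y * (m₁ * v) * m₂⁻¹ * y⁻¹ := by rw [← hv]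
        _ = y * (v * m₁) * m₂⁻¹ * y⁻¹ := by rw [h3]
        _ = y * ((y * (m₂ * m₁⁻¹) * y⁻¹) * m₁) * m₂⁻¹ * y⁻¹ := by rw [hv]
        _ = y * (y * (m₂ * m₁⁻¹) * y⁻¹) * y⁻¹ * (y * (m₂ * m₁⁻¹) * y⁻¹)⁻¹ := by group
        _ = y * v * y⁻¹ * v⁻¹ := by rw [← hv]
    rw [this]; exact hD v hvM

theorem phi_pow {S : Type*} [Group S] {x y : S}
    (hc : (y * x * y⁻¹) * x = x * (y * x * y⁻¹)) (i : ℕ) :
    y * x ^ i * y⁻¹ * (x ^ i)⁻¹ = (y * x * y⁻¹ * x⁻¹) ^ i := by
  have ht : Commute (y * x * y⁻¹) x⁻¹ := (show Commute (y * x * y⁻¹) x from hc).inv_right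
  rw [← conj_pow, ← inv_pow, ← ht.mul_pow]

theorem comm_of_sq {S : Type*} [Group S] (h : ∀ x : S, x ^ 2 = 1) (a b : S) : a * b = b * a := by
  have ha : a⁻¹ = a := inv_eq_of_mul_eq_one_left (by rw [← pow_two]; exact h a)
  have hb : b⁻¹ = b := inv_eq_of_mul_eq_one_left (by rw [← pow_two]; exact h b)
  have hab : (a * b)⁻¹ = a * b := inv_eq_of_mul_eq_one_left (by rw [← pow_two]; exact h (a * b))
  calc a * b = (a * b)⁻¹ := hab.symm
    _ = b⁻¹ * a⁻¹ := mul_inv_rev a b
    _ = b * a := by rw [ha, hb]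

theorem exists_cyclic_max : ∀ (n : ℕ), 3 ≤ n → ∀ (S : Type u) [Group S] [Finite S],
    Nat.card S = 2 ^ n → (commutator S).index = 4 → (∀ x : S, x ^ 2 ∈ commutator S) →
    ∃ a : S, orderOf a = 2 ^ (n - 1) := by
  intro n
  induction n with
  | zero => intro h; omega
  | succ n ih =>
    intro hn S _ _ hcard hidx hsq
    have hcc := Subgroup.card_mul_index (commutator S)
    rw [hidx, hcard] at hcc
    rcases Nat.lt_or_ge n 3 with hlt | hge
    · have hn2 : n = 2 := by omega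
      subst hn2
      have hex : ∃ x : S, x ^ 2 ≠ 1 := by
        by_contra h
        push Not at h
        have hbot : commutator S = ⊥ := by
          rw [eq_bot_iff, commutator_def, Subgroup.commutator_le]
          intro g₁ _ g₂ _
          rw [Subgroup.mem_bot, commutatorElement_eq_one_iff_mul_comm]
          exact comm_of_sq h g₁ g₂
        rw [hbot, Subgroup.card_bot] at hcc
        norm_num at hcc
      obtain ⟨x, hx⟩ := hex
      have hdvd : orderOf x ∣ 2 ^ 3 := by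
        have := orderOf_dvd_natCard x
        rwa [hcard] at this
      obtain ⟨j, hj, hoj⟩ := (Nat.dvd_prime_pow Nat.prime_two).1 hdvd
      have hj2 : 2 ≤ j := by
        by_contra hlt
        apply hx
        have : orderOf x ∣ 2 := by
          rw [hoj]
          have : j = 0 ∨ j = 1 := by omega
          rcases this with rfl | rfl <;> norm_num
        exact orderOf_dvd_iff_pow_eq_one.1 this
      have hj' : j = 2 ∨ j = 3 := by omega
      rcases hj' with rfl | rfl
      · exact ⟨x, by rw [hoj]⟩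
      · refine ⟨x ^ 2, ?_⟩
        rw [orderOf_pow, hoj]
        norm_num
    · -- inductive step
      have hP : IsPGroup 2 S := IsPGroup.of_card hcard
      have hcomm_card : Nat.card (commutator S) = 2 ^ (n - 1) := by
        have h1 : 2 ^ (n + 1) = 2 ^ (n - 1) * 4 := by
          have : (4 : ℕ) = 2 ^ 2 := by norm_num
          rw [this, ← pow_add]; congr 1; omega
        rw [h1] at hcc
        exact Nat.eq_of_mul_eq_mul_right (by norm_num) hcc
      have hne : commutator S ≠ ⊥ := by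
        intro h
        rw [h, Subgroup.card_bot] at hcomm_card
        have : 2 ^ 1 ≤ 2 ^ (n - 1) := Nat.pow_le_pow_right (by norm_num) (by omega)
        omega
      obtain ⟨z₀, hz₀c, hz₀1, hz₀cen⟩ :=
        Lib.Helper3.exists_ne_one_mem_center_of_normal hP (commutator S) hne
      obtain ⟨j, hj⟩ := (IsPGroup.iff_orderOf.1 hP) z₀
      have hj1 : 1 ≤ j := by
        rcases Nat.eq_zero_or_pos j with h | h
        · rw [h, pow_zero] at hj; exact absurd (orderOf_eq_one_iff.1 hj) hz₀1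
        · exact h
      obtain ⟨z, hzdef⟩ : ∃ z, z = z₀ ^ (2 ^ (j - 1)) := ⟨_, rfl⟩
      have hzo : orderOf z = 2 := by
        have h1 : 2 ^ (j - 1) ∣ orderOf z₀ := by rw [hj]; exact pow_dvd_pow 2 (by omega)
        rw [hzdef, orderOf_pow, Nat.gcd_eq_right h1, hj]
        have : 2 ^ j = 2 ^ (j - 1) * 2 := by rw [← pow_succ]; congr 1; omega
        rw [this, Nat.mul_div_cancel_left _ (pow_pos (by norm_num) _)]
      have hzc : z ∈ commutator S := by rw [hzdef]; exact Subgroup.pow_mem _ hz₀c _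
      have hzcen : z ∈ Subgroup.center S := by rw [hzdef]; exact Subgroup.pow_mem _ hz₀cen _
      have hz2 : z ^ 2 = 1 := by rw [← hzo]; exact pow_orderOf_eq_one z
      have hz1 : z ≠ 1 := by
        intro h; rw [h, orderOf_one] at hzo; omega
      have hzcomm : ∀ g : S, Commute z g := fun g => (Subgroup.mem_center_iff.1 hzcen g).symm
      obtain ⟨Z, hZdef⟩ : ∃ Z : Subgroup S, Z = Subgroup.zpowers z := ⟨_, rfl⟩
      have hZcen : Z ≤ Subgroup.center S := by rw [hZdef, Subgroup.zpowers_le]; exact hzcen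
      haveI hZn : Z.Normal := ⟨fun w hw g => by
        have h1 : g * w = w * g := Subgroup.mem_center_iff.1 (hZcen hw) g
        have h2 : g * w * g⁻¹ = w := by rw [h1]; group
        rw [h2]; exact hw⟩
      have hZcard : Nat.card Z = 2 := by rw [hZdef, Nat.card_zpowers, hzo]
      have hQcard : Nat.card (S ⧸ Z) = 2 ^ n := by
        have h1 := Subgroup.card_eq_card_quotient_mul_card_subgroup Z
        rw [hcard, hZcard, pow_succ] at h1
        exact (Nat.eq_of_mul_eq_mul_right (by norm_num) h1).symm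
      have hZle : Z ≤ commutator S := by rw [hZdef, Subgroup.zpowers_le]; exact hzc
      have hQcomm : commutator (S ⧸ Z) = (commutator S).map (QuotientGroup.mk' Z) := by
        rw [commutator_def, commutator_def, Subgroup.map_commutator,
          Subgroup.map_top_of_surjective _ (QuotientGroup.mk'_surjective Z)]
      have hQidx : (commutator (S ⧸ Z)).index = 4 := by
        rw [hQcomm, Subgroup.index_map_eq _ (QuotientGroup.mk'_surjective Z)
          (by rw [QuotientGroup.ker_mk']; exact hZle), hidx]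
      have hQsq : ∀ q : S ⧸ Z, q ^ 2 ∈ commutator (S ⧸ Z) := by
        intro q
        obtain ⟨x, rfl⟩ := QuotientGroup.mk_surjective q
        rw [hQcomm]
        exact Subgroup.mem_map_of_mem (QuotientGroup.mk' Z) (hsq x)
      obtain ⟨xb, hxb⟩ := ih hge (S ⧸ Z) hQcard hQidx hQsq
      obtain ⟨x, rfl⟩ := QuotientGroup.mk_surjective xb
      have hxZ : x ^ (2 ^ (n - 1)) ∈ Z := by
        have h1 : ((x : S ⧸ Z)) ^ (2 ^ (n - 1)) = 1 := by rw [← hxb]; exact pow_orderOf_eq_one _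
        rw [← QuotientGroup.mk_pow] at h1
        exact (QuotientGroup.eq_one_iff _).1 h1
      rw [hZdef] at hxZ
      rcases mem_two hz2 hxZ with hB | hA
      · -- case B: contradiction
        exfalso
        have hox : orderOf x = 2 ^ (n - 1) := by
          apply Nat.dvd_antisymm (orderOf_dvd_of_pow_eq_one hB)
          have := orderOf_map_dvd (QuotientGroup.mk' Z) x
          rw [← hxb]; exact this
        have hzx : z ∉ Subgroup.zpowers x := by
          intro h
          obtain ⟨i, hi⟩ := exists_nat_pow h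
          have h1 : ((x : S ⧸ Z)) ^ i = 1 := by
            rw [← QuotientGroup.mk_pow, ← hi]
            exact (QuotientGroup.eq_one_iff _).2 (by rw [hZdef]; exact Subgroup.mem_zpowers z)
          have h2 := orderOf_dvd_of_pow_eq_one h1
          rw [hxb, ← hox] at h2
          exact hz1 (by rw [hi]; exact orderOf_dvd_iff_pow_eq_one.1 h2)
        obtain ⟨M, hMdef⟩ : ∃ M : Subgroup S,
            M = (Subgroup.zpowers (x : S ⧸ Z)).comap (QuotientGroup.mk' Z) := ⟨_, rfl⟩
        have hMidx : M.index = 2 := by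
          rw [hMdef, Subgroup.index_comap_of_surjective _ (QuotientGroup.mk'_surjective Z)]
          have h1 := Subgroup.card_mul_index (Subgroup.zpowers (x : S ⧸ Z))
          rw [Nat.card_zpowers, hxb, hQcard] at h1
          have h2 : 2 ^ n = 2 ^ (n - 1) * 2 := by rw [← pow_succ]; congr 1; omega
          rw [h2] at h1
          exact Nat.eq_of_mul_eq_mul_left (pow_pos (by norm_num) _) h1
        haveI hMn : M.Normal := Subgroup.normal_of_index_eq_two hMidx
        have hMform : ∀ m ∈ M, ∃ i e : ℕ, m = x ^ i * z ^ e := by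
          intro m hm
          rw [hMdef, Subgroup.mem_comap] at hm
          obtain ⟨i, hi⟩ := exists_nat_pow hm
          have h1 : ((m : S) : S ⧸ Z) = ((x ^ i : S) : S ⧸ Z) := by
            rw [QuotientGroup.mk_pow]; exact hi
          have h2 : (x ^ i)⁻¹ * m ∈ Z := QuotientGroup.eq.1 h1.symm
          rw [hZdef] at h2
          obtain ⟨e, he⟩ := exists_nat_pow h2
          exact ⟨i, e, by rw [← he]; group⟩
        have hxM : x ∈ M := by
          rw [hMdef, Subgroup.mem_comap]; exact Subgroup.mem_zpowers _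
        have hab : ∀ m₁ ∈ M, ∀ m₂ ∈ M, m₁ * m₂ = m₂ * m₁ := by
          intro m₁ h1 m₂ h2
          obtain ⟨i, e, rfl⟩ := hMform m₁ h1
          obtain ⟨j', f, rfl⟩ := hMform m₂ h2
          have c1 : Commute (x ^ i) (x ^ j') := Commute.pow_pow_self x i j'
          have c2 : Commute (x ^ i) (z ^ f) := ((hzcomm (x ^ i)).pow_left f).symm
          have c3 : Commute (z ^ e) (x ^ j') := (hzcomm (x ^ j')).pow_left e
          have c4 : Commute (z ^ e) (z ^ f) := Commute.pow_pow_self z e f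
          exact ((c1.mul_right c2).mul_left (c3.mul_right c4)).eq
        obtain ⟨y, hy⟩ : ∃ y : S, y ∉ M := by
          by_contra h
          push Not at h
          have : M = ⊤ := eq_top_iff.2 fun g _ => h g
          rw [this, Subgroup.index_top] at hMidx
          omega
        obtain ⟨d, hddef⟩ : ∃ d, d = y * x * y⁻¹ * x⁻¹ := ⟨_, rfl⟩
        have hcx : (y * x * y⁻¹) * x = x * (y * x * y⁻¹) :=
          hab _ (hMn.conj_mem x hxM y) x hxM
        have hD : ∀ m ∈ M, y * m * y⁻¹ * m⁻¹ ∈ Subgroup.zpowers d := by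
          intro m hm
          obtain ⟨i, e, rfl⟩ := hMform m hm
          have hze : z ^ e * y⁻¹ = y⁻¹ * z ^ e := ((hzcomm y⁻¹).pow_left e).eq
          have : y * (x ^ i * z ^ e) * y⁻¹ * (x ^ i * z ^ e)⁻¹ = d ^ i := by
            calc y * (x ^ i * z ^ e) * y⁻¹ * (x ^ i * z ^ e)⁻¹
                = y * x ^ i * (z ^ e * y⁻¹) * ((z ^ e)⁻¹ * (x ^ i)⁻¹) := by group
              _ = y * x ^ i * (y⁻¹ * z ^ e) * ((z ^ e)⁻¹ * (x ^ i)⁻¹) := by rw [hze]
              _ = y * x ^ i * y⁻¹ * (x ^ i)⁻¹ := by group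
              _ = d ^ i := by rw [hddef]; exact phi_pow hcx i
          rw [this]; exact Subgroup.pow_mem _ (Subgroup.mem_zpowers d) i
        have hSD : commutator S ≤ Subgroup.zpowers d :=
          comm_le_of_index_two M _ hMidx hab y hy hD
        have hdM : d ∈ M := by
          rw [hddef]
          exact M.mul_mem (hMn.conj_mem x hxM y) (M.inv_mem hxM)
        obtain ⟨i, e, hdie⟩ := hMform d hdM
        have hzpow : ∀ k : ℕ, 2 ∣ k → z ^ k = 1 := by
          intro k hk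
          obtain ⟨t, rfl⟩ := hk
          rw [pow_mul, hz2, one_pow]
        have hdpow : ∀ k : ℕ, 2 ∣ k → d ^ k = x ^ (i * k) := by
          intro k hk
          rw [hdie, ((hzcomm (x ^ i)).pow_left e).symm.mul_pow, ← pow_mul, ← pow_mul,
            hzpow (e * k) (Dvd.dvd.mul_left hk e), mul_one]
        have hn1 : 2 ∣ 2 ^ (n - 1) := dvd_pow_self 2 (by omega)
        have hn2 : 2 ∣ 2 ^ (n - 2) := dvd_pow_self 2 (by omega)
        have hdo : orderOf d = 2 ^ (n - 1) := by
          apply Nat.le_antisymm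
          · apply Nat.le_of_dvd (pow_pos (by norm_num) _)
            apply orderOf_dvd_of_pow_eq_one
            rw [hdpow _ hn1, mul_comm, pow_mul, hB, one_pow]
          · rw [← hcomm_card, ← Nat.card_zpowers]
            exact Subgroup.card_le_of_le hSD
        obtain ⟨k, hk⟩ := exists_nat_pow (hSD hzc)
        have hk2 : d ^ (2 * k) = 1 := by rw [mul_comm, pow_mul, ← hk, hz2]
        have hk3 := orderOf_dvd_of_pow_eq_one hk2
        rw [hdo] at hk3
        have hk4 : 2 ^ (n - 2) ∣ k := by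
          have h1 : 2 ^ (n - 1) = 2 * 2 ^ (n - 2) := by rw [← pow_succ']; congr 1; omega
          rw [h1] at hk3
          exact Nat.dvd_of_mul_dvd_mul_left (by norm_num) hk3
        obtain ⟨t, rfl⟩ := hk4
        apply hzx
        rw [hk, pow_mul, hdpow _ hn2]
        exact Subgroup.pow_mem _ (Subgroup.pow_mem _ (Subgroup.mem_zpowers x) _) _
      · -- case A: x has order 2^n
        refine ⟨x, ?_⟩
        have h1 := orderOf_eq_prime_pow (p := 2) (n := n - 1) (x := x)
          (by rw [hA]; exact hz1)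
          (by rw [pow_succ, pow_mul, hA]; exact hz2)
        rw [h1]
        congr 1
        omega

theorem r_cases (m r : ℕ) (hm : 2 ≤ m) (h1 : r * r ≡ 1 [MOD 2 ^ m]) (h4 : r % 4 = 3) :
    r ≡ 2 ^ m - 1 [MOD 2 ^ m] ∨ (3 ≤ m ∧ r ≡ 2 ^ (m - 1) - 1 [MOD 2 ^ m]) := by
  obtain ⟨q, hq⟩ : ∃ q, r = 4 * q + 3 := ⟨r / 4, by omega⟩
  have hdvd : 2 ^ m ∣ r * r - 1 := (Nat.modEq_iff_dvd' (by nlinarith)).1 h1.symm
  have hfac : r * r - 1 = 2 * ((2 * q + 1) * (r + 1)) := by
    subst hq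
    have : (4 * q + 3) * (4 * q + 3) = 2 * ((2 * q + 1) * (4 * q + 3 + 1)) + 1 := by ring
    omega
  rw [hfac] at hdvd
  have h2m : 2 ^ m = 2 * 2 ^ (m - 1) := by rw [← pow_succ']; congr 1; omega
  rw [h2m] at hdvd
  have hdvd2 : 2 ^ (m - 1) ∣ (2 * q + 1) * (r + 1) :=
    Nat.dvd_of_mul_dvd_mul_left (by norm_num) hdvd
  have hcop : Nat.Coprime (2 ^ (m - 1)) (2 * q + 1) := by
    apply Nat.Coprime.pow_left
    rw [Nat.coprime_two_left]
    exact ⟨q, rfl⟩
  have hdvd3 : 2 ^ (m - 1) ∣ r + 1 := hcop.dvd_of_dvd_mul_left hdvd2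
  obtain ⟨t, ht⟩ := hdvd3
  rcases Nat.even_or_odd t with ⟨s, hs⟩ | ⟨s, hs⟩
  · left
    have h5 : r + 1 = 2 ^ m * s := by rw [ht, hs, h2m]; ring
    have hpos : 1 ≤ 2 ^ m := Nat.one_le_two_pow
    have h6 : r + 1 ≡ (2 ^ m - 1) + 1 [MOD 2 ^ m] := by
      rw [Nat.sub_add_cancel hpos, h5]
      exact ((Nat.modEq_zero_iff_dvd).2 (dvd_mul_right _ _)).trans
        ((Nat.modEq_zero_iff_dvd).2 dvd_rfl).symm
    exact Nat.ModEq.add_right_cancel' 1 h6
  · right
    have h5 : r + 1 = 2 ^ m * s + 2 ^ (m - 1) := by rw [ht, hs, h2m]; ring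
    have hpos : 1 ≤ 2 ^ (m - 1) := Nat.one_le_two_pow
    refine ⟨?_, ?_⟩
    · by_contra hlt
      have hm2 : m = 2 := by omega
      subst hm2
      norm_num at h5
      omega
    · have h6 : r + 1 ≡ (2 ^ (m - 1) - 1) + 1 [MOD 2 ^ m] := by
        rw [Nat.sub_add_cancel hpos, h5]
        have : 2 ^ m * s + 2 ^ (m - 1) ≡ 0 + 2 ^ (m - 1) [MOD 2 ^ m] :=
          Nat.ModEq.add_right _ ((Nat.modEq_zero_iff_dvd).2 (dvd_mul_right _ _))
        rwa [zero_add] at this
      exact Nat.ModEq.add_right_cancel' 1 h6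

theorem sq_cases {S : Type*} [Group S] [Finite S] {a c : S} {m : ℕ} (hm : 1 ≤ m)
    (ha : orderOf a = 2 ^ m) (hc : c ∈ Subgroup.zpowers a) (hc2 : c ^ 2 = 1) :
    c = 1 ∨ c = a ^ (2 ^ (m - 1)) := by
  obtain ⟨j, rfl⟩ := exists_nat_pow hc
  have h2m : 2 ^ m = 2 ^ (m - 1) * 2 := by rw [← pow_succ]; congr 1; omega
  have h1 : 2 ^ m ∣ j * 2 := by
    rw [← ha]; apply orderOf_dvd_of_pow_eq_one; rw [pow_mul]; exact hc2
  rw [h2m] at h1
  obtain ⟨t, rfl⟩ := Nat.dvd_of_mul_dvd_mul_right (by norm_num) h1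
  have hu2 : (a ^ (2 ^ (m - 1))) ^ 2 = 1 := by
    rw [← pow_mul, ← h2m, ← ha]; exact pow_orderOf_eq_one a
  rw [pow_mul]
  exact mem_two hu2 (Subgroup.pow_mem _ (Subgroup.mem_zpowers _) t)

theorem classify {S : Type*} [Group S] [Finite S] (m : ℕ) (hm : 2 ≤ m)
    (hcard : Nat.card S = 2 ^ (m + 1)) (hidx : (commutator S).index = 4) (a : S)
    (ha : orderOf a = 2 ^ m) :
    (Nonempty (S ≃* DihedralGroup (2 ^ m))) ∨
    (3 ≤ m ∧ ∃ b : S, orderOf b = 2 ∧ b * a * b⁻¹ = a ^ (2 ^ (m - 1) - 1)) ∨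
    (Nonempty (S ≃* QuaternionGroup (2 ^ (m - 1)))) := by
  have hapow : a ^ (2 ^ m) = 1 := by rw [← ha]; exact pow_orderOf_eq_one a
  obtain ⟨A, hAdef⟩ : ∃ A : Subgroup S, A = Subgroup.zpowers a := ⟨_, rfl⟩
  have hAidx : A.index = 2 := by
    have h1 := Subgroup.card_mul_index A
    rw [hAdef, Nat.card_zpowers, ha, hcard, pow_succ] at h1
    rw [hAdef]
    exact Nat.eq_of_mul_eq_mul_left (pow_pos (by norm_num : 0 < 2) m) h1
  haveI hAn : A.Normal := Subgroup.normal_of_index_eq_two hAidx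
  have haA : a ∈ A := by rw [hAdef]; exact Subgroup.mem_zpowers a
  have hAform : ∀ g ∈ A, ∃ i : ℕ, g = a ^ i := by
    intro g hg; rw [hAdef] at hg; exact exists_nat_pow hg
  have hAab : ∀ m₁ ∈ A, ∀ m₂ ∈ A, m₁ * m₂ = m₂ * m₁ := by
    intro m₁ h1 m₂ h2
    obtain ⟨i, rfl⟩ := hAform m₁ h1
    obtain ⟨j, rfl⟩ := hAform m₂ h2
    exact (Commute.pow_pow_self a i j).eq
  obtain ⟨b, hb⟩ : ∃ b : S, b ∉ A := by
    by_contra h
    push Not at h
    have : A = ⊤ := eq_top_iff.2 fun g _ => h g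
    rw [this, Subgroup.index_top] at hAidx
    omega
  have hbn : b ∉ Subgroup.zpowers a := by rw [← hAdef]; exact hb
  obtain ⟨r, hr⟩ := hAform _ (hAn.conj_mem a haA b)
  obtain ⟨j, hj⟩ := hAform _ (Subgroup.mul_self_mem_of_index_two hAidx b)
  have hconj : ∀ i : ℕ, b * a ^ i * b⁻¹ = a ^ (r * i) := by
    intro i
    rw [← conj_pow, hr, ← pow_mul]
  have hrr : a ^ (r * r) = a ^ 1 := by
    have h1 : (b * b) * a * (b * b)⁻¹ = a := by
      rw [hj]; group
    have h2 : (b * b) * a * (b * b)⁻¹ = b * (b * a * b⁻¹) * b⁻¹ := by group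
    rw [h2, hr, hconj] at h1
    rw [pow_one]; exact h1
  have hmod : r * r ≡ 1 [MOD 2 ^ m] := by
    have := pow_eq_pow_iff_modEq.1 hrr
    rwa [ha] at this
  have hcomm_card : Nat.card (commutator S) = 2 ^ (m - 1) := by
    have hcc := Subgroup.card_mul_index (commutator S)
    rw [hidx, hcard] at hcc
    have h1 : 2 ^ (m + 1) = 2 ^ (m - 1) * 4 := by
      have : (4 : ℕ) = 2 ^ 2 := by norm_num
      rw [this, ← pow_add]; congr 1; omega
    rw [h1] at hcc
    exact Nat.eq_of_mul_eq_mul_right (by norm_num) hcc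
  have hSD : commutator S ≤ Subgroup.zpowers (b * a * b⁻¹ * a⁻¹) := by
    apply comm_le_of_index_two A _ hAidx hAab b hb
    intro g hg
    obtain ⟨i, rfl⟩ := hAform g hg
    have hcx : (b * a * b⁻¹) * a = a * (b * a * b⁻¹) := hAab _ (hAn.conj_mem a haA b) a haA
    rw [phi_pow hcx i]
    exact Subgroup.pow_mem _ (Subgroup.mem_zpowers _) i
  have hrodd : r % 2 = 1 := by
    have h1 : r * r ≡ 1 [MOD 2] := Nat.ModEq.of_dvd (dvd_pow_self 2 (by omega)) hmod
    have h2 : (r * r) % 2 = 1 := h1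
    rcases Nat.even_or_odd r with ⟨s, hs⟩ | ⟨s, hs⟩
    · exfalso
      rw [hs] at h2
      have : (s + s) * (s + s) = 2 * (2 * s * s) := by ring
      rw [this] at h2; omega
    · omega
  have hr4 : r % 4 = 3 := by
    by_contra hne
    have hr1 : r % 4 = 1 := by omega
    obtain ⟨q, hq⟩ : ∃ q, r = 4 * q + 1 := ⟨r / 4, by omega⟩
    have h1 : b * a * b⁻¹ * a⁻¹ = (a ^ 4) ^ q := by
      rw [hr, hq, pow_succ, mul_inv_cancel_right, pow_mul]
    have h2 : commutator S ≤ Subgroup.zpowers (a ^ 4) := by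
      refine hSD.trans ?_
      rw [Subgroup.zpowers_le, h1]
      exact Subgroup.pow_mem _ (Subgroup.mem_zpowers _) q
    have h3 := Subgroup.card_le_of_le h2
    rw [hcomm_card, Nat.card_zpowers, orderOf_pow, ha] at h3
    have h4 : (4 : ℕ) ∣ 2 ^ m := by
      have : (4 : ℕ) = 2 ^ 2 := by norm_num
      rw [this]; exact pow_dvd_pow 2 hm
    rw [Nat.gcd_eq_right h4] at h3
    have h5 : 2 ^ m = 2 ^ (m - 2) * 4 := by
      have : (4 : ℕ) = 2 ^ 2 := by norm_num
      rw [this, ← pow_add]; congr 1; omega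
    rw [h5, Nat.mul_div_cancel _ (by norm_num)] at h3
    have h6 : 2 ^ (m - 2) < 2 ^ (m - 1) := Nat.pow_lt_pow_right (by norm_num) (by omega)
    omega
  have hcj : a ^ (r * j) = a ^ j := by
    rw [← hconj j, ← hj]; group
  have hcA : b * b ∈ Subgroup.zpowers a := by rw [hj]; exact Subgroup.pow_mem _ (Subgroup.mem_zpowers a) j
  have h2m : 2 * 2 ^ (m - 1) = 2 ^ m := by rw [← pow_succ']; congr 1; omega
  have hb1 : b ≠ 1 := by
    intro h; rw [h] at hb; exact hb A.one_mem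
  rcases r_cases m r hm hmod hr4 with hcase | ⟨hm3, hcase⟩
  · -- r ≡ -1
    have har : a ^ r = a⁻¹ := by
      have h1 : a ^ r = a ^ (2 ^ m - 1) := pow_eq_pow_iff_modEq.2 (by rw [ha]; exact hcase)
      rw [h1]
      apply eq_inv_of_mul_eq_one_left
      rw [← pow_succ, Nat.sub_add_cancel Nat.one_le_two_pow]; exact hapow
    have hba : b * a * b⁻¹ = a⁻¹ := hr.trans har
    have hc2 : (b * b) ^ 2 = 1 := by
      have h1 : (a ^ j)⁻¹ = a ^ j := by rw [← inv_pow, ← har, ← pow_mul]; exact hcj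
      rw [hj, pow_two]
      nth_rewrite 1 [← h1]
      exact inv_mul_cancel _
    rcases sq_cases (by omega) ha hcA hc2 with hbb | hbb
    · left
      haveI : NeZero (2 ^ m) := ⟨by positivity⟩
      have hinj := Lib.Helper4.dihedralLift_injective hapow hbb hba ha hbn
      have hbij : Function.Bijective (Lib.Helper4.dihedralLift (2 ^ m) a b hapow hbb hba) :=
        (Nat.bijective_iff_injective_and_card _).2
          ⟨hinj, by rw [DihedralGroup.nat_card, hcard, pow_succ']⟩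
      exact ⟨(MulEquiv.ofBijective _ hbij).symm⟩
    · right; right
      haveI : NeZero (2 ^ (m - 1)) := ⟨by positivity⟩
      have ha' : a ^ (2 * 2 ^ (m - 1)) = 1 := by rw [h2m]; exact hapow
      have hord : orderOf a = 2 * 2 ^ (m - 1) := by rw [h2m]; exact ha
      have hax : b⁻¹ * a * b = a⁻¹ := by
        have h1 : a = b⁻¹ * a⁻¹ * b := by rw [← hba]; group
        calc b⁻¹ * a * b = (b⁻¹ * a⁻¹ * b)⁻¹ := by group
          _ = a⁻¹ := by rw [← h1]
      have hinj := Lib.Lead.quaternionLift_injective ha' hbb hax hord hbn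
      have hbij : Function.Bijective (Lib.Lead.quaternionLift (2 ^ (m - 1)) a b ha' hbb hax) :=
        (Nat.bijective_iff_injective_and_card _).2
          ⟨hinj, by
            rw [Nat.card_eq_fintype_card, QuaternionGroup.card, hcard, pow_succ', ← h2m]; ring⟩
      exact ⟨(MulEquiv.ofBijective _ hbij).symm⟩
  · -- r ≡ 2^(m-1) - 1
    right; left
    refine ⟨hm3, ?_⟩
    have har : a ^ r = a ^ (2 ^ (m - 1) - 1) := pow_eq_pow_iff_modEq.2 (by rw [ha]; exact hcase)
    have hba : b * a * b⁻¹ = a ^ (2 ^ (m - 1) - 1) := hr.trans har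
    obtain ⟨w, hw⟩ : ∃ w, 2 ^ (m - 1) = 4 * w ∧ 1 ≤ w := by
      refine ⟨2 ^ (m - 3), ?_, Nat.one_le_two_pow⟩
      have : (4 : ℕ) = 2 ^ 2 := by norm_num
      rw [this, ← pow_add]; congr 1; omega
    have hc2 : (b * b) ^ 2 = 1 := by
      have h1 : (a ^ j) ^ (2 ^ (m - 1) - 1) = a ^ j := by
        rw [← pow_mul, mul_comm, pow_mul, ← har, ← pow_mul]; exact hcj
      have h2 : (a ^ j) ^ (2 ^ (m - 1) - 2) = 1 := by
        have h3 : (a ^ j) ^ (2 ^ (m - 1) - 2) * a ^ j = 1 * a ^ j := by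
          rw [one_mul, ← pow_succ]
          have : 2 ^ (m - 1) - 2 + 1 = 2 ^ (m - 1) - 1 := by omega
          rw [this]; exact h1
        exact mul_right_cancel h3
      have hd1 := orderOf_dvd_of_pow_eq_one h2
      have hd2 : orderOf (a ^ j) ∣ 2 ^ m := by
        apply orderOf_dvd_of_pow_eq_one
        rw [← pow_mul, mul_comm, pow_mul, hapow, one_pow]
      obtain ⟨i, hi, hoi⟩ := (Nat.dvd_prime_pow Nat.prime_two).1 hd2
      have hi1 : i ≤ 1 := by
        by_contra hlt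
        have h4 : (4 : ℕ) ∣ 2 ^ i := by
          have : (4 : ℕ) = 2 ^ 2 := by norm_num
          rw [this]; exact pow_dvd_pow 2 (by omega)
        rw [hoi] at hd1
        have h5 := h4.trans hd1
        omega
      rw [hj]
      apply orderOf_dvd_iff_pow_eq_one.1
      rw [hoi]
      have : i = 0 ∨ i = 1 := by omega
      rcases this with rfl | rfl <;> norm_num
    rcases sq_cases (by omega) ha hcA hc2 with hbb | hbb
    · refine ⟨b, orderOf_eq_prime (by rw [pow_two]; exact hbb) hb1, hba⟩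
    · have hsum : 2 ^ (m - 1) - 1 + 2 ^ (m - 1) + 1 = 2 ^ m := by
        rw [← h2m]; omega
      have hsq1 : b * a * (b * a) = 1 := by
        calc b * a * (b * a) = (b * a * b⁻¹) * (b * b) * a := by group
          _ = a ^ (2 ^ (m - 1) - 1) * a ^ (2 ^ (m - 1)) * a := by rw [hba, hbb]
          _ = a ^ (2 ^ (m - 1) - 1 + 2 ^ (m - 1) + 1) := by rw [pow_add, pow_add, pow_one]
          _ = 1 := by rw [hsum, hapow]
      have hne1 : b * a ≠ 1 := by
        intro h
        apply hb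
        have : b = a⁻¹ := eq_inv_of_mul_eq_one_left h
        rw [this]; exact A.inv_mem haA
      refine ⟨b * a, orderOf_eq_prime (by rw [pow_two]; exact hsq1) hne1, ?_⟩
      rw [← hba]; group

/-- Let S be a finite 2-group whose commutator quotient S/[S,S] is a Klein four-group (order 4 and exponent 2). Then S itself has order 4, or S is dihedral of order at least 8, semidihedral of order at least 16 (order 2^(k+4) with an element a of order 2^(k+3) and an involution b with b a b⁻¹ = a^(2^(k+2)−1)), or generalized quaternion of order at least 8. -/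
theorem result {S : Type*} [Group S] [Finite S] (h2 : IsPGroup 2 S) (hab : Nat.card (Abelianization S) = 4)
    (hexp : ∀ x : Abelianization S, x ^ 2 = 1) :
    Nat.card S = 4 ∨
    ((∃ k : ℕ, Nonempty (S ≃* DihedralGroup (2 ^ (k + 2)))) ∨
      (∃ k : ℕ, Nat.card S = 2 ^ (k + 4) ∧ ∃ a b : S, orderOf a = 2 ^ (k + 3) ∧ orderOf b = 2 ∧ b * a * b⁻¹ = a ^ (2 ^ (k + 2) - 1)) ∨
      (∃ k : ℕ, Nonempty (S ≃* QuaternionGroup (2 ^ (k + 1))))) := by
  have hidx : (commutator S).index = 4 := by rw [Subgroup.index_eq_card]; exact hab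
  have hsq : ∀ x : S, x ^ 2 ∈ commutator S := by
    intro x
    have h := hexp (Abelianization.of x)
    rw [← map_pow] at h
    rw [← Abelianization.ker_of]
    exact h
  obtain ⟨n, hn⟩ := IsPGroup.iff_card.1 h2
  have h4 : 4 ∣ 2 ^ n := by rw [← hn, ← hidx]; exact Subgroup.index_dvd_card _
  have hn2 : 2 ≤ n := by
    by_contra hlt
    have : n = 0 ∨ n = 1 := by omega
    rcases this with rfl | rfl <;> norm_num at h4
  rcases Nat.lt_or_ge n 3 with hlt | hge
  · left
    have : n = 2 := by omega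
    rw [hn, this]; norm_num
  · right
    obtain ⟨a, ha⟩ := exists_cyclic_max n hge S hn hidx hsq
    obtain ⟨m, rfl⟩ : ∃ m, n = m + 1 := ⟨n - 1, by omega⟩
    rw [Nat.add_sub_cancel] at ha
    rcases classify m (by omega) hn hidx a ha with ⟨⟨e⟩⟩ | ⟨hm3, b, hb, hba⟩ | ⟨⟨e⟩⟩
    · left
      refine ⟨m - 2, ?_⟩
      rw [show m - 2 + 2 = m by omega]
      exact ⟨e⟩
    · right; left
      refine ⟨m - 3, ?_, a, b, ?_, hb, ?_⟩
      · rw [show m - 3 + 4 = m + 1 by omega]; exact hn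
      · rw [show m - 3 + 3 = m by omega]; exact ha
      · rw [show m - 3 + 2 = m - 1 by omega]; exact hba
    · right; right
      refine ⟨m - 2, ?_⟩
      rw [show m - 2 + 1 = m - 1 by omega]
      exact ⟨e⟩

end Cfsg.Agent.S4399
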