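import Cfsg.Statements.S4143
import Mathlib
import Cfsg.Agent.Lib.Helper3.PGroup
import Cfsg.Agent.Lib.Helper3.PiCore
import Cfsg.Agent.Lib.Lead.SZ
import Cfsg.Agent.Lib.Helper7.SylowIndex

set_option autoImplicit false
open Cfsg

namespace Cfsg.Agent.S4143

universe u

open Subgroup

/-- A subgroup strictly between `H` and `K` (orders `p^k`, `p^(k+1)`) cannot exist. -/
theorem eq_of_between {X : Type*} [Group X] [Finite X] {p : ℕ} [Fact p.Prime] {H K S : Subgroup X}
    (k : ℕ) (hHS : H ≤ S) (hSK : S ≤ K) (hH : Nat.card H = p ^ k) (hK : Nat.card K = p ^ (k + 1))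
    (x : X) (hxS : x ∈ S) (hxH : x ∉ H) : S = K := by
  have hp : p.Prime := Fact.out
  have h1 : Nat.card S ∣ p ^ (k + 1) := hK ▸ Subgroup.card_dvd_of_le hSK
  obtain ⟨m, hm, hSm⟩ := (Nat.dvd_prime_pow hp).mp h1
  have h2 : p ^ k ∣ p ^ m := by rw [← hH, ← hSm]; exact Subgroup.card_dvd_of_le hHS
  have h3 : k ≤ m := (Nat.pow_dvd_pow_iff_le_right hp.one_lt).mp h2
  rcases Nat.lt_or_ge k m with h4 | h4
  · have hm' : m = k + 1 := by omega
    apply Subgroup.eq_of_le_of_card_ge hSK
    rw [hK, hSm, hm']
  · exfalso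
    have hm' : m = k := by omega
    have : H = S := Subgroup.eq_of_le_of_card_ge hHS (by rw [hH, hSm, hm'])
    apply hxH
    rw [this]; exact hxS

/-- Suzuki's lemma: a `p`-group with a self-centralizing subgroup of order `p²` has maximal class. -/
theorem suzuki (p : ℕ) [Fact p.Prime] : ∀ (n : ℕ) (X : Type u) [Group X] [Finite X],
    Nat.card X = p ^ n → ∀ A : Subgroup X, Nat.card A = p ^ 2 →
    Subgroup.centralizer (A : Set X) ≤ A → Group.nilpotencyClass X = n - 1 := by
  intro n
  induction n with
  | zero =>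
    intro X _ _ hX A hA _
    exfalso
    have hp : p.Prime := Fact.out
    have h1 := Subgroup.card_subgroup_dvd_card A
    rw [hX, hA] at h1
    have := (Nat.pow_dvd_pow_iff_le_right hp.one_lt).mp h1
    omega
  | succ n ih =>
    intro X _ _ hX A hA hCA
    have hp : p.Prime := Fact.out
    have hpX : IsPGroup p X := IsPGroup.of_card hX
    haveI : Group.IsNilpotent X := hpX.isNilpotent
    have hn1 : 1 ≤ n := by
      have h1 := Subgroup.card_subgroup_dvd_card A
      rw [hX, hA] at h1
      have := (Nat.pow_dvd_pow_iff_le_right hp.one_lt).mp h1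
      omega
    haveI : Nontrivial X := (Finite.one_lt_card_iff_nontrivial).mp (by
      rw [hX]; exact Nat.one_lt_pow (by omega) hp.one_lt)
    rw [Group.nilpotencyClass_eq_quotient_center_plus_one]
    by_cases hn2 : n = 1
    · subst hn2
      have hcomm := (IsPGroup.isMulCommutative_of_card_eq_prime_sq (p := p) hX).is_comm.comm
      have hsub : Subsingleton (X ⧸ Subgroup.center X) := by
        constructor
        intro a b
        induction a using QuotientGroup.induction_on with
        | H a =>
          induction b using QuotientGroup.induction_on with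
          | H b =>
            apply QuotientGroup.eq.mpr
            rw [Subgroup.mem_center_iff]
            intro g; exact hcomm _ _
      rw [Group.nilpotencyClass_zero_iff_subsingleton.mpr hsub]
    · have hn3 : 2 ≤ n := by omega
      have hZA : Subgroup.center X ≤ A :=
        le_trans (Subgroup.center_le_centralizer (A : Set X)) hCA
      have hAnZ : ¬ A ≤ Subgroup.center X := by
        intro hle
        have htop : (⊤ : Subgroup X) ≤ A := by
          intro g _
          apply hCA
          rw [Subgroup.mem_centralizer_iff]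
          intro a ha
          exact (Subgroup.mem_center_iff.mp (hle ha) g).symm
        have h1 : Nat.card A = Nat.card X := by
          rw [top_le_iff.mp htop, Subgroup.card_top]
        rw [hA, hX] at h1
        have := Nat.pow_right_injective hp.two_le h1
        omega
      obtain ⟨x, hxA, hxZ⟩ := SetLike.not_le_iff_exists.mp hAnZ
      have hcardZ : Nat.card (Subgroup.center X) = p := by
        have h1 : Nat.card (Subgroup.center X) ∣ p ^ 2 := hA ▸ Subgroup.card_dvd_of_le hZA
        obtain ⟨m, hm, hZm⟩ := (Nat.dvd_prime_pow hp).mp h1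
        have hm0 : m ≠ 0 := by
          rintro rfl
          rw [pow_zero] at hZm
          haveI := hpX.center_nontrivial
          have : 1 < Nat.card (Subgroup.center X) := Finite.one_lt_card
          omega
        have hm2 : m ≠ 2 := by
          rintro rfl
          have : Subgroup.center X = A := Subgroup.eq_of_le_of_card_ge hZA (by rw [hA, hZm])
          apply hxZ; rw [this]; exact hxA
        have hm1 : m = 1 := by omega
        rw [hZm, hm1, pow_one]
      -- the centralizer of `x` lies in `A`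
      have hCx : ∀ g : X, g * x = x * g → g ∈ A := by
        intro g hg
        apply hCA
        rw [Subgroup.mem_centralizer_iff]
        intro a ha
        have hS : A ⊓ Subgroup.centralizer {g} = A := by
          apply eq_of_between (p := p) 1 (H := Subgroup.center X) _ inf_le_left
            (by rw [hcardZ, pow_one]) hA x _ hxZ
          · intro z hz
            refine Subgroup.mem_inf.mpr ⟨hZA hz, ?_⟩
            rw [Subgroup.mem_centralizer_singleton_iff]
            exact (Subgroup.mem_center_iff.mp hz g).symm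
          · refine Subgroup.mem_inf.mpr ⟨hxA, ?_⟩
            rw [Subgroup.mem_centralizer_singleton_iff]
            exact hg.symm
        have ha' : a ∈ A ⊓ Subgroup.centralizer {g} := by rw [hS]; exact ha
        exact Subgroup.mem_centralizer_singleton_iff.mp (Subgroup.mem_inf.mp ha').2
      -- the quotient
      have hcardQ : Nat.card (X ⧸ Subgroup.center X) = p ^ n := by
        have h1 := Subgroup.card_eq_card_quotient_mul_card_subgroup (Subgroup.center X)
        rw [hX, hcardZ, pow_succ] at h1
        exact (Nat.eq_of_mul_eq_mul_right hp.pos h1).symm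
      have hpQ : IsPGroup p (X ⧸ Subgroup.center X) := IsPGroup.of_card hcardQ
      set xb : X ⧸ Subgroup.center X := QuotientGroup.mk x with hxb
      have hxb1 : xb ≠ 1 := by
        intro h
        exact hxZ ((QuotientGroup.eq_one_iff x).mp h)
      have hCbar : Subgroup.centralizer
          ((Subgroup.centralizer ({xb} : Set (X ⧸ Subgroup.center X)) : Subgroup _) : Set _) ≤
          Subgroup.centralizer ({xb} : Set (X ⧸ Subgroup.center X)) := by
        intro g hg
        rw [Subgroup.mem_centralizer_iff] at hg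
        rw [Subgroup.mem_centralizer_singleton_iff]
        have hxx : xb ∈ Subgroup.centralizer ({xb} : Set (X ⧸ Subgroup.center X)) := by
          rw [Subgroup.mem_centralizer_singleton_iff]
        exact (hg xb hxx).symm
      have hAbar : Nat.card (Subgroup.centralizer ({xb} : Set (X ⧸ Subgroup.center X))) = p ^ 2 := by
        obtain ⟨k, hk⟩ := IsPGroup.iff_card.mp
          (hpQ.to_subgroup (Subgroup.centralizer ({xb} : Set (X ⧸ Subgroup.center X))))
        -- lower bound
        have hk2 : 2 ≤ k := by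
          by_contra hlt
          obtain ⟨j, hj0, hj⟩ := IsPGroup.card_center_eq_prime_pow hcardQ (by omega)
          have hle : Subgroup.center (X ⧸ Subgroup.center X) ≤
              Subgroup.centralizer ({xb} : Set (X ⧸ Subgroup.center X)) :=
            Subgroup.center_le_centralizer _
          have h2 : p ^ j ∣ p ^ k := by rw [← hj, ← hk]; exact Subgroup.card_dvd_of_le hle
          have h3 : j ≤ k := (Nat.pow_dvd_pow_iff_le_right hp.one_lt).mp h2
          have hjk : j = k := by omega
          have heq : Subgroup.center (X ⧸ Subgroup.center X) =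
              Subgroup.centralizer ({xb} : Set (X ⧸ Subgroup.center X)) :=
            Subgroup.eq_of_le_of_card_ge hle (by rw [hj, hk, hjk])
          have hxc : xb ∈ Subgroup.center (X ⧸ Subgroup.center X) := by
            rw [heq, Subgroup.mem_centralizer_singleton_iff]
          have htop : Subgroup.centralizer ({xb} : Set (X ⧸ Subgroup.center X)) = ⊤ := by
            rw [eq_top_iff]
            intro g _
            rw [Subgroup.mem_centralizer_singleton_iff]
            exact Subgroup.mem_center_iff.mp hxc g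
          rw [htop, Subgroup.card_top, hcardQ] at hk
          have := Nat.pow_right_injective hp.two_le hk
          omega
        -- upper bound
        have hk2' : k ≤ 2 := by
          set D : Subgroup X := (Subgroup.centralizer ({xb} : Set (X ⧸ Subgroup.center X))).comap
            (QuotientGroup.mk' (Subgroup.center X)) with hD
          have hDmem : ∀ g ∈ D, g * x * g⁻¹ * x⁻¹ ∈ Subgroup.center X := by
            intro g hg
            rw [hD, Subgroup.mem_comap, Subgroup.mem_centralizer_singleton_iff] at hg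
            rw [← QuotientGroup.eq_one_iff]
            have hg' : (QuotientGroup.mk g : X ⧸ Subgroup.center X) * xb = xb * QuotientGroup.mk g :=
              hg
            calc ((g * x * g⁻¹ * x⁻¹ : X) : X ⧸ Subgroup.center X)
                = (QuotientGroup.mk g : X ⧸ Subgroup.center X) * xb *
                  (QuotientGroup.mk g : X ⧸ Subgroup.center X)⁻¹ * xb⁻¹ := rfl
              _ = 1 := by rw [hg']; group
          let f : D →* Subgroup.center X := MonoidHom.mk'
            (fun g => ⟨(g : X) * x * (g : X)⁻¹ * x⁻¹, hDmem g g.2⟩) (by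
              intro g h
              apply Subtype.ext
              have hc := Subgroup.mem_center_iff.mp (hDmem h h.2)
              show ((g * h : D) : X) * x * ((g * h : D) : X)⁻¹ * x⁻¹ =
                ((g : X) * x * (g : X)⁻¹ * x⁻¹) * ((h : X) * x * (h : X)⁻¹ * x⁻¹)
              rw [hc ((g : X) * x * (g : X)⁻¹ * x⁻¹)]
              calc ((g * h : D) : X) * x * ((g * h : D) : X)⁻¹ * x⁻¹
                  = (g : X) * ((h : X) * x * (h : X)⁻¹ * x⁻¹) * (x * (g : X)⁻¹ * x⁻¹) := by
                    rw [Subgroup.coe_mul]; group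
                _ = ((h : X) * x * (h : X)⁻¹ * x⁻¹) * (g : X) * (x * (g : X)⁻¹ * x⁻¹) := by
                    rw [hc (g : X)]
                _ = _ := by group)
          have hker : Nat.card f.ker ≤ p ^ 2 := by
            rw [← hA]
            have hmem : ∀ k : f.ker, ((k : D) : X) ∈ A := by
              intro k
              apply hCx
              have hk1 : f (k : D) = 1 := k.2
              have hk2 : ((k : D) : X) * x * ((k : D) : X)⁻¹ * x⁻¹ = 1 :=
                congrArg Subtype.val hk1
              calc ((k : D) : X) * x = (((k : D) : X) * x * ((k : D) : X)⁻¹ * x⁻¹) * x * ((k : D) : X) := by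
                    group
                _ = x * ((k : D) : X) := by rw [hk2, one_mul]
            apply Nat.card_le_card_of_injective (fun k : f.ker => (⟨((k : D) : X), hmem k⟩ : A))
            intro a b hab
            apply Subtype.ext
            apply Subtype.ext
            exact congrArg (fun t : A => (t : X)) hab
          have hrange : Nat.card f.range ≤ p := by
            rw [← hcardZ]
            exact Subgroup.card_le_card_group _
          have hDcard : Nat.card D ≤ p ^ 2 * p := by
            rw [← Subgroup.card_mul_index f.ker, Subgroup.index_ker]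
            exact Nat.mul_le_mul hker hrange
          have hidx : D.index = (Subgroup.centralizer ({xb} : Set (X ⧸ Subgroup.center X))).index :=
            Subgroup.index_comap_of_surjective _ (QuotientGroup.mk'_surjective _)
          have h1 := Subgroup.card_mul_index D
          have h2 := Subgroup.card_mul_index
            (Subgroup.centralizer ({xb} : Set (X ⧸ Subgroup.center X)))
          rw [hX, hidx] at h1
          rw [hcardQ, hk] at h2
          have hidxpos : 0 < (Subgroup.centralizer ({xb} : Set (X ⧸ Subgroup.center X))).index :=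
            Nat.pos_of_ne_zero Subgroup.index_ne_zero_of_finite
          have h3 : Nat.card D = p ^ k * p := by
            apply Nat.eq_of_mul_eq_mul_right hidxpos
            rw [h1, pow_succ, ← h2]; ring
          rw [h3] at hDcard
          have h4 : p ^ k ≤ p ^ 2 := Nat.le_of_mul_le_mul_right hDcard hp.pos
          exact (Nat.pow_le_pow_iff_right hp.one_lt).mp h4
        have : k = 2 := by omega
        rw [hk, this]
      have key := ih (X ⧸ Subgroup.center X) hcardQ _ hAbar hCbar
      rw [key]; omega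

/-- conjugation by powers -/
theorem conj_pow_aux {X : Type*} [Group X] (y x0 z1 : X) (hz : y * x0 * y⁻¹ = z1 * x0)
    (hyz : y * z1 = z1 * y) : ∀ j : ℕ, y ^ j * x0 * (y ^ j)⁻¹ = z1 ^ j * x0 := by
  intro j
  induction j with
  | zero => simp
  | succ j ih =>
    have hyzj : y * z1 ^ j = z1 ^ j * y := (Commute.pow_right (show Commute y z1 from hyz) j)
    calc y ^ (j + 1) * x0 * (y ^ (j + 1))⁻¹ = y * (y ^ j * x0 * (y ^ j)⁻¹) * y⁻¹ := by
          rw [pow_succ']; group
      _ = y * (z1 ^ j * x0) * y⁻¹ := by rw [ih]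
      _ = (y * z1 ^ j) * x0 * y⁻¹ := by group
      _ = z1 ^ j * (y * x0 * y⁻¹) := by rw [hyzj]; group
      _ = z1 ^ (j + 1) * x0 := by rw [hz, pow_succ]; group

theorem exists_selfCent {X : Type*} [Group X] [Finite X] {p : ℕ} [Fact p.Prime] (n : ℕ)
    (hX : Nat.card X = p ^ n)
    (B : Subgroup X) (hB : Nat.card B = p ^ 3) (hBna : ¬ IsMulCommutative B)
    (hC : Subgroup.centralizer (B : Set X) ≤ B) :
    ∃ A : Subgroup X, Nat.card A = p ^ 2 ∧ Subgroup.centralizer (A : Set X) ≤ A := by
  have hp : p.Prime := Fact.out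
  have hpX : IsPGroup p X := IsPGroup.of_card hX
  set Z : Subgroup X := Subgroup.centralizer (B : Set X) with hZ
  have hZB : Z ≤ B := hC
  have hZcomm : ∀ z ∈ Z, ∀ b ∈ B, b * z = z * b := by
    intro z hz b hb
    exact (Subgroup.mem_centralizer_iff.mp hz) b hb
  have hZmem : ∀ z ∈ B, (∀ b ∈ B, b * z = z * b) → z ∈ Z := by
    intro z _ h
    exact Subgroup.mem_centralizer_iff.mpr h
  have hBnc : ∃ a ∈ B, ∃ b ∈ B, a * b ≠ b * a := by
    by_contra hcon
    push Not at hcon
    exact hBna ⟨⟨fun a b => Subtype.ext (hcon a a.2 b b.2)⟩⟩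
  -- card Z = p
  have hcardZ : Nat.card Z = p := by
    have h1 : Nat.card Z ∣ p ^ 3 := hB ▸ Subgroup.card_dvd_of_le hZB
    obtain ⟨m, hm, hZm⟩ := (Nat.dvd_prime_pow hp).mp h1
    have hm0 : m ≠ 0 := by
      rintro rfl
      rw [pow_zero] at hZm
      have hZbot : Z = ⊥ := Subgroup.card_eq_one.mp hZm
      haveI : Nontrivial B := (Finite.one_lt_card_iff_nontrivial).mp (by
        rw [hB]; exact Nat.one_lt_pow (by omega) hp.one_lt)
      haveI := (IsPGroup.of_card hB).center_nontrivial
      obtain ⟨c, hc⟩ := exists_ne (1 : Subgroup.center B)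
      have hcZ : ((c : B) : X) ∈ Z := by
        apply hZmem _ (c : B).2
        intro b hb
        exact congrArg Subtype.val (Subgroup.mem_center_iff.mp c.2 ⟨b, hb⟩)
      rw [hZbot, Subgroup.mem_bot] at hcZ
      apply hc
      apply Subtype.ext; apply Subtype.ext
      exact hcZ
    have hm3 : m ≠ 3 := by
      rintro rfl
      have hZeq : Z = B := Subgroup.eq_of_le_of_card_ge hZB (by rw [hB, hZm])
      obtain ⟨a, ha, b, hb, hab⟩ := hBnc
      apply hab
      exact hZcomm b (hZeq ▸ hb) a ha
    have hm2 : m ≠ 2 := by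
      rintro rfl
      have hne : ¬ B ≤ Z := by
        intro hle
        have h2 := Subgroup.card_dvd_of_le hle
        rw [hB, hZm] at h2
        have := (Nat.pow_dvd_pow_iff_le_right hp.one_lt).mp h2
        omega
      obtain ⟨b, hbB, hbZ⟩ := SetLike.not_le_iff_exists.mp hne
      have hS : B ⊓ Subgroup.centralizer {b} = B := by
        apply eq_of_between (p := p) 2 (H := Z) _ inf_le_left hZm hB b _ hbZ
        · intro z hz
          refine Subgroup.mem_inf.mpr ⟨hZB hz, ?_⟩
          rw [Subgroup.mem_centralizer_singleton_iff]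
          exact (hZcomm z hz b hbB).symm
        · refine Subgroup.mem_inf.mpr ⟨hbB, ?_⟩
          rw [Subgroup.mem_centralizer_singleton_iff]
      apply hbZ
      apply hZmem b hbB
      intro b' hb'
      have : b' ∈ B ⊓ Subgroup.centralizer {b} := by rw [hS]; exact hb'
      exact Subgroup.mem_centralizer_singleton_iff.mp (Subgroup.mem_inf.mp this).2
    have : m = 1 := by omega
    rw [hZm, this, pow_one]
  -- the normalizer of B
  set N : Subgroup X := Subgroup.normalizer (B : Set X) with hN
  have hBN : B ≤ N := Subgroup.le_normalizer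
  have hNB : ∀ c ∈ N, ∀ b ∈ B, c * b * c⁻¹ ∈ B := by
    intro c hc b hb
    exact (Subgroup.mem_normalizer_iff.mp hc b).mp hb
  have hNZ : ∀ c ∈ N, ∀ z ∈ Z, c * z * c⁻¹ ∈ Z := by
    intro c hc z hz
    apply hZmem _ (hNB c hc z (hZB hz))
    intro b hb
    have h1 := hNB c⁻¹ (N.inv_mem hc) b hb
    rw [inv_inv] at h1
    have h2 := hZcomm z hz _ h1
    calc b * (c * z * c⁻¹) = c * ((c⁻¹ * b * c) * z) * c⁻¹ := by group
      _ = c * (z * (c⁻¹ * b * c)) * c⁻¹ := by rw [h2]
      _ = c * z * c⁻¹ * b := by group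
  haveI hZ'n : (Z.subgroupOf N).Normal := by
    constructor
    intro z hz c
    rw [Subgroup.mem_subgroupOf] at hz ⊢
    exact hNZ c c.2 z hz
  have hpQ : IsPGroup p (N ⧸ Z.subgroupOf N) := (hpX.to_subgroup N).to_quotient _
  haveI hB'n : (B.subgroupOf N).Normal := Subgroup.normal_in_normalizer
  haveI hBbn : ((B.subgroupOf N).map (QuotientGroup.mk' (Z.subgroupOf N))).Normal :=
    Subgroup.Normal.map hB'n _ (QuotientGroup.mk'_surjective _)
  have hBZ : ¬ B ≤ Z := by
    intro hle
    have h2 := Subgroup.card_dvd_of_le hle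
    rw [hB, hcardZ] at h2
    have h3 : p ^ 3 ∣ p ^ 1 := by rw [pow_one]; exact h2
    have := (Nat.pow_dvd_pow_iff_le_right hp.one_lt).mp h3
    omega
  obtain ⟨b0, hb0B, hb0Z⟩ := SetLike.not_le_iff_exists.mp hBZ
  have hBbne : (B.subgroupOf N).map (QuotientGroup.mk' (Z.subgroupOf N)) ≠ ⊥ := by
    intro h
    have h1 : QuotientGroup.mk' (Z.subgroupOf N) ⟨b0, hBN hb0B⟩ ∈
        (B.subgroupOf N).map (QuotientGroup.mk' (Z.subgroupOf N)) :=
      Subgroup.mem_map_of_mem _ (Subgroup.mem_subgroupOf.mpr hb0B)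
    rw [h, Subgroup.mem_bot, QuotientGroup.mk'_apply, QuotientGroup.eq_one_iff,
      Subgroup.mem_subgroupOf] at h1
    exact hb0Z h1
  obtain ⟨q, hqB, hq1, hqc⟩ :=
    Cfsg.Agent.Lib.Helper3.exists_ne_one_mem_center_of_normal hpQ _ hBbne
  obtain ⟨w, hwB, rfl⟩ := Subgroup.mem_map.mp hqB
  rw [Subgroup.mem_subgroupOf] at hwB
  have hwZ : (w : X) ∉ Z := by
    intro h
    apply hq1
    rw [QuotientGroup.mk'_apply, QuotientGroup.eq_one_iff, Subgroup.mem_subgroupOf]
    exact h
  have hwN : ∀ c ∈ N, c * (w : X) * c⁻¹ * (w : X)⁻¹ ∈ Z := by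
    intro c hc
    have h := Subgroup.mem_center_iff.mp hqc (QuotientGroup.mk' (Z.subgroupOf N) ⟨c, hc⟩)
    have h2 : QuotientGroup.mk' (Z.subgroupOf N) (⟨c, hc⟩ * w * ⟨c, hc⟩⁻¹ * w⁻¹) = 1 := by
      rw [map_mul, map_mul, map_mul, map_inv, map_inv, h]; group
    rw [QuotientGroup.mk'_apply, QuotientGroup.eq_one_iff, Subgroup.mem_subgroupOf] at h2
    exact h2
  set x0 : X := (w : X) with hx0
  have hx0B : x0 ∈ B := hwB
  obtain ⟨y, hyB, hyx⟩ : ∃ y ∈ B, y * x0 ≠ x0 * y := by
    by_contra hcon
    push Not at hcon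
    exact hwZ (hZmem x0 hx0B hcon)
  set z1 : X := y * x0 * y⁻¹ * x0⁻¹ with hz1
  have hz1Z : z1 ∈ Z := hwN y (hBN hyB)
  have hz1ne : z1 ≠ 1 := by
    intro h
    apply hyx
    calc y * x0 = (y * x0 * y⁻¹ * x0⁻¹) * x0 * y := by group
      _ = x0 * y := by rw [← hz1, h, one_mul]
  have hyZ : y ∉ Z := by
    intro h
    exact hyx (hZcomm y h x0 hx0B).symm
  set A : Subgroup X := B ⊓ Subgroup.centralizer {y} with hA
  have hAB : A ≤ B := inf_le_left
  have hZA : Z ≤ A := by
    intro z hz
    refine Subgroup.mem_inf.mpr ⟨hZB hz, ?_⟩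
    rw [Subgroup.mem_centralizer_singleton_iff]
    exact (hZcomm z hz y hyB).symm
  have hyA : y ∈ A := by
    refine Subgroup.mem_inf.mpr ⟨hyB, ?_⟩
    rw [Subgroup.mem_centralizer_singleton_iff]
  have hAcomm : ∀ a ∈ A, a * y = y * a := by
    intro a ha
    exact Subgroup.mem_centralizer_singleton_iff.mp (Subgroup.mem_inf.mp ha).2
  have hx0A : x0 ∉ A := by
    intro h
    exact hyx (hAcomm x0 h).symm
  have hcardA : Nat.card A = p ^ 2 := by
    have h1 : Nat.card A ∣ p ^ 3 := hB ▸ Subgroup.card_dvd_of_le hAB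
    obtain ⟨m, hm, hAm⟩ := (Nat.dvd_prime_pow hp).mp h1
    have h2 := Subgroup.card_dvd_of_le hZA
    rw [hcardZ, hAm] at h2
    have hm0 : m ≠ 0 := by
      rintro rfl
      rw [pow_zero] at h2
      exact hp.one_lt.ne' (Nat.dvd_one.mp h2)
    have hm1 : m ≠ 1 := by
      rintro rfl
      have : Z = A := Subgroup.eq_of_le_of_card_ge hZA (by rw [hcardZ, hAm, pow_one])
      apply hyZ; rw [this]; exact hyA
    have hm3 : m ≠ 3 := by
      rintro rfl
      have : A = B := Subgroup.eq_of_le_of_card_ge hAB (by rw [hB, hAm])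
      apply hx0A; rw [this]; exact hx0B
    have : m = 2 := by omega
    rw [hAm, this]
  refine ⟨A, hcardA, ?_⟩
  by_contra hcon
  obtain ⟨g, hgC, hgA⟩ := SetLike.not_le_iff_exists.mp hcon
  have hCcomm : ∀ c ∈ Subgroup.centralizer (A : Set X), ∀ a ∈ A, a * c = c * a := by
    intro c hc a ha
    exact Subgroup.mem_centralizer_iff.mp hc a ha
  have hCB : ∀ c ∈ Subgroup.centralizer (A : Set X), c ∈ B → c ∈ A := by
    intro c hc hcB
    refine Subgroup.mem_inf.mpr ⟨hcB, ?_⟩
    rw [Subgroup.mem_centralizer_singleton_iff]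
    exact (hCcomm c hc y hyA).symm
  have hgB : g ∉ B := fun h => hgA (hCB g hgC h)
  -- B normalizes A
  have hBnA : B ≤ Subgroup.normalizer (A : Set X) := by
    rw [← Subgroup.normal_subgroupOf_iff_le_normalizer hAB]
    apply Subgroup.normal_of_index_eq_minFac_card
    rw [hB, Nat.pow_minFac (by norm_num), hp.minFac_eq]
    have h1 := Cfsg.Agent.Lib.Helper7.card_inf_mul_relIndex A B
    rw [inf_eq_left.mpr hAB, hcardA, hB] at h1
    have h2 : A.relIndex B = p := by
      apply Nat.eq_of_mul_eq_mul_left (pow_pos hp.pos 2)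
      rw [h1]; ring
    exact h2
  have hBA : ∀ b ∈ B, ∀ a ∈ A, b * a * b⁻¹ ∈ A := by
    intro b hb a ha
    exact (Subgroup.mem_normalizer_iff.mp (hBnA hb) a).mp ha
  have hBnC : B ≤ Subgroup.normalizer
      ((Subgroup.centralizer (A : Set X) : Subgroup X) : Set X) := by
    apply Cfsg.Agent.Lib.Lead.le_normalizer_of_conj_mem
    intro b hb c hc
    rw [Subgroup.mem_centralizer_iff]
    intro a ha
    have h1 := hBA b⁻¹ (B.inv_mem hb) a ha
    rw [inv_inv] at h1
    have h2 := hCcomm c hc _ h1
    calc a * (b * c * b⁻¹) = b * ((b⁻¹ * a * b) * c) * b⁻¹ := by group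
      _ = b * (c * (b⁻¹ * a * b)) * b⁻¹ := by rw [h2]
      _ = b * c * b⁻¹ * a := by group
  set W : Subgroup X := B ⊔ Subgroup.centralizer (A : Set X) with hW
  have hBW : B ≤ W := le_sup_left
  have hgW : g ∈ W := (le_sup_right : _ ≤ W) hgC
  haveI : Group.IsNilpotent W := (hpX.to_subgroup W).isNilpotent
  have hlt : B.subgroupOf W < ⊤ := by
    rw [lt_top_iff_ne_top]
    intro h
    have : (⟨g, hgW⟩ : W) ∈ B.subgroupOf W := by rw [h]; trivial
    exact hgB (Subgroup.mem_subgroupOf.mp this)
  have hnc := Group.normalizerCondition_of_isNilpotent (G := W) (B.subgroupOf W) hlt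
  obtain ⟨w', hw'n, hw'B⟩ := SetLike.exists_of_lt hnc
  have hw'N : (w' : X) ∈ N := by
    rw [hN, Subgroup.mem_normalizer_iff]
    intro h
    have hiff := Subgroup.mem_normalizer_iff.mp hw'n
    constructor
    · intro hh
      have := (hiff ⟨h, hBW hh⟩).mp (Subgroup.mem_subgroupOf.mpr hh)
      exact Subgroup.mem_subgroupOf.mp this
    · intro hh
      have hhW : h ∈ W := by
        have e : h = (w' : X)⁻¹ * ((w' : X) * h * (w' : X)⁻¹) * (w' : X) := by group
        rw [e]
        exact W.mul_mem (W.mul_mem (W.inv_mem w'.2) (hBW hh)) w'.2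
      have := (hiff ⟨h, hhW⟩).mpr (by rw [Subgroup.mem_subgroupOf]; exact hh)
      exact Subgroup.mem_subgroupOf.mp this
  obtain ⟨b, hb, c, hc, hwbc⟩ :=
    Cfsg.Agent.Lib.Helper3.exists_mul_of_mem_sup_of_le_normalizer B _ hBnC w'.2
  have hcB : c ∉ B := by
    intro h
    apply hw'B
    rw [Subgroup.mem_subgroupOf, hwbc]
    exact B.mul_mem hb h
  have hcN : c ∈ N := by
    have e : c = b⁻¹ * (w' : X) := by rw [hwbc]; group
    rw [e]
    exact N.mul_mem (N.inv_mem (hBN hb)) hw'N
  have hcy : c * y = y * c := (hCcomm c hc y hyA).symm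
  have hcZ : ∀ z ∈ Z, c * z = z * c := fun z hz => (hCcomm c hc z (hZA hz)).symm
  set z0 : X := c * x0 * c⁻¹ * x0⁻¹ with hz0
  have hz0Z : z0 ∈ Z := hwN c hcN
  obtain ⟨j, hj⟩ : ∃ j : ℕ, z1 ^ j = z0 := by
    have h1 : (⟨z0, hz0Z⟩ : Z) ∈ Submonoid.powers (⟨z1, hz1Z⟩ : Z) :=
      mem_powers_of_prime_card hcardZ (by
        intro h; exact hz1ne (congrArg Subtype.val h))
    obtain ⟨j, hj⟩ := (Submonoid.mem_powers_iff _ _).mp h1
    refine ⟨j, ?_⟩
    have h2 := congrArg Subtype.val hj
    rw [Subgroup.coe_pow] at h2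
    exact h2
  have hyz1 : y * z1 = z1 * y := hZcomm z1 hz1Z y hyB
  have hconj := conj_pow_aux y x0 z1 (by rw [hz1]; group) hyz1 j
  rw [hj] at hconj
  have hcx : c * x0 * c⁻¹ = z0 * x0 := by rw [hz0]; group
  have huB : y ^ j ∈ B := B.pow_mem hyB j
  have hg'x : ((y ^ j)⁻¹ * c) * x0 = x0 * ((y ^ j)⁻¹ * c) := by
    have h1 : y ^ j * x0 * (y ^ j)⁻¹ = c * x0 * c⁻¹ := by rw [hconj, hcx]
    calc ((y ^ j)⁻¹ * c) * x0 = (y ^ j)⁻¹ * (c * x0 * c⁻¹) * c := by group
      _ = (y ^ j)⁻¹ * (y ^ j * x0 * (y ^ j)⁻¹) * c := by rw [h1]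
      _ = x0 * ((y ^ j)⁻¹ * c) := by group
  have hg'y : Commute ((y ^ j)⁻¹ * c) y := by
    have h1 : Commute (y ^ j) y := (Commute.refl y).pow_left j
    exact h1.inv_left.mul_left hcy
  have hg'Z : ∀ z ∈ Z, Commute ((y ^ j)⁻¹ * c) z := by
    intro z hz
    have h1 : Commute (y ^ j) z := hZcomm z hz _ huB
    exact h1.inv_left.mul_left (hcZ z hz)
  have hZS : Z ≤ B ⊓ Subgroup.centralizer {(y ^ j)⁻¹ * c} := by
    intro z hz
    refine Subgroup.mem_inf.mpr ⟨hZB hz, ?_⟩
    rw [Subgroup.mem_centralizer_singleton_iff]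
    exact (hg'Z z hz).symm
  have hx0S : x0 ∈ B ⊓ Subgroup.centralizer {(y ^ j)⁻¹ * c} := by
    refine Subgroup.mem_inf.mpr ⟨hx0B, ?_⟩
    rw [Subgroup.mem_centralizer_singleton_iff]
    exact hg'x.symm
  have hyS : y ∈ B ⊓ Subgroup.centralizer {(y ^ j)⁻¹ * c} := by
    refine Subgroup.mem_inf.mpr ⟨hyB, ?_⟩
    rw [Subgroup.mem_centralizer_singleton_iff]
    exact hg'y.symm
  have hSB : B ⊓ Subgroup.centralizer {(y ^ j)⁻¹ * c} = B := by
    have h1 : Nat.card (B ⊓ Subgroup.centralizer {(y ^ j)⁻¹ * c} : Subgroup X) ∣ p ^ 3 :=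
      hB ▸ Subgroup.card_dvd_of_le inf_le_left
    obtain ⟨m, hm, hSm⟩ := (Nat.dvd_prime_pow hp).mp h1
    have h2 := Subgroup.card_dvd_of_le hZS
    rw [hcardZ, hSm] at h2
    have hm0 : m ≠ 0 := by
      rintro rfl
      rw [pow_zero] at h2
      exact hp.one_lt.ne' (Nat.dvd_one.mp h2)
    have hm1 : m ≠ 1 := by
      rintro rfl
      have : Z = B ⊓ Subgroup.centralizer {(y ^ j)⁻¹ * c} :=
        Subgroup.eq_of_le_of_card_ge hZS (by rw [hcardZ, hSm, pow_one])
      apply hwZ; rw [this]; exact hx0S
    have hm2 : m ≠ 2 := by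
      rintro rfl
      have hcomm := (IsPGroup.isMulCommutative_of_card_eq_prime_sq (p := p) hSm).is_comm.comm
      apply hyx
      exact congrArg Subtype.val (hcomm ⟨y, hyS⟩ ⟨x0, hx0S⟩)
    have : m = 3 := by omega
    exact Subgroup.eq_of_le_of_card_ge inf_le_left (by rw [hB, hSm, this])
  have hg'Zmem : (y ^ j)⁻¹ * c ∈ Z := by
    apply Subgroup.mem_centralizer_iff.mpr
    intro b' hb'
    have : b' ∈ B ⊓ Subgroup.centralizer {(y ^ j)⁻¹ * c} := by rw [hSB]; exact hb'
    exact Subgroup.mem_centralizer_singleton_iff.mp (Subgroup.mem_inf.mp this).2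
  apply hcB
  have e : c = y ^ j * ((y ^ j)⁻¹ * c) := by group
  rw [e]
  exact B.mul_mem huB (hZB hg'Zmem)

theorem result {X : Type*} [Group X] [Finite X] {p : ℕ} [Fact p.Prime] (n : ℕ) (hX : Nat.card X = p ^ n)
    (B : Subgroup X) (hB : Nat.card B = p ^ 3) (hBna : ¬ IsMulCommutative B) (hC : Subgroup.centralizer (B : Set X) ≤ B) :
    Group.nilpotencyClass X = n - 1 := by
  obtain ⟨A, hA, hCA⟩ := exists_selfCent n hX B hB hBna hC
  exact suzuki p n X hX A hA hCA

end Cfsg.Agent.S4143
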