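import Cfsg.Statements.S0029
import Mathlib
import Cfsg.Agent.Lib.Lead.SylowAux2
import Cfsg.Agent.Lib.Lead.CoprimeAction2

set_option autoImplicit false
open Cfsg Cfsg.Agent.Lib.Lead

namespace Cfsg.Agent.S0029

open scoped Pointwise commutatorElement

/-- An action that is trivial on the Frattini quotient and coprime on the Frattini subgroup is trivial: if A normalises K, the orders of A and of the Frattini subgroup of K are coprime, and every commutator of an element of A with an element of K lies in the Frattini subgroup of K, then A centralises K. -/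
theorem result {G : Type*} [Group G] [Finite G] (A K : Subgroup G)
    (hAK : A ≤ Subgroup.normalizer (K : Set G))
    (hcop : (Nat.card A).Coprime (Nat.card (frattini K)))
    (htriv : ∀ a ∈ A, ∀ k ∈ K, a * k * a⁻¹ * k⁻¹ ∈ (frattini K).map K.subtype) :
    A ≤ Subgroup.centralizer (K : Set G) := by
  have hFK : (frattini K).map K.subtype ≤ K := Subgroup.map_subtype_le _
  have hcardF : Nat.card ((frattini K).map K.subtype) = Nat.card (frattini K) :=
    Subgroup.card_map_of_injective K.subtype_injective
  have hcopF : (Nat.card A).Coprime (Nat.card ((frattini K).map K.subtype)) := by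
    rw [hcardF]; exact hcop
  have hFs : Group.IsSolvable ((frattini K).map K.subtype) := by
    have hnil : Group.IsNilpotent (frattini K) := frattini_nilpotent
    exact Group.isSolvable_of_surjective (f := K.subtype.subgroupMap (frattini K))
      (K.subtype.subgroupMap_surjective _)
  have hAF : A ≤ Subgroup.normalizer (((frattini K).map K.subtype : Subgroup G) : Set G) := by
    apply le_normalizer_of_conj_mem
    rintro a ha x ⟨y, hy, rfl⟩
    let φ : K ≃* K :=
      { toFun := fun z => ⟨a * z * a⁻¹, conj_mem_of_mem_normalizer (hAK ha) z.2⟩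
        invFun := fun z => ⟨a⁻¹ * z * a, by
          have h0 := conj_mem_of_mem_normalizer (hAK (A.inv_mem ha)) z.2
          rwa [inv_inv] at h0⟩
        left_inv := by intro z; apply Subtype.ext; simp [mul_assoc]
        right_inv := by intro z; apply Subtype.ext; simp [mul_assoc]
        map_mul' := by intro z w; apply Subtype.ext; simp [mul_assoc] }
    have h1 : (frattini K).map φ.toMonoidHom = frattini K :=
      (Subgroup.characteristic_iff_map_eq.mp frattini_characteristic) φ
    have h2 : φ y ∈ frattini K := by rw [← h1]; exact ⟨y, hy, rfl⟩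
    exact ⟨φ y, h2, rfl⟩
  have key : ∀ k ∈ K, ∃ n ∈ (frattini K).map K.subtype,
      k * n ∈ Subgroup.centralizer (A : Set G) := by
    intro k hk
    have hk' : ∀ a ∈ A, a⁻¹ * (k⁻¹ * a * k) ∈ (frattini K).map K.subtype := by
      intro a ha
      have h1 := htriv a⁻¹ (A.inv_mem ha) k⁻¹ (K.inv_mem hk)
      have h2 : a⁻¹ * k⁻¹ * a⁻¹⁻¹ * k⁻¹⁻¹ = a⁻¹ * (k⁻¹ * a * k) := by group
      rw [h2] at h1; exact h1
    obtain ⟨n, hn, hn2⟩ := coprime_fix A _ hAF hcopF (Or.inr hFs) k hk'
    refine ⟨n, hn, ?_⟩
    apply mem_centralizer_of_normalizes' A _ hcopF (k * n) _ hn2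
    intro a ha
    have hc : k * n ∈ K := K.mul_mem hk (hFK hn)
    have h1 := htriv a⁻¹ (A.inv_mem ha) (k * n)⁻¹ (K.inv_mem hc)
    have h2 : a⁻¹ * (k * n)⁻¹ * a⁻¹⁻¹ * (k * n)⁻¹⁻¹ = a⁻¹ * ((k * n)⁻¹ * a * (k * n)) := by
      group
    rw [h2] at h1; exact h1
  have hC : ((Subgroup.centralizer (A : Set G)).subgroupOf K) ⊔ frattini K = ⊤ := by
    rw [eq_top_iff]
    intro k _
    obtain ⟨n, hn, hkn⟩ := key k k.2
    obtain ⟨n', hn', rfl⟩ := hn
    have h1 : k = (k * n') * n'⁻¹ := by group
    rw [h1]
    exact Subgroup.mul_mem _ (Subgroup.mem_sup_left (by rw [Subgroup.mem_subgroupOf]; exact hkn))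
      (Subgroup.mem_sup_right (Subgroup.inv_mem _ hn'))
  have hC2 := frattini_nongenerating hC
  intro a ha
  rw [Subgroup.mem_centralizer_iff]
  intro k hk
  have h1 : (⟨k, hk⟩ : K) ∈ (Subgroup.centralizer (A : Set G)).subgroupOf K := by
    rw [hC2]; trivial
  rw [Subgroup.mem_subgroupOf, Subgroup.mem_centralizer_iff] at h1
  exact (h1 a ha).symm

end Cfsg.Agent.S0029
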