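import Cfsg.Statements.S0865
import Mathlib
import Cfsg.Agent.Lib.Helper7.CharExt

set_option autoImplicit false
open Cfsg

namespace Cfsg.Agent.S0865

open Cfsg.Agent.Lib.Lead Cfsg.Agent.Lib.Helper7

universe u

/-- the transfer of an invariant homomorphism on a normal subgroup restricts to its
`index`-th power -/
theorem transfer_normal {G : Type u} [Group G] [Finite G] (N : Subgroup G) [hN : N.Normal]
    (ϕ : N →* ℂˣ)
    (hinv : ∀ (g : G) (n : N), ϕ ⟨g * n * g⁻¹, hN.conj_mem (n : G) n.2 g⟩ = ϕ n) (n : N) :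
    MonoidHom.transfer ϕ (n : G) = ϕ n ^ N.index := by
  classical
  let T : N.LeftTransversal := default
  rw [MonoidHom.transfer_def ϕ T]
  have key : ∀ (x : N) (t : G), (x : G) = t⁻¹ * ((n : G) * t) → ϕ x = ϕ n := by
    intro x t hx
    have h := hinv t⁻¹ n
    rw [← h]
    congr 1
    apply Subtype.ext
    rw [hx]; simp [mul_assoc]
  letI := N.fintypeQuotientOfFiniteIndex
  have h1 : Subgroup.leftTransversals.diff ϕ T ((n : G) • T) = ∏ q : G ⧸ N, ϕ n := by
    unfold Subgroup.leftTransversals.diff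
    apply Finset.prod_congr rfl
    intro q _
    apply key _ (T.2.leftQuotientEquiv q : G)
    show ((T.2.leftQuotientEquiv q : G))⁻¹ * (((n : G) • T).2.leftQuotientEquiv q : G) = _
    rw [Subgroup.smul_apply_eq_smul_apply_inv_smul]
    have hq : (n : G)⁻¹ • q = q := by
      induction q using QuotientGroup.induction_on with
      | H a =>
        show ((((n : G)⁻¹ * a : G)) : G ⧸ N) = (a : G ⧸ N)
        rw [QuotientGroup.eq]
        have h2 : ((n : G)⁻¹ * a)⁻¹ * a = a⁻¹ * (n : G) * a⁻¹⁻¹ := by group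
        rw [h2]
        exact hN.conj_mem _ n.2 _
    rw [hq]; rfl
  rw [h1, Finset.prod_const, Finset.card_univ, Subgroup.index_eq_card, Nat.card_eq_fintype_card]

/-- the order of a linear character as a function equals its order as a homomorphism -/
theorem orderOf_fun {X : Type u} [Group X] (f : X →* ℂˣ) :
    orderOf (fun x => (f x : ℂ)) = orderOf f := by
  rw [orderOf_eq_orderOf_iff]
  intro k
  constructor
  · intro h
    apply MonoidHom.ext; intro x
    apply Units.ext
    have h1 := congrFun h x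
    rw [MonoidHom.pow_apply, MonoidHom.one_apply, Units.val_pow_eq_pow_val, Units.val_one]
    exact h1
  · intro h
    funext x
    have h1 := DFunLike.congr_fun h x
    rw [MonoidHom.pow_apply, MonoidHom.one_apply] at h1
    show (f x : ℂ) ^ k = 1
    rw [← Units.val_pow_eq_pow_val, h1, Units.val_one]

/-- Let N be a normal subgroup of the finite group G and λ a character of N of degree 1, invariant under conjugation by G, whose order (under pointwise multiplication) is coprime to the index of N. Then there is a character μ of G of degree 1 restricting to λ with the same order as λ, and μ is the only degree-1 character of G restricting to λ whose order is coprime to the index of N. -/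
theorem result {G : Type*} [Group G] [Finite G] (N : Subgroup G) [hN : N.Normal] (lam : N → ℂ) (hlam : Cfsg.IsCharacter N lam ∧ lam 1 = 1) (hinv : ∀ (g : G) (n : N), lam ⟨g * n * g⁻¹, hN.conj_mem (n : G) n.2 g⟩ = lam n) (hcop : Nat.Coprime N.index (orderOf lam)) : ∃ μ : G → ℂ, (Cfsg.IsCharacter G μ ∧ μ 1 = 1 ∧ (∀ n : N, μ n = lam n) ∧ orderOf μ = orderOf lam) ∧ ∀ μ' : G → ℂ, Cfsg.IsCharacter G μ' ∧ μ' 1 = 1 → (∀ n : N, μ' n = lam n) → Nat.Coprime N.index (orderOf μ') → μ' = μ := by
  classical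
  obtain ⟨lh, hlh⟩ := exists_hom_of_linear (isIrrCharacter_of_linear hlam.1 hlam.2) hlam.2
  subst hlh
  have hinv' : ∀ (g : G) (n : N), lh ⟨g * n * g⁻¹, hN.conj_mem (n : G) n.2 g⟩ = lh n := by
    intro g n
    apply Units.ext
    exact hinv g n
  rw [orderOf_fun lh] at hcop ⊢
  obtain ⟨o, ho⟩ : ∃ o, o = orderOf lh := ⟨_, rfl⟩
  rw [← ho] at hcop ⊢
  have hidx : N.index ≠ 0 := Subgroup.index_ne_zero_of_finite
  have ho0 : o ≠ 0 := by
    rw [ho]
    have h1 : lh ^ Nat.card N = 1 := by
      apply MonoidHom.ext; intro x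
      rw [MonoidHom.pow_apply, MonoidHom.one_apply, ← map_pow, pow_card_eq_one', map_one]
    exact (orderOf_pos_iff.2 (isOfFinOrder_iff_pow_eq_one.2 ⟨Nat.card N, Nat.card_pos, h1⟩)).ne'
  let τ : G →* ℂˣ := MonoidHom.transfer lh
  have hτN : ∀ n : N, τ n = lh n ^ N.index := transfer_normal N lh hinv'
  have hcop2 : Nat.Coprime (N.index * N.index) o := Nat.Coprime.mul_left hcop hcop
  obtain ⟨v, -, hv⟩ := Nat.exists_mul_mod_eq_of_coprime 1 hcop2 ho0
  have hlo : ∀ n : N, lh n ^ o = 1 := by
    intro n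
    have h1 : lh ^ o = 1 := by rw [ho]; exact pow_orderOf_eq_one lh
    have h2 := DFunLike.congr_fun h1 n
    rw [MonoidHom.pow_apply, MonoidHom.one_apply] at h2
    exact h2
  let μh : G →* ℂˣ := τ ^ (N.index * v)
  have hμh : ∀ g, μh g = τ g ^ (N.index * v) := fun g => by
    show (τ ^ (N.index * v)) g = _
    rw [MonoidHom.pow_apply]
  have hμN : ∀ n : N, μh n = lh n := by
    intro n
    rw [hμh, hτN, ← pow_mul, ← mul_assoc, pow_eq_pow_mod _ (hlo n), hv,
      ← pow_eq_pow_mod _ (hlo n), pow_one]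
  have hτo : ∀ g, τ g ^ (o * N.index) = 1 := by
    intro g
    have hmem := Subgroup.pow_index_mem N g
    rw [mul_comm, pow_mul, ← map_pow]
    have h1 := hτN ⟨g ^ N.index, hmem⟩
    have h2 : τ (g ^ N.index) = lh ⟨g ^ N.index, hmem⟩ ^ N.index := h1
    rw [h2, ← pow_mul, mul_comm, pow_mul, hlo, one_pow]
  have hμo : ∀ g, μh g ^ o = 1 := by
    intro g
    have h1 : N.index * v * o = o * N.index * v := by ring
    rw [hμh, ← pow_mul, h1, pow_mul, hτo, one_pow]
  have hordμ : orderOf μh = o := by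
    apply Nat.dvd_antisymm
    · apply orderOf_dvd_of_pow_eq_one
      apply MonoidHom.ext; intro g
      rw [MonoidHom.pow_apply, MonoidHom.one_apply]; exact hμo g
    · rw [ho]
      apply orderOf_dvd_of_pow_eq_one
      apply MonoidHom.ext; intro n
      rw [MonoidHom.pow_apply, MonoidHom.one_apply, ← hμN n, ← MonoidHom.pow_apply,
        pow_orderOf_eq_one, MonoidHom.one_apply]
  have hchar : ∀ f : G →* ℂˣ, Cfsg.IsCharacter G (fun g => (f g : ℂ)) := by
    intro f
    have h1 := isCharacter_of_isIrrCharacter (isIrr_twist f (isIrrCharacter_one G))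
    have h2 : (fun g => (f g : ℂ)) = fun g => (f g : ℂ) * (fun _ => (1 : ℂ)) g := by
      funext g; rw [mul_one]
    rw [h2]; exact h1
  refine ⟨fun g => (μh g : ℂ), ⟨hchar μh, ?_, ?_, ?_⟩, ?_⟩
  · show ((μh 1 : ℂˣ) : ℂ) = 1
    rw [map_one, Units.val_one]
  · intro n
    show ((μh n : ℂˣ) : ℂ) = (lh n : ℂ)
    rw [hμN]
  · rw [orderOf_fun μh, hordμ]
  · rintro μ' ⟨hμ'c, hμ'1⟩ hμ'N hμ'cop
    obtain ⟨mh, hmh⟩ := exists_hom_of_linear (isIrrCharacter_of_linear hμ'c hμ'1) hμ'1
    subst hmh
    rw [orderOf_fun mh] at hμ'cop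
    have hmN : ∀ n : N, mh n = lh n := fun n => Units.ext (hμ'N n)
    have hone : ∀ g, mh g = μh g := by
      intro g
      obtain ⟨z, hz⟩ : ∃ z, z = mh g * (μh g)⁻¹ := ⟨_, rfl⟩
      have hmem := Subgroup.pow_index_mem N g
      have h1 : z ^ N.index = 1 := by
        rw [hz, mul_pow, inv_pow, ← map_pow, ← map_pow]
        have h2 : mh (g ^ N.index) = lh ⟨g ^ N.index, hmem⟩ := hmN ⟨g ^ N.index, hmem⟩
        have h3 : μh (g ^ N.index) = lh ⟨g ^ N.index, hmem⟩ := hμN ⟨g ^ N.index, hmem⟩
        rw [h2, h3, mul_inv_cancel]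
      have h4 : z ^ (orderOf mh * o) = 1 := by
        rw [hz, mul_pow, inv_pow]
        have h5 : mh g ^ (orderOf mh * o) = 1 := by
          rw [pow_mul, ← MonoidHom.pow_apply, pow_orderOf_eq_one, MonoidHom.one_apply, one_pow]
        have h6 : μh g ^ (orderOf mh * o) = 1 := by
          rw [mul_comm, pow_mul, hμo, one_pow]
        rw [h5, h6, inv_one, mul_one]
      have h7 : z ^ Nat.gcd (N.index) (orderOf mh * o) = 1 := pow_gcd_eq_one.2 ⟨h1, h4⟩
      have h8 : Nat.gcd N.index (orderOf mh * o) = 1 := Nat.Coprime.mul_right hμ'cop hcop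
      rw [h8, pow_one] at h7
      rw [hz] at h7
      exact mul_inv_eq_one.1 h7
    funext g
    rw [hone g]

end Cfsg.Agent.S0865
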