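import Cfsg.Statements.S0864
import Mathlib
import Cfsg.Agent.Lib.Helper7.CharExt
import Cfsg.Agent.S0865

set_option autoImplicit false
open Cfsg

namespace Cfsg.Agent.S0864

open Cfsg.Agent.Lib.Lead Cfsg.Agent.Lib.Helper7

universe u

/-- the transfer from an intermediate subgroup `H ≥ N` of an extension of a `G`-invariant
homomorphism on a normal subgroup `N` restricts on `N` to the `|G:H|`-th power -/
theorem transfer_over {G : Type u} [Group G] [Finite G] (N : Subgroup G) [hN : N.Normal]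
    (H : Subgroup G) (hNH : N ≤ H) (ϕ : N →* ℂˣ) (ν : H →* ℂˣ)
    (hν : ∀ n : N, ν ⟨(n : G), hNH n.2⟩ = ϕ n)
    (hinv : ∀ (g : G) (n : N), ϕ ⟨g * n * g⁻¹, hN.conj_mem (n : G) n.2 g⟩ = ϕ n) (n : N) :
    MonoidHom.transfer ν (n : G) = ϕ n ^ H.index := by
  classical
  let T : H.LeftTransversal := default
  rw [MonoidHom.transfer_def ν T]
  have key : ∀ (x : H) (t : G), (x : G) = t⁻¹ * ((n : G) * t) → ν x = ϕ n := by
    intro x t hx
    have hmem : t⁻¹ * (n : G) * t⁻¹⁻¹ ∈ N := hN.conj_mem _ n.2 _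
    have h := hinv t⁻¹ n
    rw [← h, ← hν ⟨_, hmem⟩]
    congr 1
    apply Subtype.ext
    rw [hx]; simp [mul_assoc]
  letI := H.fintypeQuotientOfFiniteIndex
  have h1 : Subgroup.leftTransversals.diff ν T ((n : G) • T) = ∏ q : G ⧸ H, ϕ n := by
    unfold Subgroup.leftTransversals.diff
    apply Finset.prod_congr rfl
    intro q _
    apply key _ (T.2.leftQuotientEquiv q : G)
    show ((T.2.leftQuotientEquiv q : G))⁻¹ * (((n : G) • T).2.leftQuotientEquiv q : G) = _
    rw [Subgroup.smul_apply_eq_smul_apply_inv_smul]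
    have hq : (n : G)⁻¹ • q = q := by
      induction q using QuotientGroup.induction_on with
      | H a =>
        show ((((n : G)⁻¹ * a : G)) : G ⧸ H) = (a : G ⧸ H)
        rw [QuotientGroup.eq]
        have h2 : ((n : G)⁻¹ * a)⁻¹ * a = a⁻¹ * (n : G) * a⁻¹⁻¹ := by group
        rw [h2]
        exact hNH (hN.conj_mem _ n.2 _)
    rw [hq]; rfl
  rw [h1, Finset.prod_const, Finset.card_univ, Subgroup.index_eq_card, Nat.card_eq_fintype_card]

/-- Let N be a normal subgroup of the finite group G and λ a character of N of degree 1 invariant under conjugation by G. Suppose that for every prime p dividing the order of λ (in the group of functions under pointwise multiplication) there is a subgroup H containing N, of index prime to p and with the index of N in H a power of p, together with a character of H of degree 1 restricting to λ. Then λ is the restriction of a character of G of degree 1. -/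
theorem result {G : Type*} [Group G] [Finite G] (N : Subgroup G) [hN : N.Normal] (lam : N → ℂ) (hlam : Cfsg.IsCharacter N lam ∧ lam 1 = 1) (hinv : ∀ (g : G) (n : N), lam ⟨g * n * g⁻¹, hN.conj_mem (n : G) n.2 g⟩ = lam n) (hsyl : ∀ p : ℕ, p.Prime → p ∣ orderOf lam → ∃ (H : Subgroup G) (hNH : N ≤ H) (ν : H → ℂ), Nat.Coprime H.index p ∧ (∃ k : ℕ, N.relIndex H = p ^ k) ∧ Cfsg.IsCharacter H ν ∧ ν 1 = 1 ∧ ∀ n : N, ν ⟨(n : G), hNH n.2⟩ = lam n) : ∃ μ : G → ℂ, Cfsg.IsCharacter G μ ∧ μ 1 = 1 ∧ ∀ n : N, μ n = lam n := by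
  classical
  obtain ⟨lh, hlh⟩ := exists_hom_of_linear (isIrrCharacter_of_linear hlam.1 hlam.2) hlam.2
  subst hlh
  have hinv' : ∀ (g : G) (n : N), lh ⟨g * n * g⁻¹, hN.conj_mem (n : G) n.2 g⟩ = lh n := by
    intro g n
    apply Units.ext
    exact hinv g n
  rw [Cfsg.Agent.S0865.orderOf_fun lh] at hsyl
  let S : ℕ → Prop := fun k => ∃ μ : G →* ℂˣ, ∀ n : N, μ n = lh n ^ k
  have hS_o : S (orderOf lh) := ⟨1, fun n => by
    rw [MonoidHom.one_apply, ← MonoidHom.pow_apply, pow_orderOf_eq_one, MonoidHom.one_apply]⟩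
  have ho0 : 0 < orderOf lh := by
    have h1 : lh ^ Nat.card N = 1 := by
      apply MonoidHom.ext; intro x
      rw [MonoidHom.pow_apply, MonoidHom.one_apply, ← map_pow, pow_card_eq_one', map_one]
    exact orderOf_pos_iff.2 (isOfFinOrder_iff_pow_eq_one.2 ⟨Nat.card N, Nat.card_pos, h1⟩)
  have hS_p : ∀ p : ℕ, p.Prime → p ∣ orderOf lh → ∃ m, Nat.Coprime m p ∧ S m := by
    intro p hp hpo
    obtain ⟨H, hNH, ν, hcop, -, hνc, hν1, hνN⟩ := hsyl p hp hpo
    obtain ⟨νh, hνh⟩ := exists_hom_of_linear (isIrrCharacter_of_linear hνc hν1) hν1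
    subst hνh
    refine ⟨H.index, hcop, MonoidHom.transfer νh, fun n => ?_⟩
    exact transfer_over N H hNH lh νh (fun n => Units.ext (hνN n)) hinv' n
  have hex : ∃ k, 0 < k ∧ S k := ⟨_, ho0, hS_o⟩
  obtain ⟨g, hg⟩ : ∃ g, g = Nat.find hex := ⟨_, rfl⟩
  have hgS : 0 < g ∧ S g := by rw [hg]; exact Nat.find_spec hex
  have hgmin : ∀ k, 0 < k → S k → g ≤ k := by
    intro k hk hSk; rw [hg]; exact Nat.find_min' hex ⟨hk, hSk⟩
  have hdvd : ∀ k, S k → g ∣ k := by
    rintro k ⟨μ, hμ⟩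
    obtain ⟨μg, hμg⟩ := hgS.2
    by_contra hnd
    have hmod : 0 < k % g := Nat.pos_of_ne_zero (fun h => hnd (Nat.dvd_of_mod_eq_zero h))
    have hSmod : S (k % g) := by
      refine ⟨μ * (μg ^ (k / g))⁻¹, fun n => ?_⟩
      rw [MonoidHom.mul_apply, MonoidHom.inv_apply, MonoidHom.pow_apply, hμ, hμg]
      rw [mul_inv_eq_iff_eq_mul, ← pow_mul, ← pow_add, Nat.mod_add_div]
    have h1 := hgmin _ hmod hSmod
    have h2 := Nat.mod_lt k hgS.1
    omega
  have hg1 : g = 1 := by
    by_contra hne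
    obtain ⟨p, hp, hpg⟩ := Nat.exists_prime_and_dvd hne
    have hpo : p ∣ orderOf lh := dvd_trans hpg (hdvd _ hS_o)
    obtain ⟨m, hmcop, hSm⟩ := hS_p p hp hpo
    have hpm : p ∣ m := dvd_trans hpg (hdvd _ hSm)
    have h3 := Nat.Coprime.eq_one_of_dvd hmcop.symm hpm
    exact hp.one_lt.ne' h3
  obtain ⟨μ, hμ⟩ := hgS.2
  rw [hg1] at hμ
  have hchar : Cfsg.IsCharacter G (fun g => (μ g : ℂ)) := by
    have h1 := isCharacter_of_isIrrCharacter (isIrr_twist μ (isIrrCharacter_one G))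
    have h2 : (fun g => (μ g : ℂ)) = fun g => (μ g : ℂ) * (fun _ => (1 : ℂ)) g := by
      funext g; rw [mul_one]
    rw [h2]; exact h1
  refine ⟨fun x => (μ x : ℂ), hchar, ?_, ?_⟩
  · show ((μ 1 : ℂˣ) : ℂ) = 1
    rw [map_one, Units.val_one]
  · intro n
    show ((μ n : ℂˣ) : ℂ) = (lh n : ℂ)
    rw [hμ, pow_one]

end Cfsg.Agent.S0864
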