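import Cfsg.Statements.S0887
import Mathlib
import Cfsg.Agent.Lib.Helper7.ExtGrp2

set_option autoImplicit false
open Cfsg

namespace Cfsg.Agent.S0887

open Cfsg.Agent.Lib.Lead Cfsg.Agent.Lib.Helper7

open scoped ComplexConjugate

universe u

/-- over an invariant irreducible character `ϑ` of a normal subgroup `N`, the ramification index
of an irreducible character of `G` divides the index of `N` -/
theorem ram_dvd_index {G : Type u} [Group G] [Finite G] (N : Subgroup G) [hN : N.Normal]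
    (ϑ : N → ℂ) (hϑ : Cfsg.IsIrrCharacter N ϑ)
    (hinv : ∀ (g : G) (m : N), ϑ ⟨g * m * g⁻¹, hN.conj_mem (m : G) m.2 g⟩ = ϑ m)
    (χ : G → ℂ) (hχ : Cfsg.IsIrrCharacter G χ) (e : ℕ) (he0 : e ≠ 0)
    (hres : ∀ m : N, χ m = (e : ℂ) * ϑ m) : e ∣ N.index := by
  classical
  obtain ⟨n, ρ, hρ, rfl⟩ := hϑ
  haveI := hρ
  have hn0 : 0 < n := by
    have h1 := finrank_pos_of_irr ρ
    rw [Module.finrank_fin_fun] at h1
    exact h1
  have hinv' : ∀ (g : G) (m : N), ρ.character (conjHom N g m) = ρ.character m :=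
    fun g m => hinv g m
  have hρ1 : ρ.character 1 = (n : ℂ) := by
    show LinearMap.trace ℂ (Fin n → ℂ) (ρ 1) = n
    rw [map_one]
    show LinearMap.trace ℂ (Fin n → ℂ) LinearMap.id = n
    rw [LinearMap.trace_id, Module.finrank_fin_fun]
  obtain ⟨M, hMdef⟩ : ∃ M, M = Nat.card G := ⟨_, rfl⟩
  have hM0 : 0 < M := by rw [hMdef]; exact Nat.card_pos
  haveI hfinΓ : Finite (finGrp N ρ M) := finGrp_finite N ρ hinv' M hM0
  haveI : Fintype (finGrp N ρ M) := Fintype.ofFinite _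
  have hπsurj := finProj_surj N ρ hinv' M
  haveI hDn := finD_normal N ρ M
  haveI : Fintype (finD N ρ M) := Fintype.ofFinite _
  haveI : Fintype (Cfsg.IrrCharacter (finGrp N ρ M)) := Fintype.ofFinite _
  obtain ⟨lam, hlam⟩ := exists_finLam N ρ M hn0
  have hlaminv := finLam_inv N ρ M hn0 lam hlam
  have hDsurj : Function.Surjective (finDProj N ρ M) := by
    intro m
    obtain ⟨x, hx⟩ := hπsurj (m : G)
    have hxD : x ∈ finD N ρ M := by
      show finProj N ρ M x ∈ N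
      rw [hx]; exact m.2
    exact ⟨⟨x, hxD⟩, Subtype.ext hx⟩
  -- characters of the auxiliary group
  obtain ⟨χt, hχtdef⟩ : ∃ χt : finGrp N ρ M → ℂ, χt = χ ∘ finProj N ρ M := ⟨_, rfl⟩
  have hχt : Cfsg.IsIrrCharacter (finGrp N ρ M) χt := by
    rw [hχtdef]; exact isIrrCharacter_comp_surj (finProj N ρ M) hπsurj hχ
  let σ : Representation ℂ (finGrp N ρ M) (Fin n → ℂ) :=
    (Units.coeHom (Endn n)).comp (finRep N ρ M)
  obtain ⟨τc, hτcdef⟩ : ∃ τc : finGrp N ρ M → ℂ, τc = σ.character := ⟨_, rfl⟩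
  have hτc : Cfsg.IsCharacter (finGrp N ρ M) τc := ⟨n, σ, hτcdef.symm⟩
  have hτc1 : τc 1 = (n : ℂ) := by
    rw [hτcdef]
    show LinearMap.trace ℂ (Fin n → ℂ) (σ 1) = n
    rw [map_one]
    show LinearMap.trace ℂ (Fin n → ℂ) LinearMap.id = n
    rw [LinearMap.trace_id, Module.finrank_fin_fun]
  obtain ⟨Φ, hΦdef⟩ : ∃ Φ : finGrp N ρ M → ℂ, Φ = χt * (fun g => conj (τc g)) := ⟨_, rfl⟩
  have hΦ : Cfsg.IsCharacter (finGrp N ρ M) Φ := by
    rw [hΦdef]
    exact isCharacter_mul (isCharacter_of_isIrrCharacter hχt) (isCharacter_conj hτc)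
  -- the linear character `μ = lam⁻¹` of the preimage of `N`
  obtain ⟨μ, hμdef⟩ : ∃ μ : finD N ρ M → ℂ,
      μ = fun y => (((lam⁻¹ : finD N ρ M →* ℂˣ) y : ℂˣ) : ℂ) := ⟨_, rfl⟩
  have hμirr : Cfsg.IsIrrCharacter (finD N ρ M) μ := by
    have h1 := isIrr_twist (lam⁻¹ : finD N ρ M →* ℂˣ) (isIrrCharacter_one (finD N ρ M))
    have h2 : μ = fun g => (((lam⁻¹ : finD N ρ M →* ℂˣ) g : ℂˣ) : ℂ) * (fun _ => (1 : ℂ)) g := by
      rw [hμdef]; funext g; rw [mul_one]
    rw [h2]; exact h1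
  have hμ1 : μ 1 = 1 := by
    rw [hμdef]
    show (((lam⁻¹ : finD N ρ M →* ℂˣ) 1 : ℂˣ) : ℂ) = 1
    rw [map_one, Units.val_one]
  have hμconj : ∀ y, conj (μ y) = (lam y : ℂ) := by
    intro y
    have h1 := unit_norm lam y
    rw [hμdef]
    show conj ((((lam⁻¹ : finD N ρ M →* ℂˣ) y : ℂˣ) : ℂ)) = (lam y : ℂ)
    rw [MonoidHom.inv_apply, Units.val_inv_eq_inv_val, map_inv₀]
    exact (eq_inv_of_mul_eq_one_left h1).symm
  have hμinv : ∀ (x : finGrp N ρ M) (y : finD N ρ M),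
      μ ⟨x * y * x⁻¹, hDn.conj_mem (y : finGrp N ρ M) y.2 x⟩ = μ y := by
    intro x y
    rw [hμdef]
    show (((lam⁻¹ : finD N ρ M →* ℂˣ) _ : ℂˣ) : ℂ) = (((lam⁻¹ : finD N ρ M →* ℂˣ) y : ℂˣ) : ℂ)
    rw [MonoidHom.inv_apply, MonoidHom.inv_apply, hlaminv x y]
  -- values on the preimage of `N`
  obtain ⟨ϑ', hϑ'def⟩ : ∃ ϑ' : finD N ρ M → ℂ, ϑ' = ρ.character ∘ finDProj N ρ M := ⟨_, rfl⟩
  have hϑ'irr : Cfsg.IsIrrCharacter (finD N ρ M) ϑ' := by
    rw [hϑ'def]
    exact isIrrCharacter_comp_surj (finDProj N ρ M) hDsurj ⟨n, ρ, inferInstance, rfl⟩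
  have hχtD : ∀ y : finD N ρ M, χt y = (e : ℂ) * ϑ' y := by
    intro y
    rw [hχtdef, hϑ'def]
    exact hres (finDProj N ρ M y)
  have hτcD : ∀ y : finD N ρ M, τc y = (lam y : ℂ) * ϑ' y := by
    intro y
    rw [hτcdef, hϑ'def]
    show LinearMap.trace ℂ (Fin n → ℂ) ((finRep N ρ M y.1 : (Endn n)ˣ) : Endn n) =
      (lam y : ℂ) * LinearMap.trace ℂ (Fin n → ℂ) (ρ (finDProj N ρ M y))
    rw [hlam y, map_smul, smul_eq_mul]
  have hkey : Cfsg.classInner (fun y : finD N ρ M => Φ y) μ = (e : ℂ) := by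
    have h3 : ∀ y : finD N ρ M, (fun y : finD N ρ M => Φ y) y * conj (μ y) =
        (e : ℂ) * (ϑ' y * conj (ϑ' y)) := by
      intro y
      rw [hμconj y, hΦdef]
      show χt y * conj (τc y) * (lam y : ℂ) = (e : ℂ) * (ϑ' y * conj (ϑ' y))
      rw [hχtD y, hτcD y, map_mul]
      have h2 := unit_norm lam y
      linear_combination ((e : ℂ) * ϑ' y * conj (ϑ' y)) * h2
    have h1 : Cfsg.classInner (fun y : finD N ρ M => Φ y) μ =
        (e : ℂ) * Cfsg.classInner ϑ' ϑ' := by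
      unfold Cfsg.classInner
      rw [Finset.sum_congr rfl (fun y _ => h3 y), ← Finset.mul_sum]
      ring
    rw [h1, classInner_irr_self hϑ'irr, mul_one]
  -- expansion of `Φ`
  obtain ⟨a, ha, ha'⟩ := isCharacter_expansion hΦ
  have hbex : ∀ ξ : Cfsg.IrrCharacter (finGrp N ρ M), ∃ b : ℕ,
      Cfsg.classInner (fun y : finD N ρ M => (ξ : finGrp N ρ M → ℂ) y) μ = b :=
    fun ξ => classInner_char_irr_nat
      (isCharacter_restrict (finD N ρ M) (isCharacter_of_isIrrCharacter ξ.2)) hμirr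
  choose b hb using hbex
  have hsum : e = ∑ ξ, a ξ * b ξ := by
    have h1 : (fun y : finD N ρ M => Φ y) = ∑ ξ : Cfsg.IrrCharacter (finGrp N ρ M),
        (a ξ : ℂ) • (fun y : finD N ρ M => (ξ : finGrp N ρ M → ℂ) y) := by
      funext y
      have h2 := congrFun ha (y : finGrp N ρ M)
      rw [Finset.sum_apply] at h2 ⊢
      exact h2
    have h3 : (e : ℂ) = ((∑ ξ, a ξ * b ξ : ℕ) : ℂ) := by
      rw [← hkey, h1, classInner_sum_left, Nat.cast_sum]
      apply Finset.sum_congr rfl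
      intro ξ _
      rw [classInner_smul_left, hb ξ, Nat.cast_mul]
    exact_mod_cast h3
  have hex : ∃ ξ : Cfsg.IrrCharacter (finGrp N ρ M), a ξ * b ξ ≠ 0 := by
    by_contra hno
    push_neg at hno
    apply he0
    rw [hsum]
    exact Finset.sum_eq_zero (fun ξ _ => hno ξ)
  obtain ⟨ξ, hξne⟩ := hex
  have haξ : a ξ ≠ 0 := fun h => hξne (by rw [h, zero_mul])
  have hbξ : b ξ ≠ 0 := fun h => hξne (by rw [h, mul_zero])
  have hble : b ξ ≤ e := by
    rw [hsum]
    calc b ξ = 1 * b ξ := (one_mul _).symm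
      _ ≤ a ξ * b ξ := Nat.mul_le_mul_right _ (Nat.pos_of_ne_zero haξ)
      _ ≤ ∑ ξ, a ξ * b ξ := Finset.single_le_sum (f := fun ξ => a ξ * b ξ)
          (fun _ _ => Nat.zero_le _) (Finset.mem_univ ξ)
  have hcon : Cfsg.classInner (fun y : finD N ρ M => (ξ : finGrp N ρ M → ℂ) y) μ ≠ 0 := by
    rw [hb ξ]; exact_mod_cast hbξ
  obtain ⟨f, hf0, hf, hfres⟩ := restrict_eq_smul_of_invariant (finD N ρ M)
    (ξ : finGrp N ρ M → ℂ) ξ.2 μ hμirr hcon hμinv
  have hfb : f = b ξ := by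
    have h1 : (f : ℂ) = (b ξ : ℂ) := by rw [← hf, hb ξ]
    exact_mod_cast h1
  have hξ1 : (ξ : finGrp N ρ M → ℂ) 1 = (f : ℂ) := by
    have h1 := congrFun hfres 1
    rw [Pi.smul_apply, smul_eq_mul, hμ1, mul_one] at h1
    exact h1
  have hef : e ≤ f := by
    have hψ : Cfsg.IsCharacter (finGrp N ρ M) ((ξ : finGrp N ρ M → ℂ) * τc) :=
      isCharacter_mul (isCharacter_of_isIrrCharacter ξ.2) hτc
    have hne : Cfsg.classInner ((ξ : finGrp N ρ M → ℂ) * τc) χt ≠ 0 := by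
      have h1 : Cfsg.classInner ((ξ : finGrp N ρ M → ℂ) * τc) χt =
          conj (Cfsg.classInner Φ (ξ : finGrp N ρ M → ℂ)) := by
        rw [classInner_conj_symm]
        unfold Cfsg.classInner
        congr 1
        apply Finset.sum_congr rfl
        intro g _
        rw [hΦdef]
        show (ξ : finGrp N ρ M → ℂ) g * τc g * conj (χt g) =
          (ξ : finGrp N ρ M → ℂ) g * conj (χt g * conj (τc g))
        rw [map_mul, Complex.conj_conj]
        ring
      rw [h1, ha' ξ, Complex.conj_natCast]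
      exact_mod_cast haξ
    have hχt1 : χt 1 = ((e * n : ℕ) : ℂ) := by
      rw [hχtdef]
      show χ (finProj N ρ M 1) = _
      rw [map_one]
      have h1 := hres 1
      rw [hρ1] at h1
      rw [Nat.cast_mul]
      exact h1
    have hψ1 : ((ξ : finGrp N ρ M → ℂ) * τc) 1 = ((f * n : ℕ) : ℂ) := by
      show (ξ : finGrp N ρ M → ℂ) 1 * τc 1 = _
      rw [hξ1, hτc1, Nat.cast_mul]
    have h2 := degree_le_of_constituent hψ hχt hne (e * n) (f * n) hχt1 hψ1
    exact Nat.le_of_mul_le_mul_right h2 hn0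
  have hfe : f = e := le_antisymm (hfb ▸ hble) hef
  -- the preimage of `N` acts by scalars in a representation affording `ξ`
  obtain ⟨k, σξ, hσξ, hσξchar⟩ := ξ.2
  haveI := hσξ
  have hk : k = f := by
    have h1 : σξ.character 1 = (k : ℂ) := by
      show LinearMap.trace ℂ (Fin k → ℂ) (σξ 1) = k
      rw [map_one]
      show LinearMap.trace ℂ (Fin k → ℂ) LinearMap.id = k
      rw [LinearMap.trace_id, Module.finrank_fin_fun]
    rw [hσξchar, hξ1] at h1
    exact_mod_cast h1.symm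
  have hscal : ∀ y ∈ finD N ρ M, ∃ c : ℂ, σξ y = c • LinearMap.id := by
    intro y hy
    rw [← norm_char_eq_iff, hσξchar, Module.finrank_fin_fun]
    have h1 := congrFun hfres ⟨y, hy⟩
    rw [Pi.smul_apply, smul_eq_mul] at h1
    have h2 : (ξ : finGrp N ρ M → ℂ) y = (f : ℂ) * μ ⟨y, hy⟩ := h1
    rw [h2, norm_mul, norm_linear_char hμirr hμ1, mul_one, hk]
    simp
  have hdvd := degree_dvd_index_of_scalar σξ (finD N ρ M) hscal
  rw [Module.finrank_fin_fun, hk, hfe] at hdvd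
  have hidx : (finD N ρ M).index = N.index := Subgroup.index_comap_of_surjective N hπsurj
  rw [hidx] at hdvd
  exact hdvd

/-- Let N be a normal subgroup of the finite group G, χ an irreducible character of G and ϑ an irreducible character of N having nonzero inner product with the restriction of χ. If χ 1 = c and ϑ 1 = d as natural numbers, then d divides c and c / d divides the index of N. -/
theorem result {G : Type*} [Group G] [Fintype G] (N : Subgroup G) [N.Normal] [Fintype N] (χ : G → ℂ) (hχ : Cfsg.IsIrrCharacter G χ) (ϑ : N → ℂ) (hϑ : Cfsg.IsIrrCharacter N ϑ) (hcon : Cfsg.classInner (fun n : N => χ n) ϑ ≠ 0) (c d : ℕ) (hc : χ 1 = c) (hd : ϑ 1 = d) : d ∣ c ∧ c / d ∣ N.index := by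
  classical
  have hNn : N.Normal := inferInstance
  obtain ⟨T, hTdef⟩ : ∃ T : Subgroup G, T = stabChar N ϑ := ⟨_, rfl⟩
  have hT : ∀ g : G, g ∈ T ↔
      ∀ n : N, ϑ ⟨g * n * g⁻¹, hNn.conj_mem (n : G) n.2 g⟩ = ϑ n := by
    intro g
    rw [hTdef, mem_stabChar]
    constructor
    · intro h n; exact congrFun h n
    · intro h; funext n; exact h n
  haveI : Fintype T := Fintype.ofFinite _
  haveI : Fintype (Cfsg.IrrCharacter T) := Fintype.ofFinite _
  have hNT : N ≤ T := by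
    intro x hx
    rw [hT]
    intro n
    have hcl := isClassFunction_of_isCharacter (isCharacter_of_isIrrCharacter hϑ)
    have h1 := hcl n ⟨x, hx⟩
    rw [← h1]
    congr 1
  obtain ⟨e, he⟩ := classInner_char_irr_nat
    (isCharacter_restrict N (isCharacter_of_isIrrCharacter hχ)) hϑ
  have he0 : e ≠ 0 := by
    rintro rfl
    apply hcon
    rw [he]; simp
  have hdeg := clifford_degree N T ϑ hϑ hT χ hχ hcon e d he hd
  have hcval : c = e * T.index * d := by
    rw [hc] at hdeg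
    exact_mod_cast hdeg
  have hdpos : 0 < d := by
    obtain ⟨d', hd'0, hd'⟩ := irr_one hϑ
    have h1 : d' = d := by exact_mod_cast (hd'.symm.trans hd)
    omega
  refine ⟨⟨e * T.index, by rw [hcval]; ring⟩, ?_⟩
  have hcd : c / d = e * T.index := by
    rw [hcval]; exact Nat.mul_div_cancel _ hdpos
  rw [hcd]
  obtain ⟨m, ff, hm, hff, hexp⟩ := restrict_inner_expansion N T hNT χ
    (isCharacter_of_isIrrCharacter hχ) ϑ (isCharacter_of_isIrrCharacter hϑ)
  have hex : ∃ φ : Cfsg.IrrCharacter T, m φ * ff φ ≠ 0 := by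
    by_contra hno
    push_neg at hno
    apply hcon
    rw [hexp, Finset.sum_eq_zero (fun φ _ => hno φ)]
    simp
  obtain ⟨ψ, hψne⟩ := hex
  have hmψ : m ψ ≠ 0 := fun h => hψne (by rw [h, zero_mul])
  have hfψ : ff ψ ≠ 0 := fun h => hψne (by rw [h, mul_zero])
  have hψϑ : Cfsg.classInner (fun n : N => (ψ : T → ℂ) ⟨n, hNT n.2⟩) ϑ ≠ 0 := by
    rw [hff ψ]; exact_mod_cast hfψ
  have hχψ : Cfsg.classInner (fun t : T => χ t) (ψ : T → ℂ) ≠ 0 := by
    rw [hm ψ]; exact_mod_cast hmψ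
  obtain ⟨-, hcorr⟩ := clifford_corr_core N T ϑ hϑ hT hNT (ψ : T → ℂ) ψ.2 hψϑ χ hχ hχψ
  have hinvT : ∀ t ∈ T, ∀ n : N, ϑ ⟨t * n * t⁻¹, hNn.conj_mem (n : G) n.2 t⟩ = ϑ n :=
    fun t ht => (hT t).1 ht
  obtain ⟨f, hf0, hf, hfres⟩ := restrict_eq_smul_of_invariant_sub N T hNT ϑ hϑ hinvT
    (ψ : T → ℂ) ψ.2 hψϑ
  have hfe : f = e := by
    have h1 : (f : ℂ) = (e : ℂ) := by rw [← hf, hcorr, he]
    exact_mod_cast h1
  let e' : N.subgroupOf T ≃* N := Subgroup.subgroupOfEquivOfLe hNT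
  have hϑ' : Cfsg.IsIrrCharacter (N.subgroupOf T) (ϑ ∘ e') :=
    isIrrCharacter_comp_surj e'.toMonoidHom e'.surjective hϑ
  have hinv' : ∀ (t : T) (x : N.subgroupOf T),
      (ϑ ∘ e') ⟨t * x * t⁻¹,
        (inferInstance : (N.subgroupOf T).Normal).conj_mem (x : T) x.2 t⟩ = (ϑ ∘ e') x := by
    intro t x
    exact hinvT t t.2 (e' x)
  have hres' : ∀ x : N.subgroupOf T, (ψ : T → ℂ) x = (e : ℂ) * (ϑ ∘ e') x := by
    intro x
    have h1 := congrFun hfres (e' x)
    rw [Pi.smul_apply, smul_eq_mul, hfe] at h1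
    exact h1
  have hdvd := ram_dvd_index (N.subgroupOf T) (ϑ ∘ e') hϑ' hinv' (ψ : T → ℂ) ψ.2 e he0 hres'
  have hrel : (N.subgroupOf T).index * T.index = N.index := Subgroup.relIndex_mul_index hNT
  rw [← hrel]
  exact Nat.mul_dvd_mul_right hdvd _

end Cfsg.Agent.S0887
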