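import Cfsg.Statements.S2299
import Mathlib
import Cfsg.Agent.Lib.Helper4.SL2CharO

set_option autoImplicit false
open Cfsg

namespace Cfsg.Agent.S2299

open Cfsg.Agent.Lib.Helper4 in


/-- Over a finite field F with q elements, q odd, every irreducible complex character of SL₂ has degree 1, q, q + 1, q − 1, (q + 1)/2 or (q − 1)/2; and when q ≥ 5 (so that these six numbers are distinct) there are exactly one irreducible character of degree 1, one of degree q, (q − 3)/2 of degree q + 1, (q − 1)/2 of degree q − 1, two of degree (q + 1)/2 and two of degree (q − 1)/2. -/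
theorem result {F : Type*} [Field F] [Fintype F] (hodd : Odd (Fintype.card F)) :
    (∀ χ : Matrix.SpecialLinearGroup (Fin 2) F → ℂ, Cfsg.IsIrrCharacter (Matrix.SpecialLinearGroup (Fin 2) F) χ →
      χ 1 = 1 ∨ χ 1 = (Fintype.card F : ℂ) ∨ χ 1 = (Fintype.card F : ℂ) + 1 ∨ χ 1 = (Fintype.card F : ℂ) - 1 ∨
        χ 1 = (((Fintype.card F + 1) / 2 : ℕ) : ℂ) ∨ χ 1 = (((Fintype.card F - 1) / 2 : ℕ) : ℂ)) ∧
    (5 ≤ Fintype.card F →
      Nat.card {χ : Cfsg.IrrCharacter (Matrix.SpecialLinearGroup (Fin 2) F) // (χ : Matrix.SpecialLinearGroup (Fin 2) F → ℂ) 1 = 1} = 1 ∧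
      Nat.card {χ : Cfsg.IrrCharacter (Matrix.SpecialLinearGroup (Fin 2) F) // (χ : Matrix.SpecialLinearGroup (Fin 2) F → ℂ) 1 = (Fintype.card F : ℂ)} = 1 ∧
      Nat.card {χ : Cfsg.IrrCharacter (Matrix.SpecialLinearGroup (Fin 2) F) // (χ : Matrix.SpecialLinearGroup (Fin 2) F → ℂ) 1 = (Fintype.card F : ℂ) + 1} = (Fintype.card F - 3) / 2 ∧
      Nat.card {χ : Cfsg.IrrCharacter (Matrix.SpecialLinearGroup (Fin 2) F) // (χ : Matrix.SpecialLinearGroup (Fin 2) F → ℂ) 1 = (Fintype.card F : ℂ) - 1} = (Fintype.card F - 1) / 2 ∧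
      Nat.card {χ : Cfsg.IrrCharacter (Matrix.SpecialLinearGroup (Fin 2) F) // (χ : Matrix.SpecialLinearGroup (Fin 2) F → ℂ) 1 = (((Fintype.card F + 1) / 2 : ℕ) : ℂ)} = 2 ∧
      Nat.card {χ : Cfsg.IrrCharacter (Matrix.SpecialLinearGroup (Fin 2) F) // (χ : Matrix.SpecialLinearGroup (Fin 2) F → ℂ) 1 = (((Fintype.card F - 1) / 2 : ℕ) : ℂ)} = 2) := by
  classical
  obtain ⟨C, hC, hcard⟩ := sl2_exists_torus_odd hodd
  obtain ⟨ν, hν⟩ := sl2_exists_nonsquare_unit hodd
  have h2 : (2 : F) ≠ 0 := two_ne_zero_of_odd_card hodd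
  have hq1 : 1 < Fintype.card F := Fintype.one_lt_card
  haveI : Fintype (MulChar F ℂ) := Fintype.ofFinite _
  haveI : Fintype (C →* ℂˣ) := Fintype.ofFinite _
  have D := sl2_dlData_odd C hodd hC hcard
  refine ⟨?_, ?_⟩
  · intro χ hχ
    obtain ⟨d, hd, hcases⟩ := sl2_irr_odd_cases hodd C hC hcard ν hν hχ
    rw [hd]
    rcases hcases with ⟨h, -⟩ | ⟨h, -⟩ | ⟨h, -⟩ | ⟨h, -⟩ | ⟨h, -⟩ | ⟨h, -⟩
    · left
      rw [h]
      simp
    · right; left
      rw [h]
    · right; right; left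
      rw [h]
      simp
    · right; right; right; left
      rw [h, Nat.cast_sub (by omega)]
      simp
    · right; right; right; right; left
      rw [h]
    · right; right; right; right; right
      rw [h]
  · intro hq
    obtain ⟨α₀, hα₀, hα₀1⟩ := exists_quadratic_mulChar (F := F) hodd
    obtain ⟨θ₀, hθ₀, hθ₀1⟩ := exists_quadratic_torusChar hodd C hC hcard
    refine ⟨?_, ?_, ?_, ?_, ?_, ?_⟩
    · exact card_unique_of ⟨⟨fun _ => 1, Lib.Lead.isIrrCharacter_one _⟩, rfl⟩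
        (fun x => Subtype.ext (Subtype.ext (sl2_deg_one hodd C hC hcard hq x.1.2 x.2)))
    · refine card_unique_of ⟨⟨sl2R 1 - fun _ => 1, D.St_irr⟩, ?_⟩
        (fun x => Subtype.ext (Subtype.ext (sl2_deg_q hodd C hC hcard x.1.2 x.2)))
      show sl2R (1 : MulChar F ℂ) 1 - 1 = _
      rw [sl2R_apply_one]
      ring
    · apply D.card_R
      · rw [card_sq_ne_one α₀ hα₀ hα₀1
          (fun α h h1 => mulChar_quadratic_unique α α₀ h h1 hα₀ hα₀1), sl2_card_mulChar]
        omega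
      · intro χ hχ hdeg
        exact sl2_deg_add_one hodd C hC hcard hχ hdeg
    · apply D.card_P
      · rw [card_sq_ne_one θ₀ hθ₀ hθ₀1
          (fun θ h h1 => torusChar_quadratic_unique C hC θ θ₀ h h1 hθ₀ hθ₀1),
          sl2_card_torusChar C hC, hcard]
        omega
      · intro χ hχ hdeg
        exact sl2_deg_sub_one hodd C hC hcard hq hχ hdeg
    · obtain ⟨χa, χb, hab, hdec⟩ := D.exists_half_R α₀ hα₀
      have hne : Cfsg.classInner (sl2R α₀)
          (χa : Matrix.SpecialLinearGroup (Fin 2) F → ℂ) ≠ 0 := by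
        rw [hdec, Lib.Lead.classInner_add_left, Lib.Lead.classInner_irr_self χa.2,
          Lib.Lead.classInner_irr χb.2 χa.2, if_neg (fun h => hab (Subtype.ext h.symm))]
        norm_num
      obtain ⟨hdeg, hσne, hσirr, hsum, -⟩ :=
        sl2_half_R_odd hodd C hC hcard ν hν α₀ hα₀ hα₀1 χa.2 hne
      refine card_eq_two_of ⟨χa, by rw [hdeg, half_cast_add hodd]⟩
        ⟨⟨(χa : Matrix.SpecialLinearGroup (Fin 2) F → ℂ) ∘ sl2Twist ν, hσirr⟩, by
          show ((χa : Matrix.SpecialLinearGroup (Fin 2) F → ℂ) ∘ sl2Twist ν) 1 = _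
          rw [Function.comp_apply, map_one, hdeg, half_cast_add hodd]⟩ ?_ ?_
      · intro h
        apply hσne
        have h3 := congrArg (fun x : {χ : Cfsg.IrrCharacter (Matrix.SpecialLinearGroup (Fin 2) F) //
          (χ : Matrix.SpecialLinearGroup (Fin 2) F → ℂ) 1 = (((Fintype.card F + 1) / 2 : ℕ) : ℂ)} =>
          (x.1 : Matrix.SpecialLinearGroup (Fin 2) F → ℂ)) h
        exact h3.symm
      · intro w
        obtain ⟨α, hα, hα1, hne', -, -, -, -⟩ :=
          sl2_deg_half_add hodd C hC hcard hq ν hν w.1.2 w.2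
        have hαα : α = α₀ := mulChar_quadratic_unique α α₀ hα hα1 hα₀ hα₀1
        rw [hαα] at hne'
        by_cases hw : (χa : Matrix.SpecialLinearGroup (Fin 2) F → ℂ) = w.1
        · left
          exact Subtype.ext (Subtype.ext hw.symm)
        · right
          exact Subtype.ext (Subtype.ext (irr_pair_other χa.2 hσirr w.1.2 hsum hne' hw))
    · obtain ⟨χa, χb, hab, hdec⟩ := D.exists_half_P θ₀ hθ₀ hθ₀1
      have hne : Cfsg.classInner (sl2Cusp C θ₀)
          (χa : Matrix.SpecialLinearGroup (Fin 2) F → ℂ) ≠ 0 := by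
        rw [hdec, Lib.Lead.classInner_add_left, Lib.Lead.classInner_irr_self χa.2,
          Lib.Lead.classInner_irr χb.2 χa.2, if_neg (fun h => hab (Subtype.ext h.symm))]
        norm_num
      obtain ⟨hdeg, hσne, hσirr, hsum, -⟩ :=
        sl2_half_P_odd hodd C hC hcard ν hν θ₀ hθ₀ hθ₀1 χa.2 hne
      refine card_eq_two_of ⟨χa, by rw [hdeg, half_cast_sub hodd]⟩
        ⟨⟨(χa : Matrix.SpecialLinearGroup (Fin 2) F → ℂ) ∘ sl2Twist ν, hσirr⟩, by
          show ((χa : Matrix.SpecialLinearGroup (Fin 2) F → ℂ) ∘ sl2Twist ν) 1 = _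
          rw [Function.comp_apply, map_one, hdeg, half_cast_sub hodd]⟩ ?_ ?_
      · intro h
        apply hσne
        have h3 := congrArg (fun x : {χ : Cfsg.IrrCharacter (Matrix.SpecialLinearGroup (Fin 2) F) //
          (χ : Matrix.SpecialLinearGroup (Fin 2) F → ℂ) 1 = (((Fintype.card F - 1) / 2 : ℕ) : ℂ)} =>
          (x.1 : Matrix.SpecialLinearGroup (Fin 2) F → ℂ)) h
        exact h3.symm
      · intro w
        obtain ⟨θ, hθ, hθ1, hne', -, -, -, -⟩ :=
          sl2_deg_half_sub hodd C hC hcard hq ν hν w.1.2 w.2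
        have hθθ : θ = θ₀ := torusChar_quadratic_unique C hC θ θ₀ hθ hθ1 hθ₀ hθ₀1
        rw [hθθ] at hne'
        by_cases hw : (χa : Matrix.SpecialLinearGroup (Fin 2) F → ℂ) = w.1
        · left
          exact Subtype.ext (Subtype.ext hw.symm)
        · right
          exact Subtype.ext (Subtype.ext (irr_pair_other χa.2 hσirr w.1.2 hsum hne' hw))

end Cfsg.Agent.S2299
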