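import Cfsg.Statements.S2300
import Mathlib
import Cfsg.Agent.Lib.Helper4.SL2CharR

set_option autoImplicit false
open Cfsg

namespace Cfsg.Agent.S2300

open Cfsg.Agent.Lib.Helper4 in


/-- Over a finite field F with q elements, q even, every irreducible complex character of SL₂ has degree 1, q − 1, q or q + 1; and when q ≥ 4 (so that these four numbers are distinct) there are exactly one irreducible character of degree 1, one of degree q, (q − 2)/2 of degree q + 1 and q/2 of degree q − 1. -/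
theorem result {F : Type*} [Field F] [Fintype F] [CharP F 2] :
    (∀ χ : Matrix.SpecialLinearGroup (Fin 2) F → ℂ, Cfsg.IsIrrCharacter (Matrix.SpecialLinearGroup (Fin 2) F) χ →
      χ 1 = 1 ∨ χ 1 = (Fintype.card F : ℂ) - 1 ∨ χ 1 = (Fintype.card F : ℂ) ∨ χ 1 = (Fintype.card F : ℂ) + 1) ∧
    (4 ≤ Fintype.card F →
      Nat.card {χ : Cfsg.IrrCharacter (Matrix.SpecialLinearGroup (Fin 2) F) // (χ : Matrix.SpecialLinearGroup (Fin 2) F → ℂ) 1 = 1} = 1 ∧
      Nat.card {χ : Cfsg.IrrCharacter (Matrix.SpecialLinearGroup (Fin 2) F) // (χ : Matrix.SpecialLinearGroup (Fin 2) F → ℂ) 1 = (Fintype.card F : ℂ)} = 1 ∧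
      Nat.card {χ : Cfsg.IrrCharacter (Matrix.SpecialLinearGroup (Fin 2) F) // (χ : Matrix.SpecialLinearGroup (Fin 2) F → ℂ) 1 = (Fintype.card F : ℂ) + 1} = (Fintype.card F - 2) / 2 ∧
      Nat.card {χ : Cfsg.IrrCharacter (Matrix.SpecialLinearGroup (Fin 2) F) // (χ : Matrix.SpecialLinearGroup (Fin 2) F → ℂ) 1 = (Fintype.card F : ℂ) - 1} = Fintype.card F / 2) := by
  classical
  obtain ⟨C, hC, hcard⟩ := sl2_exists_torus (F := F)
  haveI : Fintype (MulChar F ℂ) := Fintype.ofFinite _
  haveI : Fintype (C →* ℂˣ) := Fintype.ofFinite _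
  have D := sl2_dlData_even C hC hcard
  have hev : Even (Fintype.card F) := even_card_of_charP_two
  have hq1 : 1 < Fintype.card F := Fintype.one_lt_card
  refine ⟨?_, ?_⟩
  · intro χ hχ
    obtain ⟨d, hd, hcases⟩ := sl2_irr_even_cases C hC hcard hχ
    rw [hd]
    rcases hcases with ⟨h, -⟩ | ⟨h, -⟩ | ⟨h, -⟩ | ⟨h, -⟩
    · left
      rw [h]
      simp
    · right; right; left
      rw [h]
    · right; right; right
      rw [h]
      simp
    · right; left
      rw [h, Nat.cast_sub (by omega)]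
      simp
  · intro hq
    refine ⟨?_, ?_, ?_, ?_⟩
    · exact card_unique_of ⟨⟨fun _ => 1, Lib.Lead.isIrrCharacter_one _⟩, rfl⟩
        (fun x => Subtype.ext (Subtype.ext (sl2_even_deg_one C hC hcard hq x.1.2 x.2)))
    · refine card_unique_of ⟨⟨sl2R 1 - fun _ => 1, D.St_irr⟩, ?_⟩
        (fun x => Subtype.ext (Subtype.ext (sl2_even_deg_q C hC hcard x.1.2 x.2)))
      show sl2R (1 : MulChar F ℂ) 1 - 1 = _
      rw [sl2R_apply_one]
      ring
    · apply D.card_R
      · rw [card_sq_ne_one_odd, sl2_card_mulChar]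
        · omega
        · rw [sl2_card_mulChar]
          obtain ⟨k, hk⟩ := hev
          exact ⟨k - 1, by omega⟩
      · intro χ hχ hdeg
        exact sl2_even_deg_add_one C hC hcard hχ hdeg
    · apply D.card_P
      · rw [card_sq_ne_one_odd, sl2_card_torusChar C hC, hcard]
        · omega
        · rw [sl2_card_torusChar C hC, hcard]
          obtain ⟨k, hk⟩ := hev
          exact ⟨k, by omega⟩
      · intro χ hχ hdeg
        exact sl2_even_deg_sub_one C hC hcard hq hχ hdeg

end Cfsg.Agent.S2300
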