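import Cfsg.Statements.S2321
import Mathlib
import Cfsg.Agent.Lib.Helper4.SL2CharR

set_option autoImplicit false
open Cfsg

namespace Cfsg.Agent.S2321

open Cfsg.Agent.Lib.Helper4 in


/-- Over a finite field F with q elements, an irreducible complex character of SL₂ of degree q (the Steinberg character) takes the value 1 at every diagonal matrix whose diagonal entry a has a² ≠ 1, the value −1 at every element with no eigenvector in F², and the value 0 at every upper triangular matrix with equal diagonal entries and non-zero upper right entry. -/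
theorem result {F : Type*} [Field F] [Fintype F] (χ : Matrix.SpecialLinearGroup (Fin 2) F → ℂ) (hχ : Cfsg.IsIrrCharacter (Matrix.SpecialLinearGroup (Fin 2) F) χ) (hdeg : χ 1 = (Fintype.card F : ℂ)) (g : Matrix.SpecialLinearGroup (Fin 2) F) :
    ((g : Matrix (Fin 2) (Fin 2) F) 0 1 = 0 → (g : Matrix (Fin 2) (Fin 2) F) 1 0 = 0 → (g : Matrix (Fin 2) (Fin 2) F) 0 0 ^ 2 ≠ 1 → χ g = 1) ∧
    ((∀ (c : F) (v : Fin 2 → F), v ≠ 0 → (g : Matrix (Fin 2) (Fin 2) F).mulVec v ≠ c • v) → χ g = -1) ∧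
    ((g : Matrix (Fin 2) (Fin 2) F) 1 0 = 0 → (g : Matrix (Fin 2) (Fin 2) F) 0 0 = (g : Matrix (Fin 2) (Fin 2) F) 1 1 → (g : Matrix (Fin 2) (Fin 2) F) 0 1 ≠ 0 → χ g = 0) := by
  classical
  have hSt : χ = sl2R 1 - fun _ => (1 : ℂ) := by
    rcases Nat.even_or_odd (Fintype.card F) with he | ho
    · haveI : CharP F 2 :=
        ringChar.of_eq (FiniteField.even_card_iff_char_two.2 (Nat.even_iff.1 he))
      obtain ⟨C, hC, hcard⟩ := sl2_exists_torus (F := F)
      exact sl2_even_deg_q C hC hcard hχ hdeg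
    · obtain ⟨C, hC, hcard⟩ := sl2_exists_torus_odd ho
      exact sl2_deg_q ho C hC hcard hχ hdeg
  subst hSt
  refine ⟨?_, ?_, ?_⟩
  · intro h01 h10 ha
    obtain ⟨ht, hroot, ha0⟩ := sl2_diag_facts g h01 h10 ha
    rw [Pi.sub_apply, sl2R_split 1 g ht _ hroot, MulChar.one_apply (isUnit_iff_ne_zero.mpr ha0),
      MulChar.one_apply (isUnit_iff_ne_zero.mpr (inv_ne_zero ha0))]
    norm_num
  · intro hnev
    rw [Pi.sub_apply, sl2R_no_root 1 g (sl2_no_root_of_no_eigenvector g hnev)]
    norm_num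
  · intro h10 h00 h01
    have hns : ¬ ((g : Matrix (Fin 2) (Fin 2) F) 0 1 = 0 ∧ (g : Matrix (Fin 2) (Fin 2) F) 1 0 = 0 ∧
        (g : Matrix (Fin 2) (Fin 2) F) 0 0 = (g : Matrix (Fin 2) (Fin 2) F) 1 1) :=
      fun h => h01 h.1
    have hd := sl2_det g
    rw [h10, mul_zero, sub_zero, ← h00] at hd
    rcases mul_self_eq_one_iff.mp hd with h | h
    · have ht : Matrix.trace (g : Matrix (Fin 2) (Fin 2) F) = 2 := by
        rw [Matrix.trace_fin_two, ← h00, h]
        norm_num
      rw [Pi.sub_apply, sl2R_trace_two 1 g hns ht]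
      norm_num
    · have ht : Matrix.trace (g : Matrix (Fin 2) (Fin 2) F) = -2 := by
        rw [Matrix.trace_fin_two, ← h00, h]
        norm_num
      rw [Pi.sub_apply, sl2R_trace_neg_two 1 g hns ht, MulChar.one_apply isUnit_one.neg]
      norm_num

end Cfsg.Agent.S2321
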