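import Cfsg.Statements.S0219
import Mathlib
import Cfsg.Agent.Lib.Lead.SylowAux

set_option autoImplicit false
open Cfsg Cfsg.Agent.Lib.Lead

namespace Cfsg.Agent.S0219

/-- If a finite group has even order and a cyclic Sylow 2-subgroup, then it has a subgroup of index 2 (consider the parity of permutations in the regular representation). -/
theorem result {G : Type*} [Group G] [Finite G] (heven : Even (Nat.card G)) (T : Sylow 2 G) (hT : IsCyclic (T : Subgroup G)) : ∃ H : Subgroup G, H.index = 2 := by
  have : Fact (Nat.Prime 2) := ⟨Nat.prime_two⟩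
  have h2 : (Nat.card G).minFac = 2 := (Nat.minFac_eq_two_iff _).mpr heven.two_dvd
  have hT' : IsCyclic T := hT
  have hc := IsCyclic.isComplement' h2 hT'
  have hidx := hc.index_eq_card
  obtain ⟨k, hk⟩ := T.2.exists_card_eq
  have hkpos : k ≠ 0 := by
    rintro rfl
    have h3 := T.dvd_card_of_dvd_card heven.two_dvd
    have h4 : Nat.card T = 1 := by simpa using hk
    rw [h4] at h3
    omega
  generalize (MonoidHom.transferSylow T (hT'.normalizer_le_centralizer h2)) = φ at hc hidx
  -- quotient by the kernel has order 2 ^ k; use the first isomorphism theorem instead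
  have hcard : Nat.card G = Nat.card φ.ker * 2 ^ k := by
    rw [← hk]; exact hc.card_mul_card.symm
  have hq : Nat.card (G ⧸ φ.ker) = 2 ^ k := by
    have h5 := φ.ker.card_eq_card_quotient_mul_card_subgroup
    rw [hcard] at h5
    have hpos : 0 < Nat.card φ.ker := Nat.card_pos
    nlinarith [Nat.eq_of_mul_eq_mul_right hpos (by rw [mul_comm] at h5; exact h5.symm :
      Nat.card (G ⧸ φ.ker) * Nat.card φ.ker = 2 ^ k * Nat.card φ.ker)]
  obtain ⟨L, hL⟩ := Sylow.exists_subgroup_card_pow_prime 2 (G := G ⧸ φ.ker) (n := k - 1)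
    (by rw [hq]; exact pow_dvd_pow 2 (Nat.sub_le k 1))
  refine ⟨L.comap (QuotientGroup.mk' φ.ker), ?_⟩
  rw [Subgroup.index_comap_of_surjective _ (QuotientGroup.mk'_surjective φ.ker)]
  have h6 := L.index_mul_card
  rw [hL, hq] at h6
  have h7 : 2 ^ k = 2 * 2 ^ (k - 1) := by
    rw [← pow_succ']; congr 1; omega
  rw [h7] at h6
  exact Nat.eq_of_mul_eq_mul_right (by positivity) h6

end Cfsg.Agent.S0219
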