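import Cfsg.Statements.S0043
import Mathlib
import Cfsg.Agent.Lib.Lead.SylowAux2
import Cfsg.Agent.Lib.Lead.SZ2

set_option autoImplicit false
open Cfsg Cfsg.Agent.Lib.Lead

namespace Cfsg.Agent.S0043

open scoped Pointwise commutatorElement

/-- A minimal normal subgroup of a finite solvable group is abelian, and for some prime p all of its elements have order dividing p. -/
theorem result {G : Type*} [Group G] [Finite G] [Group.IsSolvable G]
    (N : Subgroup G) [N.Normal] (hN : N ≠ ⊥) (hmin : ∀ M : Subgroup G, M.Normal → M ≤ N → M = ⊥ ∨ M = N) :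
    IsMulCommutative N ∧ ∃ p : ℕ, p.Prime ∧ ∀ x ∈ N, x ^ p = 1 := by
  have hNn : N.Normal := inferInstance
  have hNs : Group.IsSolvable N := inferInstance
  have h1 : ⁅N, N⁆ ≠ N := commutator_ne_self_of_solvable N hN
  have h2 : (⁅N, N⁆ : Subgroup G).Normal := inferInstance
  have h3 : ⁅N, N⁆ ≤ N := Subgroup.commutator_le_left N N
  have h4 : ⁅N, N⁆ = ⊥ := (hmin _ h2 h3).resolve_right h1
  have hcomm : ∀ a ∈ N, ∀ b ∈ N, a * b = b * a := by
    intro a ha b hb
    have h5 := Subgroup.commutator_mem_commutator ha hb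
    rw [h4, Subgroup.mem_bot, commutatorElement_eq_one_iff_commute] at h5
    exact h5.eq
  refine ⟨⟨⟨fun a b => Subtype.ext (hcomm a a.2 b b.2)⟩⟩, ?_⟩
  have hcard : Nat.card N ≠ 1 := fun h => hN (Subgroup.card_eq_one.mp h)
  obtain ⟨p, hp, hpd⟩ := Nat.exists_prime_and_dvd hcard
  refine ⟨p, hp, ?_⟩
  let M : Subgroup G :=
    { carrier := {x | x ∈ N ∧ x ^ p = 1}
      mul_mem' := by
        rintro a b ⟨ha, ha'⟩ ⟨hb, hb'⟩
        refine ⟨N.mul_mem ha hb, ?_⟩
        have hcm : Commute a b := hcomm a ha b hb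
        rw [hcm.mul_pow, ha', hb', one_mul]
      one_mem' := ⟨N.one_mem, one_pow p⟩
      inv_mem' := by
        rintro a ⟨ha, ha'⟩
        exact ⟨N.inv_mem ha, by rw [inv_pow, ha', inv_one]⟩ }
  have hMn : M.Normal := by
    constructor
    rintro x ⟨hx, hx'⟩ g
    exact ⟨hNn.conj_mem x hx g, by rw [conj_pow, hx']; group⟩
  have hMN : M ≤ N := fun x hx => hx.1
  have hMne : M ≠ ⊥ := by
    haveI : Fact p.Prime := ⟨hp⟩
    obtain ⟨x, hx⟩ := exists_prime_orderOf_dvd_card' p hpd
    intro h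
    have hxM : (x : G) ∈ M := by
      refine ⟨x.2, ?_⟩
      rw [← Subgroup.coe_pow, ← hx, pow_orderOf_eq_one]; rfl
    rw [h, Subgroup.mem_bot] at hxM
    have hx1 : x = 1 := Subtype.ext hxM
    rw [hx1, orderOf_one] at hx
    exact hp.one_lt.ne hx
  have hMeq := (hmin M hMn hMN).resolve_left hMne
  intro x hx
  rw [← hMeq] at hx
  exact hx.2

end Cfsg.Agent.S0043
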