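import Cfsg.Statements.S0095
import Mathlib
import Cfsg.Agent.Lib.Lead.SylowAux2
import Cfsg.Agent.Lib.Lead.CharExtraspecial

set_option autoImplicit false
open Cfsg Cfsg.Agent.Lib.Lead

namespace Cfsg.Agent.S0095

open scoped Pointwise commutatorElement

/-- The order of an extraspecial p-group is an odd power p^(2n+1) of p with n ≥ 1. -/
theorem result {P : Type*} [Group P] [Finite P] {p : ℕ} [Fact p.Prime] (h : Cfsg.IsExtraspecial p P) : ∃ n : ℕ, 1 ≤ n ∧ Nat.card P = p ^ (2 * n + 1) := by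
  classical
  haveI := Fintype.ofFinite P
  haveI := Fintype.ofFinite (Cfsg.IrrCharacter P)
  have hp := (Fact.out : p.Prime)
  have hP := h
  obtain ⟨m, hm⟩ := IsPGroup.iff_card.1 hP.1.1
  have hidx : p * (commutator P).index = Nat.card P := by
    have h := Subgroup.card_mul_index (Subgroup.center P)
    rw [hP.2] at h
    rw [hP.1.2.2]; exact h
  have hex : ∃ χ : Cfsg.IrrCharacter P, (χ : P → ℂ) 1 ≠ 1 := by
    by_contra hcon
    push Not at hcon
    choose d hd0 hd using fun χ : Cfsg.IrrCharacter P => irr_one χ.2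
    have hsq := sum_sq_degrees_nat d hd
    have hdval : ∀ χ : Cfsg.IrrCharacter P, d χ ^ 2 = 1 := by
      intro χ
      have h := hcon χ
      rw [hd] at h
      have h2 : d χ = 1 := by exact_mod_cast h
      rw [h2]; rfl
    rw [Finset.sum_congr rfl (fun χ _ => hdval χ), Finset.sum_const, smul_eq_mul, mul_one] at hsq
    have hL : Nat.card {χ : Cfsg.IrrCharacter P // (χ : P → ℂ) 1 = 1} = (commutator P).index :=
      card_linear_irr
    have hall : Nat.card {χ : Cfsg.IrrCharacter P // (χ : P → ℂ) 1 = 1} =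
        Nat.card (Cfsg.IrrCharacter P) :=
      Nat.card_congr (Equiv.subtypeUnivEquiv hcon)
    rw [Finset.card_univ, ← Nat.card_eq_fintype_card, ← hall, hL] at hsq
    rw [hsq] at hidx
    have hpos : 0 < Nat.card P := Nat.card_pos
    have h5 : p * Nat.card P = 1 * Nat.card P := by rw [hidx, one_mul]
    have h6 := Nat.eq_of_mul_eq_mul_right hpos h5
    exact hp.one_lt.ne' h6
  obtain ⟨χ, h1⟩ := hex
  obtain ⟨hvan, hnorm⟩ := extraspecial_nonlinear p hP χ χ.2 h1
  obtain ⟨d, hd0, hd⟩ := irr_one χ.2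
  have hsum := sum_normSq_irr' χ.2
  have h2 : ∀ g : P, ‖(χ : P → ℂ) g‖ ^ 2 = if g ∈ Subgroup.center P then (d : ℝ) ^ 2 else 0 := by
    intro g
    split_ifs with hg
    · rw [hnorm g hg, hd, Complex.norm_natCast]
    · rw [hvan g hg]; simp
  rw [Finset.sum_congr rfl (fun g _ => h2 g), Finset.sum_ite, Finset.sum_const,
    Finset.sum_const_zero, add_zero, nsmul_eq_mul] at hsum
  have hc : (Finset.univ.filter (fun g : P => g ∈ Subgroup.center P)).card = p := by
    rw [← hP.2, Nat.card_eq_fintype_card, Fintype.card_subtype]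
  rw [hc, hm] at hsum
  have h3 : p * d ^ 2 = p ^ m := by exact_mod_cast hsum
  have hd1 : d ≠ 1 := by
    intro h; apply h1; rw [hd, h]; simp
  have hm1 : 1 ≤ m := by
    by_contra hlt
    have h0 : m = 0 := by omega
    rw [h0, pow_zero] at h3
    have h7 : p ∣ 1 := ⟨d ^ 2, h3.symm⟩
    exact hp.one_lt.ne' (Nat.dvd_one.1 h7)
  obtain ⟨k, rfl⟩ : ∃ k, m = k + 1 := ⟨m - 1, by omega⟩
  have h4 : d ^ 2 = p ^ k := by
    rw [pow_succ' p k] at h3
    exact Nat.eq_of_mul_eq_mul_left hp.pos h3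
  have h5 : d ∣ p ^ k := ⟨d, by rw [← h4, pow_two]⟩
  obtain ⟨j, hjk, hj⟩ := (Nat.dvd_prime_pow hp).1 h5
  rw [hj, ← pow_mul] at h4
  have h6 : j * 2 = k := Nat.pow_right_injective hp.two_le h4
  refine ⟨j, ?_, ?_⟩
  · by_contra hlt
    have h0 : j = 0 := by omega
    rw [h0, pow_zero] at hj
    exact hd1 hj
  · rw [hm]; congr 1; omega

end Cfsg.Agent.S0095
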