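import Cfsg.Statements.S0113
import Mathlib
import Cfsg.Agent.Lib.Lead.SylowAux2
import Cfsg.Agent.Lib.Lead.MaxClass2

set_option autoImplicit false
open Cfsg Cfsg.Agent.Lib.Lead

namespace Cfsg.Agent.S0113

open scoped Pointwise commutatorElement

/-- A 2-group of maximal class contains a cyclic subgroup of index 2. -/
theorem result {X : Type*} [Group X] [Finite X] (n : ℕ) (hn : 3 ≤ n) (hX : Nat.card X = 2 ^ n) (hc : Group.nilpotencyClass X = n - 1) : ∃ C : Subgroup X, IsCyclic C ∧ C.index = 2 := by
  haveI : Fact (Nat.Prime 2) := ⟨Nat.prime_two⟩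
  have hidx : (commutator X).index = 4 := by
    have := index_commutator_of_maxclass 2 n (by omega) X hX hc
    rw [this]; norm_num
  have hsq := sq_mem_commutator_of_index_four n hn X hX hidx
  obtain ⟨a, b, ha, hb, hd, hcomm, hbab, hCidx⟩ := maxclass_two_struct n hn X hX hidx hsq
  exact ⟨Subgroup.zpowers a, inferInstance, hCidx⟩

end Cfsg.Agent.S0113
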