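import Cfsg.Statements.S0115
import Mathlib
import Cfsg.Agent.Lib.Lead.SylowAux2
import Cfsg.Agent.Lib.Lead.MaxClass2

set_option autoImplicit false
open Cfsg Cfsg.Agent.Lib.Lead

namespace Cfsg.Agent.S0115

open scoped Pointwise commutatorElement

/-- A 2-group of order 2^n, n ≥ 3, is of maximal class exactly when its commutator quotient is a Klein four-group. -/
theorem result {X : Type*} [Group X] [Finite X] (n : ℕ) (hn : 3 ≤ n) (hX : Nat.card X = 2 ^ n) : Group.nilpotencyClass X = n - 1 ↔ IsKleinFour (X ⧸ commutator X) := by
  haveI : Fact (Nat.Prime 2) := ⟨Nat.prime_two⟩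
  constructor
  · intro hc
    have hidx : (commutator X).index = 4 := by
      have := index_commutator_of_maxclass 2 n (by omega) X hX hc
      rw [this]; norm_num
    have hsq := sq_mem_commutator_of_index_four n hn X hX hidx
    have hQ : Nat.card (X ⧸ commutator X) = 4 := hidx
    refine ⟨hQ, ?_⟩
    have h1 : Monoid.exponent (X ⧸ commutator X) ∣ 2 := by
      apply Monoid.exponent_dvd_of_forall_pow_eq_one
      intro q
      obtain ⟨x, rfl⟩ := QuotientGroup.mk_surjective q
      rw [← QuotientGroup.mk_pow]
      exact (QuotientGroup.eq_one_iff _).2 (hsq x)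
    rcases (Nat.dvd_prime Nat.prime_two).1 h1 with h | h
    · exfalso
      rw [Monoid.exp_eq_one_iff] at h
      have := Nat.card_eq_one_iff_unique.2 ⟨h, ⟨1⟩⟩
      omega
    · exact h
  · intro hK
    have hidx : (commutator X).index = 4 := by
      rw [Subgroup.index_eq_card]; exact hK.card_four
    have hsq : ∀ x : X, x ^ 2 ∈ commutator X := by
      intro x
      have h := Monoid.pow_exponent_eq_one (QuotientGroup.mk x : X ⧸ commutator X)
      rw [hK.exponent_two, ← QuotientGroup.mk_pow] at h
      exact (QuotientGroup.eq_one_iff _).1 h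
    exact maxclass_two_class n hn X hX hidx hsq

end Cfsg.Agent.S0115
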