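import Cfsg.Statements.S0199
import Mathlib
import Cfsg.Agent.Lib.Lead.SylowAux2
import Cfsg.Agent.Lib.Lead.Wielandt
import Cfsg.Agent.Lib.Helper2.Fit
import Cfsg.Agent.Lib.Helper4.Subnormal
import Cfsg.Agent.Lib.Helper4.PCore

set_option autoImplicit false
open Cfsg Cfsg.Agent.Lib.Lead

namespace Cfsg.Agent.S0199

open scoped Pointwise commutatorElement

/-- Baer–Suzuki Theorem: a p-subgroup X of a finite group such that X and any of its conjugates generate a p-group is contained in a normal p-subgroup. -/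
theorem result {G : Type*} [Group G] [Finite G] {p : ℕ} [Fact p.Prime] (X : Subgroup G) (hX : IsPGroup p X) (h : ∀ g : G, IsPGroup p ↥(X ⊔ X.map (MulAut.conj g).toMonoidHom)) : ∃ N : Subgroup G, N.Normal ∧ IsPGroup p N ∧ X ≤ N := by
  have e : ∀ g : G, X.map (MulAut.conj g).toMonoidHom = MulAut.conj g • X := fun g => rfl
  have hsub : X.IsSubnormal := by
    apply wielandt
    intro g
    have h1 := h g
    rw [e] at h1
    haveI : Group.IsNilpotent ↥(X ⊔ MulAut.conj g • X) := h1.isNilpotent
    exact Cfsg.Agent.Lib.Helper4.isSubnormal_of_isNilpotent _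
  exact ⟨Cfsg.pCore p G, Cfsg.Agent.Lib.Helper4.pCore_normal p G,
    Cfsg.Agent.Lib.Helper4.pCore_isPGroup p G,
    Cfsg.Agent.Lib.Helper2.subnormal_pgroup_le_pCore p X hsub hX⟩

end Cfsg.Agent.S0199
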