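import Cfsg.Statements.S0200
import Mathlib
import Cfsg.Agent.Lib.Lead.SylowAux2
import Cfsg.Agent.Lib.Lead.Wielandt
import Cfsg.Agent.S0199

set_option autoImplicit false
open Cfsg Cfsg.Agent.Lib.Lead

namespace Cfsg.Agent.S0200

open scoped Pointwise commutatorElement

/-- An involution lying in no normal 2-subgroup of a finite group inverts a nontrivial element of odd order (a consequence of the Baer–Suzuki Theorem). -/
theorem result {G : Type*} [Group G] [Finite G] (t : G) (ht : orderOf t = 2) (hO : ∀ N : Subgroup G, N.Normal → IsPGroup 2 N → t ∉ N) : ∃ h : G, h ≠ 1 ∧ Odd (orderOf h) ∧ t * h * t⁻¹ = h⁻¹ := by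
  by_contra hcon
  push Not at hcon
  have ht2 : t * t = 1 := by
    have := pow_orderOf_eq_one t
    rw [ht, pow_two] at this; exact this
  have htinv : t⁻¹ = t := inv_eq_of_mul_eq_one_left ht2
  haveI : Fact (Nat.Prime 2) := ⟨Nat.prime_two⟩
  have hPt : IsPGroup 2 (Subgroup.zpowers t) := by
    apply IsPGroup.of_card (n := 1)
    rw [Nat.card_zpowers, ht, pow_one]
  have hall : ∀ g : G, IsPGroup 2
      ↥(Subgroup.zpowers t ⊔ (Subgroup.zpowers t).map (MulAut.conj g).toMonoidHom) := by
    intro g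
    have hs2 : (g * t * g⁻¹) * (g * t * g⁻¹) = 1 := by
      have e : (g * t * g⁻¹) * (g * t * g⁻¹) = g * (t * t) * g⁻¹ := by group
      rw [e, ht2]; group
    have hsinv : (g * t * g⁻¹)⁻¹ = g * t * g⁻¹ := inv_eq_of_mul_eq_one_left hs2
    have htu : t * (t * (g * t * g⁻¹)) * t⁻¹ = (t * (g * t * g⁻¹))⁻¹ := by
      rw [mul_inv_rev, hsinv, htinv, ← mul_assoc t t, ht2, one_mul]
    have hupos : orderOf (t * (g * t * g⁻¹)) ≠ 0 := (orderOf_pos _).ne'
    obtain ⟨a, m, hm, hord⟩ := Nat.exists_eq_two_pow_mul_odd hupos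
    by_cases hm1 : m = 1
    · rw [hm1, mul_one] at hord
      have hPu : IsPGroup 2 (Subgroup.zpowers (t * (g * t * g⁻¹))) := by
        apply IsPGroup.of_card (n := a)
        rw [Nat.card_zpowers, hord]
      have hnorm : Subgroup.zpowers t ≤
          Subgroup.normalizer (Subgroup.zpowers (t * (g * t * g⁻¹)) : Set G) := by
        rw [Subgroup.zpowers_le]
        apply mem_normalizer_of_conj_mem
        intro x hx
        obtain ⟨k, rfl⟩ := hx
        show t * (t * (g * t * g⁻¹)) ^ k * t⁻¹ ∈ _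
        rw [← conj_zpow, htu]
        exact Subgroup.zpow_mem _ (Subgroup.inv_mem _ (Subgroup.mem_zpowers _)) k
      have hJ := IsPGroup.to_sup_of_normal_right' hPt hPu hnorm
      refine hJ.to_le (sup_le le_sup_left ?_)
      rw [Subgroup.map_le_iff_le_comap, Subgroup.zpowers_le, Subgroup.mem_comap]
      show g * t * g⁻¹ ∈ _
      have e : g * t * g⁻¹ = t * (t * (g * t * g⁻¹)) := by
        rw [← mul_assoc t t, ht2, one_mul]
      have hmem : t * (t * (g * t * g⁻¹)) ∈
          Subgroup.zpowers t ⊔ Subgroup.zpowers (t * (g * t * g⁻¹)) :=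
        Subgroup.mul_mem _ (Subgroup.mem_sup_left (Subgroup.mem_zpowers t))
          (Subgroup.mem_sup_right (Subgroup.mem_zpowers _))
      rw [← e] at hmem
      exact hmem
    · exfalso
      have h2a : (2 : ℕ) ^ a ≠ 0 := pow_ne_zero _ (by norm_num)
      have hoh : orderOf ((t * (g * t * g⁻¹)) ^ (2 ^ a)) = m := by
        rw [orderOf_pow_of_dvd h2a (by rw [hord]; exact Dvd.intro _ rfl), hord]
        exact Nat.mul_div_cancel_left m (Nat.pos_of_ne_zero h2a)
      apply hcon ((t * (g * t * g⁻¹)) ^ (2 ^ a))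
      · intro h1
        rw [h1, orderOf_one] at hoh
        exact hm1 hoh.symm
      · rw [hoh]; exact hm
      · rw [← conj_pow, htu, inv_pow]
  obtain ⟨N, hN, hN2, hle⟩ := Cfsg.Agent.S0199.result (Subgroup.zpowers t) hPt hall
  exact hO N hN hN2 (hle (Subgroup.mem_zpowers t))

end Cfsg.Agent.S0200
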