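import Cfsg.Statements.S0223
import Mathlib
import Cfsg.Agent.Lib.Lead.SylowAux2

set_option autoImplicit false
open Cfsg Cfsg.Agent.Lib.Lead

namespace Cfsg.Agent.S0223

open scoped Pointwise commutatorElement

/-- Let H be a proper subgroup of even order of the finite group G. Then H is strongly embedded if and only if (i) C_G(t) ≤ H for every involution t of H and (ii) H controls fusion of its involutions: involutions of H conjugate in G are conjugate in H. -/
theorem result {G : Type*} [Group G] [Finite G] (H : Subgroup G) (hH : H ≠ ⊤) (heven : Even (Nat.card H)) : Cfsg.IsStronglyEmbedded H ↔ ((∀ t ∈ H, orderOf t = 2 → Subgroup.centralizer ({t} : Set G) ≤ H) ∧ (∀ t ∈ H, ∀ s ∈ H, orderOf t = 2 → orderOf s = 2 → IsConj t s → ∃ h ∈ H, h * t * h⁻¹ = s)) := by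
  have : Fact (Nat.Prime 2) := ⟨Nat.prime_two⟩
  have keyodd : ∀ (g : G) (x : G), orderOf x = 2 → x ∈ H →
      x ∈ H.map (MulAut.conj g).toMonoidHom →
      ¬ Odd (Nat.card ↥(H ⊓ H.map (MulAut.conj g).toMonoidHom)) := by
    intro g x hx hxH hxg hodd
    have hmem : x ∈ H ⊓ H.map (MulAut.conj g).toMonoidHom := Subgroup.mem_inf.mpr ⟨hxH, hxg⟩
    have h1 := orderOf_dvd_natCard (⟨x, hmem⟩ : ↥(H ⊓ H.map (MulAut.conj g).toMonoidHom))
    rw [Subgroup.orderOf_mk, hx] at h1
    exact (Nat.not_even_iff_odd.mpr hodd) (even_iff_two_dvd.mpr h1)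
  have hmapmem : ∀ (g x : G), x ∈ H.map (MulAut.conj g).toMonoidHom ↔ g⁻¹ * x * g ∈ H := by
    intro g x
    rw [Subgroup.mem_map]
    constructor
    · rintro ⟨y, hy, rfl⟩
      simpa [mul_assoc] using hy
    · intro h
      exact ⟨_, h, by simp [mul_assoc]⟩
  constructor
  · rintro ⟨-, -, hSE⟩
    constructor
    · intro t ht hto c hc
      by_contra hcH
      apply keyodd c t hto ht _ (hSE c hcH)
      rw [hmapmem]
      have h0 : c⁻¹ * t * c = t := by
        rw [Subgroup.mem_centralizer_iff] at hc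
        have h1 := hc t rfl
        rw [mul_assoc, h1, inv_mul_cancel_left]
      rw [h0]; exact ht
    · intro t ht s hs hto hso hconj
      obtain ⟨g, hg⟩ := isConj_iff.mp hconj
      by_cases hgH : g ∈ H
      · exact ⟨g, hgH, hg⟩
      · exfalso
        apply keyodd g s hso hs _ (hSE g hgH)
        rw [hmapmem, ← hg]
        have h0 : g⁻¹ * (g * t * g⁻¹) * g = t := by group
        rw [h0]; exact ht
  · rintro ⟨hC, hF⟩
    refine ⟨hH, heven, fun g hgH => ?_⟩
    by_contra hodd
    rw [Nat.not_odd_iff_even] at hodd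
    obtain ⟨⟨s, hs⟩, hso⟩ := exists_prime_orderOf_dvd_card' 2 hodd.two_dvd
    rw [Subgroup.orderOf_mk] at hso
    obtain ⟨hsH, hsg⟩ := Subgroup.mem_inf.mp hs
    rw [hmapmem] at hsg
    have hto : orderOf (g⁻¹ * s * g) = 2 := by
      have h0 := invol_conj hso g⁻¹
      rwa [inv_inv] at h0
    obtain ⟨h, hh, hhs⟩ := hF _ hsg s hsH hto hso (isConj_iff.mpr ⟨g, by group⟩)
    have hcs : h * g⁻¹ ∈ Subgroup.centralizer ({s} : Set G) := by
      rw [Subgroup.mem_centralizer_iff]
      intro y hy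
      rw [Set.mem_singleton_iff] at hy
      rw [hy]
      have e : h * g⁻¹ * s * (h * g⁻¹)⁻¹ = h * (g⁻¹ * s * g) * h⁻¹ := by group
      exact (mul_inv_eq_iff_eq_mul.mp (e.trans hhs)).symm
    have h5 := hC s hsH hso hcs
    apply hgH
    have h6 : g = (h * g⁻¹)⁻¹ * h := by group
    rw [h6]
    exact H.mul_mem (H.inv_mem h5) hh

end Cfsg.Agent.S0223
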