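import Cfsg.Statements.S0224
import Mathlib
import Cfsg.Agent.Lib.Lead.SylowAux2

set_option autoImplicit false
open Cfsg Cfsg.Agent.Lib.Lead

namespace Cfsg.Agent.S0224

open scoped Pointwise commutatorElement

/-- Let H be a proper subgroup of even order of the finite group G. Then H is strongly embedded if and only if each involution of H fixes exactly one point (namely the coset H) in the action of G on the cosets of H. -/
theorem result {G : Type*} [Group G] [Finite G] (H : Subgroup G) (hH : H ≠ ⊤) (heven : Even (Nat.card H)) : Cfsg.IsStronglyEmbedded H ↔ ∀ t ∈ H, orderOf t = 2 → Nat.card {c : G ⧸ H // t • c = c} = 1 := by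
  have : Fact (Nat.Prime 2) := ⟨Nat.prime_two⟩
  have keyodd : ∀ (g : G) (x : G), orderOf x = 2 → x ∈ H →
      x ∈ H.map (MulAut.conj g).toMonoidHom →
      ¬ Odd (Nat.card ↥(H ⊓ H.map (MulAut.conj g).toMonoidHom)) := by
    intro g x hx hxH hxg hodd
    have hmem : x ∈ H ⊓ H.map (MulAut.conj g).toMonoidHom := Subgroup.mem_inf.mpr ⟨hxH, hxg⟩
    have h1 := orderOf_dvd_natCard (⟨x, hmem⟩ : ↥(H ⊓ H.map (MulAut.conj g).toMonoidHom))
    rw [Subgroup.orderOf_mk, hx] at h1
    exact (Nat.not_even_iff_odd.mpr hodd) (even_iff_two_dvd.mpr h1)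
  have hmapmem : ∀ (g x : G), x ∈ H.map (MulAut.conj g).toMonoidHom ↔ g⁻¹ * x * g ∈ H := by
    intro g x
    rw [Subgroup.mem_map]
    constructor
    · rintro ⟨y, hy, rfl⟩
      simpa [mul_assoc] using hy
    · intro h
      exact ⟨_, h, by simp [mul_assoc]⟩
  have hfix : ∀ (t g : G), orderOf t = 2 →
      (t • (g : G ⧸ H) = (g : G ⧸ H) ↔ g⁻¹ * t * g ∈ H) := by
    intro t g ht
    have h0 : t • (g : G ⧸ H) = ((t * g : G) : G ⧸ H) := rfl
    rw [h0, QuotientGroup.eq, mul_inv_rev, invol_inv ht]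
  constructor
  · rintro ⟨-, -, hSE⟩ t ht hto
    rw [Nat.card_eq_one_iff_unique]
    have hone : ∀ c : G ⧸ H, t • c = c → c = ((1 : G) : G ⧸ H) := by
      intro c hc
      induction c using QuotientGroup.induction_on with
      | H g =>
        rw [hfix t g hto] at hc
        by_contra hne
        have hgH : g ∉ H := by
          intro hg
          apply hne
          rw [QuotientGroup.eq]
          simpa using hg
        exact keyodd g t hto ht ((hmapmem g t).mpr hc) (hSE g hgH)
    constructor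
    · constructor
      rintro ⟨a, ha⟩ ⟨b, hb⟩
      apply Subtype.ext
      show a = b
      rw [hone a ha, hone b hb]
    · exact ⟨⟨((1 : G) : G ⧸ H), by rw [hfix t 1 hto]; simpa using ht⟩⟩
  · intro h
    refine ⟨hH, heven, fun g hgH => ?_⟩
    by_contra hodd
    rw [Nat.not_odd_iff_even] at hodd
    obtain ⟨⟨s, hs⟩, hso⟩ := exists_prime_orderOf_dvd_card' 2 hodd.two_dvd
    rw [Subgroup.orderOf_mk] at hso
    obtain ⟨hsH, hsg⟩ := Subgroup.mem_inf.mp hs
    rw [hmapmem] at hsg
    have h1 := h s hsH hso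
    rw [Nat.card_eq_one_iff_unique] at h1
    obtain ⟨hsub, -⟩ := h1
    have ha : s • ((g : G) : G ⧸ H) = (g : G ⧸ H) := (hfix s g hso).mpr hsg
    have hb : s • ((1 : G) : G ⧸ H) = ((1 : G) : G ⧸ H) :=
      (hfix s 1 hso).mpr (by simpa using hsH)
    have h3 := hsub.elim ⟨_, ha⟩ ⟨_, hb⟩
    have h2 : ((g : G) : G ⧸ H) = ((1 : G) : G ⧸ H) := congrArg Subtype.val h3
    rw [QuotientGroup.eq] at h2
    apply hgH
    simpa using H.inv_mem h2

end Cfsg.Agent.S0224
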