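import Mathlib
import Cfsg.Statements.S2530
import Cfsg.Agent.Lib.Helper2.CoxA

set_option autoImplicit false
open Cfsg

namespace Cfsg.Agent.S2530

/-- The Coxeter presentation of the symmetric group: for every n, the symmetric group on n+1 letters is the Coxeter group of type A_n with the adjacent transpositions (i, i+1) as simple reflections; that is, it is presented by generators r_1, …, r_n subject to r_i² = 1, (r_i r_j)² = 1 for |i − j| > 1 and (r_i r_{i+1})³ = 1, with r_i mapping to (i, i+1). -/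
theorem result (n : ℕ) :
    ∃ cs : CoxeterSystem (CoxeterMatrix.A n) (Equiv.Perm (Fin (n + 1))), ∀ i : Fin n, cs.simple i = Equiv.swap i.castSucc i.succ := by
  suffices hmain : ∀ M : CoxeterMatrix (Fin n),
      (∀ i j : Fin n, M i j = if i = j then 1
        else (if (j : ℕ) + 1 = i ∨ (i : ℕ) + 1 = j then 3 else 2)) →
      ∃ cs : CoxeterSystem M (Equiv.Perm (Fin (n + 1))),
        ∀ i : Fin n, cs.simple i = Equiv.swap i.castSucc i.succ from
    hmain (CoxeterMatrix.A n) (fun i j => rfl)
  intro M hMval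
  obtain ⟨f, hf⟩ : ∃ f : Fin n → Equiv.Perm (Fin (n + 1)),
      ∀ i, f i = Equiv.swap i.castSucc i.succ :=
    ⟨fun i => Equiv.swap i.castSucc i.succ, fun i => rfl⟩
  have hlift : M.IsLiftable f := by
    intro i j
    rw [hMval i j, hf i, hf j]
    by_cases hij : i = j
    · subst hij
      rw [if_pos rfl, pow_one, Equiv.swap_mul_self]
    · rw [if_neg hij]
      have hij' : (i : ℕ) ≠ j := fun h => hij (Fin.ext h)
      by_cases hadj : (j : ℕ) + 1 = i ∨ (i : ℕ) + 1 = j
      · rw [if_pos hadj]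
        rcases hadj with h | h
        · have e : i.castSucc = j.succ := Fin.ext (by
            rw [Fin.val_castSucc, Fin.val_succ]
            omega)
          rw [e, Equiv.swap_comm j.succ i.succ, Equiv.swap_comm j.castSucc j.succ]
          refine Cfsg.Agent.Lib.Helper2.coxA_swap_braid_pow ?_ ?_ ?_
          · rw [Ne, Fin.ext_iff, Fin.val_succ, Fin.val_succ]
            omega
          · rw [Ne, Fin.ext_iff, Fin.val_succ, Fin.val_castSucc]
            omega
          · rw [Ne, Fin.ext_iff, Fin.val_succ, Fin.val_castSucc]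
            omega
        · have e : j.castSucc = i.succ := Fin.ext (by
            rw [Fin.val_castSucc, Fin.val_succ]
            omega)
          rw [e]
          refine Cfsg.Agent.Lib.Helper2.coxA_swap_braid_pow ?_ ?_ ?_
          · rw [Ne, Fin.ext_iff, Fin.val_succ, Fin.val_castSucc]
            omega
          · rw [Ne, Fin.ext_iff, Fin.val_succ, Fin.val_castSucc]
            omega
          · rw [Ne, Fin.ext_iff, Fin.val_succ, Fin.val_succ]
            omega
      · rw [if_neg hadj]
        refine Cfsg.Agent.Lib.Helper2.coxA_swap_far_pow ?_ ?_ ?_ ?_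
        · rw [Ne, Fin.ext_iff, Fin.val_castSucc, Fin.val_castSucc]
          omega
        · rw [Ne, Fin.ext_iff, Fin.val_succ, Fin.val_castSucc]
          omega
        · rw [Ne, Fin.ext_iff, Fin.val_succ, Fin.val_castSucc]
          omega
        · rw [Ne, Fin.ext_iff, Fin.val_succ, Fin.val_succ]
          omega
  obtain ⟨φ, hφ⟩ : ∃ φ : M.Group →* Equiv.Perm (Fin (n + 1)), ∀ i, φ (M.simple i) = f i :=
    ⟨M.toCoxeterSystem.lift ⟨f, hlift⟩, fun i => M.toCoxeterSystem.lift_apply_simple hlift i⟩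
  have hsurj : Function.Surjective φ := by
    rw [← MonoidHom.mrange_eq_top]
    apply top_unique
    rw [← Equiv.Perm.mclosure_swap_castSucc_succ n, Submonoid.closure_le]
    rintro _ ⟨i, rfl⟩
    exact MonoidHom.mem_mrange.mpr ⟨M.simple i, by rw [hφ i, hf i]⟩
  -- the generators indexed by naturals
  obtain ⟨s, hs⟩ : ∃ s : ℕ → M.Group, ∀ k (h : k < n), s k = M.simple ⟨k, h⟩ :=
    ⟨fun k => if h : k < n then M.simple ⟨k, h⟩ else 1, fun k h => dif_pos h⟩
  have hsq : ∀ i : Fin n, M.simple i * M.simple i = 1 := fun i =>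
    M.toCoxeterSystem.simple_mul_simple_self i
  have hpw : ∀ i j : Fin n, (M.simple i * M.simple j) ^ M i j = 1 := fun i j =>
    M.toCoxeterSystem.simple_mul_simple_pow i j
  have hM3 : ∀ (i : ℕ) (h1 : i < n) (h2 : i + 1 < n), M ⟨i, h1⟩ ⟨i + 1, h2⟩ = 3 := by
    intro i h1 h2
    rw [hMval, if_neg (by rw [Fin.mk.injEq]; omega), if_pos (Or.inr rfl)]
  have hM2 : ∀ (i j : ℕ) (h1 : i < n) (h2 : j < n), i + 2 ≤ j → M ⟨i, h1⟩ ⟨j, h2⟩ = 2 := by
    intro i j h1 h2 hij
    rw [hMval, if_neg (by rw [Fin.mk.injEq]; omega),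
      if_neg (by show ¬ (j + 1 = i ∨ i + 1 = j); omega)]
  have h1 : ∀ i, i < n → s i * s i = 1 := by
    intro i hi
    rw [hs i hi]
    exact hsq _
  have h2 : ∀ i, i + 1 < n → s i * s (i + 1) * s i = s (i + 1) * s i * s (i + 1) := by
    intro i hi
    rw [hs i (by omega), hs (i + 1) hi]
    refine Cfsg.Agent.Lib.Helper2.coxA_braid_of_cube (hsq _) (hsq _) ?_
    have h := hpw ⟨i, by omega⟩ ⟨i + 1, hi⟩
    rwa [hM3 i (by omega) hi] at h
  have h3 : ∀ i j, i + 2 ≤ j → j < n → s i * s j = s j * s i := by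
    intro i j hij hj
    rw [hs i (by omega), hs j hj]
    refine Cfsg.Agent.Lib.Helper2.coxA_comm_of_sq (hsq _) (hsq _) ?_
    have h := hpw ⟨i, by omega⟩ ⟨j, hj⟩
    rwa [hM2 i j (by omega) hj hij] at h
  have hgen : Subgroup.closure (s '' Set.Iio n) = ⊤ := by
    apply top_unique
    rw [← M.toCoxeterSystem.subgroup_closure_range_simple]
    apply Subgroup.closure_mono
    rintro _ ⟨i, rfl⟩
    exact ⟨i.val, i.isLt, hs i.val i.isLt⟩
  obtain ⟨hfin, hcard⟩ := Cfsg.Agent.Lib.Helper2.coxA_card_le s n h1 h2 h3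
  rw [hgen] at hfin hcard
  have hfinG : Finite M.Group := Finite.of_equiv _ (Subgroup.topEquiv (G := M.Group)).toEquiv
  rw [Subgroup.card_top] at hcard
  have hcP : Nat.card (Equiv.Perm (Fin (n + 1))) = (n + 1).factorial := by
    rw [Nat.card_eq_fintype_card, Fintype.card_perm, Fintype.card_fin]
  have hbij : Function.Bijective φ := by
    rw [Nat.bijective_iff_surjective_and_card]
    refine ⟨hsurj, le_antisymm ?_ (Nat.card_le_card_of_surjective φ hsurj)⟩
    rw [hcP]
    exact hcard
  refine ⟨⟨(MulEquiv.ofBijective φ hbij).symm⟩, fun i => ?_⟩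
  show φ (M.simple i) = _
  rw [hφ i, hf i]

end Cfsg.Agent.S2530
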