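import Mathlib
import Cfsg.Statements.S0247
import Cfsg.Agent.S2530
import Cfsg.Agent.Lib.Helper2.Sp42

set_option autoImplicit false
open Cfsg

namespace Cfsg.Agent.S0247

/-- Sp_4(2) is isomorphic to the symmetric group S_6. -/
theorem result {F : Type*} [Field F] [Fintype F] (hF : Fintype.card F = 2) : Nonempty (Matrix.symplecticGroup (Fin 2) F ≃* Equiv.Perm (Fin 6)) := by
  classical
  obtain ⟨cs, hcs⟩ := Cfsg.Agent.S2530.result 5
  -- explicit involutions over the prime field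
  obtain ⟨T, hTJ, hTrel, hT01⟩ :
      ∃ T : Fin 5 → Matrix (Fin 2 ⊕ Fin 2) (Fin 2 ⊕ Fin 2) (ZMod 2),
        (∀ i, T i * Matrix.J (Fin 2) (ZMod 2) * (T i).transpose = Matrix.J (Fin 2) (ZMod 2)) ∧
        (∀ i j, (T i * T j) ^ ((CoxeterMatrix.A 5) i j) = 1) ∧
        (T 0 * T 1) (Sum.inl 0) (Sum.inr 0) = 1 :=
    ⟨![Matrix.fromBlocks !![0, 0; 0, 0] !![0, 1; 1, 0] !![0, 1; 1, 0] !![0, 0; 0, 0],
       Matrix.fromBlocks !![0, 1; 1, 0] !![0, 1; 1, 0] !![0, 0; 0, 0] !![0, 1; 1, 0],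
       Matrix.fromBlocks !![1, 0; 1, 1] !![0, 0; 0, 0] !![0, 0; 0, 0] !![1, 1; 0, 1],
       Matrix.fromBlocks !![0, 1; 1, 0] !![0, 0; 0, 0] !![0, 0; 0, 0] !![0, 1; 1, 0],
       Matrix.fromBlocks !![0, 0; 1, 0] !![0, 1; 1, 0] !![0, 1; 1, 0] !![0, 1; 0, 0]],
     by decide +kernel, by decide +kernel, by decide +kernel⟩
  -- transfer to F
  obtain ⟨ι, hι⟩ : ∃ ι : ZMod 2 →+* F, True :=
    ⟨(ZMod.ringEquivOfPrime F Nat.prime_two hF).toRingHom, trivial⟩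
  obtain ⟨μ, hμ⟩ : ∃ μ : Matrix (Fin 2 ⊕ Fin 2) (Fin 2 ⊕ Fin 2) (ZMod 2) →+*
      Matrix (Fin 2 ⊕ Fin 2) (Fin 2 ⊕ Fin 2) F, ∀ M, μ M = M.map ι :=
    ⟨ι.mapMatrix, fun M => rfl⟩
  have hmem : ∀ i, μ (T i) ∈ Matrix.symplecticGroup (Fin 2) F := by
    intro i
    rw [hμ]
    exact SymplecticGroup.map_mem (SymplecticGroup.mem_iff.mpr (hTJ i)) ι
  obtain ⟨f, hf⟩ : ∃ f : Fin 5 → Matrix.symplecticGroup (Fin 2) F,
      ∀ i, ((f i : Matrix.symplecticGroup (Fin 2) F) :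
        Matrix (Fin 2 ⊕ Fin 2) (Fin 2 ⊕ Fin 2) F) = μ (T i) :=
    ⟨fun i => ⟨μ (T i), hmem i⟩, fun i => rfl⟩
  have hcoe_mul : ∀ x y : Matrix.symplecticGroup (Fin 2) F,
      ((x * y : Matrix.symplecticGroup (Fin 2) F) : Matrix (Fin 2 ⊕ Fin 2) (Fin 2 ⊕ Fin 2) F) =
        (x : Matrix (Fin 2 ⊕ Fin 2) (Fin 2 ⊕ Fin 2) F) * (y : Matrix (Fin 2 ⊕ Fin 2) (Fin 2 ⊕ Fin 2) F) :=
    fun x y => rfl
  have hcoe_one : ((1 : Matrix.symplecticGroup (Fin 2) F) :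
      Matrix (Fin 2 ⊕ Fin 2) (Fin 2 ⊕ Fin 2) F) = 1 := rfl
  have hcoe_pow : ∀ (x : Matrix.symplecticGroup (Fin 2) F) (n : ℕ),
      ((x ^ n : Matrix.symplecticGroup (Fin 2) F) : Matrix (Fin 2 ⊕ Fin 2) (Fin 2 ⊕ Fin 2) F) =
        (x : Matrix (Fin 2 ⊕ Fin 2) (Fin 2 ⊕ Fin 2) F) ^ n := by
    intro x n
    induction n with
    | zero => rw [pow_zero, pow_zero, hcoe_one]
    | succ k ih => rw [pow_succ, pow_succ, hcoe_mul, ih]
  have hlift : (CoxeterMatrix.A 5).IsLiftable f := by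
    intro i j
    apply Subtype.ext
    rw [hcoe_pow, hcoe_mul, hf i, hf j, hcoe_one, ← map_mul, ← map_pow, hTrel i j, map_one]
  obtain ⟨φ, hφ⟩ : ∃ φ : Equiv.Perm (Fin 6) →* Matrix.symplecticGroup (Fin 2) F,
      ∀ i, φ (cs.simple i) = f i :=
    ⟨cs.lift ⟨f, hlift⟩, fun i => cs.lift_apply_simple hlift i⟩
  have hne : φ (cs.simple 0 * cs.simple 1) ≠ 1 := by
    intro h
    rw [map_mul, hφ, hφ] at h
    have h2 : ((f 0 * f 1 : Matrix.symplecticGroup (Fin 2) F) :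
        Matrix (Fin 2 ⊕ Fin 2) (Fin 2 ⊕ Fin 2) F) (Sum.inl 0) (Sum.inr 0) =
        ((1 : Matrix.symplecticGroup (Fin 2) F) :
        Matrix (Fin 2 ⊕ Fin 2) (Fin 2 ⊕ Fin 2) F) (Sum.inl 0) (Sum.inr 0) := by
      rw [h]
    rw [hcoe_mul, hf, hf, ← map_mul, hμ, Matrix.map_apply, hT01, map_one, hcoe_one,
      Matrix.one_apply_ne Sum.inl_ne_inr] at h2
    exact one_ne_zero h2
  -- injectivity
  have hsimple : IsSimpleGroup (alternatingGroup (Fin 6)) :=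
    alternatingGroup.isSimpleGroup (by
      rw [Nat.card_eq_fintype_card, Fintype.card_fin]
      norm_num)
  have hKA : (φ.ker.subgroupOf (alternatingGroup (Fin 6))) = ⊥ := by
    have hn : (φ.ker.subgroupOf (alternatingGroup (Fin 6))).Normal :=
      (MonoidHom.normal_ker φ).subgroupOf _
    rcases hn.eq_bot_or_eq_top with hb | ht
    · exact hb
    · exfalso
      have hle : alternatingGroup (Fin 6) ≤ φ.ker := Subgroup.subgroupOf_eq_top.mp ht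
      have hs : cs.simple 0 * cs.simple 1 ∈ alternatingGroup (Fin 6) := by
        rw [Equiv.Perm.mem_alternatingGroup, map_mul, hcs, hcs,
          Equiv.Perm.sign_swap (by decide), Equiv.Perm.sign_swap (by decide)]
        rfl
      exact hne (MonoidHom.mem_ker.mp (hle hs))
  have hcomm : ∀ σ ∈ φ.ker, ∀ g : Equiv.Perm (Fin 6), g * σ = σ * g := by
    intro σ hσ g
    have hc : g * σ * g⁻¹ * σ⁻¹ ∈ φ.ker :=
      φ.ker.mul_mem ((MonoidHom.normal_ker φ).conj_mem σ hσ g) (φ.ker.inv_mem hσ)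
    have hA : g * σ * g⁻¹ * σ⁻¹ ∈ alternatingGroup (Fin 6) := by
      rw [Equiv.Perm.mem_alternatingGroup]
      simp only [map_mul, map_inv]
      rw [mul_comm (Equiv.Perm.sign g) (Equiv.Perm.sign σ), mul_inv_cancel_right,
        mul_inv_cancel]
    have h1 : (⟨g * σ * g⁻¹ * σ⁻¹, hA⟩ : alternatingGroup (Fin 6)) ∈
        φ.ker.subgroupOf (alternatingGroup (Fin 6)) := by
      rw [Subgroup.mem_subgroupOf]
      exact hc
    rw [hKA, Subgroup.mem_bot] at h1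
    have h2 : g * σ * g⁻¹ * σ⁻¹ = 1 := congrArg Subtype.val h1
    calc g * σ = (g * σ * g⁻¹ * σ⁻¹) * (σ * g) := by
          simp only [mul_assoc, inv_mul_cancel_left, inv_mul_cancel, mul_one]
      _ = σ * g := by rw [h2, one_mul]
  have hex : ∀ a b : Fin 6, ∃ c : Fin 6, c ≠ a ∧ c ≠ b := by decide
  have hcenter : ∀ σ : Equiv.Perm (Fin 6), (∀ g : Equiv.Perm (Fin 6), g * σ = σ * g) →
      σ = 1 := by
    intro σ hσ
    apply Equiv.ext
    intro a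
    rw [Equiv.Perm.one_apply]
    by_contra hne'
    obtain ⟨c, hca, hcb⟩ := hex a (σ a)
    have h : (Equiv.swap (σ a) c * σ) a = (σ * Equiv.swap (σ a) c) a := by
      rw [hσ (Equiv.swap (σ a) c)]
    rw [Equiv.Perm.mul_apply, Equiv.Perm.mul_apply, Equiv.swap_apply_left,
      Equiv.swap_apply_of_ne_of_ne (Ne.symm hne') (Ne.symm hca)] at h
    exact hcb h
  have hinj : Function.Injective φ := by
    rw [← MonoidHom.ker_eq_bot_iff, eq_bot_iff]
    intro σ hσ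
    rw [Subgroup.mem_bot]
    exact hcenter σ (hcomm σ hσ)
  -- cardinalities
  have hcS : Nat.card (Equiv.Perm (Fin 6)) = 720 := by
    rw [Nat.card_eq_fintype_card, Fintype.card_perm, Fintype.card_fin]
    rfl
  have hbij : Function.Bijective φ := by
    rw [Nat.bijective_iff_injective_and_card]
    refine ⟨hinj, le_antisymm (Nat.card_le_card_of_injective φ hinj) ?_⟩
    rw [hcS]
    exact Cfsg.Agent.Lib.Helper2.sp42_card_le hF
  exact ⟨(MulEquiv.ofBijective φ hbij).symm⟩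

end Cfsg.Agent.S0247
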