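import Mathlib
import Cfsg.Statements.S3335
import Cfsg.Agent.Lib.Helper2.Carm
import Cfsg.Agent.Lib.Helper2.CoxA
import Cfsg.Agent.S2530

set_option autoImplicit false
open Cfsg

namespace Cfsg.Agent.S3335

/-- A presentation of the alternating group of degree n ≥ 3 on generators x_1, …, x_{n−2} (indexed here by 0, …, n−3): the first generator cubes to 1, every other generator squares to 1, the product of two consecutive generators has order dividing 3, and the product of two generators at distance at least 2 has order dividing 2. The group so presented is isomorphic to the alternating group of degree n. -/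
theorem result (n : ℕ) (hn : 3 ≤ n) :
    Nonempty (PresentedGroup
      ({g : FreeGroup (Fin (n - 2)) | ∃ i : Fin (n - 2), i.val = 0 ∧ g = FreeGroup.of i ^ 3} ∪
       {g | ∃ i : Fin (n - 2), 1 ≤ i.val ∧ g = FreeGroup.of i ^ 2} ∪
       {g | ∃ i j : Fin (n - 2), j.val = i.val + 1 ∧ g = (FreeGroup.of i * FreeGroup.of j) ^ 3} ∪
       {g | ∃ i j : Fin (n - 2), i.val + 1 < j.val ∧ g = (FreeGroup.of i * FreeGroup.of j) ^ 2})
      ≃* alternatingGroup (Fin n)) := by
  suffices hmain : ∀ (m : ℕ) (R : Set (FreeGroup (Fin m))),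
      R = ({g : FreeGroup (Fin m) | ∃ i : Fin m, i.val = 0 ∧ g = FreeGroup.of i ^ 3} ∪
       {g | ∃ i : Fin m, 1 ≤ i.val ∧ g = FreeGroup.of i ^ 2} ∪
       {g | ∃ i j : Fin m, j.val = i.val + 1 ∧ g = (FreeGroup.of i * FreeGroup.of j) ^ 3} ∪
       {g | ∃ i j : Fin m, i.val + 1 < j.val ∧ g = (FreeGroup.of i * FreeGroup.of j) ^ 2}) →
      n = m + 1 + 1 → Nonempty (PresentedGroup R ≃* alternatingGroup (Fin n)) from
    hmain (n - 2) _ rfl (by omega)
  intro m R hR hn
  subst hn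
  -- relators
  have hR1 : ∀ i : Fin m, i.val = 0 → FreeGroup.of i ^ 3 ∈ R := fun i hi => by
    rw [hR]
    exact Or.inl (Or.inl (Or.inl ⟨i, hi, rfl⟩))
  have hR2 : ∀ i : Fin m, 1 ≤ i.val → FreeGroup.of i ^ 2 ∈ R := fun i hi => by
    rw [hR]
    exact Or.inl (Or.inl (Or.inr ⟨i, hi, rfl⟩))
  have hR3 : ∀ i j : Fin m, j.val = i.val + 1 →
      (FreeGroup.of i * FreeGroup.of j) ^ 3 ∈ R := fun i j h => by
    rw [hR]
    exact Or.inl (Or.inr ⟨i, j, h, rfl⟩)
  have hR4 : ∀ i j : Fin m, i.val + 1 < j.val →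
      (FreeGroup.of i * FreeGroup.of j) ^ 2 ∈ R := fun i j h => by
    rw [hR]
    exact Or.inr ⟨i, j, h, rfl⟩
  -- relations in the presented group
  have hx3 : ∀ i : Fin m, i.val = 0 → (PresentedGroup.of (rels := R) i) ^ 3 = 1 := by
    intro i hi
    have h : PresentedGroup.mk R (FreeGroup.of i ^ 3) = 1 := PresentedGroup.one_of_mem (hR1 i hi)
    rw [map_pow] at h
    exact h
  have hx2 : ∀ i : Fin m, 1 ≤ i.val → (PresentedGroup.of (rels := R) i) ^ 2 = 1 := by
    intro i hi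
    have h : PresentedGroup.mk R (FreeGroup.of i ^ 2) = 1 := PresentedGroup.one_of_mem (hR2 i hi)
    rw [map_pow] at h
    exact h
  have hx33 : ∀ i j : Fin m, j.val = i.val + 1 →
      (PresentedGroup.of (rels := R) i * PresentedGroup.of j) ^ 3 = 1 := by
    intro i j hij
    have h : PresentedGroup.mk R ((FreeGroup.of i * FreeGroup.of j) ^ 3) = 1 :=
      PresentedGroup.one_of_mem (hR3 i j hij)
    rw [map_pow, map_mul] at h
    exact h
  have hx22 : ∀ i j : Fin m, i.val + 1 < j.val →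
      (PresentedGroup.of (rels := R) i * PresentedGroup.of j) ^ 2 = 1 := by
    intro i j hij
    have h : PresentedGroup.mk R ((FreeGroup.of i * FreeGroup.of j) ^ 2) = 1 :=
      PresentedGroup.one_of_mem (hR4 i j hij)
    rw [map_pow, map_mul] at h
    exact h
  -- generators indexed by naturals
  obtain ⟨s, hs⟩ : ∃ s : ℕ → PresentedGroup R, ∀ k (h : k < m), s k = PresentedGroup.of ⟨k, h⟩ :=
    ⟨fun k => if h : k < m then PresentedGroup.of ⟨k, h⟩ else 1, fun k h => dif_pos h⟩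
  have h0 : 0 < m → s 0 * s 0 * s 0 = 1 := by
    intro h
    rw [hs 0 h]
    have h3 := hx3 ⟨0, h⟩ rfl
    rw [pow_succ, pow_succ, pow_one] at h3
    exact h3
  have h1 : ∀ i, 1 ≤ i → i < m → s i * s i = 1 := by
    intro i hi him
    rw [hs i him]
    have h2 := hx2 ⟨i, him⟩ hi
    rwa [pow_two] at h2
  have hsq3 : ∀ i (h : i + 1 < m), (s i * s (i + 1)) ^ 3 = 1 := by
    intro i h
    rw [hs i (by omega), hs (i + 1) h]
    exact hx33 ⟨i, by omega⟩ ⟨i + 1, h⟩ rfl
  have hsq2 : ∀ i j, i + 2 ≤ j → ∀ hj : j < m, (s i * s j) ^ 2 = 1 := by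
    intro i j hij hj
    rw [hs i (by omega), hs j hj]
    exact hx22 ⟨i, by omega⟩ ⟨j, hj⟩ (by show i + 1 < j; omega)
  have h2 : ∀ i, 1 ≤ i → i + 1 < m → s i * s (i + 1) * s i = s (i + 1) * s i * s (i + 1) :=
    fun i hi him => Cfsg.Agent.Lib.Helper2.coxA_braid_of_cube (h1 i hi (by omega))
      (h1 (i + 1) (by omega) him) (hsq3 i him)
  have h3 : ∀ i j, 1 ≤ i → i + 2 ≤ j → j < m → s i * s j = s j * s i :=
    fun i j hi hij hj => Cfsg.Agent.Lib.Helper2.coxA_comm_of_sq (h1 i hi (by omega))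
      (h1 j (by omega) hj) (hsq2 i j hij hj)
  have h4 : ∀ j, 2 ≤ j → j < m → s j * s 0 = (s 0)⁻¹ * s j :=
    fun j hj hjm => Cfsg.Agent.Lib.Helper2.carm_inv_of_sq (hsq2 0 j (by omega) hjm)
      (h1 j (by omega) hjm)
  have h5 : 1 < m → s 1 * s 0 * s 1 = (s 0)⁻¹ * s 1 * (s 0)⁻¹ :=
    fun hm => Cfsg.Agent.Lib.Helper2.carm_h5_of_cube (hsq3 0 hm) (h1 1 le_rfl hm)
  have hgen : Subgroup.closure (s '' Set.Iio m) = ⊤ := by
    apply top_unique
    rw [← PresentedGroup.closure_range_of R]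
    apply Subgroup.closure_mono
    rintro _ ⟨i, rfl⟩
    exact ⟨i.val, i.isLt, hs i.val i.isLt⟩
  obtain ⟨hfin, hcard⟩ := Cfsg.Agent.Lib.Helper2.carm_card_le s m h0 h1 h2 h3 h4 h5
  rw [hgen] at hfin hcard
  have hfinG : Finite (PresentedGroup R) :=
    Finite.of_equiv _ (Subgroup.topEquiv (G := PresentedGroup R)).toEquiv
  rw [Subgroup.card_top] at hcard
  -- the symmetric group side
  obtain ⟨cs, hcs⟩ := Cfsg.Agent.S2530.result (m + 1)
  obtain ⟨t, ht⟩ : ∃ t : Fin (m + 1) → Equiv.Perm (Fin (m + 1 + 1)),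
      ∀ j, t j = Equiv.swap j.castSucc j.succ :=
    ⟨fun j => Equiv.swap j.castSucc j.succ, fun j => rfl⟩
  have hpw : ∀ i j : Fin (m + 1), (t i * t j) ^ (if i = j then 1
      else (if (j : ℕ) + 1 = i ∨ (i : ℕ) + 1 = j then 3 else 2)) = 1 := by
    intro i j
    have h := cs.simple_mul_simple_pow i j
    rw [hcs i, hcs j, ← ht i, ← ht j] at h
    exact h
  have hT1 : ∀ j, t j * t j = 1 := fun j => by
    rw [ht j]
    exact Equiv.swap_mul_self _ _
  have hT3 : ∀ i j : Fin (m + 1), (i : ℕ) + 1 = j → (t i * t j) ^ 3 = 1 := by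
    intro i j hij
    have h := hpw i j
    rw [if_neg (by rw [Fin.ext_iff]; omega), if_pos (Or.inr hij)] at h
    exact h
  have hT2 : ∀ i j : Fin (m + 1), (i : ℕ) + 2 ≤ j → (t i * t j) ^ 2 = 1 := by
    intro i j hij
    have h := hpw i j
    rw [if_neg (by rw [Fin.ext_iff]; omega), if_neg (by omega)] at h
    exact h
  have hTbr : ∀ i j : Fin (m + 1), (i : ℕ) + 1 = j → t i * t j * t i = t j * t i * t j :=
    fun i j hij => Cfsg.Agent.Lib.Helper2.coxA_braid_of_cube (hT1 i) (hT1 j) (hT3 i j hij)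
  have hTc : ∀ i j : Fin (m + 1), (i : ℕ) + 2 ≤ j → t i * t j = t j * t i :=
    fun i j hij => Cfsg.Agent.Lib.Helper2.coxA_comm_of_sq (hT1 i) (hT1 j) (hT2 i j hij)
  have hsign : ∀ j : Fin (m + 1), Equiv.Perm.sign (t j) = -1 := by
    intro j
    rw [ht j]
    exact Equiv.Perm.sign_swap (by
      rw [Ne, Fin.ext_iff, Fin.val_castSucc, Fin.val_succ]
      omega)
  have hmem : ∀ i : Fin m, t 0 * t i.succ ∈ alternatingGroup (Fin (m + 1 + 1)) := by
    intro i
    rw [Equiv.Perm.mem_alternatingGroup, Equiv.Perm.sign_mul, hsign, hsign]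
    rfl
  obtain ⟨f, hf⟩ : ∃ f : Fin m → alternatingGroup (Fin (m + 1 + 1)),
      ∀ i, ((f i : alternatingGroup (Fin (m + 1 + 1))) : Equiv.Perm (Fin (m + 1 + 1))) =
        t 0 * t i.succ :=
    ⟨fun i => ⟨t 0 * t i.succ, hmem i⟩, fun i => rfl⟩
  have hv0 : ((0 : Fin (m + 1)) : ℕ) = 0 := rfl
  have hlift : ∀ r ∈ R, FreeGroup.lift f r = 1 := by
    intro r hr
    rw [hR] at hr
    rcases hr with ((⟨i, hi, rfl⟩ | ⟨i, hi, rfl⟩) | ⟨i, j, hij, rfl⟩) | ⟨i, j, hij, rfl⟩
    · rw [map_pow, FreeGroup.lift_apply_of]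
      apply Subtype.ext
      rw [Subgroup.coe_pow, hf i]
      exact hT3 0 i.succ (by rw [Fin.val_succ, hv0]; omega)
    · rw [map_pow, FreeGroup.lift_apply_of]
      apply Subtype.ext
      rw [Subgroup.coe_pow, hf i]
      exact hT2 0 i.succ (by rw [Fin.val_succ, hv0]; omega)
    · rw [map_pow, map_mul, FreeGroup.lift_apply_of, FreeGroup.lift_apply_of]
      apply Subtype.ext
      rw [Subgroup.coe_pow, Subgroup.coe_mul, hf i, hf j]
      rcases Nat.eq_zero_or_pos i.val with hi0 | hipos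
      · exact Cfsg.Agent.Lib.Helper2.carm_perm_P4 (hT1 0) (hT1 i.succ) (hT1 j.succ)
          (hTc 0 j.succ (by rw [Fin.val_succ, hv0]; omega))
          (hTbr i.succ j.succ (by rw [Fin.val_succ, Fin.val_succ]; omega))
      · exact Cfsg.Agent.Lib.Helper2.carm_perm_adj 3 (hT1 0)
          (hTc 0 i.succ (by rw [Fin.val_succ, hv0]; omega))
          (hT3 i.succ j.succ (by rw [Fin.val_succ, Fin.val_succ]; omega))
    · rw [map_pow, map_mul, FreeGroup.lift_apply_of, FreeGroup.lift_apply_of]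
      apply Subtype.ext
      rw [Subgroup.coe_pow, Subgroup.coe_mul, hf i, hf j]
      rcases Nat.eq_zero_or_pos i.val with hi0 | hipos
      · exact Cfsg.Agent.Lib.Helper2.carm_perm_P6 (hT1 0) (hT1 i.succ) (hT1 j.succ)
          (hTc 0 j.succ (by rw [Fin.val_succ, hv0]; omega))
          (hTc i.succ j.succ (by rw [Fin.val_succ, Fin.val_succ]; omega))
      · exact Cfsg.Agent.Lib.Helper2.carm_perm_adj 2 (hT1 0)
          (hTc 0 i.succ (by rw [Fin.val_succ, hv0]; omega))
          (hT2 i.succ j.succ (by rw [Fin.val_succ, Fin.val_succ]; omega))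
  obtain ⟨φ, hφ⟩ : ∃ φ : PresentedGroup R →* alternatingGroup (Fin (m + 1 + 1)),
      ∀ i, φ (PresentedGroup.of i) = f i :=
    ⟨PresentedGroup.toGroup hlift, fun i => PresentedGroup.toGroup.of hlift⟩
  -- surjectivity
  obtain ⟨R', hR'⟩ : ∃ R' : Subgroup (Equiv.Perm (Fin (m + 1 + 1))),
      R' = Subgroup.map (alternatingGroup (Fin (m + 1 + 1))).subtype φ.range := ⟨_, rfl⟩
  have hu : ∀ j : Fin (m + 1), t 0 * Equiv.swap j.castSucc j.succ ∈ R' := by
    intro j
    rw [← ht j]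
    refine Fin.cases ?_ (fun i => ?_) j
    · rw [hT1]
      exact R'.one_mem
    · rw [hR']
      exact ⟨f i, ⟨PresentedGroup.of i, hφ i⟩, hf i⟩
  have hP : ∀ σ : Equiv.Perm (Fin (m + 1 + 1)), σ ∈ R' ∨ t 0 * σ ∈ R' := by
    intro σ
    have hσ : σ ∈ Submonoid.closure
        (Set.range fun i : Fin (m + 1) ↦ Equiv.swap i.castSucc i.succ) := by
      rw [Equiv.Perm.mclosure_swap_castSucc_succ]
      exact Submonoid.mem_top σ
    induction hσ using Submonoid.closure_induction_left with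
    | one =>
      left
      exact R'.one_mem
    | mul_left x hx y hy ih =>
      obtain ⟨j, rfl⟩ := hx
      rcases ih with h | h
      · right
        rw [← mul_assoc]
        exact R'.mul_mem (hu j) h
      · left
        have e : Equiv.swap j.castSucc j.succ * y =
            (t 0 * Equiv.swap j.castSucc j.succ)⁻¹ * (t 0 * y) := by
          rw [mul_inv_rev, mul_assoc, inv_mul_cancel_left, Equiv.swap_inv]
        rw [e]
        exact R'.mul_mem (R'.inv_mem (hu j)) h
  have hR'A : ∀ τ ∈ R', Equiv.Perm.sign τ = 1 := by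
    intro τ hτ
    rw [hR'] at hτ
    obtain ⟨a, _, rfl⟩ := hτ
    exact Equiv.Perm.mem_alternatingGroup.mp a.2
  have hsurj : Function.Surjective φ := by
    intro a
    rcases hP a.val with h | h
    · rw [hR'] at h
      obtain ⟨b, ⟨g, rfl⟩, hb⟩ := h
      exact ⟨g, Subtype.ext hb⟩
    · exfalso
      have h1' := hR'A _ h
      rw [Equiv.Perm.sign_mul, hsign 0, Equiv.Perm.mem_alternatingGroup.mp a.2] at h1'
      exact absurd h1' (by decide)
  have hcA : 2 * Nat.card (alternatingGroup (Fin (m + 1 + 1))) = (m + 1 + 1).factorial := by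
    rw [two_mul_nat_card_alternatingGroup, Nat.card_eq_fintype_card, Fintype.card_perm,
      Fintype.card_fin]
  have hfac : (m + 2).factorial = (m + 1 + 1).factorial := rfl
  have hbij : Function.Bijective φ := by
    rw [Nat.bijective_iff_surjective_and_card]
    refine ⟨hsurj, le_antisymm ?_ (Nat.card_le_card_of_surjective φ hsurj)⟩
    omega
  exact ⟨MulEquiv.ofBijective φ hbij⟩

end Cfsg.Agent.S3335
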