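import Mathlib
import Cfsg.Statements.S0254
import Mathlib
import Cfsg.Agent.S3335
import Cfsg.Agent.Lib.Helper2.PSL29
import Cfsg.Agent.Lib.Helper4.SL2Unip

set_option autoImplicit false
open Cfsg

namespace Cfsg.Agent.S0254

/-- PSL_2(9) is isomorphic to A_6. -/
theorem result {F : Type*} [Field F] [Fintype F] (hF : Fintype.card F = 9) : Nonempty (Matrix.ProjectiveSpecialLinearGroup (Fin 2) F ≃* alternatingGroup (Fin 6)) := by
  classical
  have hpres := Cfsg.Agent.S3335.result 6 (by norm_num)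
  suffices hmain : ∀ (R : Set (FreeGroup (Fin 4))),
      Nonempty (PresentedGroup R ≃* alternatingGroup (Fin 6)) →
      R = ({g : FreeGroup (Fin 4) | ∃ i : Fin 4, i.val = 0 ∧ g = FreeGroup.of i ^ 3} ∪
       {g | ∃ i : Fin 4, 1 ≤ i.val ∧ g = FreeGroup.of i ^ 2} ∪
       {g | ∃ i j : Fin 4, j.val = i.val + 1 ∧ g = (FreeGroup.of i * FreeGroup.of j) ^ 3} ∪
       {g | ∃ i j : Fin 4, i.val + 1 < j.val ∧ g = (FreeGroup.of i * FreeGroup.of j) ^ 2}) →
      Nonempty (Matrix.ProjectiveSpecialLinearGroup (Fin 2) F ≃* alternatingGroup (Fin 6)) from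
    hmain _ hpres rfl
  intro R hne hR
  obtain ⟨e⟩ := hne
  -- explicit generators over the Gaussian integers
  obtain ⟨A, hdetA, hr1, hr2, hr3, hr4, hA01⟩ :
      ∃ (A : Fin 4 → Matrix (Fin 2) (Fin 2) (ℤ√(-1))),
        (∀ i, A i 0 0 * A i 1 1 - A i 0 1 * A i 1 0 = 1) ∧
        (∀ i : Fin 4, i.val = 0 →
          (Cfsg.Agent.Lib.Helper2.gaussZ3 (A i ^ 3 - 1) ∨
            Cfsg.Agent.Lib.Helper2.gaussZ3 (A i ^ 3 + 1))) ∧
        (∀ i : Fin 4, 1 ≤ i.val →
          (Cfsg.Agent.Lib.Helper2.gaussZ3 (A i ^ 2 - 1) ∨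
            Cfsg.Agent.Lib.Helper2.gaussZ3 (A i ^ 2 + 1))) ∧
        (∀ i j : Fin 4, j.val = i.val + 1 →
          (Cfsg.Agent.Lib.Helper2.gaussZ3 ((A i * A j) ^ 3 - 1) ∨
            Cfsg.Agent.Lib.Helper2.gaussZ3 ((A i * A j) ^ 3 + 1))) ∧
        (∀ i j : Fin 4, i.val + 1 < j.val →
          (Cfsg.Agent.Lib.Helper2.gaussZ3 ((A i * A j) ^ 2 - 1) ∨
            Cfsg.Agent.Lib.Helper2.gaussZ3 ((A i * A j) ^ 2 + 1))) ∧
        A 0 0 1 = 1 :=
    ⟨![!![⟨0, 0⟩, ⟨1, 0⟩; ⟨-1, 0⟩, ⟨1, 0⟩],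
       !![⟨0, 0⟩, ⟨1, 0⟩; ⟨-1, 0⟩, ⟨0, 0⟩],
       !![⟨1, 0⟩, ⟨1, 1⟩; ⟨-1, 1⟩, ⟨-1, 0⟩],
       !![⟨0, 0⟩, ⟨0, 1⟩; ⟨0, 1⟩, ⟨0, 0⟩]],
     by decide +kernel, by decide +kernel, by decide +kernel, by decide +kernel,
     by decide +kernel, by decide +kernel⟩
  have hdet : ∀ i, (A i).det = 1 := fun i => by
    rw [Matrix.det_fin_two]
    exact hdetA i
  obtain ⟨g, hg⟩ : ∃ g : Fin 4 → Matrix.SpecialLinearGroup (Fin 2) (ℤ√(-1)),
      ∀ i, (g i : Matrix (Fin 2) (Fin 2) (ℤ√(-1))) = A i :=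
    ⟨fun i => ⟨A i, hdet i⟩, fun i => rfl⟩
  -- the field
  have hp3 : Fact (Nat.Prime 3) := ⟨Nat.prime_three⟩
  have hchar : CharP F 3 := charP_of_card_eq_prime_pow (f := 2) (by rw [hF]; norm_num)
  have h3 : (3 : F) = 0 := by
    have h := CharP.cast_eq_zero F 3
    rwa [Nat.cast_ofNat] at h
  have hsq : IsSquare (-1 : F) := FiniteField.isSquare_neg_one_iff.mpr (by rw [hF]; decide)
  obtain ⟨ι, hι⟩ := hsq
  obtain ⟨θ, hθ⟩ : ∃ θ : ℤ√(-1) →+* F, True :=
    ⟨Zsqrtd.lift ⟨ι, by rw [← hι, Int.cast_neg, Int.cast_one]⟩, trivial⟩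
  obtain ⟨μ, hμ, hμc⟩ : ∃ μ : Matrix.SpecialLinearGroup (Fin 2) (ℤ√(-1)) →*
      Matrix.SpecialLinearGroup (Fin 2) F,
      (∀ x, (μ x : Matrix (Fin 2) (Fin 2) F) =
        (x : Matrix (Fin 2) (Fin 2) (ℤ√(-1))).map θ) ∧
      (∀ X : Matrix.SpecialLinearGroup (Fin 2) (ℤ√(-1)),
        (Cfsg.Agent.Lib.Helper2.gaussZ3 ((X : Matrix (Fin 2) (Fin 2) (ℤ√(-1))) - 1) ∨
          Cfsg.Agent.Lib.Helper2.gaussZ3 ((X : Matrix (Fin 2) (Fin 2) (ℤ√(-1))) + 1)) →
        μ X ∈ Subgroup.center (Matrix.SpecialLinearGroup (Fin 2) F)) :=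
    ⟨Matrix.SpecialLinearGroup.map θ, fun x => rfl,
      fun X hX => Cfsg.Agent.Lib.Helper2.gauss_center θ h3 X hX⟩
  obtain ⟨π, hπ1, hπ2, hπs⟩ : ∃ π : Matrix.SpecialLinearGroup (Fin 2) F →*
      Matrix.ProjectiveSpecialLinearGroup (Fin 2) F,
      (∀ x, x ∈ Subgroup.center (Matrix.SpecialLinearGroup (Fin 2) F) → π x = 1) ∧
      (∀ x, π x = 1 → x ∈ Subgroup.center (Matrix.SpecialLinearGroup (Fin 2) F)) ∧
      Function.Surjective π :=
    ⟨QuotientGroup.mk' _, fun x hx => (QuotientGroup.eq_one_iff x).mpr hx,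
      fun x hx => (QuotientGroup.eq_one_iff x).mp hx, QuotientGroup.mk'_surjective _⟩
  obtain ⟨f, hf⟩ : ∃ f : Fin 4 → Matrix.ProjectiveSpecialLinearGroup (Fin 2) F,
      ∀ i, f i = π (μ (g i)) := ⟨fun i => π (μ (g i)), fun i => rfl⟩
  have hlift : ∀ r ∈ R, FreeGroup.lift f r = 1 := by
    intro r hr
    rw [hR] at hr
    rcases hr with ((⟨i, hi, rfl⟩ | ⟨i, hi, rfl⟩) | ⟨i, j, hij, rfl⟩) | ⟨i, j, hij, rfl⟩
    · rw [map_pow, FreeGroup.lift_apply_of, hf i, ← map_pow, ← map_pow]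
      refine hπ1 _ (hμc _ ?_)
      rw [Matrix.SpecialLinearGroup.coe_pow, hg i]
      exact hr1 i hi
    · rw [map_pow, FreeGroup.lift_apply_of, hf i, ← map_pow, ← map_pow]
      refine hπ1 _ (hμc _ ?_)
      rw [Matrix.SpecialLinearGroup.coe_pow, hg i]
      exact hr2 i hi
    · rw [map_pow, map_mul, FreeGroup.lift_apply_of, FreeGroup.lift_apply_of, hf i, hf j,
        ← map_mul, ← map_mul, ← map_pow, ← map_pow]
      refine hπ1 _ (hμc _ ?_)
      rw [Matrix.SpecialLinearGroup.coe_pow, Matrix.SpecialLinearGroup.coe_mul, hg i, hg j]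
      exact hr3 i j hij
    · rw [map_pow, map_mul, FreeGroup.lift_apply_of, FreeGroup.lift_apply_of, hf i, hf j,
        ← map_mul, ← map_mul, ← map_pow, ← map_pow]
      refine hπ1 _ (hμc _ ?_)
      rw [Matrix.SpecialLinearGroup.coe_pow, Matrix.SpecialLinearGroup.coe_mul, hg i, hg j]
      exact hr4 i j hij
  obtain ⟨ψ, hψ⟩ : ∃ ψ : alternatingGroup (Fin 6) →*
      Matrix.ProjectiveSpecialLinearGroup (Fin 2) F,
      ψ (e (PresentedGroup.of 0)) = f 0 :=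
    ⟨(PresentedGroup.toGroup hlift).comp e.symm.toMonoidHom, by
      show (PresentedGroup.toGroup hlift) (e.symm (e (PresentedGroup.of 0))) = f 0
      rw [MulEquiv.symm_apply_apply]
      exact PresentedGroup.toGroup.of hlift⟩
  have hf0 : f 0 ≠ 1 := by
    intro h
    rw [hf 0] at h
    have hc := hπ2 _ h
    rw [Matrix.SpecialLinearGroup.mem_center_iff] at hc
    obtain ⟨r, _, hr⟩ := hc
    have h01 := congrFun (congrFun hr 0) 1
    rw [hμ, hg 0, Matrix.map_apply, hA01, map_one, Matrix.scalar_apply,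
      Matrix.diagonal_apply_ne _ (by decide)] at h01
    exact zero_ne_one h01
  have hsimple : IsSimpleGroup (alternatingGroup (Fin 6)) :=
    alternatingGroup.isSimpleGroup (by
      rw [Nat.card_eq_fintype_card, Fintype.card_fin]
      norm_num)
  have hinj : Function.Injective ψ := by
    rw [← MonoidHom.ker_eq_bot_iff]
    rcases (MonoidHom.normal_ker ψ).eq_bot_or_eq_top with hb | ht
    · exact hb
    · exfalso
      have hmem : e (PresentedGroup.of 0) ∈ ψ.ker := by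
        rw [ht]
        exact Subgroup.mem_top _
      rw [MonoidHom.mem_ker, hψ] at hmem
      exact hf0 hmem
  -- cardinalities
  have hcSL : Nat.card (Matrix.SpecialLinearGroup (Fin 2) F) = 720 := by
    rw [Cfsg.Agent.Lib.Helper4.card_sl2, hF]
    norm_num
  have hfinSL : Finite (Matrix.SpecialLinearGroup (Fin 2) F) :=
    Nat.finite_of_card_ne_zero (by rw [hcSL]; norm_num)
  obtain ⟨z, hz⟩ : ∃ z : Matrix.SpecialLinearGroup (Fin 2) F,
      (z : Matrix (Fin 2) (Fin 2) F) = -1 :=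
    ⟨⟨-1, by rw [Matrix.det_neg, Matrix.det_one, Fintype.card_fin]; norm_num⟩, rfl⟩
  have hzc : z ∈ Subgroup.center (Matrix.SpecialLinearGroup (Fin 2) F) := by
    rw [Matrix.SpecialLinearGroup.mem_center_iff]
    exact ⟨-1, by rw [Fintype.card_fin]; exact neg_one_sq, by rw [map_neg, map_one, hz]⟩
  have hz1 : z ≠ 1 := by
    intro h
    have h00 : (z : Matrix (Fin 2) (Fin 2) F) 0 0 = (1 : Matrix (Fin 2) (Fin 2) F) 0 0 := by
      rw [h]
      rfl
    rw [hz, Matrix.neg_apply, Matrix.one_apply_eq] at h00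
    have h10 : (1 : F) = 0 := by linear_combination h00 + h3
    exact one_ne_zero h10
  have hcne : Subgroup.center (Matrix.SpecialLinearGroup (Fin 2) F) ≠ ⊥ := by
    intro hb
    rw [hb, Subgroup.mem_bot] at hzc
    exact hz1 hzc
  have hc2 : 2 ≤ Nat.card (Subgroup.center (Matrix.SpecialLinearGroup (Fin 2) F)) :=
    (Subgroup.one_lt_card_iff_ne_bot _).mpr hcne
  have hmul := Subgroup.card_eq_card_quotient_mul_card_subgroup
    (Subgroup.center (Matrix.SpecialLinearGroup (Fin 2) F))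
  have hfinP : Finite (Matrix.ProjectiveSpecialLinearGroup (Fin 2) F) :=
    Finite.of_surjective π hπs
  have hcP : Nat.card (Matrix.ProjectiveSpecialLinearGroup (Fin 2) F) ≤ 360 := by
    have h1 := Nat.mul_le_mul_left
      (Nat.card (Matrix.ProjectiveSpecialLinearGroup (Fin 2) F)) hc2
    rw [hcSL] at hmul
    have h2 : Nat.card (Matrix.ProjectiveSpecialLinearGroup (Fin 2) F) * 2 ≤ 720 := by
      rw [hmul]
      exact h1
    omega
  have hcA : Nat.card (alternatingGroup (Fin 6)) = 360 := by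
    rw [nat_card_alternatingGroup, Nat.card_eq_fintype_card, Fintype.card_fin]
    rfl
  have hbij : Function.Bijective ψ := by
    rw [Nat.bijective_iff_injective_and_card]
    refine ⟨hinj, le_antisymm (Nat.card_le_card_of_injective ψ hinj) ?_⟩
    rw [hcA]
    exact hcP
  exact ⟨(MulEquiv.ofBijective ψ hbij).symm⟩

end Cfsg.Agent.S0254
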