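import Mathlib
import Cfsg.Statements.S0256
import Mathlib
import Cfsg.Agent.S3335

set_option autoImplicit false
open Cfsg

namespace Cfsg.Agent.S0256

/-- PSL_4(2) is isomorphic to A_8. -/
theorem result {F : Type*} [Field F] [Fintype F] (hF : Fintype.card F = 2) : Nonempty (Matrix.ProjectiveSpecialLinearGroup (Fin 4) F ≃* alternatingGroup (Fin 8)) := by
  classical
  have hpres := Cfsg.Agent.S3335.result 8 (by norm_num)
  suffices hmain : ∀ (R : Set (FreeGroup (Fin 6))),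
      Nonempty (PresentedGroup R ≃* alternatingGroup (Fin 8)) →
      R = ({g : FreeGroup (Fin 6) | ∃ i : Fin 6, i.val = 0 ∧ g = FreeGroup.of i ^ 3} ∪
       {g | ∃ i : Fin 6, 1 ≤ i.val ∧ g = FreeGroup.of i ^ 2} ∪
       {g | ∃ i j : Fin 6, j.val = i.val + 1 ∧ g = (FreeGroup.of i * FreeGroup.of j) ^ 3} ∪
       {g | ∃ i j : Fin 6, i.val + 1 < j.val ∧ g = (FreeGroup.of i * FreeGroup.of j) ^ 2}) →
      Nonempty (Matrix.ProjectiveSpecialLinearGroup (Fin 4) F ≃* alternatingGroup (Fin 8)) from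
    hmain _ hpres rfl
  intro R hne hR
  obtain ⟨e⟩ := hne
  -- explicit generators over the prime field
  obtain ⟨A, B, hAB, hr1, hr2, hr3, hr4, hA01⟩ :
      ∃ (A B : Fin 6 → Matrix (Fin 4) (Fin 4) (ZMod 2)),
        (∀ i, A i * B i = 1) ∧
        (∀ i : Fin 6, i.val = 0 → A i ^ 3 = 1) ∧
        (∀ i : Fin 6, 1 ≤ i.val → A i ^ 2 = 1) ∧
        (∀ i j : Fin 6, j.val = i.val + 1 → (A i * A j) ^ 3 = 1) ∧
        (∀ i j : Fin 6, i.val + 1 < j.val → (A i * A j) ^ 2 = 1) ∧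
        A 0 0 1 = 1 :=
    ⟨![!![0, 1, 0, 0; 1, 1, 0, 0; 0, 0, 0, 1; 0, 0, 1, 1],
       !![1, 0, 0, 0; 0, 1, 0, 0; 1, 0, 1, 0; 1, 1, 0, 1],
       !![0, 0, 1, 0; 0, 0, 1, 1; 1, 0, 0, 0; 1, 1, 0, 0],
       !![1, 0, 0, 0; 1, 1, 0, 0; 1, 0, 1, 0; 1, 1, 1, 1],
       !![0, 1, 0, 0; 1, 0, 0, 0; 0, 0, 1, 1; 0, 0, 0, 1],
       !![1, 0, 0, 0; 1, 1, 0, 0; 0, 0, 1, 0; 0, 0, 1, 1]],
     ![!![1, 1, 0, 0; 1, 0, 0, 0; 0, 0, 1, 1; 0, 0, 1, 0],
       !![1, 0, 0, 0; 0, 1, 0, 0; 1, 0, 1, 0; 1, 1, 0, 1],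
       !![0, 0, 1, 0; 0, 0, 1, 1; 1, 0, 0, 0; 1, 1, 0, 0],
       !![1, 0, 0, 0; 1, 1, 0, 0; 1, 0, 1, 0; 1, 1, 1, 1],
       !![0, 1, 0, 0; 1, 0, 0, 0; 0, 0, 1, 1; 0, 0, 0, 1],
       !![1, 0, 0, 0; 1, 1, 0, 0; 0, 0, 1, 0; 0, 0, 1, 1]],
     by decide +kernel, by decide +kernel, by decide +kernel, by decide +kernel,
     by decide +kernel, by decide +kernel⟩
  have hdet : ∀ i, (A i).det = 1 := by
    intro i
    have h := congrArg Matrix.det (hAB i)
    rw [Matrix.det_mul, Matrix.det_one] at h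
    have h2 : ∀ x y : ZMod 2, x * y = 1 → x = 1 := by decide
    exact h2 _ _ h
  obtain ⟨g, hg⟩ : ∃ g : Fin 6 → Matrix.SpecialLinearGroup (Fin 4) (ZMod 2),
      ∀ i, (g i : Matrix (Fin 4) (Fin 4) (ZMod 2)) = A i :=
    ⟨fun i => ⟨A i, hdet i⟩, fun i => rfl⟩
  have hg3 : ∀ i : Fin 6, i.val = 0 → g i ^ 3 = 1 := by
    intro i hi
    apply Subtype.ext
    rw [Matrix.SpecialLinearGroup.coe_pow, hg i, Matrix.SpecialLinearGroup.coe_one]
    exact hr1 i hi
  have hg2 : ∀ i : Fin 6, 1 ≤ i.val → g i ^ 2 = 1 := by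
    intro i hi
    apply Subtype.ext
    rw [Matrix.SpecialLinearGroup.coe_pow, hg i, Matrix.SpecialLinearGroup.coe_one]
    exact hr2 i hi
  have hg33 : ∀ i j : Fin 6, j.val = i.val + 1 → (g i * g j) ^ 3 = 1 := by
    intro i j hij
    apply Subtype.ext
    rw [Matrix.SpecialLinearGroup.coe_pow, Matrix.SpecialLinearGroup.coe_mul, hg i, hg j,
      Matrix.SpecialLinearGroup.coe_one]
    exact hr3 i j hij
  have hg22 : ∀ i j : Fin 6, i.val + 1 < j.val → (g i * g j) ^ 2 = 1 := by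
    intro i j hij
    apply Subtype.ext
    rw [Matrix.SpecialLinearGroup.coe_pow, Matrix.SpecialLinearGroup.coe_mul, hg i, hg j,
      Matrix.SpecialLinearGroup.coe_one]
    exact hr4 i j hij
  -- transfer to F
  have hp2 : Fact (Nat.Prime 2) := ⟨Nat.prime_two⟩
  have hchar : CharP F 2 := charP_of_card_eq_prime hF
  obtain ⟨ι, hι⟩ : ∃ ι : ZMod 2 →+* F, True := ⟨ZMod.castHom (dvd_refl 2) F, trivial⟩
  obtain ⟨μ, hμ⟩ : ∃ μ : Matrix.SpecialLinearGroup (Fin 4) (ZMod 2) →*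
      Matrix.SpecialLinearGroup (Fin 4) F,
      ∀ x, (μ x : Matrix (Fin 4) (Fin 4) F) = (x : Matrix (Fin 4) (Fin 4) (ZMod 2)).map ι :=
    ⟨Matrix.SpecialLinearGroup.map ι, fun x => rfl⟩
  obtain ⟨π, hπ⟩ : ∃ π : Matrix.SpecialLinearGroup (Fin 4) F →*
      Matrix.ProjectiveSpecialLinearGroup (Fin 4) F,
      (∀ x, π x = 1 → x ∈ Subgroup.center (Matrix.SpecialLinearGroup (Fin 4) F)) ∧
      Function.Surjective π :=
    ⟨QuotientGroup.mk' _, fun x hx => (QuotientGroup.eq_one_iff x).mp hx,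
      QuotientGroup.mk'_surjective _⟩
  obtain ⟨f, hf⟩ : ∃ f : Fin 6 → Matrix.ProjectiveSpecialLinearGroup (Fin 4) F,
      ∀ i, f i = π (μ (g i)) := ⟨fun i => π (μ (g i)), fun i => rfl⟩
  have hlift : ∀ r ∈ R, FreeGroup.lift f r = 1 := by
    intro r hr
    rw [hR] at hr
    rcases hr with ((⟨i, hi, rfl⟩ | ⟨i, hi, rfl⟩) | ⟨i, j, hij, rfl⟩) | ⟨i, j, hij, rfl⟩
    · rw [map_pow, FreeGroup.lift_apply_of, hf i, ← map_pow, ← map_pow, hg3 i hi, map_one,
        map_one]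
    · rw [map_pow, FreeGroup.lift_apply_of, hf i, ← map_pow, ← map_pow, hg2 i hi, map_one,
        map_one]
    · rw [map_pow, map_mul, FreeGroup.lift_apply_of, FreeGroup.lift_apply_of, hf i, hf j,
        ← map_mul, ← map_mul, ← map_pow, ← map_pow, hg33 i j hij, map_one, map_one]
    · rw [map_pow, map_mul, FreeGroup.lift_apply_of, FreeGroup.lift_apply_of, hf i, hf j,
        ← map_mul, ← map_mul, ← map_pow, ← map_pow, hg22 i j hij, map_one, map_one]
  obtain ⟨ψ, hψ⟩ : ∃ ψ : alternatingGroup (Fin 8) →*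
      Matrix.ProjectiveSpecialLinearGroup (Fin 4) F,
      ψ (e (PresentedGroup.of 0)) = f 0 :=
    ⟨(PresentedGroup.toGroup hlift).comp e.symm.toMonoidHom, by
      show (PresentedGroup.toGroup hlift) (e.symm (e (PresentedGroup.of 0))) = f 0
      rw [MulEquiv.symm_apply_apply]
      exact PresentedGroup.toGroup.of hlift⟩
  -- the generator is not central
  have hf0 : f 0 ≠ 1 := by
    intro h
    rw [hf 0] at h
    have hc := hπ.1 _ h
    rw [Matrix.SpecialLinearGroup.mem_center_iff] at hc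
    obtain ⟨r, _, hr⟩ := hc
    have h01 := congrFun (congrFun hr 0) 1
    rw [hμ, hg 0, Matrix.map_apply, hA01, map_one, Matrix.scalar_apply,
      Matrix.diagonal_apply_ne _ (by decide)] at h01
    exact zero_ne_one h01
  have hsimple : IsSimpleGroup (alternatingGroup (Fin 8)) :=
    alternatingGroup.isSimpleGroup (by
      rw [Nat.card_eq_fintype_card, Fintype.card_fin]
      norm_num)
  have hinj : Function.Injective ψ := by
    rw [← MonoidHom.ker_eq_bot_iff]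
    rcases (MonoidHom.normal_ker ψ).eq_bot_or_eq_top with hb | ht
    · exact hb
    · exfalso
      have hmem : e (PresentedGroup.of 0) ∈ ψ.ker := by
        rw [ht]
        exact Subgroup.mem_top _
      rw [MonoidHom.mem_ker, hψ] at hmem
      exact hf0 hmem
  -- cardinalities
  have hfinSL : Finite (Matrix.SpecialLinearGroup (Fin 4) F) :=
    Finite.of_injective _ Matrix.SpecialLinearGroup.toGL_injective
  have hcGL : Nat.card (GL (Fin 4) F) = 20160 := by
    rw [Matrix.card_GL_field, hF, Fin.prod_univ_four]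
    rfl
  have hcSL : Nat.card (Matrix.SpecialLinearGroup (Fin 4) F) ≤ 20160 := by
    rw [← hcGL]
    exact Nat.card_le_card_of_injective _ Matrix.SpecialLinearGroup.toGL_injective
  have hfinP : Finite (Matrix.ProjectiveSpecialLinearGroup (Fin 4) F) :=
    Finite.of_surjective π hπ.2
  have hcP : Nat.card (Matrix.ProjectiveSpecialLinearGroup (Fin 4) F) ≤ 20160 :=
    (Nat.card_le_card_of_surjective π hπ.2).trans hcSL
  have hcA : Nat.card (alternatingGroup (Fin 8)) = 20160 := by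
    rw [nat_card_alternatingGroup, Nat.card_eq_fintype_card, Fintype.card_fin]
    rfl
  have hbij : Function.Bijective ψ := by
    rw [Nat.bijective_iff_injective_and_card]
    refine ⟨hinj, le_antisymm (Nat.card_le_card_of_injective ψ hinj) ?_⟩
    rw [hcA]
    exact hcP
  exact ⟨(MulEquiv.ofBijective ψ hbij).symm⟩

end Cfsg.Agent.S0256
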