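import Cfsg.Statements.S0647
import Mathlib

set_option autoImplicit false
open Cfsg

namespace Cfsg.Agent.S0647

/-- For a nonempty family of maximal abelian subgroups of a finite group, the intersection of the family is the centre of the subgroup it generates, which is also the full centralizer of that subgroup. -/
theorem result {S : Type*} [Group S] [Finite S] (𝒜 : Set (Subgroup S)) (hne : 𝒜.Nonempty) (hab : ∀ A ∈ 𝒜, IsMulCommutative A) (hmax : ∀ A ∈ 𝒜, ∀ B : Subgroup S, IsMulCommutative B → A ≤ B → B = A) : sInf 𝒜 = sSup 𝒜 ⊓ Subgroup.centralizer ((sSup 𝒜 : Subgroup S) : Set S) ∧ sInf 𝒜 = Subgroup.centralizer ((sSup 𝒜 : Subgroup S) : Set S) := by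
  -- key facts
  have hcomm : ∀ A ∈ 𝒜, ∀ a ∈ A, ∀ b ∈ A, a * b = b * a := by
    intro A hA a ha b hb
    have := (hab A hA).is_comm.comm ⟨a, ha⟩ ⟨b, hb⟩
    exact congrArg Subtype.val this
  -- sInf ≤ centralizer (sSup)
  have h1 : sInf 𝒜 ≤ Subgroup.centralizer ((sSup 𝒜 : Subgroup S) : Set S) := by
    intro x hx
    rw [Subgroup.mem_sInf] at hx
    rw [Subgroup.mem_centralizer_iff]
    intro y hy
    have hy' : y ∈ sSup 𝒜 := hy
    have hle : sSup 𝒜 ≤ Subgroup.centralizer ({x} : Set S) := by
      apply sSup_le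
      intro A hA a ha
      rw [Subgroup.mem_centralizer_iff]
      intro z hz
      rw [Set.mem_singleton_iff] at hz
      subst hz
      exact hcomm A hA z (hx A hA) a ha
    have := hle hy'
    rw [Subgroup.mem_centralizer_iff] at this
    exact (this x (Set.mem_singleton x)).symm
  -- centralizer (sSup) ≤ sInf
  have h2 : Subgroup.centralizer ((sSup 𝒜 : Subgroup S) : Set S) ≤ sInf 𝒜 := by
    intro x hx
    rw [Subgroup.mem_sInf]
    intro A hA
    rw [Subgroup.mem_centralizer_iff] at hx
    -- B = closure (A ∪ {x}) is commutative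
    have hxA : ∀ a ∈ A, a * x = x * a := fun a ha => hx a ((le_sSup hA : A ≤ sSup 𝒜) ha)
    let B : Subgroup S := Subgroup.closure ((A : Set S) ∪ {x})
    have hBcomm : IsMulCommutative B := by
      refine ⟨⟨?_⟩⟩
      have key : ∀ u ∈ ((A : Set S) ∪ {x}), ∀ v ∈ ((A : Set S) ∪ {x}), u * v = v * u := by
        intro u hu v hv
        rcases hu with hu | hu <;> rcases hv with hv | hv
        · exact hcomm A hA u hu v hv
        · rw [Set.mem_singleton_iff] at hv; subst hv; exact hxA u hu
        · rw [Set.mem_singleton_iff] at hu; subst hu; exact (hxA v hv).symm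
        · rw [Set.mem_singleton_iff] at hu hv; subst hu; subst hv; rfl
      intro ⟨a, ha⟩ ⟨b, hb⟩
      apply Subtype.ext
      exact Subgroup.closure_induction₂ (p := fun a b _ _ => a * b = b * a)
        (fun u v hu hv => key u hu v hv)
        (fun u _ => by simp) (fun u _ => by simp)
        (fun u v w _ _ _ h1 h2 => by rw [mul_assoc, h2, ← mul_assoc, h1, mul_assoc])
        (fun u v w _ _ _ h1 h2 => by rw [← mul_assoc, h1, mul_assoc, h2, ← mul_assoc])
        (fun u v _ _ h => by
          have : u⁻¹ * v = u⁻¹ * (v * u) * u⁻¹ := by group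
          rw [this, ← h]; group)
        (fun u v _ _ h => by
          have : u * v⁻¹ = v⁻¹ * (v * u) * v⁻¹ := by group
          rw [this, ← h]; group)
        ha hb
    have hAB : A ≤ B := fun a ha => Subgroup.subset_closure (Or.inl ha)
    have hBA := hmax A hA B hBcomm hAB
    have hxB : x ∈ B := Subgroup.subset_closure (Or.inr rfl)
    rw [hBA] at hxB
    exact hxB
  have h3 : sInf 𝒜 ≤ sSup 𝒜 := by
    obtain ⟨A, hA⟩ := hne
    exact (sInf_le hA).trans (le_sSup hA)
  refine ⟨le_antisymm (le_inf h3 h1) (inf_le_right.trans h2), le_antisymm h1 h2⟩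

end Cfsg.Agent.S0647
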