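import Cfsg.Statements.S0648
import Mathlib
import Cfsg.Agent.Lib.Helper3.GlauRepl

set_option autoImplicit false
open Cfsg

namespace Cfsg.Agent.S0648

open Cfsg.Agent.Lib.Helper3
open scoped commutatorElement

/-- If A acts on B centralizing [B, B], then [B, A] has derived subgroup central in B, and for abelian A and b ∈ B with [[b, A], A, A] = 1 the derived subgroup of the subgroup [b, A] generated by the commutators of b with A has exponent dividing 2. -/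
theorem result {G : Type*} [Group G] [Finite G] (A B : Subgroup G) (hAB : A ≤ Subgroup.normalizer (B : Set G)) (hc : ⁅⁅B, B⁆, A⁆ = ⊥) : ⁅⁅B, A⁆, ⁅B, A⁆⁆ ≤ B ⊓ Subgroup.centralizer (B : Set G) ∧ (IsMulCommutative A → ∀ b ∈ B, ⁅⁅(Subgroup.closure {g : G | ∃ a ∈ A, g = b⁻¹ * a * b * a⁻¹}), A⁆, A⁆ = ⊥ → ∀ w ∈ ⁅(Subgroup.closure {g : G | ∃ a ∈ A, g = b⁻¹ * a * b * a⁻¹}), (Subgroup.closure {g : G | ∃ a ∈ A, g = b⁻¹ * a * b * a⁻¹})⁆, w ^ 2 = 1) := by
  classical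
  obtain ⟨N, hN⟩ : ∃ N, N = ⁅B, A⁆ := ⟨_, rfl⟩
  obtain ⟨B', hB'⟩ : ∃ B', B' = ⁅B, B⁆ := ⟨_, rfl⟩
  have hNB : N ≤ B := by
    rw [hN, Subgroup.commutator_le]
    intro x hx a ha
    have h1 : a * x⁻¹ * a⁻¹ ∈ B := (Subgroup.mem_normalizer_iff.mp (hAB ha) x⁻¹).mp (inv_mem hx)
    have : ⁅x, a⁆ = x * (a * x⁻¹ * a⁻¹) := by rw [commutatorElement_def]; group
    rw [this]; exact mul_mem hx h1
  have hB'B : B' ≤ B := by
    rw [hB', Subgroup.commutator_le]
    intro x hx y hy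
    rw [commutatorElement_def]
    exact mul_mem (mul_mem (mul_mem hx hy) (inv_mem hx)) (inv_mem hy)
  have hAB' : ∀ a ∈ A, ∀ z ∈ B', a * z = z * a := by
    have h1 := (Subgroup.commutator_eq_bot_iff_le_centralizer).mp hc
    intro a ha z hz
    have h2 := h1 (hB' ▸ hz)
    rw [Subgroup.mem_centralizer_iff] at h2
    exact h2 a ha
  have hBB' : ∀ x ∈ B, ∀ z ∈ B', x * z * x⁻¹ ∈ B' := by
    intro x hx z hz
    have h1 : B'.map (MulAut.conj x).toMonoidHom = B' := by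
      rw [hB', Subgroup.map_commutator,
        map_conj_eq_of_mem_normalizer B x (Subgroup.le_normalizer hx)]
    rw [← h1]
    exact ⟨z, hz, rfl⟩
  have hNB' : ∀ n ∈ N, ∀ z ∈ B', n * z = z * n := by
    have hle : N ≤ Subgroup.centralizer (B' : Set G) := by
      rw [hN, Subgroup.commutator_le]
      intro x hx a ha
      rw [Subgroup.mem_centralizer_iff]
      intro z hz
      have h1 := hAB' a ha z hz
      have h2 := hAB' a ha (x⁻¹ * z * x⁻¹⁻¹) (hBB' x⁻¹ (inv_mem hx) z hz)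
      rw [inv_inv] at h2
      rw [commutatorElement_def]
      have h3 : a⁻¹ * z = z * a⁻¹ := by
        have : a⁻¹ * z = a⁻¹ * (z * a) * a⁻¹ := by group
        rw [this, ← h1]; group
      calc z * (x * a * x⁻¹ * a⁻¹) = x * ((x⁻¹ * z * x) * a) * x⁻¹ * a⁻¹ := by group
        _ = x * (a * (x⁻¹ * z * x)) * x⁻¹ * a⁻¹ := by rw [h2]
        _ = x * a * x⁻¹ * (z * a⁻¹) := by group
        _ = x * a * x⁻¹ * (a⁻¹ * z) := by rw [h3]
        _ = x * a * x⁻¹ * a⁻¹ * z := by group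
    intro n hn z hz
    have := hle hn
    rw [Subgroup.mem_centralizer_iff] at this
    exact (this z hz).symm
  have hNN : ⁅N, N⁆ ≤ Subgroup.centralizer (B : Set G) := by
    have hB'N : ⁅B', N⁆ = ⊥ := by
      rw [Subgroup.commutator_eq_bot_iff_le_centralizer]
      intro z hz
      rw [Subgroup.mem_centralizer_iff]
      intro n hn
      exact hNB' n hn z hz
    have h1 : ⁅⁅N, B⁆, N⁆ = ⊥ := by
      rw [eq_bot_iff, ← hB'N]
      exact Subgroup.commutator_mono (hB' ▸ Subgroup.commutator_mono hNB le_rfl) le_rfl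
    have h2 : ⁅⁅B, N⁆, N⁆ = ⊥ := by
      rw [eq_bot_iff, ← hB'N]
      exact Subgroup.commutator_mono (hB' ▸ Subgroup.commutator_mono le_rfl hNB) le_rfl
    have h3 := Subgroup.commutator_commutator_eq_bot_of_rotate h1 h2
    exact Subgroup.commutator_eq_bot_iff_le_centralizer.mp h3
  have hNNB : ⁅N, N⁆ ≤ B := (Subgroup.commutator_mono hNB hNB).trans (hB' ▸ hB'B)
  refine ⟨by rw [← hN]; exact le_inf hNNB hNN, ?_⟩
  intro hAc b hb hq w hw
  have hAcomm : ∀ x ∈ A, ∀ y ∈ A, x * y = y * x := (isMulCommutative_iff_forall A).mp hAc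
  obtain ⟨M, hM⟩ : ∃ M, M = Subgroup.closure {g : G | ∃ a ∈ A, g = b⁻¹ * a * b * a⁻¹} :=
    ⟨_, rfl⟩
  rw [← hM] at hq hw
  obtain ⟨u, hu⟩ : ∃ u : G → G, u = fun x => b⁻¹ * x * b * x⁻¹ := ⟨_, rfl⟩
  have hux : ∀ x, u x = b⁻¹ * x * b * x⁻¹ := fun x => by rw [hu]
  have huM : ∀ x ∈ A, u x ∈ M := fun x hx => by
    rw [hM, hux]; exact Subgroup.subset_closure ⟨x, hx, rfl⟩
  have huN : ∀ x ∈ A, u x ∈ N := by
    intro x hx
    have := Subgroup.commutator_mem_commutator (inv_mem hb) hx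
    rw [commutatorElement_def, inv_inv] at this
    rw [hN, hux]; exact this
  have huB : ∀ x ∈ A, u x ∈ B := fun x hx => hNB (huN x hx)
  have hconj : ∀ x, x * b * x⁻¹ = b * u x := fun x => by rw [hux]; group
  have hfix : ∀ v ∈ ⁅M, A⁆, ∀ x ∈ A, x * v = v * x := by
    have h1 := (Subgroup.commutator_eq_bot_iff_le_centralizer).mp hq
    intro v hv x hx
    have h2 := h1 hv
    rw [Subgroup.mem_centralizer_iff] at h2
    exact h2 x hx
  have hcen : ∀ v ∈ B, (∀ x ∈ A, x * v = v * x) → ∀ x ∈ A, v * u x = u x * v := by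
    intro v hv hvA x hx
    have hz : v * b * v⁻¹ * b⁻¹ ∈ B' := by
      have := Subgroup.commutator_mem_commutator hv hb
      rw [commutatorElement_def] at this
      rw [hB']; exact this
    have h1 := hAB' x hx _ hz
    have h2 := hvA x hx
    have h4 : x * b * v⁻¹ * b⁻¹ = b * v⁻¹ * b⁻¹ * x := by
      calc x * b * v⁻¹ * b⁻¹ = v⁻¹ * (v * x) * b * v⁻¹ * b⁻¹ := by group
        _ = v⁻¹ * (x * v) * b * v⁻¹ * b⁻¹ := by rw [h2]
        _ = v⁻¹ * (x * (v * b * v⁻¹ * b⁻¹)) := by group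
        _ = v⁻¹ * ((v * b * v⁻¹ * b⁻¹) * x) := by rw [h1]
        _ = b * v⁻¹ * b⁻¹ * x := by group
    have h3 : v * (b⁻¹ * x * b) = (b⁻¹ * x * b) * v := by
      calc v * (b⁻¹ * x * b) = v * (b⁻¹ * (x * b * v⁻¹ * b⁻¹) * b) * v := by group
        _ = v * (b⁻¹ * (b * v⁻¹ * b⁻¹ * x) * b) * v := by rw [h4]
        _ = b⁻¹ * x * b * v := by group
    have h5 : v * x⁻¹ = x⁻¹ * v := by
      have : v * x⁻¹ = x⁻¹ * (x * v) * x⁻¹ := by group
      rw [this, h2]; group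
    rw [hux]
    calc v * (b⁻¹ * x * b * x⁻¹) = (v * (b⁻¹ * x * b)) * x⁻¹ := by group
      _ = (b⁻¹ * x * b * v) * x⁻¹ := by rw [h3]
      _ = b⁻¹ * x * b * (v * x⁻¹) := by group
      _ = b⁻¹ * x * b * (x⁻¹ * v) := by rw [h5]
      _ = b⁻¹ * x * b * x⁻¹ * v := by group
  -- properties of s(c,a) = u_c⁻¹ a u_c a⁻¹
  have hsB : ∀ a ∈ A, ∀ c ∈ A, (u c)⁻¹ * a * u c * a⁻¹ ∈ B := by
    intro a ha c hc
    have h1 : a * u c * a⁻¹ ∈ B := (Subgroup.mem_normalizer_iff.mp (hAB ha) (u c)).mp (huB c hc)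
    have : (u c)⁻¹ * a * u c * a⁻¹ = (u c)⁻¹ * (a * u c * a⁻¹) := by group
    rw [this]; exact mul_mem (inv_mem (huB c hc)) h1
  have hscen : ∀ a ∈ A, ∀ c ∈ A, ∀ x ∈ A,
      ((u c)⁻¹ * a * u c * a⁻¹) * u x = u x * ((u c)⁻¹ * a * u c * a⁻¹) := by
    intro a ha c hc
    apply hcen _ (hsB a ha c hc)
    apply hfix
    have := Subgroup.commutator_mem_commutator (inv_mem (huM c hc)) ha
    rw [commutatorElement_def, inv_inv] at this
    exact this
  have hκcen : ∀ a ∈ A, ∀ c ∈ A, ∀ h ∈ B,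
      h * (u a * u c * (u a)⁻¹ * (u c)⁻¹) = (u a * u c * (u a)⁻¹ * (u c)⁻¹) * h := by
    intro a ha c hc h hh
    have h1 : u a * u c * (u a)⁻¹ * (u c)⁻¹ ∈ ⁅N, N⁆ := by
      have := Subgroup.commutator_mem_commutator (huN a ha) (huN c hc)
      rw [commutatorElement_def] at this
      exact this
    have h2 := hNN h1
    rw [Subgroup.mem_centralizer_iff] at h2
    exact h2 h hh
  have hP1 : ∀ a ∈ A, ∀ c ∈ A, u a * u c * (u a)⁻¹ * (u c)⁻¹ *
      (b * ((u c)⁻¹ * a * u c * a⁻¹) * b⁻¹ * ((u c)⁻¹ * a * u c * a⁻¹)⁻¹) = 1 := by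
    intro a ha c hc
    obtain ⟨s, hs⟩ : ∃ s, s = (u c)⁻¹ * a * u c * a⁻¹ := ⟨_, rfl⟩
    obtain ⟨κ, hκ⟩ : ∃ κ, κ = u a * u c * (u a)⁻¹ * (u c)⁻¹ := ⟨_, rfl⟩
    obtain ⟨y, hy⟩ : ∃ y, y = b * u c * b⁻¹ * (u c)⁻¹ := ⟨_, rfl⟩
    rw [← hs, ← hκ]
    have hsB' : s ∈ B := hs ▸ hsB a ha c hc
    have hyB' : y ∈ B' := by
      have := Subgroup.commutator_mem_commutator hb (huB c hc)
      rw [commutatorElement_def] at this
      rw [hy, hB']; exact this
    have hay : a * y = y * a := hAB' a ha y hyB'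
    have f1 : a * b * a⁻¹ = b * u a := hconj a
    have f2 : a * u c * a⁻¹ = u c * s := by rw [hs]; group
    have f3 : s * (u a)⁻¹ = (u a)⁻¹ * s := by
      have h1 : s * u a = u a * s := hs ▸ hscen a ha c hc a ha
      have : s * (u a)⁻¹ = (u a)⁻¹ * (u a * s) * (u a)⁻¹ := by group
      rw [this, ← h1]; group
    have f4 : b * κ = κ * b := hκ ▸ hκcen a ha c hc b hb
    have f5 : u c * (b * s * b⁻¹ * s⁻¹) = (b * s * b⁻¹ * s⁻¹) * u c := by
      apply hNB' (u c) (huN c hc)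
      have := Subgroup.commutator_mem_commutator hb hsB'
      rw [commutatorElement_def] at this
      rw [hB']; exact this
    have f6 : y * κ = κ * y := hκ ▸ hκcen a ha c hc y (hB'B hyB')
    have main : y = κ * y * (b * s * b⁻¹ * s⁻¹) := by
      calc y = a * y * a⁻¹ := by rw [hay]; group
        _ = (a * b * a⁻¹) * (a * u c * a⁻¹) * (a * b * a⁻¹)⁻¹ * (a * u c * a⁻¹)⁻¹ := by
          rw [hy]; group
        _ = (b * u a) * (u c * s) * (b * u a)⁻¹ * (u c * s)⁻¹ := by rw [f1, f2]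
        _ = b * u a * u c * (s * (u a)⁻¹) * b⁻¹ * s⁻¹ * (u c)⁻¹ := by group
        _ = b * u a * u c * ((u a)⁻¹ * s) * b⁻¹ * s⁻¹ * (u c)⁻¹ := by rw [f3]
        _ = (b * κ) * u c * s * b⁻¹ * s⁻¹ * (u c)⁻¹ := by rw [hκ]; group
        _ = (κ * b) * u c * s * b⁻¹ * s⁻¹ * (u c)⁻¹ := by rw [f4]
        _ = κ * (b * u c * b⁻¹ * (u c)⁻¹) * (u c * (b * s * b⁻¹ * s⁻¹)) * (u c)⁻¹ := by group
        _ = κ * y * ((b * s * b⁻¹ * s⁻¹) * u c) * (u c)⁻¹ := by rw [f5, ← hy]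
        _ = κ * y * (b * s * b⁻¹ * s⁻¹) := by group
    calc κ * (b * s * b⁻¹ * s⁻¹) = y⁻¹ * (y * κ) * (b * s * b⁻¹ * s⁻¹) := by group
      _ = y⁻¹ * (κ * y * (b * s * b⁻¹ * s⁻¹)) := by rw [f6]; group
      _ = y⁻¹ * y := by rw [← main]
      _ = 1 := by group
  -- the generators' commutators have square one
  have hsq : ∀ a ∈ A, ∀ c ∈ A, (u a * u c * (u a)⁻¹ * (u c)⁻¹) ^ 2 = 1 := by
    intro a ha c hc
    obtain ⟨s, hs⟩ : ∃ s, s = (u c)⁻¹ * a * u c * a⁻¹ := ⟨_, rfl⟩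
    obtain ⟨t, ht⟩ : ∃ t, t = (u a)⁻¹ * c * u a * c⁻¹ := ⟨_, rfl⟩
    obtain ⟨κ, hκ⟩ : ∃ κ, κ = u a * u c * (u a)⁻¹ * (u c)⁻¹ := ⟨_, rfl⟩
    rw [← hκ]
    have g1 := hP1 a ha c hc
    rw [← hs, ← hκ] at g1
    have g2 := hP1 c hc a ha
    rw [← ht] at g2
    have hκinv : u c * u a * (u c)⁻¹ * (u a)⁻¹ = κ⁻¹ := by rw [hκ]; group
    rw [hκinv] at g2
    have g1' : b * s * b⁻¹ = κ⁻¹ * s := by
      calc b * s * b⁻¹ = κ⁻¹ * (κ * (b * s * b⁻¹ * s⁻¹)) * s := by group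
        _ = κ⁻¹ * s := by rw [g1, mul_one]
    have g2' : b * t * b⁻¹ = κ * t := by
      calc b * t * b⁻¹ = κ * (κ⁻¹ * (b * t * b⁻¹ * t⁻¹)) * t := by group
        _ = κ * t := by rw [g2, mul_one]
    have hbκ : b * κ = κ * b := hκ ▸ hκcen a ha c hc b hb
    have hsa : Commute s (u a) := hs ▸ hscen a ha c hc a ha
    have hsc : Commute s (u c) := hs ▸ hscen a ha c hc c hc
    have hta : Commute t (u a) := ht ▸ hscen c hc a ha a ha
    have htc : Commute t (u c) := ht ▸ hscen c hc a ha c hc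
    have hcs : s * ((u a)⁻¹ * (u c)⁻¹) = (u a)⁻¹ * (u c)⁻¹ * s :=
      ((hsa.inv_right).mul_right (hsc.inv_right)).eq
    have hct : t * ((u a)⁻¹ * (u c)⁻¹) = (u a)⁻¹ * (u c)⁻¹ * t :=
      ((hta.inv_right).mul_right (htc.inv_right)).eq
    have f2 : a * u c * a⁻¹ = u c * s := by rw [hs]; group
    have f2' : c * u a * c⁻¹ = u a * t := by rw [ht]; group
    have r1 : u a * (u c * s) = u c * (u a * t) := by
      rw [← f2, ← f2']
      have e1 : u a * (a * u c * a⁻¹) = u (a * c) := by simp only [hux]; group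
      have e2 : u c * (c * u a * c⁻¹) = u (c * a) := by simp only [hux]; group
      rw [e1, e2, hAcomm a ha c hc]
    have R1 : κ * s = t := by
      calc κ * s = u a * u c * ((u a)⁻¹ * (u c)⁻¹ * s) := by rw [hκ]; group
        _ = u a * u c * (s * ((u a)⁻¹ * (u c)⁻¹)) := by rw [hcs]
        _ = (u a * (u c * s)) * (u a)⁻¹ * (u c)⁻¹ := by group
        _ = (u c * (u a * t)) * (u a)⁻¹ * (u c)⁻¹ := by rw [r1]
        _ = u c * u a * (t * ((u a)⁻¹ * (u c)⁻¹)) := by group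
        _ = u c * u a * ((u a)⁻¹ * (u c)⁻¹ * t) := by rw [hct]
        _ = t := by group
    have h : κ * κ * s = s := by
      calc κ * κ * s = κ * (κ * s) := by group
        _ = κ * t := by rw [R1]
        _ = b * t * b⁻¹ := g2'.symm
        _ = b * (κ * s) * b⁻¹ := by rw [R1]
        _ = (b * κ) * s * b⁻¹ := by group
        _ = (κ * b) * s * b⁻¹ := by rw [hbκ]
        _ = κ * (b * s * b⁻¹) := by group
        _ = κ * (κ⁻¹ * s) := by rw [g1']
        _ = s := by group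
    rw [pow_two]
    exact mul_right_cancel (h.trans (one_mul s).symm)
  -- the subgroup of central involutions of B
  obtain ⟨Z, hZ⟩ : ∃ Z, Z = B ⊓ Subgroup.centralizer (B : Set G) := ⟨_, rfl⟩
  have hZc : ∀ x ∈ Z, ∀ y ∈ Z, x * y = y * x := by
    intro x hx y hy
    rw [hZ] at hx hy
    have := (Subgroup.mem_inf.mp hx).2
    rw [Subgroup.mem_centralizer_iff] at this
    exact (this y (Subgroup.mem_inf.mp hy).1).symm
  have hD := mem_omegaOne_iff_of_comm 2 Z hZc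
  have hgen : ∀ g ∈ M, ∀ h ∈ M, g * h * g⁻¹ * h⁻¹ ∈ Cfsg.omegaOne 2 Z := by
    rw [hM]
    apply comm_mem_of_gens
    · rintro x ⟨a, ha, rfl⟩ d hd
      have hd' := ((hD d).mp hd).1
      rw [hZ] at hd'
      have := (Subgroup.mem_inf.mp hd').2
      rw [Subgroup.mem_centralizer_iff] at this
      have h1 := this (u a) (huB a ha)
      rw [hux] at h1
      exact h1
    · rintro x ⟨a, ha, rfl⟩ y ⟨c, hc, rfl⟩
      rw [hD]
      have h1 := hsq a ha c hc
      simp only [hux] at h1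
      refine ⟨?_, h1⟩
      rw [hZ]
      refine Subgroup.mem_inf.mpr ⟨hNNB ?_, hNN ?_⟩
      · have := Subgroup.commutator_mem_commutator (huN a ha) (huN c hc)
        rw [commutatorElement_def] at this
        simp only [hux] at this
        exact this
      · have := Subgroup.commutator_mem_commutator (huN a ha) (huN c hc)
        rw [commutatorElement_def] at this
        simp only [hux] at this
        exact this
  have hle : ⁅M, M⁆ ≤ Cfsg.omegaOne 2 Z := by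
    rw [Subgroup.commutator_le]
    intro g hg h hh
    rw [commutatorElement_def]
    exact hgen g hg h hh
  exact ((hD w).mp (hle hw)).2

end Cfsg.Agent.S0648
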