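import Cfsg.Statements.S0649
import Mathlib


set_option autoImplicit false
open Cfsg

namespace Cfsg.Agent.S0649

/-- In the Glauberman replacement situation, if B does not normalize A then some element of B normalizes N_S(A) without normalizing A. -/
theorem result {S : Type*} [Group S] [Finite S] {p : ℕ} [Fact p.Prime] (hS : IsPGroup p S) (B : Subgroup S) [B.Normal] (hB2 : p = 2 → IsMulCommutative B) (A : Subgroup S) (hA : IsMulCommutative A) (hBA : ⁅B, B⁆ ≤ A) (hnot : ¬ B ≤ Subgroup.normalizer (A : Set S)) : ∃ b ∈ B, b ∈ Subgroup.normalizer ((Subgroup.normalizer (A : Set S)) : Set S) ∧ b ∉ Subgroup.normalizer (A : Set S) := by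
  obtain ⟨N, hN⟩ : ∃ N, N = Subgroup.normalizer (A : Set S) := ⟨_, rfl⟩
  rw [← hN] at hnot ⊢
  obtain ⟨K, hK⟩ : ∃ K, K = N ⊔ B := ⟨_, rfl⟩
  have hNK : N ≤ K := hK ▸ le_sup_left
  have hBK : B ≤ K := hK ▸ le_sup_right
  have hKp : IsPGroup p K := hS.to_subgroup K
  haveI : Group.IsNilpotent K := hKp.isNilpotent
  have hnc := normalizerCondition_of_isNilpotent (G := K)
  have hlt : N.subgroupOf K < ⊤ := by
    rw [lt_top_iff_ne_top]
    intro h
    apply hnot
    rw [Subgroup.subgroupOf_eq_top] at h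
    exact hBK.trans h
  have h2 := hnc _ hlt
  obtain ⟨x, hxn, hxN⟩ := SetLike.exists_of_lt h2
  have hxK : (x : S) ∈ N ⊔ B := hK ▸ x.2
  rw [← SetLike.mem_coe, Subgroup.mul_normal, Set.mem_mul] at hxK
  obtain ⟨n, hn, b, hb, hnb⟩ := hxK
  have hxnorm : (x : S) ∈ Subgroup.normalizer (N : Set S) := by
    rw [Subgroup.mem_normalizer_iff]
    intro y
    rw [Subgroup.mem_normalizer_iff] at hxn
    constructor
    · intro hy
      have := (hxn ⟨y, hNK hy⟩).1 (Subgroup.mem_subgroupOf.2 hy)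
      exact Subgroup.mem_subgroupOf.1 this
    · intro hy
      have hyK : y ∈ K := by
        have h3 : (x : S)⁻¹ * ((x : S) * y * (x : S)⁻¹) * (x : S) ∈ K :=
          K.mul_mem (K.mul_mem (K.inv_mem x.2) (hNK hy)) x.2
        have e : (x : S)⁻¹ * ((x : S) * y * (x : S)⁻¹) * (x : S) = y := by group
        rwa [e] at h3
      have := (hxn ⟨y, hyK⟩).2 (Subgroup.mem_subgroupOf.2 hy)
      exact Subgroup.mem_subgroupOf.1 this
  refine ⟨b, hb, ?_, ?_⟩
  · have hb' : b = n⁻¹ * (x : S) := by rw [← hnb]; group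
    rw [hb']
    exact Subgroup.mul_mem _ (Subgroup.inv_mem _ (Subgroup.le_normalizer hn)) hxnorm
  · intro hbN
    apply hxN
    rw [Subgroup.mem_subgroupOf, ← hnb]
    exact N.mul_mem hn hbN

end Cfsg.Agent.S0649
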