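import Cfsg.Statements.S0650
import Mathlib
import Cfsg.Agent.Lib.Helper3.GlauRepl

set_option autoImplicit false
open Cfsg

namespace Cfsg.Agent.S0650

open Cfsg.Agent.Lib.Helper3

/-- The Glauberman replacement Theorem: from an abelian A ⊇ [B, B] not normalized by the normal subgroup B and a suitable b ∈ B one gets the abelian subgroup A* = (A ∩ b⁻¹Ab)[A, b] of the same order, containing [B, B], meeting B strictly more than A does but not containing B, mutually normalizing with A, with strictly larger normalizer containing b, and (p odd) of no larger exponent. -/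
theorem result {S : Type*} [Group S] [Finite S] {p : ℕ} [Fact p.Prime] (hS : IsPGroup p S) (B : Subgroup S) [B.Normal] (hB2 : p = 2 → IsMulCommutative B) (A : Subgroup S) (hA : IsMulCommutative A) (hBA : ⁅B, B⁆ ≤ A) (hnot : ¬ B ≤ Subgroup.normalizer (A : Set S)) (b : S) (hb : b ∈ B) (hbN : b ∈ Subgroup.normalizer ((Subgroup.normalizer (A : Set S)) : Set S)) (hbA : b ∉ Subgroup.normalizer (A : Set S)) : Nat.card ↥((A ⊓ A.map (MulAut.conj (b⁻¹)).toMonoidHom) ⊔ Subgroup.closure {g : S | ∃ a ∈ A, g = a * b⁻¹ * a⁻¹ * b}) = Nat.card A ∧ IsMulCommutative ↥((A ⊓ A.map (MulAut.conj (b⁻¹)).toMonoidHom) ⊔ Subgroup.closure {g : S | ∃ a ∈ A, g = a * b⁻¹ * a⁻¹ * b}) ∧ ⁅B, B⁆ ≤ ((A ⊓ A.map (MulAut.conj (b⁻¹)).toMonoidHom) ⊔ Subgroup.closure {g : S | ∃ a ∈ A, g = a * b⁻¹ * a⁻¹ * b}) ∧ A ⊓ B < ((A ⊓ A.map (MulAut.conj (b⁻¹)).toMonoidHom) ⊔ Subgroup.closure {g : S | ∃ a ∈ A, g = a * b⁻¹ * a⁻¹ * b}) ⊓ B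 ∧ ((A ⊓ A.map (MulAut.conj (b⁻¹)).toMonoidHom) ⊔ Subgroup.closure {g : S | ∃ a ∈ A, g = a * b⁻¹ * a⁻¹ * b}) ⊓ B < B ∧ A ≤ Subgroup.normalizer (((A ⊓ A.map (MulAut.conj (b⁻¹)).toMonoidHom) ⊔ Subgroup.closure {g : S | ∃ a ∈ A, g = a * b⁻¹ * a⁻¹ * b} : Subgroup S) : Set S) ∧ ((A ⊓ A.map (MulAut.conj (b⁻¹)).toMonoidHom) ⊔ Subgroup.closure {g : S | ∃ a ∈ A, g = a * b⁻¹ * a⁻¹ * b}) ≤ Subgroup.normalizer (A : Set S) ∧ b ∈ Subgroup.normalizer (((A ⊓ A.map (MulAut.conj (b⁻¹)).toMonoidHom) ⊔ Subgroup.closure {g : S | ∃ a ∈ A, g = a * b⁻¹ * a⁻¹ * b} : Subgroup S) : Set S) ∧ Subgroup.normalizer (A : Set S) < Subgroup.normalizer (((A ⊓ A.map (MulAut.conj (b⁻¹)).toMonoidHom) ⊔ Subgroup.closure {g : S | ∃ a ∈ A, g = a * b⁻¹ * a⁻¹ * b} : Subgroup S) : Set S) ∧ (p ≠ 2 → Monoid.exponent ↥((A ⊓ A.map (MulAut.conj (b⁻¹)).toMonoidHom) ⊔ Subgroup.closure {g : S | ∃ a ∈ A, g = a * b⁻¹ * a⁻¹ * b}) ∣ Monoid.exponent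 A) := by
  classical
  have hG : GlauHyp A B b :=
    { comm := fun x hx y hy => congrArg Subtype.val (hA.is_comm.comm (⟨x, hx⟩ : ↥A) ⟨y, hy⟩)
      nB := inferInstance
      hBA := hBA
      hb := hb
      hbN := hbN }
  have hm : ∀ x ∈ A, ∀ y ∈ A, gM b x * gM b y = gM b y * gM b x := by
    by_cases hp : p = 2
    · intro x _ y _
      have hBc := hB2 hp
      exact congrArg Subtype.val
        (hBc.is_comm.comm (⟨gM b x, hG.gM_mem_B x⟩ : ↥B) ⟨gM b y, hG.gM_mem_B y⟩)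
    · intro x hx y hy
      refine hG.gM_commute_of_odd ?_ hx hy
      intro g hg
      obtain ⟨k, hk⟩ := (IsPGroup.iff_orderOf.mp hS) g
      have h2 : orderOf g ∣ 2 := orderOf_dvd_of_pow_eq_one hg
      rw [hk] at h2
      rcases Nat.eq_zero_or_pos k with hk0 | hkpos
      · rw [hk0, pow_zero] at hk; exact orderOf_eq_one_iff.mp hk
      · exfalso
        have : p ∣ 2 := (dvd_pow_self p hkpos.ne').trans h2
        exact hp ((Nat.prime_dvd_prime_iff_eq (Fact.out) Nat.prime_two).mp this)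
  change Nat.card ↥(gStar A b) = Nat.card A ∧ IsMulCommutative ↥(gStar A b) ∧ ⁅B, B⁆ ≤ gStar A b ∧ A ⊓ B < gStar A b ⊓ B ∧ gStar A b ⊓ B < B ∧ A ≤ Subgroup.normalizer ((gStar A b : Subgroup S) : Set S) ∧ gStar A b ≤ Subgroup.normalizer (A : Set S) ∧ b ∈ Subgroup.normalizer ((gStar A b : Subgroup S) : Set S) ∧ Subgroup.normalizer (A : Set S) < Subgroup.normalizer ((gStar A b : Subgroup S) : Set S) ∧ (p ≠ 2 → Monoid.exponent ↥(gStar A b) ∣ Monoid.exponent A)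
  refine ⟨hG.card_gStar hm, ⟨⟨fun x y => Subtype.ext (hG.gStar_comm hm x.1 x.2 y.1 y.2)⟩⟩,
    hG.commutator_le_gD.trans (gD_le_gStar A b), hG.inf_lt_gStar_inf hbA, hG.gStar_inf_lt hbA,
    fun a ha => hG.gH_le_normalizer_gStar (mem_gH_left A b ha), hG.gStar_le_normalizer,
    hG.b_mem_normalizer_gStar, hG.normalizer_lt hbA, ?_⟩
  intro hp
  apply Monoid.exponent_dvd_of_forall_pow_eq_one
  intro g
  apply Subtype.ext
  rw [Subgroup.coe_pow]
  refine hG.pow_eq_one_of_mem_gStar hm _ ?_ ?_ g.1 g.2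
  · have h1 : Monoid.exponent ↥A ∣ Nat.card ↥A := Group.exponent_dvd_nat_card
    obtain ⟨k, hk⟩ := (IsPGroup.iff_card.mp (hS.to_subgroup A))
    rw [hk] at h1
    obtain ⟨j, _, hj⟩ := (Nat.dvd_prime_pow Fact.out).mp h1
    rw [hj]
    exact Odd.pow ((Nat.Prime.eq_two_or_odd' Fact.out).resolve_left hp)
  · intro a ha
    have := Monoid.pow_exponent_eq_one (⟨a, ha⟩ : ↥A)
    exact congrArg Subtype.val this

end Cfsg.Agent.S0650
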