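import Cfsg.Statements.S0651
import Mathlib
import Cfsg.Agent.Lib.Helper3.GlauRepl

set_option autoImplicit false
open Cfsg

namespace Cfsg.Agent.S0651

open Cfsg.Agent.Lib.Helper3

/-- For odd p and D normal in the p-group S, the abelian subgroups of D of largest order satisfy the replacement property: a class-2 normal subgroup B of S with a member containing [B, B] but not B normalizes some such member. -/
theorem result {S : Type*} [Group S] [Finite S] {p : ℕ} [Fact p.Prime] (hS : IsPGroup p S) (hp : p ≠ 2) (D : Subgroup S) [D.Normal] : ∀ (B : Subgroup S) [B.Normal], ⁅⁅B, B⁆, B⁆ = ⊥ → (∃ U ∈ (Set.image (fun A : Subgroup ↥D => A.map D.subtype) (Cfsg.maxAbelianSubgroups ↥D)), ⁅B, B⁆ ≤ U ∧ ¬ B ≤ U) → ∃ A ∈ (Set.image (fun A : Subgroup ↥D => A.map D.subtype) (Cfsg.maxAbelianSubgroups ↥D)), ⁅B, B⁆ ≤ A ∧ ¬ B ≤ A ∧ B ≤ Subgroup.normalizer (A : Set S) := by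
  intro B _ _hB2 hU
  obtain ⟨U, hUmem, hBU, hBnU⟩ := hU
  rw [mem_image_maxAbelian_iff] at hUmem
  obtain ⟨hUD, hUc, hUmax⟩ := hUmem
  obtain ⟨A, hAD, hAc, hAmax, hBA, hBnA, hBN⟩ := replacement_family hS hp D
    (fun A => ∀ x ∈ A, ∀ y ∈ A, x * y = y * x) (fun A hA => hA)
    (fun A B b _ hG hm => hG.gStar_comm hm) B ⟨U, hUD, hUc, hUmax, hBU, hBnU⟩
  exact ⟨A, (mem_image_maxAbelian_iff D A).mpr ⟨hAD, hAc, hAmax⟩, hBA, hBnA, hBN⟩

end Cfsg.Agent.S0651
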