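import Cfsg.Statements.S0654
import Mathlib
import Cfsg.Agent.Lib.Helper3.ZJ

set_option autoImplicit false
open Cfsg

namespace Cfsg.Agent.S0654

open Cfsg.Agent.Lib.Helper3

/-- The ZJ-Theorem for the elementary-abelian Thompson subgroup: for an odd prime p, a finite group G with C_G(O_p(G)) ≤ O_p(G) acting p-stably on its normal p-subgroups, and a Sylow p-subgroup S of G, the subgroup generated by the elements of order dividing p in Z(J_e(S)) is characteristic in G. -/
theorem result {G : Type*} [Group G] [Finite G] {p : ℕ} [Fact p.Prime] (hp : p ≠ 2) (hc : Subgroup.centralizer (Cfsg.pCore p G : Set G) ≤ Cfsg.pCore p G) (hst : ∀ (P : Subgroup G) [P.Normal], IsPGroup p P → Cfsg.IsPStableOn p P) (S : Sylow p G) : ((Cfsg.omegaCenterThompson p ↥(S : Subgroup G)).map (S : Subgroup G).subtype).Characteristic := by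
  classical
  have hP : Cfsg.IsStronglyClosed (S : Subgroup G) (S : Subgroup G) :=
    ⟨le_rfl, fun x _ g hg => hg⟩
  have hodd : Odd p := (Nat.Prime.eq_two_or_odd' Fact.out).resolve_left hp
  have hn := zj_normal hp p (Or.inr hodd) S (S : Subgroup G) hP hc (pStab_of_isPStableOn hst)
  rw [← zjE_eq_omegaCenterThompson]
  exact zjE_sylow_characteristic p S hn

end Cfsg.Agent.S0654
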