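import Cfsg.Statements.S0655
import Mathlib
import Cfsg.Agent.Lib.Helper1.ThompsonJ

set_option autoImplicit false
open Cfsg

namespace Cfsg.Agent.S0655

open Cfsg.Agent.Lib.Helper1

/-- In a p-group the intersection of all elementary abelian subgroups of largest order is the subgroup generated by the elements of order dividing p in the centre (equivalently the centralizer) of the elementary-version Thompson subgroup. -/
theorem result {S : Type*} [Group S] [Finite S] {p : ℕ} [Fact p.Prime] (hS : IsPGroup p S) : sInf (Cfsg.maxElementaryAbelianSubgroups p S) = Cfsg.omegaCenterThompson p S ∧ Cfsg.omegaCenterThompson p S = Cfsg.omegaOne p (Subgroup.centralizer (Cfsg.thompsonSubgroup p S : Set S)) := by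
  obtain ⟨J, hJ⟩ : ∃ J, J = Cfsg.thompsonSubgroup p S := ⟨_, rfl⟩
  have h1 : sInf (Cfsg.maxElementaryAbelianSubgroups p S) ≤ Cfsg.omegaCenterThompson p S := by
    intro x hx
    rw [Subgroup.mem_sInf] at hx
    obtain ⟨A₀, hA₀⟩ := maxEA_nonempty (p := p) (G := S)
    unfold Cfsg.omegaCenterThompson Cfsg.omegaOne
    apply Subgroup.subset_closure
    refine ⟨Subgroup.mem_inf.2 ⟨maxEA_le_thompson hA₀ (hx A₀ hA₀), ?_⟩, hA₀.1.2 x (hx A₀ hA₀)⟩
    have hle : Cfsg.thompsonSubgroup p S ≤ Subgroup.centralizer {x} := by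
      unfold Cfsg.thompsonSubgroup
      apply sSup_le
      intro A hA a ha
      rw [Subgroup.mem_centralizer_iff]
      rintro _ rfl
      exact ea_comm hA.1 (hx A hA) ha
    rw [Subgroup.mem_centralizer_iff]
    intro j hj
    have := hle hj
    rw [Subgroup.mem_centralizer_iff] at this
    exact (this x rfl).symm
  have h2 : Cfsg.omegaCenterThompson p S
      ≤ Cfsg.omegaOne p (Subgroup.centralizer (Cfsg.thompsonSubgroup p S : Set S)) := by
    unfold Cfsg.omegaCenterThompson Cfsg.omegaOne
    apply Subgroup.closure_mono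
    rintro x ⟨hx1, hx2⟩
    exact ⟨(Subgroup.mem_inf.1 hx1).2, hx2⟩
  have h3 : Cfsg.omegaOne p (Subgroup.centralizer (Cfsg.thompsonSubgroup p S : Set S))
      ≤ sInf (Cfsg.maxElementaryAbelianSubgroups p S) := by
    unfold Cfsg.omegaOne
    rw [Subgroup.closure_le]
    rintro x ⟨hx1, hx2⟩
    rw [SetLike.mem_coe, Subgroup.mem_sInf]
    intro A hA
    have hz : Cfsg.IsElementaryAbelian p (Subgroup.zpowers x) := ea_zpowers x hx2
    have hsup : Cfsg.IsElementaryAbelian p (A ⊔ Subgroup.zpowers x) := by
      refine ea_sup hA.1 hz ?_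
      rintro a ha _ ⟨k, rfl⟩
      have hxa : a * x = x * a := by
        rw [Subgroup.mem_centralizer_iff] at hx1
        exact hx1 a (maxEA_le_thompson hA ha)
      exact ((Commute.zpow_right (show Commute a x from hxa) k)).eq
    have h4 := hA.2 _ hsup
    have h5 : A = A ⊔ Subgroup.zpowers x := Subgroup.eq_of_le_of_card_ge le_sup_left h4
    rw [h5]
    exact (le_sup_right : Subgroup.zpowers x ≤ _) (Subgroup.mem_zpowers x)
  exact ⟨le_antisymm h1 (h2.trans h3), le_antisymm h2 (h3.trans h1)⟩

end Cfsg.Agent.S0655
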