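import Cfsg.Statements.S0692
import Mathlib
import Cfsg.Agent.Lib.Helper1.GL2Reg

set_option autoImplicit false
open Cfsg

namespace Cfsg.Agent.S0692


/-- The table of the group: under the key of a first column, the second column. -/
def tabT : ℕ := 0x781ab69ba8b64da6ca2e8e7bfc9cc40c65216654335de269f256118413130ee52c84189846f3beaeaf67cbbc0d5923abf4f4b62943b6f2489caf2b1eeabd8bb454e020f0b02b6191b0aa940db9f0c5b43c29a5139f6b510e0d68a0cc673bc8e04323ae59a0f5ab0ff780

/-- Parent pointers towards the identity. -/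
def tabP : ℕ := 0x10ea4f997a07e116fb4ef9865241480a344c79130fdc247f5cb6b60a13673449ee5715d0274cec53e6bd5b0132ea3133d9e0036cc9bea4f15aea51e90f56fae2c03ef9af49a9c8991fca2516a1977351553307c450033080c057d714735ef933e5b314b779a8c213018fb37b69422517176350c234323907a799bdaf93fe22c66f990a552c1b784e05be76cd1fcc41662212f21b656be0d316f70f356fcdf0633e13666248c5d7fe1c26113142d33dc81323f18554e217ed7a497364bd10b000004c541617cf5f350793e1d6db5b74f660f4c000

/-- The generators and their inverses. -/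
def gens : List (ℕ × ℕ × ℕ × ℕ) := [(0, 10, 1, 0), (2, 4, 1, 8), (0, 1, 10, 0), (8, 7, 10, 2)]

set_option maxRecDepth 1000000 in
theorem cert : Cfsg.Agent.Lib.Helper1.regOK 11 tabT 7 tabP 14 gens = true := by
  decide +kernel

/-- An exceptional sharply doubly transitive group of degree 11^2: the listed matrices generate a subgroup of GL(2,11) of order 120 acting regularly on the non-zero vectors. -/
theorem result (A : Matrix.GeneralLinearGroup (Fin 2) (ZMod 11)) (B : Matrix.GeneralLinearGroup (Fin 2) (ZMod 11)) (hA : (A : Matrix (Fin 2) (Fin 2) (ZMod 11)) = !![0, -1; 1, 0]) (hB : (B : Matrix (Fin 2) (Fin 2) (ZMod 11)) = !![2, 4; 1, -3]) : Nat.card (Subgroup.closure ({A, B} : Set (Matrix.GeneralLinearGroup (Fin 2) (ZMod 11)))) = 120 ∧ ∀ v w : Fin 2 → ZMod 11, v ≠ 0 → w ≠ 0 → ∃! h : Subgroup.closure ({A, B} : Set (Matrix.GeneralLinearGroup (Fin 2) (ZMod 11))), Matrix.mulVec ((h : Matrix.GeneralLinearGroup (Fin 2) (ZMod 11)) : Matrix (Fin 2) (Fin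 2) (ZMod 11)) v = w := by
  have hset : ({A, B} : Set (Matrix.GeneralLinearGroup (Fin 2) (ZMod 11)))
      = {g | g ∈ [A, B]} := by
    ext g
    simp
  rw [hset]
  have hAi : ((A⁻¹ : GL (Fin 2) (ZMod 11)) : Matrix (Fin 2) (Fin 2) (ZMod 11)) = !![0, 1; 10, 0] :=
    Units.inv_eq_of_mul_eq_one_right (by rw [hA]; decide)
  have hBi : ((B⁻¹ : GL (Fin 2) (ZMod 11)) : Matrix (Fin 2) (Fin 2) (ZMod 11)) = !![8, 7; 10, 2] :=
    Units.inv_eq_of_mul_eq_one_right (by rw [hB]; decide)
  have hgl : [A, B].map (fun g : GL (Fin 2) (ZMod 11) => Cfsg.Agent.Lib.Helper1.tupM (g : Matrix (Fin 2) (Fin 2) (ZMod 11)))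
      ++ [A, B].map (fun g : GL (Fin 2) (ZMod 11) =>
        Cfsg.Agent.Lib.Helper1.tupM ((g⁻¹ : GL (Fin 2) (ZMod 11)) : Matrix (Fin 2) (Fin 2) (ZMod 11))) = gens := by
    simp only [List.map_cons, List.map_nil, List.cons_append, List.nil_append, hA, hB, hAi, hBi]
    decide
  haveI : Fact (Nat.Prime 11) := ⟨by norm_num⟩
  exact Cfsg.Agent.Lib.Helper1.gl2_regular tabT 7 tabP 14 gens [A, B] hgl cert

end Cfsg.Agent.S0692
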