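import Mathlib
import Cfsg.Statements.S0802
import Cfsg.Agent.S3335
import Cfsg.Agent.Lib.Helper2.A4PSL2

set_option autoImplicit false
open Cfsg

namespace Cfsg.Agent.S0802

/-- PSL_2(p^n) has a subgroup isomorphic to A_4 if and only if it is not the case that p = 2 and n is odd. -/
theorem result {F : Type*} [Field F] [Fintype F] (p n : ℕ) [Fact p.Prime] [CharP F p] (hF : Fintype.card F = p ^ n) : (∃ H : Subgroup (Matrix.ProjectiveSpecialLinearGroup (Fin 2) F), Nonempty (H ≃* alternatingGroup (Fin 4))) ↔ ¬ (p = 2 ∧ Odd n) := by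
  classical
  have hpres := Cfsg.Agent.S3335.result 4 (by norm_num)
  suffices hmain : ∀ (R : Set (FreeGroup (Fin 2))),
      Nonempty (PresentedGroup R ≃* alternatingGroup (Fin 4)) →
      R = ({g : FreeGroup (Fin 2) | ∃ i : Fin 2, i.val = 0 ∧ g = FreeGroup.of i ^ 3} ∪
       {g | ∃ i : Fin 2, 1 ≤ i.val ∧ g = FreeGroup.of i ^ 2} ∪
       {g | ∃ i j : Fin 2, j.val = i.val + 1 ∧ g = (FreeGroup.of i * FreeGroup.of j) ^ 3} ∪
       {g | ∃ i j : Fin 2, i.val + 1 < j.val ∧ g = (FreeGroup.of i * FreeGroup.of j) ^ 2}) →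
      ((∃ H : Subgroup (Matrix.ProjectiveSpecialLinearGroup (Fin 2) F),
        Nonempty (H ≃* alternatingGroup (Fin 4))) ↔ ¬ (p = 2 ∧ Odd n)) from
    hmain _ hpres rfl
  intro R hne hR
  obtain ⟨e⟩ := hne
  obtain ⟨π, hπ1, hπ2, hπs⟩ : ∃ π : Matrix.SpecialLinearGroup (Fin 2) F →*
      Matrix.ProjectiveSpecialLinearGroup (Fin 2) F,
      (∀ z, z ∈ Subgroup.center (Matrix.SpecialLinearGroup (Fin 2) F) → π z = 1) ∧
      (∀ z, π z = 1 → z ∈ Subgroup.center (Matrix.SpecialLinearGroup (Fin 2) F)) ∧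
      Function.Surjective π :=
    ⟨QuotientGroup.mk' _, fun z hz => (QuotientGroup.eq_one_iff z).mpr hz,
      fun z hz => (QuotientGroup.eq_one_iff z).mp hz, QuotientGroup.mk'_surjective _⟩
  constructor
  · -- no A₄ when p = 2 and n is odd
    rintro ⟨H, ⟨eH⟩⟩ ⟨hp2, hodd⟩
    subst hp2
    have h2 : (2 : F) = 0 := by
      have h := CharP.cast_eq_zero F 2
      rwa [Nat.cast_ofNat] at h
    obtain ⟨a, c, ha2, ha1, hc3, hc1, hac⟩ := Cfsg.Agent.Lib.Helper2.a4_elts
    obtain ⟨ψ, hψ⟩ : ∃ ψ : alternatingGroup (Fin 4) →*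
        Matrix.ProjectiveSpecialLinearGroup (Fin 2) F, Function.Injective ψ :=
      ⟨H.subtype.comp eH.symm.toMonoidHom, fun x y h => eH.symm.injective (Subtype.ext h)⟩
    have hcen : ∀ z : Matrix.SpecialLinearGroup (Fin 2) F,
        z ∈ Subgroup.center (Matrix.SpecialLinearGroup (Fin 2) F) → z = 1 := by
      intro z hz
      rw [Matrix.SpecialLinearGroup.mem_center_iff] at hz
      obtain ⟨r, hr, hrz⟩ := hz
      rw [Fintype.card_fin] at hr
      have hsq : (r - 1) ^ 2 = 0 := by linear_combination hr + (1 - r) * h2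
      have hr1 : r = 1 := sub_eq_zero.mp ((pow_eq_zero_iff two_ne_zero).mp hsq)
      apply Subtype.ext
      rw [← hrz, hr1, map_one, Matrix.SpecialLinearGroup.coe_one]
    have hπinj : Function.Injective π :=
      (injective_iff_map_eq_one π).mpr (fun z hz => hcen z (hπ2 z hz))
    obtain ⟨gA, hgA⟩ := hπs (ψ a)
    obtain ⟨gC, hgC⟩ := hπs (ψ c)
    have hA2 : gA * gA = 1 := by
      apply hπinj
      rw [map_mul, hgA, ← map_mul, ha2, map_one, map_one]
    have hA1 : gA ≠ 1 := by
      intro h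
      apply ha1
      apply hψ
      rw [← hgA, h, map_one, map_one]
    have hC3 : gC * gC * gC = 1 := by
      apply hπinj
      rw [map_mul, map_mul, hgC, ← map_mul, ← map_mul, hc3, map_one, map_one]
    have hC1 : gC ≠ 1 := by
      intro h
      apply hc1
      apply hψ
      rw [← hgC, h, map_one, map_one]
    have hcomm : gA * (gC * gA * gC⁻¹) = gC * gA * gC⁻¹ * gA := by
      apply hπinj
      have h := congrArg ψ hac
      simp only [map_mul, map_inv] at h
      simp only [map_mul, map_inv, hgA, hgC]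
      exact h
    have hdA : (gA : Matrix (Fin 2) (Fin 2) F) 0 0 * (gA : Matrix (Fin 2) (Fin 2) F) 1 1 -
        (gA : Matrix (Fin 2) (Fin 2) F) 0 1 * (gA : Matrix (Fin 2) (Fin 2) F) 1 0 = 1 := by
      rw [← Matrix.det_fin_two]
      exact gA.2
    have hdC : (gC : Matrix (Fin 2) (Fin 2) F) 0 0 * (gC : Matrix (Fin 2) (Fin 2) F) 1 1 -
        (gC : Matrix (Fin 2) (Fin 2) F) 0 1 * (gC : Matrix (Fin 2) (Fin 2) F) 1 0 = 1 := by
      rw [← Matrix.det_fin_two]
      exact gC.2
    have hCD : (gC : Matrix (Fin 2) (Fin 2) F) *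
        ((gC⁻¹ : Matrix.SpecialLinearGroup (Fin 2) F) : Matrix (Fin 2) (Fin 2) F) = 1 := by
      rw [← Matrix.SpecialLinearGroup.coe_mul, mul_inv_cancel, Matrix.SpecialLinearGroup.coe_one]
    have hMA2 : (gA : Matrix (Fin 2) (Fin 2) F) * (gA : Matrix (Fin 2) (Fin 2) F) = 1 := by
      rw [← Matrix.SpecialLinearGroup.coe_mul, hA2, Matrix.SpecialLinearGroup.coe_one]
    have hMA1 : (gA : Matrix (Fin 2) (Fin 2) F) ≠ 1 := by
      intro h
      apply hA1
      apply Subtype.ext
      rw [h, Matrix.SpecialLinearGroup.coe_one]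
    have hMC3 : (gC : Matrix (Fin 2) (Fin 2) F) * (gC : Matrix (Fin 2) (Fin 2) F) *
        (gC : Matrix (Fin 2) (Fin 2) F) = 1 := by
      rw [← Matrix.SpecialLinearGroup.coe_mul, ← Matrix.SpecialLinearGroup.coe_mul, hC3,
        Matrix.SpecialLinearGroup.coe_one]
    have hMC1 : (gC : Matrix (Fin 2) (Fin 2) F) ≠ 1 := by
      intro h
      apply hC1
      apply Subtype.ext
      rw [h, Matrix.SpecialLinearGroup.coe_one]
    have hMcomm : (gA : Matrix (Fin 2) (Fin 2) F) * ((gC : Matrix (Fin 2) (Fin 2) F) *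
        (gA : Matrix (Fin 2) (Fin 2) F) *
        ((gC⁻¹ : Matrix.SpecialLinearGroup (Fin 2) F) : Matrix (Fin 2) (Fin 2) F)) =
        (gC : Matrix (Fin 2) (Fin 2) F) * (gA : Matrix (Fin 2) (Fin 2) F) *
        ((gC⁻¹ : Matrix.SpecialLinearGroup (Fin 2) F) : Matrix (Fin 2) (Fin 2) F) *
        (gA : Matrix (Fin 2) (Fin 2) F) := by
      have h := congrArg (fun z : Matrix.SpecialLinearGroup (Fin 2) F =>
        (z : Matrix (Fin 2) (Fin 2) F)) hcomm
      simp only [Matrix.SpecialLinearGroup.coe_mul] at h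
      exact h
    obtain ⟨r, hr⟩ := Cfsg.Agent.Lib.Helper2.a4_char2_root h2 _ _ _ hdA hdC hCD hMA2 hMA1
      hMC3 hMC1 hMcomm
    have hr0 : r ≠ 0 := by
      intro h0
      rw [h0] at hr
      norm_num at hr
    have hr1 : r ≠ 1 := by
      intro h1
      rw [h1] at hr
      have h10 : (1 : F) = 0 := by linear_combination hr - h2
      exact one_ne_zero h10
    have hr3 : r ^ 3 = 1 := by linear_combination (r - 1) * hr
    obtain ⟨u, hu⟩ : ∃ u : Fˣ, (u : F) = r := ⟨Units.mk0 r hr0, rfl⟩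
    have hu3 : u ^ 3 = 1 := by
      apply Units.ext
      rw [Units.val_pow_eq_pow_val, hu, Units.val_one]
      exact hr3
    have hu1 : u ≠ 1 := by
      intro h
      apply hr1
      rw [← hu, h, Units.val_one]
    have hp3 : Fact (Nat.Prime 3) := ⟨Nat.prime_three⟩
    have ho : orderOf u = 3 := orderOf_eq_prime hu3 hu1
    have hdvd : 3 ∣ Nat.card Fˣ := by
      rw [← ho]
      exact orderOf_dvd_natCard u
    rw [Nat.card_units, Nat.card_eq_fintype_card, hF] at hdvd
    obtain ⟨k, rfl⟩ := hodd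
    have h4 : 4 ^ k % 3 = 1 := by
      rw [Nat.pow_mod]
      norm_num
    have e2 : 2 ^ (2 * k + 1) = 2 * 4 ^ k := by
      have h4' : (4 : ℕ) = 2 ^ 2 := by norm_num
      rw [h4', ← pow_mul, pow_succ, mul_comm]
    rw [e2] at hdvd
    have hpos : 0 < 4 ^ k := by positivity
    omega
  · intro hne'
    -- a pair of generators
    obtain ⟨X, Y, hdX, hdY, htX, htY, htXY, hY01⟩ : ∃ X Y : Matrix (Fin 2) (Fin 2) F,
        X 0 0 * X 1 1 - X 0 1 * X 1 0 = 1 ∧ Y 0 0 * Y 1 1 - Y 0 1 * Y 1 0 = 1 ∧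
        X 0 0 + X 1 1 = -1 ∧ Y 0 0 + Y 1 1 = 0 ∧ (X * Y) 0 0 + (X * Y) 1 1 = 1 ∧
        Y 0 1 ≠ 0 := by
      by_cases hp2 : p = 2
      · have hev : Even n := by
          rw [← Nat.not_odd_iff_even]
          exact fun ho => hne' ⟨hp2, ho⟩
        subst hp2
        have h2 : (2 : F) = 0 := by
          have h := CharP.cast_eq_zero F 2
          rwa [Nat.cast_ofNat] at h
        obtain ⟨m, hm⟩ := hev
        have h3 : 3 ∣ Nat.card Fˣ := by
          rw [Nat.card_units, Nat.card_eq_fintype_card, hF, hm, ← two_mul, pow_mul]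
          have h4 : (2 ^ 2) ^ m % 3 = 1 := by
            rw [Nat.pow_mod]
            norm_num
          have hpos : 0 < (2 ^ 2) ^ m := by positivity
          omega
        have hp3 : Fact (Nat.Prime 3) := ⟨Nat.prime_three⟩
        obtain ⟨w, hw⟩ := exists_prime_orderOf_dvd_card' 3 h3
        obtain ⟨ω, hω⟩ : ∃ ω : F, ω = (w : F) := ⟨_, rfl⟩
        have hω3 : ω ^ 3 = 1 := by
          have h := pow_orderOf_eq_one w
          rw [hw] at h
          rw [hω, ← Units.val_pow_eq_pow_val, h, Units.val_one]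
        have hω1 : ω ≠ 1 := by
          intro h1
          have hw1 : w = 1 := by
            apply Units.ext
            rw [← hω, h1, Units.val_one]
          rw [hw1, orderOf_one] at hw
          norm_num at hw
        have hωq : ω ^ 2 + ω + 1 = 0 := by
          have h : (ω - 1) * (ω ^ 2 + ω + 1) = 0 := by linear_combination hω3
          exact (mul_eq_zero.mp h).resolve_left (sub_ne_zero.mpr hω1)
        refine ⟨!![ω, 0; 0, ω ^ 2], !![1, 1; 0, 1], ?_, ?_, ?_, ?_, ?_, ?_⟩
        · show ω * ω ^ 2 - 0 * 0 = 1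
          linear_combination (ω - 1) * hωq
        · show (1 : F) * 1 - 1 * 0 = 1
          ring
        · show ω + ω ^ 2 = -1
          linear_combination hωq
        · show (1 : F) + 1 = 0
          linear_combination h2
        · rw [Matrix.mul_apply, Matrix.mul_apply, Fin.sum_univ_two, Fin.sum_univ_two]
          show ω * 1 + 0 * 0 + (0 * 1 + ω ^ 2 * 1) = 1
          linear_combination hωq - h2
        · show (1 : F) ≠ 0
          exact one_ne_zero
      · have h2 : (2 : F) ≠ 0 := by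
          intro h
          have h' : ((2 : ℕ) : F) = 0 := by
            rw [Nat.cast_ofNat]
            exact h
          rw [CharP.cast_eq_zero_iff F p 2] at h'
          exact hp2 ((Nat.prime_dvd_prime_iff_eq (Fact.out : p.Prime) Nat.prime_two).mp h')
        obtain ⟨h, hh⟩ : ∃ h : F, 2 * h = 1 := ⟨2⁻¹, mul_inv_cancel₀ h2⟩
        have hpne : NeZero p := ⟨(Fact.out : p.Prime).ne_zero⟩
        obtain ⟨a₀, b₀, hab⟩ := CharP.sq_add_sq F p (-2)
        obtain ⟨u, hu⟩ : ∃ u : F, u = (a₀ : F) := ⟨_, rfl⟩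
        obtain ⟨v, hv⟩ : ∃ v : F, v = (b₀ : F) := ⟨_, rfl⟩
        have huv : u ^ 2 + v ^ 2 = -2 := by
          rw [hu, hv, hab]
          norm_num
        obtain ⟨a, ha⟩ : ∃ a : F, a = (u - 1) * h := ⟨_, rfl⟩
        obtain ⟨b, hb⟩ : ∃ b : F, b = (v + 1) * h := ⟨_, rfl⟩
        have hc : a ^ 2 + a + b ^ 2 - b + 1 = 0 := by
          rw [ha, hb]
          linear_combination h ^ 2 * huv + (h * (v - u) - 1) * hh
        refine ⟨!![a, b; b - 1, -1 - a], !![0, -1; 1, 0], ?_, ?_, ?_, ?_, ?_, ?_⟩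
        · show a * (-1 - a) - b * (b - 1) = 1
          linear_combination -hc
        · show (0 : F) * 0 - (-1) * 1 = 1
          ring
        · show a + (-1 - a) = -1
          ring
        · show (0 : F) + 0 = 0
          ring
        · rw [Matrix.mul_apply, Matrix.mul_apply, Fin.sum_univ_two, Fin.sum_univ_two]
          show a * 0 + b * 1 + ((b - 1) * (-1) + (-1 - a) * 0) = 1
          ring
        · show (-1 : F) ≠ 0
          exact neg_ne_zero.mpr one_ne_zero
    have hdN : (X * Y) 0 0 * (X * Y) 1 1 - (X * Y) 0 1 * (X * Y) 1 0 = 1 := by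
      rw [← Matrix.det_fin_two, Matrix.det_mul, Matrix.det_fin_two X, Matrix.det_fin_two Y,
        hdX, hdY, one_mul]
    have hX2 : X * X = (-1 : F) • X - 1 := by
      have h := Cfsg.Agent.Lib.Helper2.sl2_cayley X hdX
      rw [htX] at h
      exact h
    have hX3 : X * X * X = 1 := by
      rw [Cfsg.Agent.Lib.Helper2.sl2_pow3 X (-1) hX2, show ((-1 : F)) ^ 2 - 1 = 0 by ring,
        zero_smul, zero_sub, neg_smul, one_smul, neg_neg]
    have hY2 : Y * Y = -1 := by
      have h := Cfsg.Agent.Lib.Helper2.sl2_cayley Y hdY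
      rw [htY, zero_smul, zero_sub] at h
      exact h
    have hN2 : X * Y * (X * Y) = (1 : F) • (X * Y) - 1 := by
      have h := Cfsg.Agent.Lib.Helper2.sl2_cayley (X * Y) hdN
      rw [htXY] at h
      exact h
    have hN3 : X * Y * (X * Y) * (X * Y) = -1 := by
      rw [Cfsg.Agent.Lib.Helper2.sl2_pow3 (X * Y) 1 hN2, show ((1 : F)) ^ 2 - 1 = 0 by ring,
        zero_smul, zero_sub, one_smul]
    obtain ⟨gX, hgX⟩ : ∃ g : Matrix.SpecialLinearGroup (Fin 2) F,
        (g : Matrix (Fin 2) (Fin 2) F) = X :=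
      ⟨⟨X, by rw [Matrix.det_fin_two]; exact hdX⟩, rfl⟩
    obtain ⟨gY, hgY⟩ : ∃ g : Matrix.SpecialLinearGroup (Fin 2) F,
        (g : Matrix (Fin 2) (Fin 2) F) = Y :=
      ⟨⟨Y, by rw [Matrix.det_fin_two]; exact hdY⟩, rfl⟩
    have hgX3 : gX ^ 3 = 1 := by
      apply Subtype.ext
      rw [Matrix.SpecialLinearGroup.coe_pow, Matrix.SpecialLinearGroup.coe_one, hgX,
        pow_succ, pow_succ, pow_one]
      exact hX3
    have hneg : ∀ z : Matrix.SpecialLinearGroup (Fin 2) F,
        (z : Matrix (Fin 2) (Fin 2) F) = -1 → π z = 1 := by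
      intro z hz
      apply hπ1
      rw [Matrix.SpecialLinearGroup.mem_center_iff]
      exact ⟨-1, by rw [Fintype.card_fin]; exact neg_one_sq, by rw [map_neg, map_one, hz]⟩
    have hgY2 : π (gY ^ 2) = 1 := by
      apply hneg
      rw [Matrix.SpecialLinearGroup.coe_pow, hgY, pow_two]
      exact hY2
    have hgXY3 : π ((gX * gY) ^ 3) = 1 := by
      apply hneg
      rw [Matrix.SpecialLinearGroup.coe_pow, Matrix.SpecialLinearGroup.coe_mul, hgX, hgY,
        pow_succ, pow_succ, pow_one]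
      exact hN3
    obtain ⟨f, hf0, hf1⟩ : ∃ f : Fin 2 → Matrix.ProjectiveSpecialLinearGroup (Fin 2) F,
        f 0 = π gX ∧ f 1 = π gY := ⟨![π gX, π gY], rfl, rfl⟩
    have hi0 : ∀ i : Fin 2, i.val = 0 → i = 0 := by decide
    have hi1 : ∀ i : Fin 2, 1 ≤ i.val → i = 1 := by decide
    have hij : ∀ i j : Fin 2, j.val = i.val + 1 → i = 0 ∧ j = 1 := by decide
    have hij' : ∀ i j : Fin 2, ¬ (i.val + 1 < j.val) := by decide
    have hlift : ∀ r ∈ R, FreeGroup.lift f r = 1 := by
      intro r hr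
      rw [hR] at hr
      rcases hr with ((⟨i, hi, rfl⟩ | ⟨i, hi, rfl⟩) | ⟨i, j, hij1, rfl⟩) | ⟨i, j, hij1, rfl⟩
      · rw [hi0 i hi, map_pow, FreeGroup.lift_apply_of, hf0, ← map_pow, hgX3, map_one]
      · rw [hi1 i hi, map_pow, FreeGroup.lift_apply_of, hf1, ← map_pow]
        exact hgY2
      · obtain ⟨h0, h1⟩ := hij i j hij1
        rw [h0, h1, map_pow, map_mul, FreeGroup.lift_apply_of, FreeGroup.lift_apply_of, hf0,
          hf1, ← map_mul, ← map_pow]
        exact hgXY3
      · exact absurd hij1 (hij' i j)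
    obtain ⟨γ, hγ⟩ : ∃ γ : alternatingGroup (Fin 4) →*
        Matrix.ProjectiveSpecialLinearGroup (Fin 2) F,
        γ (e (PresentedGroup.of 1)) = π gY :=
      ⟨(PresentedGroup.toGroup hlift).comp e.symm.toMonoidHom, by
        show (PresentedGroup.toGroup hlift) (e.symm (e (PresentedGroup.of 1))) = π gY
        rw [MulEquiv.symm_apply_apply]
        exact (PresentedGroup.toGroup.of hlift).trans hf1⟩
    have hY1 : π gY ≠ 1 := by
      intro h
      have hc' := hπ2 _ h
      rw [Matrix.SpecialLinearGroup.mem_center_iff] at hc'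
      obtain ⟨r, _, hr⟩ := hc'
      have h01 := congrFun (congrFun hr 0) 1
      rw [Matrix.scalar_apply, Matrix.diagonal_apply_ne _ (by decide), hgY] at h01
      exact hY01 h01.symm
    have hof : (PresentedGroup.of (rels := R) 1) ^ 2 = 1 := by
      have h : PresentedGroup.mk R (FreeGroup.of (1 : Fin 2) ^ 2) = 1 :=
        PresentedGroup.one_of_mem (by
          rw [hR]
          exact Set.mem_union_left _ (Set.mem_union_left _
            (Set.mem_union_right _ ⟨1, by decide, rfl⟩)))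
      simp only [map_pow] at h
      exact h
    have htt : e (PresentedGroup.of 1) * e (PresentedGroup.of 1) = 1 := by
      rw [← map_mul, ← pow_two, hof, map_one]
    have hγinj : Function.Injective γ := by
      rw [← MonoidHom.ker_eq_bot_iff, eq_bot_iff]
      intro k hk
      rw [Subgroup.mem_bot]
      by_contra hk1
      obtain ⟨c1, c2, ht⟩ := Cfsg.Agent.Lib.Helper2.a4_normal_gen k _ hk1 htt
      have hγk : γ k = 1 := MonoidHom.mem_ker.mp hk
      have h := congrArg γ ht
      rw [hγ] at h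
      simp only [map_mul, map_inv, hγk, mul_one, mul_inv_cancel, inv_one] at h
      exact hY1 h
    exact ⟨γ.range, ⟨(MonoidHom.ofInjective hγinj).symm⟩⟩

end Cfsg.Agent.S0802
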