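import Mathlib
import Cfsg.Statements.S0803
import Cfsg.Agent.S2530
import Cfsg.Agent.Lib.Helper2.S4PSL2
import Cfsg.Agent.Lib.Helper4.SL2Unip

set_option autoImplicit false
open Cfsg

namespace Cfsg.Agent.S0803

/-- PSL_2(q) has a subgroup isomorphic to S_4 iff q² ≡ 1 (mod 16). -/
theorem result {F : Type*} [Field F] [Fintype F] {q : ℕ} (hF : Fintype.card F = q) : (∃ H : Subgroup (Matrix.ProjectiveSpecialLinearGroup (Fin 2) F), Nonempty (H ≃* Equiv.Perm (Fin 4))) ↔ q ^ 2 % 16 = 1 := by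
  have hM : ∀ i j : Fin 3, (CoxeterMatrix.A 3) i j =
      (![![1, 3, 2], ![3, 1, 3], ![2, 3, 1]] : Fin 3 → Fin 3 → ℕ) i j :=
    Cfsg.Agent.Lib.Helper2.fin3_forall2 _ rfl rfl rfl rfl rfl rfl rfl rfl rfl
  have key : ∀ r : ℕ, r < 16 → r ^ 2 % 16 = 1 → r % 2 = 1 ∧ r % 8 ≠ 3 ∧ r % 8 ≠ 5 := by
    decide
  classical
  obtain ⟨cs, hcs⟩ := Cfsg.Agent.S2530.result 3
  obtain ⟨π, hπ1, hπ2, hπs⟩ : ∃ π : Matrix.SpecialLinearGroup (Fin 2) F →*
      Matrix.ProjectiveSpecialLinearGroup (Fin 2) F,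
      (∀ z, z ∈ Subgroup.center (Matrix.SpecialLinearGroup (Fin 2) F) → π z = 1) ∧
      (∀ z, π z = 1 → z ∈ Subgroup.center (Matrix.SpecialLinearGroup (Fin 2) F)) ∧
      Function.Surjective π :=
    ⟨QuotientGroup.mk' _, fun z hz => (QuotientGroup.eq_one_iff z).mpr hz,
      fun z hz => (QuotientGroup.eq_one_iff z).mp hz, QuotientGroup.mk'_surjective _⟩
  constructor
  · rintro ⟨H, ⟨eH⟩⟩
    obtain ⟨ψ, hψ⟩ : ∃ ψ : Equiv.Perm (Fin 4) →*
        Matrix.ProjectiveSpecialLinearGroup (Fin 2) F, Function.Injective ψ :=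
      ⟨H.subtype.comp eH.symm.toMonoidHom, fun x y h => eH.symm.injective (Subtype.ext h)⟩
    by_cases h2 : (2 : F) = 0
    · exfalso
      obtain ⟨c, hc4, hc2⟩ := Cfsg.Agent.Lib.Helper2.s4_elt4
      have hcen : ∀ z : Matrix.SpecialLinearGroup (Fin 2) F,
          z ∈ Subgroup.center (Matrix.SpecialLinearGroup (Fin 2) F) → z = 1 := by
        intro z hz
        rw [Matrix.SpecialLinearGroup.mem_center_iff] at hz
        obtain ⟨r, hr, hrz⟩ := hz
        rw [Fintype.card_fin] at hr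
        have hsq : (r - 1) ^ 2 = 0 := by linear_combination hr + (1 - r) * h2
        have hr1 : r = 1 := sub_eq_zero.mp ((pow_eq_zero_iff two_ne_zero).mp hsq)
        apply Subtype.ext
        rw [← hrz, hr1, map_one, Matrix.SpecialLinearGroup.coe_one]
      have hπinj : Function.Injective π :=
        (injective_iff_map_eq_one π).mpr (fun z hz => hcen z (hπ2 z hz))
      obtain ⟨gC, hgC⟩ := hπs (ψ c)
      have hC4 : gC * gC * gC * gC = 1 := by
        apply hπinj
        rw [map_mul, map_mul, map_mul, hgC, ← map_mul, ← map_mul, ← map_mul, hc4, map_one,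
          map_one]
      have hdC : (gC : Matrix (Fin 2) (Fin 2) F) 0 0 * (gC : Matrix (Fin 2) (Fin 2) F) 1 1 -
          (gC : Matrix (Fin 2) (Fin 2) F) 0 1 * (gC : Matrix (Fin 2) (Fin 2) F) 1 0 = 1 := by
        rw [← Matrix.det_fin_two]
        exact gC.2
      have hMC4 : (gC : Matrix (Fin 2) (Fin 2) F) * (gC : Matrix (Fin 2) (Fin 2) F) *
          (gC : Matrix (Fin 2) (Fin 2) F) * (gC : Matrix (Fin 2) (Fin 2) F) = 1 := by
        rw [← Matrix.SpecialLinearGroup.coe_mul, ← Matrix.SpecialLinearGroup.coe_mul,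
          ← Matrix.SpecialLinearGroup.coe_mul, hC4, Matrix.SpecialLinearGroup.coe_one]
      have hMC2 := Cfsg.Agent.Lib.Helper2.char2_no_order4 h2 _ hdC hMC4
      have hC2 : gC * gC = 1 := by
        apply Subtype.ext
        rw [Matrix.SpecialLinearGroup.coe_mul, Matrix.SpecialLinearGroup.coe_one]
        exact hMC2
      apply hc2
      apply hψ
      rw [map_mul, ← hgC, ← map_mul, hC2, map_one, map_one]
    · have hcard : Nat.card (Equiv.Perm (Fin 4)) = 24 := by
        rw [Nat.card_eq_fintype_card, Fintype.card_perm, Fintype.card_fin]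
        rfl
      have hH : Nat.card H = 24 := by rw [Nat.card_congr eH.toEquiv, hcard]
      have h24 : 24 ∣ Nat.card (Matrix.ProjectiveSpecialLinearGroup (Fin 2) F) := by
        have h1 : Nat.card H ∣ Nat.card (Matrix.ProjectiveSpecialLinearGroup (Fin 2) F) :=
          Subgroup.card_subgroup_dvd_card H
        rw [hH] at h1
        exact h1
      obtain ⟨z, hz⟩ : ∃ z : Matrix.SpecialLinearGroup (Fin 2) F,
          (z : Matrix (Fin 2) (Fin 2) F) = -1 :=
        ⟨⟨-1, by rw [Matrix.det_neg, Matrix.det_one, Fintype.card_fin]; norm_num⟩, rfl⟩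
      have hzc : z ∈ Subgroup.center (Matrix.SpecialLinearGroup (Fin 2) F) := by
        rw [Matrix.SpecialLinearGroup.mem_center_iff]
        exact ⟨-1, by rw [Fintype.card_fin]; exact neg_one_sq, by rw [map_neg, map_one, hz]⟩
      have hz1 : z ≠ 1 := by
        intro h
        have h00 : (z : Matrix (Fin 2) (Fin 2) F) 0 0 = (1 : Matrix (Fin 2) (Fin 2) F) 0 0 := by
          rw [h]
          rfl
        rw [hz, Matrix.neg_apply, Matrix.one_apply_eq] at h00
        apply h2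
        linear_combination -h00
      have hz2 : z ^ 2 = 1 := by
        apply Subtype.ext
        rw [Matrix.SpecialLinearGroup.coe_pow, Matrix.SpecialLinearGroup.coe_one, hz]
        exact neg_one_sq
      have ho : orderOf z = 2 := orderOf_eq_prime hz2 hz1
      have h2c : 2 ∣ Nat.card (Subgroup.center (Matrix.SpecialLinearGroup (Fin 2) F)) := by
        have h := (Subgroup.center (Matrix.SpecialLinearGroup (Fin 2) F)).orderOf_dvd_natCard hzc
        rw [ho] at h
        exact h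
      have hcardSL : Nat.card (Matrix.SpecialLinearGroup (Fin 2) F) = q * (q ^ 2 - 1) := by
        rw [Cfsg.Agent.Lib.Helper4.card_sl2, hF]
      have hmul := Subgroup.card_eq_card_quotient_mul_card_subgroup
        (Subgroup.center (Matrix.SpecialLinearGroup (Fin 2) F))
      have hmul' : Nat.card (Matrix.SpecialLinearGroup (Fin 2) F) =
          Nat.card (Matrix.ProjectiveSpecialLinearGroup (Fin 2) F) *
          Nat.card (Subgroup.center (Matrix.SpecialLinearGroup (Fin 2) F)) := hmul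
      have h48 : 24 * 2 ∣ q * (q ^ 2 - 1) := by
        have h := Nat.mul_dvd_mul h24 h2c
        rw [← hmul', hcardSL] at h
        exact h
      have hodd : q % 2 = 1 := by
        have hc : ringChar F ≠ 2 := by
          intro hc
          apply h2
          have h := (CharP.cast_eq_zero_iff F (ringChar F) 2).mpr (dvd_of_eq hc)
          rw [Nat.cast_ofNat] at h
          exact h
        have h := FiniteField.odd_card_of_char_ne_two hc
        rw [hF] at h
        exact h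
      have h16c : Nat.Coprime (2 ^ 4) q :=
        Nat.Coprime.pow_left 4 ((Nat.prime_two.coprime_iff_not_dvd).mpr (by omega))
      have h16 : 2 ^ 4 ∣ q * (q ^ 2 - 1) := Dvd.dvd.trans (by norm_num) h48
      have h16' : 2 ^ 4 ∣ q ^ 2 - 1 := Nat.Coprime.dvd_of_dvd_mul_left h16c h16
      obtain ⟨k, hk⟩ := h16'
      have hk' : q ^ 2 - 1 = 16 * k := by
        rw [hk]
        norm_num
      have hpos : 1 ≤ q ^ 2 := Nat.one_le_pow _ _ (by omega)
      omega
  · intro hq
    obtain ⟨hq2, hq83, hq85⟩ := key (q % 16) (Nat.mod_lt _ (by norm_num))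
      (by rw [← Nat.pow_mod]; exact hq)
    have hq2' : q % 2 = 1 := by omega
    have hq83' : q % 8 ≠ 3 := by omega
    have hq85' : q % 8 ≠ 5 := by omega
    have h2 : (2 : F) ≠ 0 := by
      intro h20
      have ho : addOrderOf (1 : F) = 2 :=
        addOrderOf_eq_prime (by rw [two_nsmul]; linear_combination h20) one_ne_zero
      have hd := addOrderOf_dvd_card (x := (1 : F))
      rw [ho, hF] at hd
      omega
    obtain ⟨w, hw⟩ : ∃ w : F, 2 * w = 1 := ⟨2⁻¹, mul_inv_cancel₀ h2⟩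
    obtain ⟨s, hs'⟩ : IsSquare (2 : F) :=
      FiniteField.isSquare_two_iff.mpr (by rw [hF]; exact ⟨hq83', hq85'⟩)
    have hs : s ^ 2 = 2 := by
      rw [pow_two]
      exact hs'.symm
    have hoddF : Fintype.card F % 2 = 1 := by
      rw [hF]
      exact hq2'
    obtain ⟨a, b, hab0⟩ := FiniteField.exists_root_sum_quadratic
      (f := (Polynomial.X : Polynomial F) ^ 2)
      (g := (Polynomial.X : Polynomial F) ^ 2 - Polynomial.C (-1))
      (Polynomial.degree_X_pow 2) (Polynomial.degree_X_pow_sub_C (by norm_num) (-1)) hoddF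
    simp only [Polynomial.eval_sub, Polynomial.eval_pow, Polynomial.eval_X,
      Polynomial.eval_C] at hab0
    have hab : a ^ 2 + b ^ 2 = -1 := by linear_combination hab0
    obtain ⟨a2, ha2⟩ : ∃ a2 : F, a2 = (-a - s * b) * w := ⟨_, rfl⟩
    obtain ⟨b2, hb2⟩ : ∃ b2 : F, b2 = (-b + s * a + 1) * w := ⟨_, rfl⟩
    obtain ⟨c2, hc2⟩ : ∃ c2 : F, c2 = (-b + s * a - 1) * w := ⟨_, rfl⟩
    -- the three matrices
    obtain ⟨X1, hX1⟩ : ∃ X : Matrix (Fin 2) (Fin 2) F, X = !![0, -1; 1, 0] := ⟨_, rfl⟩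
    obtain ⟨X2, hX2⟩ : ∃ X : Matrix (Fin 2) (Fin 2) F, X = !![a2, b2; c2, -a2] := ⟨_, rfl⟩
    obtain ⟨X3, hX3⟩ : ∃ X : Matrix (Fin 2) (Fin 2) F, X = !![a, b; b, -a] := ⟨_, rfl⟩
    have e100 : X1 0 0 = 0 := by rw [hX1]; rfl
    have e101 : X1 0 1 = -1 := by rw [hX1]; rfl
    have e110 : X1 1 0 = 1 := by rw [hX1]; rfl
    have e111 : X1 1 1 = 0 := by rw [hX1]; rfl
    have e200 : X2 0 0 = a2 := by rw [hX2]; rfl
    have e201 : X2 0 1 = b2 := by rw [hX2]; rfl
    have e210 : X2 1 0 = c2 := by rw [hX2]; rfl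
    have e211 : X2 1 1 = -a2 := by rw [hX2]; rfl
    have e300 : X3 0 0 = a := by rw [hX3]; rfl
    have e301 : X3 0 1 = b := by rw [hX3]; rfl
    have e310 : X3 1 0 = b := by rw [hX3]; rfl
    have e311 : X3 1 1 = -a := by rw [hX3]; rfl
    have d1 : X1 0 0 * X1 1 1 - X1 0 1 * X1 1 0 = 1 := by
      rw [e100, e101, e110, e111]
      ring
    have d2 : X2 0 0 * X2 1 1 - X2 0 1 * X2 1 0 = 1 := by
      rw [e200, e201, e210, e211, ha2, hb2, hc2]
      linear_combination -3 * w ^ 2 * hab - w ^ 2 * (a ^ 2 + b ^ 2) * hs + (2 * w + 1) * hw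
    have d3 : X3 0 0 * X3 1 1 - X3 0 1 * X3 1 0 = 1 := by
      rw [e300, e301, e310, e311]
      linear_combination -hab
    have t1 : X1 0 0 + X1 1 1 = 0 := by
      rw [e100, e111]
      ring
    have t2 : X2 0 0 + X2 1 1 = 0 := by
      rw [e200, e211]
      ring
    have t3 : X3 0 0 + X3 1 1 = 0 := by
      rw [e300, e311]
      ring
    have t12 : (X1 * X2) 0 0 + (X1 * X2) 1 1 = 1 := by
      simp only [Matrix.mul_apply, Fin.sum_univ_two, e100, e101, e110, e111, e200, e201, e210,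
        e211]
      rw [hb2, hc2]
      linear_combination hw
    have t23 : (X2 * X3) 0 0 + (X2 * X3) 1 1 = 1 := by
      simp only [Matrix.mul_apply, Fin.sum_univ_two, e200, e201, e210, e211, e300, e301, e310,
        e311]
      rw [ha2, hb2, hc2]
      linear_combination -2 * w * hab + hw
    have t13 : (X1 * X3) 0 0 + (X1 * X3) 1 1 = 0 := by
      simp only [Matrix.mul_apply, Fin.sum_univ_two, e100, e101, e110, e111, e300, e301, e310,
        e311]
      ring
    have hns : (X1 * X3) 0 1 ≠ 0 ∨ (X1 * X3) 0 0 ≠ (X1 * X3) 1 1 := by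
      simp only [Matrix.mul_apply, Fin.sum_univ_two, e100, e101, e110, e111, e300, e301, e310,
        e311]
      by_cases ha0 : a = 0
      · right
        intro hb
        have hb0 : b = 0 := by
          have h2b : 2 * b = 0 := by linear_combination -hb
          exact (mul_eq_zero.mp h2b).resolve_left h2
        have h10 : (1 : F) = 0 := by linear_combination hab - a * ha0 - b * hb0
        exact one_ne_zero h10
      · left
        intro ha'
        apply ha0
        linear_combination ha'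
    obtain ⟨g1, hg1⟩ : ∃ g : Matrix.SpecialLinearGroup (Fin 2) F,
        (g : Matrix (Fin 2) (Fin 2) F) = X1 :=
      ⟨⟨X1, by rw [Matrix.det_fin_two]; exact d1⟩, rfl⟩
    obtain ⟨g2, hg2⟩ : ∃ g : Matrix.SpecialLinearGroup (Fin 2) F,
        (g : Matrix (Fin 2) (Fin 2) F) = X2 :=
      ⟨⟨X2, by rw [Matrix.det_fin_two]; exact d2⟩, rfl⟩
    obtain ⟨g3, hg3⟩ : ∃ g : Matrix.SpecialLinearGroup (Fin 2) F,
        (g : Matrix (Fin 2) (Fin 2) F) = X3 :=
      ⟨⟨X3, by rw [Matrix.det_fin_two]; exact d3⟩, rfl⟩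
    have hneg : ∀ z : Matrix.SpecialLinearGroup (Fin 2) F,
        (z : Matrix (Fin 2) (Fin 2) F) = -1 → π z = 1 := by
      intro z hz
      apply hπ1
      rw [Matrix.SpecialLinearGroup.mem_center_iff]
      exact ⟨-1, by rw [Fintype.card_fin]; exact neg_one_sq, by rw [map_neg, map_one, hz]⟩
    have hord1 : ∀ (P : Matrix (Fin 2) (Fin 2) F) (g : Matrix.SpecialLinearGroup (Fin 2) F),
        (g : Matrix (Fin 2) (Fin 2) F) = P → P 0 0 * P 1 1 - P 0 1 * P 1 0 = 1 →
        P 0 0 + P 1 1 = 0 → (π g * π g) ^ 1 = 1 := by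
      intro P g hg hd ht
      rw [pow_one, ← map_mul]
      apply hneg
      rw [Matrix.SpecialLinearGroup.coe_mul, hg]
      exact Cfsg.Agent.Lib.Helper2.sl2_sq_neg_of_trace P hd ht
    have hord2 : ∀ (P Q : Matrix (Fin 2) (Fin 2) F)
        (g k : Matrix.SpecialLinearGroup (Fin 2) F),
        (g : Matrix (Fin 2) (Fin 2) F) = P → (k : Matrix (Fin 2) (Fin 2) F) = Q →
        P 0 0 * P 1 1 - P 0 1 * P 1 0 = 1 → Q 0 0 * Q 1 1 - Q 0 1 * Q 1 0 = 1 →
        (P * Q) 0 0 + (P * Q) 1 1 = 0 → (π g * π k) ^ 2 = 1 := by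
      intro P Q g k hg hk hdP hdQ ht
      rw [← map_mul, ← map_pow]
      apply hneg
      rw [Matrix.SpecialLinearGroup.coe_pow, Matrix.SpecialLinearGroup.coe_mul, hg, hk, pow_two]
      exact Cfsg.Agent.Lib.Helper2.sl2_sq_neg_of_trace (P * Q)
        (Cfsg.Agent.Lib.Helper2.sl2_det_mul P Q hdP hdQ) ht
    have hord3 : ∀ (P Q : Matrix (Fin 2) (Fin 2) F)
        (g k : Matrix.SpecialLinearGroup (Fin 2) F),
        (g : Matrix (Fin 2) (Fin 2) F) = P → (k : Matrix (Fin 2) (Fin 2) F) = Q →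
        P 0 0 * P 1 1 - P 0 1 * P 1 0 = 1 → Q 0 0 * Q 1 1 - Q 0 1 * Q 1 0 = 1 →
        (P * Q) 0 0 + (P * Q) 1 1 = 1 → (π g * π k) ^ 3 = 1 := by
      intro P Q g k hg hk hdP hdQ ht
      rw [← map_mul, ← map_pow]
      apply hneg
      rw [Matrix.SpecialLinearGroup.coe_pow, Matrix.SpecialLinearGroup.coe_mul, hg, hk,
        pow_succ, pow_succ, pow_one]
      exact Cfsg.Agent.Lib.Helper2.sl2_cube_neg_of_trace (P * Q)
        (Cfsg.Agent.Lib.Helper2.sl2_det_mul P Q hdP hdQ) ht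
    obtain ⟨f, hf0, hf1, hf2⟩ : ∃ f : Fin 3 → Matrix.ProjectiveSpecialLinearGroup (Fin 2) F,
        f 0 = π g1 ∧ f 1 = π g2 ∧ f 2 = π g3 := ⟨![π g1, π g2, π g3], rfl, rfl, rfl⟩
    have r00 : (f 0 * f 0) ^ 1 = 1 := by
      rw [hf0]
      exact hord1 X1 g1 hg1 d1 t1
    have r11 : (f 1 * f 1) ^ 1 = 1 := by
      rw [hf1]
      exact hord1 X2 g2 hg2 d2 t2
    have r22 : (f 2 * f 2) ^ 1 = 1 := by
      rw [hf2]
      exact hord1 X3 g3 hg3 d3 t3
    have r01 : (f 0 * f 1) ^ 3 = 1 := by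
      rw [hf0, hf1]
      exact hord3 X1 X2 g1 g2 hg1 hg2 d1 d2 t12
    have r10 : (f 1 * f 0) ^ 3 = 1 := by
      rw [hf0, hf1]
      exact hord3 X2 X1 g2 g1 hg2 hg1 d2 d1
        ((Cfsg.Agent.Lib.Helper2.sl2_trace_comm X1 X2).trans t12)
    have r12 : (f 1 * f 2) ^ 3 = 1 := by
      rw [hf1, hf2]
      exact hord3 X2 X3 g2 g3 hg2 hg3 d2 d3 t23
    have r21 : (f 2 * f 1) ^ 3 = 1 := by
      rw [hf1, hf2]
      exact hord3 X3 X2 g3 g2 hg3 hg2 d3 d2
        ((Cfsg.Agent.Lib.Helper2.sl2_trace_comm X2 X3).trans t23)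
    have r02 : (f 0 * f 2) ^ 2 = 1 := by
      rw [hf0, hf2]
      exact hord2 X1 X3 g1 g3 hg1 hg3 d1 d3 t13
    have r20 : (f 2 * f 0) ^ 2 = 1 := by
      rw [hf0, hf2]
      exact hord2 X3 X1 g3 g1 hg3 hg1 d3 d1
        ((Cfsg.Agent.Lib.Helper2.sl2_trace_comm X1 X3).trans t13)
    have hlift : (CoxeterMatrix.A 3).IsLiftable f := by
      intro i j
      rw [hM i j]
      revert i j
      exact Cfsg.Agent.Lib.Helper2.fin3_forall2
        (fun i j => (f i * f j) ^
          ((![![1, 3, 2], ![3, 1, 3], ![2, 3, 1]] : Fin 3 → Fin 3 → ℕ) i j) = 1)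
        r00 r01 r02 r10 r11 r12 r20 r21 r22
    obtain ⟨φ, hφ⟩ : ∃ φ : Equiv.Perm (Fin (3 + 1)) →*
        Matrix.ProjectiveSpecialLinearGroup (Fin 2) F, ∀ i, φ (cs.simple i) = f i :=
      ⟨cs.lift ⟨f, hlift⟩, fun i => cs.lift_apply_simple hlift i⟩
    have hne1 : f 0 * f 2 ≠ 1 := by
      intro h1
      rw [hf0, hf2, ← map_mul] at h1
      have hc' := hπ2 _ h1
      rw [Matrix.SpecialLinearGroup.mem_center_iff] at hc'
      obtain ⟨r, _, hr⟩ := hc'
      have h01 := congrFun (congrFun hr 0) 1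
      have h00 := congrFun (congrFun hr 0) 0
      have h11 := congrFun (congrFun hr 1) 1
      rw [Matrix.scalar_apply, Matrix.diagonal_apply_ne _ (by decide),
        Matrix.SpecialLinearGroup.coe_mul, hg1, hg3] at h01
      rw [Matrix.scalar_apply, Matrix.diagonal_apply_eq,
        Matrix.SpecialLinearGroup.coe_mul, hg1, hg3] at h00 h11
      rcases hns with hns | hns
      · exact hns h01.symm
      · exact hns (h00.symm.trans h11)
    have hgen : ∀ k : Equiv.Perm (Fin (3 + 1)), k ≠ 1 →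
        ∃ h1 h2 : Equiv.Perm (Fin (3 + 1)),
          cs.simple 0 * cs.simple 2 = (h1 * k * h1⁻¹) * (h2 * k * h2⁻¹)⁻¹ := by
      rw [hcs, hcs]
      exact Cfsg.Agent.Lib.Helper2.s4_normal_gen
    have hφinj : Function.Injective φ := by
      rw [← MonoidHom.ker_eq_bot_iff, eq_bot_iff]
      intro k hk
      rw [Subgroup.mem_bot]
      by_contra hk1
      obtain ⟨h1, h2', ht⟩ := hgen k hk1
      have hφk : φ k = 1 := MonoidHom.mem_ker.mp hk
      have hh' := congrArg φ ht
      simp only [map_mul, map_inv, hφ, hφk, mul_one, mul_inv_cancel, inv_one] at hh'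
      exact hne1 hh'
    exact ⟨φ.range, ⟨(MonoidHom.ofInjective hφinj).symm⟩⟩

end Cfsg.Agent.S0803
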