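import Mathlib
import Cfsg.Statements.S0823
import Cfsg.Agent.S2530
import Cfsg.Agent.Lib.Helper2.S4PSL2
import Cfsg.Agent.Lib.Helper2.SO33

set_option autoImplicit false
open Cfsg

namespace Cfsg.Agent.S0823

/-- SO_3(3) ≅ S_4: the determinant-one isometries of the form x_0² + x_1y_1 over the field with 3 elements form a group isomorphic to the symmetric group on 4 letters. -/
theorem result {F : Type*} [Field F] [Fintype F] (hF : Fintype.card F = 3) : Nonempty (↥(Cfsg.specialIsometryGroup F (Cfsg.quadFormOdd 1 F)) ≃* Equiv.Perm (Fin 4)) := by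
  obtain ⟨hfin, hcard⟩ := Cfsg.Agent.Lib.Helper2.so33_card_le hF
  obtain ⟨cs, hcs⟩ := Cfsg.Agent.S2530.result 3
  obtain ⟨φ', _⟩ : ∃ φ' : ZMod 3 ≃+* F, True :=
    ⟨ZMod.ringEquivOfPrime F Nat.prime_three hF, trivial⟩
  obtain ⟨f, g, hfg⟩ : ∃ (f : ZMod 3 →+* F) (g : F → ZMod 3), ∀ x, f (g x) = x :=
    ⟨φ'.toRingHom, fun x => φ'.symm x, fun x => φ'.apply_symm_apply x⟩
  have hfinj : Function.Injective f := f.injective
  have hrel : ∀ i j : Fin 3, (f.mapMatrix (Cfsg.Agent.Lib.Helper2.so33T i) *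
      f.mapMatrix (Cfsg.Agent.Lib.Helper2.so33T j)) ^ ((CoxeterMatrix.A 3) i j) = 1 := by
    intro i j
    rw [← map_mul, ← map_pow, Cfsg.Agent.Lib.Helper2.so33T_rel i j, map_one]
  have hsq : ∀ i : Fin 3, f.mapMatrix (Cfsg.Agent.Lib.Helper2.so33T i) *
      f.mapMatrix (Cfsg.Agent.Lib.Helper2.so33T i) = 1 := by
    intro i
    rw [← map_mul, Cfsg.Agent.Lib.Helper2.so33T_sq, map_one]
  obtain ⟨gl, hgl⟩ : ∃ gl : Fin 3 → Matrix.GeneralLinearGroup (Unit ⊕ (Fin 1 ⊕ Fin 1)) F,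
      ∀ k, (gl k).1 = f.mapMatrix (Cfsg.Agent.Lib.Helper2.so33T k) :=
    ⟨fun k => ⟨f.mapMatrix (Cfsg.Agent.Lib.Helper2.so33T k),
      f.mapMatrix (Cfsg.Agent.Lib.Helper2.so33T k), hsq k, hsq k⟩, fun k => rfl⟩
  have hiso : ∀ k, gl k ∈ Cfsg.isometryGroup F (Cfsg.quadFormOdd 1 F) := by
    intro k u v
    show Cfsg.quadFormOdd 1 F (Matrix.mulVec (gl k).1 u) = Cfsg.quadFormOdd 1 F u
    rw [hgl]
    exact Cfsg.Agent.Lib.Helper2.so33_isom_map f g hfg k u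
  have hspec : ∀ k, (⟨gl k, hiso k⟩ : ↥(Cfsg.isometryGroup F (Cfsg.quadFormOdd 1 F))) ∈
      Cfsg.specialIsometryGroup F (Cfsg.quadFormOdd 1 F) := by
    intro k
    refine MonoidHom.mem_ker.mpr ?_
    apply Units.ext
    show Matrix.det (gl k).1 = 1
    rw [hgl, ← RingHom.map_det, Cfsg.Agent.Lib.Helper2.so33T_det, map_one]
  obtain ⟨mat, hmat, hmatinj⟩ :
      ∃ mat : ↥(Cfsg.specialIsometryGroup F (Cfsg.quadFormOdd 1 F)) →*
        Matrix (Unit ⊕ (Fin 1 ⊕ Fin 1)) (Unit ⊕ (Fin 1 ⊕ Fin 1)) F,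
      (∀ A, mat A = A.1.1.1) ∧ Function.Injective mat :=
    ⟨(Units.coeHom (Matrix (Unit ⊕ (Fin 1 ⊕ Fin 1)) (Unit ⊕ (Fin 1 ⊕ Fin 1)) F)).comp
        ((Cfsg.isometryGroup F (Cfsg.quadFormOdd 1 F)).subtype.comp
          (Cfsg.specialIsometryGroup F (Cfsg.quadFormOdd 1 F)).subtype),
      fun A => rfl,
      fun A A' h => Subtype.ext (Subtype.ext (Units.ext h))⟩
  obtain ⟨s, hs⟩ : ∃ s : Fin 3 → ↥(Cfsg.specialIsometryGroup F (Cfsg.quadFormOdd 1 F)),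
      ∀ k, mat (s k) = f.mapMatrix (Cfsg.Agent.Lib.Helper2.so33T k) :=
    ⟨fun k => ⟨⟨gl k, hiso k⟩, hspec k⟩, fun k => (hmat _).trans (hgl k)⟩
  have hlift : (CoxeterMatrix.A 3).IsLiftable s := by
    intro i j
    apply hmatinj
    rw [map_pow, map_mul, hs, hs, map_one]
    exact hrel i j
  obtain ⟨φ, hφ⟩ : ∃ φ : Equiv.Perm (Fin (3 + 1)) →*
      ↥(Cfsg.specialIsometryGroup F (Cfsg.quadFormOdd 1 F)), ∀ i, φ (cs.simple i) = s i :=
    ⟨cs.lift ⟨s, hlift⟩, fun i => cs.lift_apply_simple hlift i⟩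
  have hne1 : s 0 * s 2 ≠ 1 := by
    intro h1
    have h := congrArg mat h1
    rw [map_mul, hs, hs, map_one, ← map_mul] at h
    have h00 : f ((Cfsg.Agent.Lib.Helper2.so33T 0 * Cfsg.Agent.Lib.Helper2.so33T 2)
        (Sum.inl ()) (Sum.inl ())) = 1 := by
      have h' := congrFun (congrFun h (Sum.inl ())) (Sum.inl ())
      rw [Matrix.one_apply_eq] at h'
      exact h'
    rw [Cfsg.Agent.Lib.Helper2.so33T_02] at h00
    have h21 : (2 : ZMod 3) = 1 := hfinj (by rw [h00, map_one])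
    exact absurd h21 (by decide)
  have hgen : ∀ k : Equiv.Perm (Fin (3 + 1)), k ≠ 1 →
      ∃ h1 h2 : Equiv.Perm (Fin (3 + 1)),
        cs.simple 0 * cs.simple 2 = (h1 * k * h1⁻¹) * (h2 * k * h2⁻¹)⁻¹ := by
    rw [hcs, hcs]
    exact Cfsg.Agent.Lib.Helper2.s4_normal_gen
  have hφinj : Function.Injective φ := by
    rw [← MonoidHom.ker_eq_bot_iff, eq_bot_iff]
    intro k hk
    rw [Subgroup.mem_bot]
    by_contra hk1
    obtain ⟨h1, h2', ht⟩ := hgen k hk1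
    have hφk : φ k = 1 := MonoidHom.mem_ker.mp hk
    have hh' := congrArg φ ht
    simp only [map_mul, map_inv, hφ, hφk, mul_one, mul_inv_cancel, inv_one] at hh'
    exact hne1 hh'
  have hcard4 : Nat.card (Equiv.Perm (Fin (3 + 1))) = 24 := by
    rw [Nat.card_eq_fintype_card, Fintype.card_perm, Fintype.card_fin]
    rfl
  have hbij : Function.Bijective φ :=
    hφinj.bijective_of_nat_card_le (by rw [hcard4]; exact hcard)
  exact ⟨(MulEquiv.ofBijective φ hbij).symm⟩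

end Cfsg.Agent.S0823
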