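import Mathlib
import Cfsg.Statements.S0825
import Cfsg.Agent.S2530
import Cfsg.Agent.Lib.Helper2.O6Lemmas

set_option autoImplicit false
open Cfsg

namespace Cfsg.Agent.S0825

/-- O⁺_6(2) ≅ S_8: the isometry group of the hyperbolic form x_1y_1 + x_2y_2 + x_3y_3 over the field with 2 elements is isomorphic to the symmetric group on 8 letters. -/
theorem result {F : Type*} [Field F] [Fintype F] (hF : Fintype.card F = 2) : Nonempty (↥(Cfsg.isometryGroup F (Cfsg.quadFormPlus 3 F)) ≃* Equiv.Perm (Fin 8)) := by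
  obtain ⟨hfin, hcard⟩ := Cfsg.Agent.Lib.Helper2.o6_card_le hF
  obtain ⟨cs, hcs⟩ := Cfsg.Agent.S2530.result 7
  obtain ⟨φ', _⟩ : ∃ φ' : ZMod 2 ≃+* F, True :=
    ⟨ZMod.ringEquivOfPrime F Nat.prime_two hF, trivial⟩
  obtain ⟨f, g, hfg⟩ : ∃ (f : ZMod 2 →+* F) (g : F → ZMod 2), ∀ x, f (g x) = x :=
    ⟨φ'.toRingHom, fun x => φ'.symm x, fun x => φ'.apply_symm_apply x⟩
  have hfinj : Function.Injective f := f.injective
  have hmapinj : ∀ A B : Matrix (Fin 3 ⊕ Fin 3) (Fin 3 ⊕ Fin 3) (ZMod 2),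
      f.mapMatrix A = f.mapMatrix B → A = B := fun A B h => Matrix.map_injective hfinj h
  have hrel : ∀ i j : Fin 7, (f.mapMatrix (Cfsg.Agent.Lib.Helper2.o6M i.val) *
      f.mapMatrix (Cfsg.Agent.Lib.Helper2.o6M j.val)) ^ ((CoxeterMatrix.A 7) i j) = 1 := by
    intro i j
    rw [← map_mul, ← map_pow, Cfsg.Agent.Lib.Helper2.o6_rel i j, map_one]
  have hsq : ∀ i : Fin 7, f.mapMatrix (Cfsg.Agent.Lib.Helper2.o6M i.val) *
      f.mapMatrix (Cfsg.Agent.Lib.Helper2.o6M i.val) = 1 := by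
    intro i
    rw [← map_mul, Cfsg.Agent.Lib.Helper2.o6M_sq, map_one]
  obtain ⟨gl, hgl⟩ : ∃ gl : Fin 7 → Matrix.GeneralLinearGroup (Fin 3 ⊕ Fin 3) F,
      ∀ k, (gl k).1 = f.mapMatrix (Cfsg.Agent.Lib.Helper2.o6M k.val) :=
    ⟨fun k => ⟨f.mapMatrix (Cfsg.Agent.Lib.Helper2.o6M k.val),
      f.mapMatrix (Cfsg.Agent.Lib.Helper2.o6M k.val), hsq k, hsq k⟩, fun k => rfl⟩
  have hiso : ∀ k, gl k ∈ Cfsg.isometryGroup F (Cfsg.quadFormPlus 3 F) := by
    intro k u v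
    show Cfsg.quadFormPlus 3 F (Matrix.mulVec (gl k).1 u) = Cfsg.quadFormPlus 3 F u
    rw [hgl]
    exact Cfsg.Agent.Lib.Helper2.o6_isom_map f g hfg k u
  obtain ⟨mat, hmat, hmatinj⟩ :
      ∃ mat : ↥(Cfsg.isometryGroup F (Cfsg.quadFormPlus 3 F)) →*
        Matrix (Fin 3 ⊕ Fin 3) (Fin 3 ⊕ Fin 3) F,
      (∀ A, mat A = A.1.1) ∧ Function.Injective mat :=
    ⟨(Units.coeHom (Matrix (Fin 3 ⊕ Fin 3) (Fin 3 ⊕ Fin 3) F)).comp
        (Cfsg.isometryGroup F (Cfsg.quadFormPlus 3 F)).subtype,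
      fun A => rfl, fun A A' h => Subtype.ext (Units.ext h)⟩
  obtain ⟨s, hs⟩ : ∃ s : Fin 7 → ↥(Cfsg.isometryGroup F (Cfsg.quadFormPlus 3 F)),
      ∀ k, mat (s k) = f.mapMatrix (Cfsg.Agent.Lib.Helper2.o6M k.val) :=
    ⟨fun k => ⟨gl k, hiso k⟩, fun k => (hmat _).trans (hgl k)⟩
  have hlift : (CoxeterMatrix.A 7).IsLiftable s := by
    intro i j
    apply hmatinj
    rw [map_pow, map_mul, hs, hs, map_one]
    exact hrel i j
  obtain ⟨φ, hφ⟩ : ∃ φ : Equiv.Perm (Fin (7 + 1)) →*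
      ↥(Cfsg.isometryGroup F (Cfsg.quadFormPlus 3 F)), ∀ i, φ (cs.simple i) = s i :=
    ⟨cs.lift ⟨s, hlift⟩, fun i => cs.lift_apply_simple hlift i⟩
  have hne : s 0 * s 1 ≠ 1 := by
    intro h1
    have h := congrArg mat h1
    rw [map_mul, hs, hs, map_one, ← map_mul] at h
    have h' : Cfsg.Agent.Lib.Helper2.o6M 0 * Cfsg.Agent.Lib.Helper2.o6M 1 = 1 :=
      hmapinj (Cfsg.Agent.Lib.Helper2.o6M 0 * Cfsg.Agent.Lib.Helper2.o6M 1) 1
        (h.trans (map_one f.mapMatrix).symm)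
    exact Cfsg.Agent.Lib.Helper2.o6M_ne h'
  have hφinj : Function.Injective φ := by
    rw [← MonoidHom.ker_eq_bot_iff]
    by_contra hker
    have hnt : Nontrivial ↥φ.ker := (Subgroup.nontrivial_iff_ne_bot _).mpr hker
    have hcard6 : 5 ≤ Nat.card (Fin (7 + 1)) := by
      rw [Nat.card_eq_fintype_card, Fintype.card_fin]
      omega
    have hle := Equiv.Perm.alternatingGroup_le_of_normal hcard6 hnt
    have hs0 : Equiv.Perm.sign (cs.simple 0) = -1 := by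
      rw [hcs]
      exact Equiv.Perm.sign_swap (by decide)
    have hs1 : Equiv.Perm.sign (cs.simple 1) = -1 := by
      rw [hcs]
      exact Equiv.Perm.sign_swap (by decide)
    have hmem : cs.simple 0 * cs.simple 1 ∈ alternatingGroup (Fin (7 + 1)) := by
      rw [Equiv.Perm.mem_alternatingGroup, map_mul, hs0, hs1]
      decide
    have hk := hle hmem
    rw [MonoidHom.mem_ker, map_mul, hφ, hφ] at hk
    exact hne hk
  have hcard8 : Nat.card (Equiv.Perm (Fin (7 + 1))) = 40320 := by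
    rw [Nat.card_eq_fintype_card, Fintype.card_perm, Fintype.card_fin]
    rfl
  have hbij : Function.Bijective φ :=
    hφinj.bijective_of_nat_card_le (by rw [hcard8]; exact hcard)
  exact ⟨(MulEquiv.ofBijective φ hbij).symm⟩

end Cfsg.Agent.S0825
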