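import Mathlib
import Cfsg.Statements.S0994
import Cfsg.Agent.Lib.Helper2.SimpleOrder

set_option autoImplicit false
open Cfsg

namespace Cfsg.Agent.S0994

/-- No finite simple group has order 1188 = 2^2 * 3^3 * 11. -/
theorem result {G : Type*} [Group G] [Finite G] [IsSimpleGroup G] : Nat.card G ≠ 1188 := by
  intro hcard
  haveI : Fact (Nat.Prime 11) := ⟨by norm_num⟩
  obtain ⟨P⟩ : Nonempty (Sylow 11 G) := inferInstance
  obtain ⟨hmod, hdvd, hNmul⟩ := Cfsg.Agent.Lib.Helper2.sylow_count 11 P
  have hPcard : Nat.card (P : Subgroup G) = 11 := by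
    obtain ⟨k, hk⟩ := P.2.exists_card_eq
    have h1 := (P : Subgroup G).card_mul_index
    have h2 : ¬ 11 ∣ (P : Subgroup G).index := P.not_dvd_index
    rw [hk, hcard] at h1
    have hk2 : k ≤ 2 := by
      by_contra h
      have h4 : 11 ^ 3 ∣ 11 ^ k := pow_dvd_pow 11 (by omega)
      have h3 : 11 ^ 3 ∣ 1188 := Dvd.dvd.trans h4 (Dvd.intro _ h1)
      norm_num at h3
    interval_cases k
    · exfalso; apply h2
      have : (P : Subgroup G).index = 1188 := by omega
      rw [this]; norm_num
    · rw [hk]; norm_num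
    · exfalso; omega
  have hidx : (P : Subgroup G).index = 108 := by
    have h1 := (P : Subgroup G).card_mul_index
    rw [hPcard, hcard] at h1; omega
  rw [hidx] at hdvd
  have hn1 : Nat.card (Sylow 11 G) ≠ 1 :=
    Cfsg.Agent.Lib.Helper2.sylow_not_normal_of_simple 11 P (by rw [hPcard]; norm_num)
      (by rw [hPcard, hcard]; norm_num)
  have hn_cases : Nat.card (Sylow 11 G) = 12 := by
    have h1 : Nat.card (Sylow 11 G) ∈ Nat.divisors 108 := Nat.mem_divisors.mpr ⟨hdvd, by norm_num⟩
    have h2 : Nat.divisors 108 = {1, 2, 3, 4, 6, 9, 12, 18, 27, 36, 54, 108} := by decide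
    rw [h2] at h1
    simp only [Finset.mem_insert, Finset.mem_singleton] at h1
    omega
  rw [hn_cases, hcard] at hNmul
  have h2 : Nat.card (Subgroup.normalizer ((P : Subgroup G) : Set G)) = 99 := by omega
  exact Cfsg.Agent.Lib.Helper2.sylow_prime_burnside 11 P hPcard (by rw [hcard]; norm_num)
    (by rw [h2]; decide)

end Cfsg.Agent.S0994
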