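import Mathlib
import Cfsg.Statements.S1058
import Cfsg.Agent.S2530
import Cfsg.Agent.Lib.Helper2.Chev
import Cfsg.Agent.Lib.Helper2.B2Map
import Cfsg.Agent.Lib.Helper2.B2Data

set_option autoImplicit false
open Cfsg

namespace Cfsg.Agent.S1058

/-- B₂(2) ≅ S₆. -/
theorem result {F : Type*} [Field F] [Fintype F] (hF : Fintype.card F = 2) :
    Nonempty (↥(Cfsg.Lie.chevB2.group F) ≃* Equiv.Perm (Fin 6)) := by
  obtain ⟨cs, hcs⟩ := Cfsg.Agent.S2530.result 5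
  obtain ⟨φ', _⟩ : ∃ φ' : ZMod 2 ≃+* F, True :=
    ⟨ZMod.ringEquivOfPrime F Nat.prime_two hF, trivial⟩
  obtain ⟨e, g, hfg⟩ : ∃ (e : ZMod 2 →+* F) (g : F → ZMod 2), ∀ x, e (g x) = x :=
    ⟨φ'.toRingHom, fun x => φ'.symm x, fun x => φ'.apply_symm_apply x⟩
  have hinj : Function.Injective e := e.injective
  have hmapinj : ∀ A B : Matrix (Cfsg.Lie.chevB2.Idx) (Cfsg.Lie.chevB2.Idx) (ZMod 2),
      e.mapMatrix A = e.mapMatrix B → A = B := fun A B h => Matrix.map_injective hinj h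
  have hgen_mem : ∀ (u : Matrix.GeneralLinearGroup (Cfsg.Lie.chevB2.Idx) F)
      (r : Fin Cfsg.Lie.chevB2.nroots) (t : F),
      u.1 = Cfsg.Lie.chevB2.xMat F r t → u ∈ Cfsg.Lie.chevB2.group F := by
    intro u r t h
    unfold Cfsg.Lie.ChevalleyDatum.group
    apply Subgroup.subset_closure
    exact ⟨r, t, h⟩
  have hgroup_le : ∀ K : Subgroup (Matrix.GeneralLinearGroup (Cfsg.Lie.chevB2.Idx) F),
      (∀ (u : Matrix.GeneralLinearGroup (Cfsg.Lie.chevB2.Idx) F)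
        (r : Fin Cfsg.Lie.chevB2.nroots) (t : F),
        u.1 = Cfsg.Lie.chevB2.xMat F r t → u ∈ K) →
      Cfsg.Lie.chevB2.group F ≤ K := by
    intro K hK
    unfold Cfsg.Lie.ChevalleyDatum.group
    rw [Subgroup.closure_le]
    rintro g' ⟨r, t, hg'⟩
    exact hK g' r t hg'
  have hxmat : ∀ r : Fin Cfsg.Lie.chevB2.nroots,
      e.mapMatrix (Cfsg.Agent.Lib.Helper2.b2T1 r.val) = Cfsg.Lie.chevB2.xMat F r 1 := by
    intro r
    rw [← Cfsg.Agent.Lib.Helper2.b2_base1 r]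
    have h := Cfsg.Agent.Lib.Helper2.xMat_map_hom Cfsg.Lie.chevB2 e r 1
    rw [map_one] at h
    exact h
  have hxsq : ∀ r : Fin Cfsg.Lie.chevB2.nroots,
      e.mapMatrix (Cfsg.Agent.Lib.Helper2.b2T1 r.val) *
        e.mapMatrix (Cfsg.Agent.Lib.Helper2.b2T1 r.val) = 1 := by
    intro r
    rw [← map_mul, Cfsg.Agent.Lib.Helper2.b2_xsq, map_one]
  have hsq : ∀ i : Fin 5, e.mapMatrix (Cfsg.Agent.Lib.Helper2.b2T2 i.val) *
      e.mapMatrix (Cfsg.Agent.Lib.Helper2.b2T2 i.val) = 1 := by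
    intro i
    rw [← map_mul, Cfsg.Agent.Lib.Helper2.b2M_sq, map_one]
  have hrel : ∀ i j : Fin 5, (e.mapMatrix (Cfsg.Agent.Lib.Helper2.b2T2 i.val) *
      e.mapMatrix (Cfsg.Agent.Lib.Helper2.b2T2 j.val)) ^ ((CoxeterMatrix.A 5) i j) = 1 := by
    intro i j
    rw [← map_mul, ← map_pow, Cfsg.Agent.Lib.Helper2.b2_rel i j, map_one]
  obtain ⟨gl, hgl⟩ : ∃ gl : Fin 5 → Matrix.GeneralLinearGroup (Cfsg.Lie.chevB2.Idx) F,
      ∀ k, (gl k).1 = e.mapMatrix (Cfsg.Agent.Lib.Helper2.b2T2 k.val) :=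
    ⟨fun k => ⟨e.mapMatrix (Cfsg.Agent.Lib.Helper2.b2T2 k.val),
      e.mapMatrix (Cfsg.Agent.Lib.Helper2.b2T2 k.val), hsq k, hsq k⟩, fun k => rfl⟩
  have hlift : (CoxeterMatrix.A 5).IsLiftable gl := by
    intro i j
    apply Units.ext
    rw [Units.val_pow_eq_pow_val, Units.val_mul, hgl, hgl, Units.val_one]
    exact hrel i j
  obtain ⟨φ, hφ⟩ : ∃ φ : Equiv.Perm (Fin (5 + 1)) →*
      Matrix.GeneralLinearGroup (Cfsg.Lie.chevB2.Idx) F, ∀ i, φ (cs.simple i) = gl i :=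
    ⟨cs.lift ⟨gl, hlift⟩, fun i => cs.lift_apply_simple hlift i⟩
  have hP1 : ∀ k, k < 16 → ∃ u : Matrix.GeneralLinearGroup (Cfsg.Lie.chevB2.Idx) F,
      u ∈ Cfsg.Lie.chevB2.group F ∧ u.1 = e.mapMatrix (Cfsg.Agent.Lib.Helper2.b2T1 k) := by
    refine Cfsg.Agent.Lib.Helper2.slp_mem
      (fun M => ∃ u : Matrix.GeneralLinearGroup (Cfsg.Lie.chevB2.Idx) F,
        u ∈ Cfsg.Lie.chevB2.group F ∧ u.1 = e.mapMatrix M) ?_
      Cfsg.Agent.Lib.Helper2.b2T1 Cfsg.Agent.Lib.Helper2.b2A1 Cfsg.Agent.Lib.Helper2.b2B1 8 16 ?_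
      Cfsg.Agent.Lib.Helper2.b2_slp1
    · rintro a b ⟨u, hu, hu'⟩ ⟨v, hv, hv'⟩
      exact ⟨u * v, Subgroup.mul_mem _ hu hv, by rw [Units.val_mul, hu', hv', map_mul]⟩
    · intro k hk
      have hr' : e.mapMatrix (Cfsg.Agent.Lib.Helper2.b2T1 k) =
          Cfsg.Lie.chevB2.xMat F ⟨k, hk⟩ 1 := hxmat ⟨k, hk⟩
      have hs' : e.mapMatrix (Cfsg.Agent.Lib.Helper2.b2T1 k) *
          e.mapMatrix (Cfsg.Agent.Lib.Helper2.b2T1 k) = 1 := hxsq ⟨k, hk⟩
      exact ⟨⟨e.mapMatrix (Cfsg.Agent.Lib.Helper2.b2T1 k),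
        e.mapMatrix (Cfsg.Agent.Lib.Helper2.b2T1 k), hs', hs'⟩, hgen_mem _ ⟨k, hk⟩ 1 hr', rfl⟩
  have hgl_mem : ∀ i : Fin 5, gl i ∈ Cfsg.Lie.chevB2.group F := by
    intro i
    obtain ⟨h1, h2⟩ := Cfsg.Agent.Lib.Helper2.b2_out1 i
    obtain ⟨u, hu, hu'⟩ := hP1 _ h1
    have hgu : gl i = u := by
      apply Units.ext
      rw [hgl, hu', h2]
    rw [hgu]
    exact hu
  have hrange_le : φ.range ≤ Cfsg.Lie.chevB2.group F := by
    rintro _ ⟨w, rfl⟩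
    refine cs.simple_induction (p := fun w => φ w ∈ Cfsg.Lie.chevB2.group F) w ?_ ?_ ?_
    · intro i
      show φ (cs.simple i) ∈ Cfsg.Lie.chevB2.group F
      rw [hφ i]
      exact hgl_mem i
    · show φ 1 ∈ Cfsg.Lie.chevB2.group F
      rw [map_one]
      exact Subgroup.one_mem _
    · intro w w' hw hw'
      show φ (w * w') ∈ Cfsg.Lie.chevB2.group F
      rw [map_mul]
      exact Subgroup.mul_mem _ hw hw'
  have hP2 : ∀ k, k < 28 → ∃ u : Matrix.GeneralLinearGroup (Cfsg.Lie.chevB2.Idx) F,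
      u ∈ φ.range ∧ u.1 = e.mapMatrix (Cfsg.Agent.Lib.Helper2.b2T2 k) := by
    refine Cfsg.Agent.Lib.Helper2.slp_mem
      (fun M => ∃ u : Matrix.GeneralLinearGroup (Cfsg.Lie.chevB2.Idx) F,
        u ∈ φ.range ∧ u.1 = e.mapMatrix M) ?_
      Cfsg.Agent.Lib.Helper2.b2T2 Cfsg.Agent.Lib.Helper2.b2A2 Cfsg.Agent.Lib.Helper2.b2B2 5 28 ?_
      Cfsg.Agent.Lib.Helper2.b2_slp2
    · rintro a b ⟨u, hu, hu'⟩ ⟨v, hv, hv'⟩
      exact ⟨u * v, Subgroup.mul_mem _ hu hv, by rw [Units.val_mul, hu', hv', map_mul]⟩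
    · intro k hk
      have hk' : (gl ⟨k, hk⟩).1 = e.mapMatrix (Cfsg.Agent.Lib.Helper2.b2T2 k) := hgl ⟨k, hk⟩
      exact ⟨gl ⟨k, hk⟩, ⟨cs.simple ⟨k, hk⟩, hφ ⟨k, hk⟩⟩, hk'⟩
  have hgroup_range : Cfsg.Lie.chevB2.group F ≤ φ.range := by
    apply hgroup_le
    intro u r t hu
    have ht : e (g t) = t := hfg t
    rcases Cfsg.Agent.Lib.Helper2.b2_zmod2 (g t) with h0 | h1
    · rw [h0, map_zero] at ht
      rw [← ht, Cfsg.Agent.Lib.Helper2.xMat_zero] at hu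
      have hu1 : u = 1 := Units.ext hu
      rw [hu1]
      exact Subgroup.one_mem _
    · rw [h1, map_one] at ht
      rw [← ht, ← hxmat r] at hu
      obtain ⟨h1', h2'⟩ := Cfsg.Agent.Lib.Helper2.b2_out2 r
      obtain ⟨v, hv, hv'⟩ := hP2 _ h1'
      have huv : u = v := by
        apply Units.ext
        rw [hu, hv', h2']
      rw [huv]
      exact hv
  have hrange : φ.range = Cfsg.Lie.chevB2.group F := le_antisymm hrange_le hgroup_range
  have hne : gl 0 * gl 1 ≠ 1 := by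
    intro h1
    have h := congrArg Units.val h1
    rw [Units.val_mul, hgl, hgl, Units.val_one, ← map_mul] at h
    have h' : Cfsg.Agent.Lib.Helper2.b2T2 0 * Cfsg.Agent.Lib.Helper2.b2T2 1 = 1 :=
      hmapinj (Cfsg.Agent.Lib.Helper2.b2T2 0 * Cfsg.Agent.Lib.Helper2.b2T2 1) 1
        (h.trans (map_one e.mapMatrix).symm)
    exact Cfsg.Agent.Lib.Helper2.b2M_ne h'
  have hφinj : Function.Injective φ := by
    rw [← MonoidHom.ker_eq_bot_iff]
    by_contra hker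
    have hnt : Nontrivial ↥φ.ker := (Subgroup.nontrivial_iff_ne_bot _).mpr hker
    have hcard6 : 5 ≤ Nat.card (Fin (5 + 1)) := by
      rw [Nat.card_eq_fintype_card, Fintype.card_fin]
      omega
    have hle := Equiv.Perm.alternatingGroup_le_of_normal hcard6 hnt
    have hs0 : Equiv.Perm.sign (cs.simple 0) = -1 := by
      rw [hcs]
      exact Equiv.Perm.sign_swap (by decide)
    have hs1 : Equiv.Perm.sign (cs.simple 1) = -1 := by
      rw [hcs]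
      exact Equiv.Perm.sign_swap (by decide)
    have hmem : cs.simple 0 * cs.simple 1 ∈ alternatingGroup (Fin (5 + 1)) := by
      rw [Equiv.Perm.mem_alternatingGroup, map_mul, hs0, hs1]
      decide
    have hk := hle hmem
    rw [MonoidHom.mem_ker, map_mul, hφ, hφ] at hk
    exact hne hk
  exact ⟨((MonoidHom.ofInjective hφinj).trans (MulEquiv.subgroupCongr hrange)).symm⟩

end Cfsg.Agent.S1058
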