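import Cfsg.Statements.S1249
import Mathlib
import Cfsg.Agent.Lib.Helper2.Basic

set_option autoImplicit false
open Cfsg

namespace Cfsg.Agent.S1249

open Cfsg.Agent.Lib.Helper2

/-- If a subgroup A is strongly closed in one Sylow p-subgroup containing it, then it is strongly closed in every Sylow p-subgroup containing it. -/
theorem result {G : Type*} [Group G] [Finite G] {p : ℕ} [Fact p.Prime] (P Q : Sylow p G) (A : Subgroup G) (hAQ : A ≤ Q) (hA : Cfsg.IsStronglyClosed A (P : Subgroup G)) : Cfsg.IsStronglyClosed A (Q : Subgroup G) := by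
  obtain ⟨hAP, hcl⟩ := hA
  obtain ⟨h, rfl⟩ := MulAction.exists_smul_eq G P Q
  -- conjugation by h⁻¹ maps A into A
  have h1 : ∀ a ∈ A, h⁻¹ * a * (h⁻¹)⁻¹ ∈ A := by
    intro a ha
    have haQ := hAQ ha
    rw [mem_sylow_smul_iff] at haQ
    have := hcl a ha h⁻¹ (by simpa using haQ)
    exact this
  have h2 : ∀ a ∈ A, h * a * h⁻¹ ∈ A := by
    intro a ha
    have := conj_inv_mem_of_conj_mem A h⁻¹ h1 a ha
    simpa using this
  refine ⟨hAQ, ?_⟩
  intro x hx g hg
  rw [mem_sylow_smul_iff] at hg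
  have e : h⁻¹ * (g * x * g⁻¹) * h = (h⁻¹ * g) * x * (h⁻¹ * g)⁻¹ := by
    simp [mul_assoc]
  rw [e] at hg
  have h3 := hcl x hx (h⁻¹ * g) hg
  have h4 := h2 _ h3
  have e2 : h * (h⁻¹ * g * x * (h⁻¹ * g)⁻¹) * h⁻¹ = g * x * g⁻¹ := by
    simp [mul_assoc]
  rw [e2] at h4
  exact h4

end Cfsg.Agent.S1249
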