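import Cfsg.Statements.S1250
import Mathlib
import Cfsg.Agent.Lib.Helper2.Fusion

set_option autoImplicit false
open Cfsg

namespace Cfsg.Agent.S1250

open Cfsg.Agent.Lib.Helper2
open scoped Pointwise

/-- The image of a strongly closed subgroup A of a Sylow p-subgroup S under a quotient map G → G/N is strongly closed in the image of S. -/
theorem result {G : Type*} [Group G] [Finite G] {p : ℕ} [Fact p.Prime] (S : Sylow p G) (A : Subgroup G) (hA : Cfsg.IsStronglyClosed A (S : Subgroup G)) (N : Subgroup G) [N.Normal] : Cfsg.IsStronglyClosed (A.map (QuotientGroup.mk' N)) ((S : Subgroup G).map (QuotientGroup.mk' N)) := by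
  obtain ⟨hAS, hcl⟩ := hA
  refine ⟨Subgroup.map_mono hAS, ?_⟩
  rintro _ ⟨x, hx, rfl⟩ gbar hg
  obtain ⟨g, rfl⟩ := QuotientGroup.mk'_surjective N gbar
  obtain ⟨s, hs, hsy⟩ := hg
  set y := g * x * g⁻¹ with hy
  have hsy' : (QuotientGroup.mk' N) s = (QuotientGroup.mk' N) y := by
    rw [hsy, hy]; simp
  have hn : s⁻¹ * y ∈ N := by
    have := hsy'
    simp only [QuotientGroup.mk'_apply] at this
    exact QuotientGroup.eq.mp this
  -- y lies in S ⊔ N
  have hyC : y ∈ (S : Subgroup G) ⊔ N := by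
    have e : y = s * (s⁻¹ * y) := by simp
    rw [e]
    exact Subgroup.mul_mem _ (Subgroup.mem_sup_left hs) (Subgroup.mem_sup_right hn)
  have hxp : IsPGroup p (Subgroup.zpowers x) :=
    S.isPGroup'.to_le (Subgroup.zpowers_le.mpr (hAS hx))
  have hyp : IsPGroup p (Subgroup.zpowers y) := by
    have h1 := hxp.map (MulAut.conj g).toMonoidHom
    rw [MonoidHom.map_zpowers] at h1
    have e : (MulAut.conj g).toMonoidHom x = y := by
      rw [hy]; simp [MulAut.conj_apply]
    rw [e] at h1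
    exact h1
  obtain ⟨c, hcC, hc⟩ := exists_conj_sup_isPGroup ((S : Subgroup G) ⊔ N) (S : Subgroup G)
    (Subgroup.zpowers y) le_sup_left (Subgroup.zpowers_le.mpr hyC) S.isPGroup' hyp
  have hmax := S.is_maximal' hc le_sup_left
  have hcy : c * y * c⁻¹ ∈ (S : Subgroup G) := by
    have h1 : c * y * c⁻¹ ∈ (Subgroup.zpowers y).map (MulAut.conj c).toMonoidHom :=
      conj_mem_map_conj _ c y (Subgroup.mem_zpowers y)
    have h2 : c * y * c⁻¹ ∈ (S : Subgroup G) ⊔ (Subgroup.zpowers y).map (MulAut.conj c).toMonoidHom :=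
      Subgroup.mem_sup_right h1
    rw [hmax] at h2
    exact h2
  -- write c = s' * n'
  have hcC' : c ∈ ((S : Subgroup G) : Set G) * (N : Set G) := by
    rw [← Subgroup.mul_normal]; exact hcC
  obtain ⟨s', hs', n', hn', rfl⟩ := Set.mem_mul.mp hcC'
  have hs'S : s' ∈ (S : Subgroup G) := hs'
  have hn'N : n' ∈ N := hn'
  have h3 : n' * y * n'⁻¹ ∈ (S : Subgroup G) := by
    have e : n' * y * n'⁻¹ = s'⁻¹ * (s' * n' * y * (s' * n')⁻¹) * s' := by simp [mul_assoc]
    rw [e]
    exact Subgroup.mul_mem _ (Subgroup.mul_mem _ (Subgroup.inv_mem _ hs'S) hcy) hs'S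
  have h4 : (n' * g) * x * (n' * g)⁻¹ ∈ A := by
    apply hcl x hx (n' * g)
    have e : n' * g * x * (n' * g)⁻¹ = n' * y * n'⁻¹ := by rw [hy]; simp [mul_assoc]
    rw [e]; exact h3
  refine ⟨(n' * g) * x * (n' * g)⁻¹, h4, ?_⟩
  have hn1 : (QuotientGroup.mk' N) n' = 1 := by
    rw [QuotientGroup.mk'_apply]
    exact (QuotientGroup.eq_one_iff n').mpr hn'N
  simp only [map_mul, map_inv, hn1, one_mul, mul_inv_rev, inv_one, mul_one]

end Cfsg.Agent.S1250
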