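import Cfsg.Statements.S1556
import Mathlib
import Cfsg.Agent.Lib.Helper1.M24Base

set_option autoImplicit false
open scoped Pointwise
open Cfsg

namespace Cfsg.Agent.S1556


open Cfsg.Agent.Lib.Helper1 in
/-- The property cutting out the relevant enumerated words. -/
def P (n : ℕ) : Bool := pcI 24 n == 8

open Cfsg.Agent.Lib.Helper1 in
/-- The invariant separating the classes. -/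
def inv (n : ℕ) : ℕ := pcI 24 (Cfsg.Agent.Lib.Helper1.O5 &&& n)

set_option maxRecDepth 1000000 in
/-- Class certificates: (invariant value, base mask, words). -/
def cls : List (ℕ × ℕ × List (ℕ × List ℕ)) := [
  (0, 1009728, [
    (1009728, []),
    (1256224, [4, 2, 1, 1, 4, 1, 1, 2]),
    (1852256, [1, 4, 4, 2, 0, 3, 1, 1]),
    (2220640, [4, 2, 0, 3, 2, 1, 1]),
    (3050016, [1, 1, 3, 0, 3, 0, 0]),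
    (3328320, [4, 4, 0, 0, 3, 1, 4, 1, 1]),
    (4038912, [1, 1, 4, 1, 4, 0, 0]),
    (4645632, [3, 3, 1, 1, 1, 3, 3]),
    (4819776, [0, 0, 4, 1, 3, 3, 2, 0]),
    (5621792, [4, 4, 1, 1, 3]),
    (5939296, [2, 0, 0, 3, 2]),
    (6750560, [4, 0, 0, 3, 3]),
    (6842656, [0, 4, 1, 3, 3, 1, 3, 0]),
    (7612992, [3, 1, 4, 0, 3, 3, 1, 3]),
    (8077824, [0, 4, 4, 0, 3, 0, 4, 0, 0]),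
    (8694112, [4, 1, 2, 1, 1, 3, 3, 2, 0]),
    (9158944, [1, 2, 0, 3, 0, 0, 4]),
    (9929280, [4, 4, 1, 2, 0, 0, 2, 0]),
    (10021376, [3, 3, 2, 1, 4, 0, 4, 4, 2]),
    (10832640, [1, 3, 2, 1, 4, 4, 2, 0]),
    (11150144, [0, 2, 1, 4, 2, 0, 3, 2, 1]),
    (11952160, [4, 2, 1, 1, 2]),
    (12126304, [0, 0, 4, 0, 4, 2, 1, 4, 1]),
    (12733024, [3, 0, 2, 1, 4, 0, 4, 1, 1]),
    (13443616, [2, 0, 0, 0, 3, 2, 1, 1]),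
    (13721920, [4, 0, 4, 0, 3, 2, 1, 3, 2]),
    (14551296, [0, 0, 0, 4, 0, 2, 1, 3]),
    (14919680, [0, 0, 4, 2, 1, 3, 2]),
    (15515712, [2, 0, 4, 1, 1, 3, 1, 1, 2]),
    (15762208, [3, 0, 2, 1, 3, 0, 0, 3])]),
  (2, 31554, [
    (31554, []),
    (52005, [1, 1, 3, 0, 3, 0, 0]),
    (84464, [1, 3, 1, 4, 2, 1, 1, 4, 1, 4]),
    (126216, [2, 0, 0, 3, 0, 0, 3, 2]),
    (157028, [3, 1, 3, 0, 4, 4, 0, 0, 4, 0]),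
    (168928, [3, 1, 4, 1, 3, 2, 1, 1, 3, 0, 2]),
    (175681, [4, 4, 0, 3, 1, 3, 0, 4, 0, 4]),
    (190626, [2, 1, 4, 2, 0, 0, 0, 3, 3, 2, 1]),
    (213833, [3, 0, 3, 3, 2, 1, 1, 4, 0]),
    (231532, [1, 4, 1, 4, 4, 0, 3, 1, 1, 4]),
    (237906, [0, 0, 0, 4, 1, 2, 0, 3, 1, 3]),
    (252432, [0, 0, 4, 2, 1, 3, 2]),
    (290352, [1, 2, 1, 1, 1, 3, 0, 0, 3, 0, 4]),
    (314056, [4, 1, 1, 4, 4, 0, 4, 1, 1]),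
    (334433, [1, 4, 1, 4, 0, 3, 3, 1, 1, 4]),
    (337856, [1, 4, 4, 0, 4, 1, 1, 1, 1]),
    (352547, [1, 1, 4, 4, 1, 3, 1, 3, 2, 0]),
    (361272, [4, 4, 0, 3, 1, 1, 3, 0, 3, 3, 0]),
    (371206, [4, 0, 3, 3, 1, 1, 3, 3, 0]),
    (381252, [1, 4, 0, 2, 1, 3, 1, 1, 2, 0]),
    (396116, [2, 0, 4, 1, 3, 3, 1, 3, 1, 2]),
    (402026, [4, 0, 4, 1, 2, 0, 3, 1, 1, 1]),
    (416040, [4, 4, 0, 3, 2, 1, 1, 4, 2]),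
    (442481, [3, 3, 0, 2, 1, 1, 3, 0, 2, 1]),
    (475812, [4, 0, 3, 0, 3, 1, 4, 1, 4, 0]),
    (493953, [0, 0, 4, 4, 1, 1, 3, 0, 4, 4, 0]),
    (504864, [1, 2, 0, 4, 4, 1, 3, 2, 0]),
    (535268, [4, 2, 1, 1, 4, 1, 1, 2]),
    (567074, [3, 0, 2, 1, 3, 0, 0, 3]),
    (580704, [3, 0, 2, 0, 0, 0, 3, 0, 0]),
    (582081, [0, 0, 4, 1, 3, 3, 2, 0]),
    (602472, [4, 1, 1, 4, 1, 2, 0, 3, 1]),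
    (608810, [0, 2, 1, 3, 0, 0, 0, 4, 1, 2, 1]),
    (615188, [1, 4, 4, 2, 0, 3, 1, 1]),
    (632881, [4, 1, 1, 4, 0, 0, 0, 4, 0, 0]),
    (657763, [3, 0, 3, 0, 0, 4, 0, 4, 0, 4]),
    (675712, [1, 3, 2, 1, 1, 1, 3, 1, 2, 0]),
    (684577, [4, 1, 4, 0, 0, 3, 1, 1, 1, 1]),
    (702724, [2, 1, 4, 0, 4, 2, 1, 1, 2, 0]),
    (705094, [4, 0, 4, 0, 3, 1, 3, 3, 2, 0]),
    (722544, [2, 0, 3, 3, 2, 0, 4, 1, 2, 0]),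
    (762504, [4, 1, 4, 0, 0, 3, 3, 1, 3, 3, 0]),
    (797449, [0, 3, 3, 2, 1, 3, 2, 1, 3, 3]),
    (832080, [0, 4, 0, 3, 1, 4, 4, 0, 3, 1]),
    (837906, [0, 3, 1, 3, 3, 0, 0, 3, 3, 1]),
    (843820, [0, 3, 1, 1, 1, 1, 3, 3, 1, 1, 1]),
    (855332, [0, 0, 4, 1, 4, 0, 4, 2, 0]),
    (884962, [2, 1, 3, 2, 1, 4, 4, 1, 2, 1]),
    (902657, [4, 2, 0, 0, 3, 1, 4, 4, 2, 1]),
    (926128, [0, 3, 0, 0, 0, 3, 3, 1, 3, 3, 0]),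
    (951624, [3, 3, 1, 3, 0, 0, 4, 4, 0, 3]),
    (987906, [2, 0, 3, 1, 4, 2, 1, 4, 0, 2]),
    (1075305, [4, 0, 0, 2, 0, 0, 3, 1, 2]),
    (1084018, [1, 2, 0, 4, 2, 0, 0, 0, 0, 4]),
    (1090380, [1, 1, 4, 1, 4, 0, 0]),
    (1110320, [3, 0, 3, 0, 4, 0, 3]),
    (1134148, [3, 1, 4, 0, 4, 1, 1, 3, 3, 0]),
    (1148257, [4, 2, 1, 4, 1, 4, 1, 1, 3, 2, 1]),
    (1161408, [0, 4, 1, 1, 3, 0, 3, 3, 0, 4, 1]),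
    (1164162, [2, 0, 0, 4, 2, 1, 1, 3]),
    (1204944, [1, 4, 1, 4, 0, 0, 4, 0, 2, 0]),
    (1230376, [2, 1, 4, 4, 0, 2, 1, 1, 1, 4, 1]),
    (1265762, [0, 4, 1, 1, 1, 2, 0, 4, 4, 1]),
    (1302533, [1, 4, 2, 0, 0, 3, 1, 4, 2, 0]),
    (1337732, [0, 0, 0, 4, 1, 3, 1, 4, 0]),
    (1351424, [0, 0, 0, 4, 2, 1, 3, 1, 1, 2]),
    (1352353, [3, 0, 4, 0, 0, 4, 4, 0, 0, 0, 0]),
    (1369154, [0, 3, 1, 4, 1, 1, 4, 1, 1]),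
    (1378634, [0, 0, 3, 1, 3, 0, 2, 1, 4]),
    (1384564, [0, 4, 2, 0, 0, 3, 1, 3, 3, 2]),
    (1405448, [1, 3, 0, 4, 0, 0, 0, 0, 2, 0]),
    (1445088, [4, 0, 4, 4, 1, 1, 1, 1, 1, 1]),
    (1454401, [4, 0, 4, 4, 1, 1, 3, 1, 3, 3, 0]),
    (1460739, [2, 1, 1, 3, 0, 3, 0, 3, 2, 1]),
    (1474854, [0, 3, 2, 0, 4, 0, 0, 2, 1]),
    (1484824, [2, 0, 4, 0, 4, 4, 1, 3, 3, 2]),
    (1525008, [0, 3, 3, 0, 4, 4, 0, 4, 4, 1]),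
    (1584464, [3, 3, 1, 4, 1, 4, 1, 1, 1, 3]),
    (1608104, [4, 0, 2, 1, 4, 4, 1, 3, 0, 0]),
    (1647171, [1, 4, 1, 3, 2, 0, 4, 2, 0, 0]),
    (1661185, [4, 0, 4, 4, 1, 3, 1, 4, 1, 2, 0]),
    (1664160, [1, 3, 3, 1, 4, 1, 3, 0, 2, 0]),
    (1675812, [4, 4, 0, 3, 0, 4, 0, 3, 3, 0, 2, 0]),
    (1687640, [3, 1, 1, 3, 0, 3, 1, 4, 0, 0]),
    (1710664, [1, 3, 3, 1, 4, 0, 3, 1, 3]),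
    (1722420, [2, 0, 0, 0, 4, 2, 1, 3, 1, 3]),
    (1728778, [3, 0, 2, 1, 3, 0, 4, 1, 4, 1]),
    (1737489, [3, 0, 0, 0, 3, 3, 1, 1, 1, 3]),
    (1769924, [0, 4, 2, 1, 3, 1, 2, 1, 1]),
    (1805314, [1, 4, 2, 0, 3, 3, 1, 2, 0]),
    (1849378, [2, 0, 4, 2, 1, 1, 3, 0, 3, 1]),
    (1869893, [4, 2, 0, 3, 3, 0, 0, 4, 2, 1]),
    (1903248, [4, 0, 4, 4, 1, 3, 0, 4]),
    (1975812, [1, 3, 0, 4, 0, 3, 0, 0, 3, 0, 4]),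
    (2019456, [0, 3, 1, 4, 4, 0, 0, 0, 3, 3, 1]),
    (2031657, [0, 0, 4, 1, 1, 4, 4, 1, 4, 4, 0]),
    (2101096, [0, 0, 0, 0, 3, 1, 2, 0, 3, 1, 1]),
    (2141072, [0, 3, 0, 4, 0, 4, 0, 0, 0, 3]),
    (2173253, [4, 4, 1, 4, 0, 3, 3, 1, 1]),
    (2201890, [0, 4, 1, 4, 0, 0, 3, 0, 2, 0]),
    (2242672, [0, 4, 0, 4, 0, 0, 3, 1, 3, 2, 0]),
    (2245426, [0, 4, 0, 4, 0, 0, 0, 3, 3, 0, 0]),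
    (2255372, [3, 3, 0, 3, 3, 1, 3, 1]),
    (2269481, [0, 0, 4, 4, 1, 3, 1, 3]),
    (2296514, [4, 0, 0, 4, 1, 1, 1, 1, 1, 3]),
    (2313249, [4, 1, 4, 1, 2, 1, 1, 4, 2, 1, 1]),
    (2322816, [3, 0, 3, 0, 4, 4, 1, 4, 1]),
    (2328324, [3, 1, 4, 0, 3, 3, 0, 3, 3]),
    (2372388, [4, 4, 0, 3, 0, 0, 3, 0, 0, 0, 0]),
    (2377830, [0, 3, 0, 3, 0, 0, 0, 3, 3]),
    (2384216, [3, 3, 1, 3, 2, 1, 4, 0, 0, 0]),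
    (2392899, [4, 1, 3, 1, 4, 1, 4]),
    (2409888, [3, 3, 1, 3, 0, 3, 0, 4, 1]),
    (2422785, [4, 0, 2, 1, 1, 3, 1, 4, 0]),
    (2435240, [4, 4, 1, 4, 1, 3, 2, 1, 4, 0]),
    (2460752, [3, 3, 1, 1, 1, 3, 0, 0, 3, 3]),
    (2501890, [1, 4, 4, 0, 0, 4, 4, 1, 3]),
    (2512448, [3, 0, 3, 0, 4, 0, 0, 0, 3, 3]),
    (2531524, [1, 4, 4, 1, 2, 1, 1, 1, 1, 2]),
    (2564625, [1, 1, 1, 1, 4, 1, 3, 0, 4, 4]),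
    (2605066, [3, 1, 4, 0, 3, 0, 3, 3, 1, 1]),
    (2640465, [0, 4, 0, 4, 4, 1, 4, 4]),
    (2654580, [4, 4, 0, 0, 3, 1, 4, 1, 1]),
    (2664522, [3, 0, 0, 4, 4, 1, 3, 0, 3, 0]),
    (2675464, [4, 0, 0, 0, 0, 3, 1, 4, 1, 1]),
    (2687905, [1, 3, 0, 4, 2, 0, 3, 1, 3]),
    (2702848, [4, 4, 1, 1, 1, 4, 1, 4, 1]),
    (2704706, [0, 4, 1, 1, 1, 1, 4, 0, 3, 3, 0]),
    (2738308, [1, 4, 2, 0, 4, 4, 0, 0, 4]),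
    (2769128, [1, 3, 2, 1, 4, 1, 3, 0, 3, 1, 1]),
    (2810896, [2, 0, 3, 0, 3, 1, 4, 4, 0, 2]),
    (2820376, [0, 3, 1, 4, 1, 4, 0, 4, 4]),
    (2826278, [2, 0, 4, 0, 0, 3, 0, 4, 0, 0, 2]),
    (2854977, [2, 1, 1, 1, 4, 4, 0, 3, 0, 2, 1]),
    (2890176, [3, 1, 4, 1, 1, 1, 1, 1]),
    (2892897, [1, 3, 3, 2, 0, 4, 2, 0]),
    (2908802, [2, 0, 4, 1, 1, 3, 1, 1, 2]),
    (2949708, [3, 0, 3, 1, 4, 4, 0, 3, 2, 0]),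
    (2969648, [0, 0, 0, 3, 3, 1, 3, 0, 0]),
    (3031301, [3, 1, 1, 3, 3, 1, 3, 2, 0]),
    (3154402, [3, 0, 4, 2, 1, 3, 0, 4, 0, 0, 0]),
    (3168928, [0, 0, 4, 0, 4, 2, 1, 4, 1]),
    (3172097, [1, 3, 0, 4, 0, 3, 1, 1, 1]),
    (3189796, [4, 0, 0, 3, 1, 4, 1, 4, 1]),
    (3216208, [3, 0, 0, 0, 3, 3, 0, 0, 4, 4]),
    (3227948, [1, 1, 3, 1, 2, 0, 4, 2]),
    (3237906, [0, 3, 3, 1, 1, 3, 1, 1, 4]),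
    (3246601, [1, 1, 3, 1, 1, 1, 3, 0, 0, 3]),
    (3277413, [1, 4, 2, 0, 3, 0, 0, 4, 4, 2, 0]),
    (3322370, [1, 3, 1, 3, 1, 1, 1, 4, 2, 0]),
    (3351624, [3, 3, 2, 1, 3, 3, 0, 4, 4, 2]),
    (3375280, [0, 4, 4, 0, 4, 1, 4, 1, 3, 0]),
    (3410225, [1, 3, 2, 1, 4, 4, 2, 0]),
    (3444840, [1, 2, 0, 3, 3, 0, 3, 3, 0, 0]),
    (3457556, [1, 3, 0, 0, 4, 2, 0, 4, 0, 3]),
    (3474978, [2, 1, 3, 3, 2, 1, 1, 4, 0, 2, 1]),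
    (3489985, [4, 1, 4, 4, 2, 0, 4, 0, 0, 2, 0]),
    (3539848, [4, 1, 4, 4, 0, 4, 0, 0, 0, 3]),
    (3610628, [0, 2, 1, 1, 2, 0, 3, 1, 4]),
    (3672838, [4, 0, 0, 0, 0, 0, 3, 1, 1, 3]),
    (3678776, [0, 4, 0, 3, 1, 1, 3, 0]),
    (3698756, [1, 3, 2, 1, 4, 1, 4, 4, 2, 0]),
    (3704512, [0, 0, 3, 2, 1, 1, 1, 2, 1, 1]),
    (3719203, [3, 1, 1, 3, 0, 3, 3, 0, 0]),
    (3806496, [1, 1, 4, 4, 1, 4, 0, 0, 4]),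
    (3811457, [4, 4, 1, 1, 4, 1, 1, 4, 1, 1, 3]),
    (3951624, [0, 3, 0, 3, 0, 4, 1, 1, 3]),
    (4063314, [1, 3, 3, 2, 0, 3, 3, 0, 3, 1, 1]),
    (4203377, [3, 1, 1, 4, 1, 2, 0]),
    (4241960, [4, 1, 1, 4, 0, 0, 0, 0, 3, 0, 0]),
    (4243818, [4, 1, 1, 4, 0, 2, 1, 4]),
    (4253780, [1, 1, 1, 3, 3, 1, 3, 0, 4, 0]),
    (4271202, [4, 0, 0, 0, 0, 0, 4, 4]),
    (4282144, [2, 0, 0, 2, 0, 0, 3, 3]),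
    (4287105, [0, 0, 4, 4, 1, 3, 0, 3, 3]),
    (4301220, [1, 1, 4, 2, 0, 4, 0, 3, 0]),
    (4336072, [0, 3, 1, 4, 1, 4, 1, 1, 3, 3]),
    (4361520, [1, 3, 3, 0, 3, 1, 2, 0, 3, 0, 0]),
    (4403780, [3, 2, 0, 0, 4, 2, 1, 3, 3]),
    (4409606, [0, 0, 0, 0, 4, 1, 1, 3, 0, 3]),
    (4415544, [4, 0, 3, 2, 1, 3, 3, 2, 0, 3]),
    (4424227, [2, 1, 3, 3, 0, 0, 3, 1, 3, 2, 1]),
    (4441280, [1, 4, 4, 0, 2, 1, 1, 3, 0, 2]),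
    (4459426, [1, 4, 4, 1, 1, 3, 3, 2, 1, 4, 0]),
    (4476225, [0, 4, 1, 2, 0, 0, 0, 0, 4, 0, 0]),
    (4485344, [1, 4, 4, 0, 3, 1, 4, 1, 1, 4]),
    (4490852, [2, 1, 1, 3, 0, 3, 3, 1, 2, 1, 1]),
    (4536592, [1, 3, 1, 1, 4, 2, 1, 1, 3, 1]),
    (4538962, [4, 1, 3, 3, 1, 3, 0, 4, 1]),
    (4563017, [0, 4, 0, 0, 2, 1, 1, 3, 1]),
    (4597797, [3, 1, 1, 1, 4, 1, 1, 3, 0, 3, 0]),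
    (4626498, [4, 1, 1, 1, 1, 3, 1, 4, 0, 3, 0]),
    (4656648, [4, 4, 2, 0, 3, 3, 1, 3, 1, 2]),
    (4744776, [1, 1, 1, 3, 0, 4, 2, 0, 4, 4]),
    (4768432, [3, 1, 1, 3, 1, 3, 3, 0, 0, 0, 3]),
    (4800613, [0, 0, 3, 0, 4, 1, 1, 3, 3]),
    (4845570, [4, 0, 0, 4, 1, 1, 1, 3, 3]),
    (4850476, [4, 4, 2, 0, 4, 4, 2, 1, 3, 0, 0]),
    (4860434, [0, 0, 0, 0, 3, 0, 4, 4, 1, 3]),
    (4870480, [0, 3, 2, 1, 1, 4, 4, 1, 1, 1, 2]),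
    (4900873, [1, 1, 3, 0, 4, 1, 3, 1, 3, 2, 0]),
    (4921504, [4, 1, 3, 1, 3, 0, 4, 0, 3, 2, 0]),
    (4924673, [3, 0, 0, 4, 1, 3, 3, 0, 3, 0]),
    (4982904, [1, 3, 1, 4, 1, 3, 1, 4, 4, 0, 0, 0]),
    (4989254, [1, 4, 0, 4, 4, 0, 3, 1]),
    (5003780, [0, 0, 3, 1, 2, 0, 0, 4, 0, 4]),
    (5017889, [4, 1, 1, 4, 1, 3, 3, 2, 1, 3, 0]),
    (5024896, [1, 3, 0, 4, 0, 4, 4, 1, 3, 0, 0]),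
    (5063048, [1, 1, 1, 4, 2, 1, 1, 4, 2, 0, 0]),
    (5112513, [4, 0, 4, 1, 3, 2, 1, 4, 0]),
    (5129250, [3, 3, 1, 4, 1, 2, 1, 1, 4, 2]),
    (5210132, [0, 0, 3, 0, 4, 0, 4, 4]),
    (5249380, [1, 4, 4, 0, 3, 0, 0, 3, 0, 0, 0]),
    (5262104, [0, 4, 4, 0, 3, 0, 4, 0, 0]),
    (5268006, [4, 0, 4, 1, 3, 0, 4, 4, 0]),
    (5286147, [0, 2, 1, 3, 0, 4, 1, 4, 2, 1]),
    (5296705, [1, 1, 4, 1, 4, 4, 1, 4, 0, 0]),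
    (5309160, [1, 4, 1, 3, 1, 3, 2, 0, 0]),
    (5350928, [3, 2, 0, 4, 4, 1, 1, 3, 0, 2]),
    (5375810, [4, 1, 4, 1, 4, 1]),
    (5390753, [0, 4, 0, 4, 4, 1, 3, 1, 1, 3]),
    (5405696, [4, 4, 0, 0, 0, 4, 4]),
    (5409412, [4, 4, 2, 0, 0, 3, 1, 2]),
    (5441617, [3, 0, 4, 1, 1, 1, 1, 4, 0, 0, 0]),
    (5476616, [3, 1, 4, 0, 3, 0, 3, 2, 1, 3, 2]),
    (5514536, [0, 4, 4, 0, 0, 3, 0, 0, 4, 1]),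
    (5538256, [4, 4, 1, 2, 1, 1, 3, 1, 4, 0]),
    (5571333, [2, 0, 0, 3, 3, 1, 2, 0, 4, 0, 0]),
    (5640752, [3, 1, 3, 0, 3, 3, 1, 1, 3, 1]),
    (5652556, [0, 3, 1, 3, 0, 3, 0, 3, 3, 0]),
    (5709954, [3, 1, 1, 1, 4, 4, 0, 2, 0]),
    (5770785, [0, 3, 3, 2, 0, 4, 1, 1, 3, 2]),
    (5780352, [0, 4, 0, 0, 3, 2, 0, 0, 4, 0]),
    (5785794, [3, 0, 0, 4, 0, 0, 4, 4, 1]),
    (5817604, [0, 2, 1, 4, 0, 0, 2, 1, 4, 4]),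
    (5833010, [0, 0, 4, 2, 1, 1, 1, 2]),
    (5842956, [3, 0, 0, 4, 4, 2, 0, 3, 1, 3, 0]),
    (6053905, [4, 4, 2, 0, 4, 1, 1, 3, 2, 1]),
    (6062602, [4, 1, 3, 0, 4, 1, 2, 0, 4, 1, 1]),
    (6100032, [0, 4, 1, 4, 1, 2, 0, 0, 3, 0, 2]),
    (6308804, [4, 0, 4, 1, 4, 0, 0, 3, 3, 0]),
    (6326497, [3, 0, 2, 0, 0, 4, 0, 0]),
    (6337856, [0, 4, 1, 3, 3, 1, 3, 0]),
    (6344194, [3, 0, 4, 1, 4, 0, 3, 0, 2, 0, 0]),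
    (6359604, [4, 2, 1, 4, 0, 4, 2, 1, 1, 1]),
    (6365962, [2, 0, 3, 0, 4, 4, 1, 4, 4, 2]),
    (6379592, [3, 3, 1, 1, 1, 1, 1, 3]),
    (6406417, [0, 0, 0, 0, 0, 3, 1, 4, 1, 2, 0]),
    (6429441, [1, 1, 4, 1, 1, 2, 0, 4, 2]),
    (6432416, [1, 3, 1, 1, 2, 0, 0, 4, 0]),
    (6447171, [1, 4, 0, 0, 3, 3, 1, 4, 4]),
    (6455896, [4, 0, 4, 0, 3, 3, 1, 1]),
    (6475812, [0, 4, 0, 0, 4, 4, 1, 4, 0, 4]),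
    (6570537, [4, 4, 1, 4, 4, 1, 3, 0, 4]),
    (6588684, [0, 0, 0, 4, 4, 2, 1, 1, 3, 2, 1]),
    (6594610, [4, 2, 1, 3, 2, 1, 1, 3, 0, 3, 0]),
    (6644740, [3, 3, 1, 4, 0, 3, 0, 0, 0, 0]),
    (6656640, [4, 2, 1, 1, 4, 0, 3, 2, 1, 1]),
    (6703248, [4, 2, 0, 4, 0, 3, 0, 2, 1, 3, 1]),
    (6820450, [4, 4, 0, 0, 0, 3, 1, 1, 3]),
    (6857221, [3, 1, 3, 1, 3, 1, 4, 0, 3]),
    (6889680, [4, 0, 4, 1, 2, 0, 0, 2, 1, 3]),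
    (6915112, [3, 3, 1, 3, 1, 4, 1, 1]),
    (6949956, [1, 1, 3, 0, 0, 4, 4, 1, 1, 1]),
    (6979970, [1, 3, 0, 0, 4, 4, 0, 0, 4, 0, 0]),
    (7079696, [4, 1, 4, 0, 4, 4, 1, 1, 3, 0, 0]),
    (7145475, [0, 0, 3, 0, 2, 1, 4, 0, 0, 0]),
    (7221256, [3, 1, 4, 4, 1, 3, 1, 3, 3, 0, 0]),
    (7357552, [3, 1, 4, 0, 3, 3, 1, 3]),
    (7397512, [4, 0, 4, 0, 3, 2, 1, 3, 2]),
    (7409024, [2, 0, 4, 1, 1, 3, 3, 2]),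
    (7417889, [0, 3, 2, 1, 1, 4, 2, 1, 1]),
    (7438406, [4, 0, 0, 3, 3]),
    (7473194, [1, 3, 3, 0, 3, 1, 4, 2, 0, 0]),
    (7479572, [1, 4, 0, 0, 4, 1, 3, 1]),
    (7622914, [4, 4, 1, 3, 3, 1, 1, 3, 3, 0]),
    (7767041, [4, 1, 1, 3, 1, 3, 0, 4, 0, 3, 1]),
    (7864649, [4, 0, 4, 1, 1, 3, 0, 2, 0]),
    (7903248, [4, 4, 1, 1, 3]),
    (8126628, [0, 0, 0, 4, 4, 1, 4, 1, 2, 0, 3]),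
    (8414120, [1, 2, 0, 3, 0, 0, 4]),
    (8439632, [0, 4, 0, 4, 1, 4, 2, 1, 4, 2, 0]),
    (8455014, [4, 2, 0, 3, 2, 1, 1]),
    (8464984, [1, 2, 1, 1, 1, 3, 1, 1, 1]),
    (8484900, [4, 4, 0, 3, 1, 4, 4, 2, 0, 4, 0]),
    (8490656, [4, 1, 2, 1, 1, 3, 3, 2, 0]),
    (8499969, [2, 0, 3, 0, 2, 0, 0, 4, 0, 3, 1]),
    (8505411, [0, 0, 4, 2, 1, 1, 1, 4, 1, 1, 2]),
    (8546577, [1, 3, 2, 0, 4, 4, 1, 1, 1, 3, 2, 0]),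
    (8555274, [1, 4, 2, 0, 4, 1, 1, 4, 1, 4, 4]),
    (8561204, [4, 1, 2, 0, 0, 4, 0, 4, 4, 0]),
    (8581192, [1, 2, 0, 4, 1, 1, 3, 3, 1, 4, 0]),
    (8592704, [3, 2, 1, 3, 0, 0, 4, 4, 0, 2]),
    (8593633, [1, 2, 0, 0, 0, 2, 1, 3, 0, 4]),
    (8611330, [0, 3, 2, 0, 3, 1, 4, 0, 2, 1]),
    (8675909, [1, 3, 2, 0, 4, 1, 3, 3, 1, 2, 0]),
    (8704546, [1, 3, 2, 0, 0, 0, 4, 0, 4, 0]),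
    (8733800, [1, 4, 2, 0, 4, 0, 3, 1, 4, 0, 0]),
    (8773776, [3, 2, 1, 1, 4, 2, 1, 4, 4, 0]),
    (8783649, [3, 1, 3, 2, 0, 4, 0, 4, 1, 4, 0]),
    (8796800, [0, 4, 1, 2, 0, 3, 0, 0, 3]),
    (8798658, [1, 4, 2, 0, 4, 0, 3, 3, 0, 0]),
    (8834052, [0, 3, 0, 3, 0, 2, 1, 1, 2]),
    (8849458, [0, 0, 0, 3, 2, 1, 3, 1, 2]),
    (8855820, [1, 3, 0, 4, 0, 2, 1, 3, 3, 2]),
    (8919856, [3, 0, 2, 1, 4, 0, 4, 1, 1]),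
    (8931660, [4, 2, 1, 1, 4, 4, 2, 1, 1, 3]),
    (8937586, [2, 0, 4, 2, 1, 1, 4, 4, 1, 3, 0]),
    (8946281, [4, 1, 4, 4, 2, 0, 4, 2, 1, 3]),
    (8989058, [2, 1, 3, 3, 0, 4, 1, 4, 0, 3, 2]),
    (8999616, [2, 0, 3, 2, 1, 3, 0, 0, 4, 4, 1]),
    (9020484, [1, 3, 0, 2, 1, 4, 2, 0, 3, 2, 0]),
    (9055272, [4, 0, 4, 1, 1, 3, 2, 0, 3, 2]),
    (9078992, [1, 1, 2, 0, 0, 2, 0, 0, 0]),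
    (9112069, [3, 1, 4, 0, 2, 1, 1, 1, 2, 0]),
    (9178690, [1, 3, 0, 4, 2, 1, 3, 0, 2, 0]),
    (9193633, [0, 2, 1, 1, 3, 0, 3, 1, 4, 2]),
    (9204992, [3, 0, 3, 0, 4, 2, 1, 3, 1, 1]),
    (9208708, [4, 0, 2, 1, 3, 0, 3, 1, 3, 3, 0]),
    (9240913, [2, 1, 4, 0, 0, 2, 1, 3, 3, 0]),
    (9279496, [3, 3, 2, 1, 3, 0, 4, 4, 2]),
    (9310308, [2, 0, 3, 3, 2, 0, 0, 0, 4]),
    (9323032, [1, 4, 0, 4, 0, 0, 4, 2, 0, 4]),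
    (9347075, [2, 1, 1, 3, 3, 1, 3, 3, 0, 2, 1]),
    (9440193, [4, 2, 0, 3, 2, 0, 4, 0, 0, 0, 2, 0]),
    (9451104, [4, 4, 1, 1, 3, 2, 0, 0, 3, 2]),
    (9456930, [4, 2, 1, 4, 1, 2, 0, 0, 0, 2, 0]),
    (9486564, [4, 4, 1, 3, 2, 1, 3, 2, 1, 4, 1]),
    (9519665, [1, 1, 2, 0, 0, 0, 4, 2, 0, 3, 0]),
    (9537812, [3, 1, 1, 4, 1, 1, 2, 0, 3, 2]),
    (9543722, [4, 0, 2, 1, 3, 0, 0, 3, 0, 4]),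
    (9568632, [3, 3, 1, 1, 1, 1, 2, 0, 0, 2, 0]),
    (9578566, [0, 4, 4, 0, 2, 1, 1, 1, 1, 4, 2]),
    (9589508, [2, 0, 0, 4, 0, 0, 3, 1, 2]),
    (9607201, [3, 2, 0, 4, 1, 1, 4, 2, 1]),
    (9610624, [1, 4, 2, 1, 3, 1, 2, 1, 1, 4, 0]),
    (9652360, [4, 2, 0, 4, 2, 1, 3, 1, 3]),
    (9701932, [1, 3, 2, 1, 3, 0, 3, 1, 1]),
    (9708306, [4, 4, 1, 2, 0, 0, 2, 0]),
    (9721936, [3, 2, 1, 3, 0, 3, 0, 4, 1, 2]),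
    (9748745, [1, 4, 0, 4, 2, 1, 4, 2, 1, 4, 0]),
    (9769376, [2, 0, 4, 0, 4, 2, 1, 1, 1]),
    (9776129, [3, 1, 3, 2, 1, 3, 0, 3, 3, 0, 4, 0]),
    (9969957, [3, 1, 4, 1, 4, 4, 2, 1, 4, 2]),
    (9998658, [0, 4, 4, 2, 0, 4, 1, 1, 2, 1]),
    (10028808, [1, 1, 3, 2, 0, 0, 3, 2, 0, 0, 0]),
    (10093218, [3, 3, 2, 1, 4, 0, 4, 4, 2]),
    (10110017, [2, 0, 4, 0, 3, 1, 3, 1, 1, 2, 1]),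
    (10170384, [3, 2, 0, 0, 0, 0, 3, 0, 4, 2]),
    (10232008, [1, 3, 3, 2, 1, 1, 3, 1, 2, 0]),
    (10257456, [0, 0, 4, 2, 1, 4, 2, 1, 1, 3]),
    (10305542, [2, 0, 4, 1, 3, 2, 1, 1, 1]),
    (10496547, [0, 3, 1, 2, 0, 0, 0, 3, 2, 0]),
    (10506593, [1, 2, 0, 0, 4, 0, 2, 1, 3, 0]),
    (10513600, [2, 0, 4, 0, 4, 4, 0, 3, 1, 2]),
    (10525252, [1, 3, 0, 4, 0, 0, 2, 1, 3]),
    (10537016, [0, 4, 1, 3, 0, 0, 4, 2, 0, 4]),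
    (10543366, [4, 4, 2, 0, 0, 3, 0, 3, 2]),
    (10560816, [3, 2, 0, 3, 3, 2, 1, 1, 1, 1]),
    (10584520, [1, 1, 4, 0, 3, 3, 0, 2, 1, 3]),
    (10619300, [3, 3, 0, 4, 2, 0, 0, 0, 2]),
    (10650722, [3, 1, 4, 1, 1, 4, 0, 2, 1, 3]),
    (10666625, [3, 1, 1, 1, 4, 4, 2, 0, 3, 2]),
    (10687016, [4, 0, 3, 3, 2, 0, 4, 1, 1, 2, 0]),
    (10698836, [0, 2, 1, 4, 2, 0, 3, 2, 1]),
    (10748656, [2, 0, 3, 2, 1, 3, 3, 1, 1, 4]),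
    (10790408, [4, 0, 2, 1, 3, 1, 1, 1]),
    (10825794, [1, 1, 1, 2, 0, 0, 4, 2, 0, 0]),
    (10846245, [3, 1, 3, 0, 2, 1, 4, 0, 4]),
    (10881097, [3, 1, 3, 2, 1, 1, 3, 1, 3, 0]),
    (10916112, [4, 1, 3, 0, 3, 2, 0, 4, 0]),
    (11028004, [1, 3, 2, 1, 3, 0, 2, 1, 3, 2]),
    (11046145, [4, 2, 0, 0, 4, 4, 1, 1, 1, 2, 1]),
    (11055264, [0, 0, 3, 2, 1, 1, 1, 4, 1, 3, 2]),
    (11100169, [3, 2, 0, 4, 1, 4, 0, 0, 2, 1]),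
    (11108882, [2, 1, 4, 1, 1, 2, 0, 3, 0, 3, 1]),
    (11163650, [4, 4, 1, 1, 2, 0, 3, 2, 1, 1]),
    (11272490, [1, 1, 3, 3, 0, 0, 4, 4, 2, 1, 3]),
    (11282452, [2, 1, 1, 1, 3, 2, 1, 4, 4]),
    (11469952, [3, 1, 1, 4, 0, 0, 3, 3, 2, 1, 3]),
    (11548936, [1, 4, 4, 2, 0, 4, 1, 3, 1, 3]),
    (11551306, [1, 3, 2, 1, 4, 0, 4, 1, 1, 3, 2, 0]),
    (11575377, [4, 1, 2, 1, 1, 4, 0, 4, 2, 0]),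
    (11608708, [2, 1, 1, 1, 4, 2, 1, 1, 3, 0]),
    (11654144, [0, 3, 1, 1, 1, 1, 3, 0, 2, 1, 3]),
    (11669008, [3, 0, 3, 0, 4, 0, 2, 1, 1, 2]),
    (11731203, [0, 2, 1, 1, 3, 1, 4, 2, 1]),
    (11797828, [0, 0, 0, 4, 0, 2, 1, 3]),
    (11831426, [3, 1, 2, 1, 1, 3, 2, 0, 4, 4]),
    (12075408, [1, 4, 0, 0, 3, 2, 0, 0, 0, 2]),
    (12222476, [4, 0, 0, 3, 2, 0, 3, 2, 1, 1]),
    (12325377, [4, 4, 1, 1, 4, 1, 2, 0, 0, 2, 0]),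
    (12594948, [4, 0, 0, 3, 3, 2, 0, 0, 3, 2]),
    (12624578, [0, 4, 1, 2, 0, 0, 2, 1, 4]),
    (12638592, [1, 2, 0, 0, 3, 2, 1, 3, 0, 2]),
    (12641313, [0, 0, 0, 4, 2, 1, 3, 3, 2]),
    (12650793, [4, 0, 2, 0, 0, 3, 1, 4, 4, 2, 0]),
    (12685424, [0, 2, 0, 0, 4, 1, 3, 0, 4, 2]),
    (12698124, [4, 0, 0, 2, 0, 0, 3, 0, 3, 2]),
    (12726562, [1, 1, 3, 2, 1, 1, 2, 0, 0, 0]),
    (12747077, [2, 0, 4, 0, 3, 3, 1, 1, 3, 2, 1]),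
    (12780432, [1, 3, 3, 0, 3, 2, 0, 0, 4, 2]),
    (12849992, [4, 1, 2, 0, 0, 4, 2, 1, 4, 0]),
    (12861748, [0, 4, 4, 2, 0, 3, 2, 0, 4, 0, 2]),
    (12871690, [4, 0, 0, 3, 2, 1, 1, 2]),
    (12880401, [1, 3, 0, 4, 2, 0, 3, 0, 3, 3]),
    (12912836, [1, 4, 0, 4, 1, 2, 0, 4, 0, 2, 0]),
    (12944642, [0, 4, 0, 2, 0, 0, 0, 2, 1, 4, 4]),
    (12985424, [1, 2, 0, 4, 2, 0, 4, 4, 0, 2, 0]),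
    (13009064, [4, 2, 1, 4, 1, 3, 3, 1, 3, 1, 2]),
    (13062145, [3, 2, 1, 4, 0, 3, 1, 1, 2, 1]),
    (13108704, [1, 3, 1, 4, 4, 2, 0, 4, 0, 4]),
    (13121601, [0, 4, 2, 1, 4, 1, 4, 0, 0, 2]),
    (13124355, [0, 4, 1, 3, 1, 2, 0, 4, 0, 2, 0]),
    (13142054, [0, 0, 3, 2, 0, 0, 4, 2, 1]),
    (13148440, [2, 0, 3, 0, 0, 3, 0, 0, 4, 0, 2]),
    (13192208, [2, 1, 4, 4, 0, 4, 1, 4, 2]),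
    (13262980, [0, 0, 4, 2, 0, 3, 1, 4, 4, 2, 1]),
    (13276672, [3, 2, 1, 3, 1, 4, 1, 1, 4, 2]),
    (13303882, [0, 4, 4, 2, 1, 3, 2, 1, 1, 2, 1]),
    (13641904, [0, 2, 0, 0, 3, 3, 2, 0, 4, 0, 2]),
    (13667400, [2, 0, 4, 0, 3, 2, 1, 1, 4, 0, 0]),
    (13703682, [3, 2, 1, 4, 0, 0, 2, 1, 1, 4, 0, 0]),
    (13771273, [1, 1, 4, 0, 3, 3, 2, 1, 3, 3, 2]),
    (13811730, [0, 0, 3, 1, 2, 0, 3, 1, 4, 0, 3]),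
    (13829156, [4, 1, 2, 0, 3, 0, 3, 3, 1, 1, 1]),
    (13893731, [1, 2, 0, 0, 2, 1, 1, 3, 3, 1, 2]),
    (13911680, [0, 4, 2, 0, 0, 3, 0, 3, 1, 2]),
    (13938692, [4, 2, 1, 1, 2]),
    (14156372, [3, 0, 2, 1, 1, 3, 1, 4, 2, 1, 4, 0]),
    (14176296, [3, 3, 0, 2, 1, 1, 2, 0, 3, 2, 1]),
    (14254209, [4, 2, 1, 4, 2, 0, 0, 3, 0, 3, 3]),
    (14682450, [4, 2, 1, 4, 1, 1, 3, 3, 2]),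
    (14688364, [3, 2, 0, 0, 0, 3, 3, 1, 3, 2]),
    (14709264, [2, 0, 0, 3, 2, 1, 1, 4, 1, 4, 0, 0]),
    (14747201, [2, 0, 0, 2, 1, 3, 1, 4, 1, 4]),
    (14762146, [1, 4, 1, 4, 0, 0, 4, 2, 0, 3, 2]),
    (14828808, [2, 0, 0, 2, 1, 4, 1, 4, 1]),
    (14949408, [2, 0, 0, 0, 3, 2, 1, 1]),
    (14950785, [3, 1, 3, 2, 1, 1, 4, 0, 3, 1]),
    (15073798, [1, 1, 1, 2, 0, 4, 2, 0, 3, 0]),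
    (15207048, [4, 2, 0, 4, 1, 4, 1, 2, 1, 1, 1]),
    (15274244, [4, 0, 4, 2, 1, 3, 1, 1, 1, 3, 1]),
    (15335473, [4, 2, 0, 3, 2, 0, 4, 0, 2, 1, 3]),
    (15747077, [1, 4, 2, 1, 4, 2, 1, 4, 1, 3, 0, 0]),
    (15864000, [3, 2, 0, 0, 3, 0, 4, 0, 4, 2]),
    (16056344, [0, 3, 1, 1, 3, 1, 1, 2, 0, 4, 0]),
    (16262146, [2, 0, 0, 3, 2])]),
  (4, 10558, [
    (10558, []),
    (15777, [0, 4, 1, 4, 0, 0, 3, 0, 2, 0]),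
    (18147, [1, 4, 1, 3, 1, 3, 2, 0, 0]),
    (21116, [0, 4, 4, 0, 3, 0, 0, 3, 0, 0]),
    (36294, [4, 1, 1, 4, 0, 2, 1, 4]),
    (39257, [4, 2, 0, 3, 3, 0, 0, 4, 2, 1]),
    (42232, [0, 0, 3, 3, 2, 0, 3, 0, 4, 2]),
    (45159, [3, 0, 2, 1, 3, 0, 0, 3]),
    (57883, [0, 3, 2, 0, 3, 1, 4, 0, 2, 1]),
    (63108, [3, 1, 3, 1, 3, 1, 1, 4, 1, 4]),
    (69395, [3, 0, 4, 1, 4, 4, 0, 4, 4, 2, 0]),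
    (72588, [1, 1, 3, 1, 1, 1, 3, 0, 0, 3]),
    (75309, [4, 0, 0, 4, 0, 3, 3, 1, 3, 1]),
    (78514, [0, 4, 0, 3, 1, 1, 3, 0]),
    (90318, [2, 0, 0, 3, 0, 0, 3, 2]),
    (95313, [0, 4, 1, 1, 1, 2, 0, 4, 4, 1]),
    (99029, [4, 2, 0, 0, 3, 1, 4, 4, 2, 1]),
    (104010, [0, 0, 4, 2, 1, 3, 2]),
    (115766, [1, 1, 4, 4, 1, 3, 1, 3, 2, 0]),
    (118953, [0, 0, 0, 3, 3, 1, 1, 4, 0, 0]),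
    (133817, [0, 0, 0, 0, 3, 0, 4, 4, 1, 3]),
    (138790, [1, 1, 3, 2, 0, 4, 1, 4, 4, 0]),
    (140167, [0, 4, 0, 0, 3, 2, 0, 0, 4, 0]),
    (145176, [1, 3, 2, 1, 1, 1, 3, 1, 2, 0]),
    (150618, [1, 4, 2, 0, 4, 0, 3, 3, 0, 0]),
    (153797, [4, 2, 1, 1, 4, 4, 2, 1, 1, 3]),
    (180636, [0, 3, 3, 0, 4, 4, 0, 4, 4, 1]),
    (185603, [2, 0, 0, 4, 2, 1, 1, 3]),
    (198058, [0, 3, 0, 0, 0, 4, 2, 1, 4, 2]),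
    (201013, [3, 2, 0, 3, 3, 2, 1, 1, 1, 1]),
    (208020, [3, 1, 4, 0, 2, 1, 1, 1, 2, 0]),
    (210955, [3, 2, 1, 4, 0, 0, 2, 1, 3, 0, 0]),
    (262637, [3, 2, 0, 3, 2, 1, 1, 3, 0, 3]),
    (267634, [4, 4, 1, 4, 4, 2, 1, 1, 1, 2, 0]),
    (272595, [0, 4, 1, 2, 0, 3, 0, 0, 3]),
    (277580, [4, 4, 0, 0, 3, 0, 3, 0, 4, 1]),
    (280334, [4, 1, 1, 1, 3, 1, 3, 1, 4, 1]),
    (283537, [4, 1, 3, 1, 4, 1, 4]),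
    (298027, [3, 1, 1, 1, 4, 1, 1, 3, 0, 3, 0]),
    (301236, [0, 0, 4, 1, 4, 0, 3, 0, 4, 2, 0]),
    (304405, [1, 4, 0, 2, 1, 3, 1, 1, 2, 0]),
    (307594, [0, 0, 4, 1, 3, 3, 2, 0]),
    (346141, [2, 0, 4, 1, 3, 2, 1, 1, 1]),
    (351362, [0, 4, 4, 1, 1, 4, 4, 0, 4, 1]),
    (418953, [0, 0, 0, 4, 1, 3, 1, 4, 0]),
    (421910, [0, 3, 2, 0, 0, 4, 2, 1, 3, 3, 0]),
    (427666, [1, 1, 4, 0, 4, 4, 1, 1, 1]),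
    (430605, [4, 0, 3, 0, 3, 1, 4, 1, 4, 0]),
    (459847, [2, 0, 3, 1, 4, 2, 1, 4, 0, 2]),
    (463064, [3, 1, 1, 1, 4, 4, 0, 2, 0]),
    (525274, [4, 0, 4, 1, 4, 0, 0, 3, 3, 0]),
    (530245, [1, 3, 0, 3, 1, 1, 1, 4, 0, 4]),
    (542009, [3, 3, 1, 1, 1, 3, 3]),
    (545190, [0, 0, 4, 1, 4, 0, 4, 2, 0]),
    (551943, [0, 3, 0, 3, 0, 4, 1, 1, 3]),
    (555160, [0, 0, 4, 4, 1, 3, 0, 3, 3]),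
    (560668, [4, 4, 2, 0, 0, 3, 1, 2]),
    (563843, [0, 4, 0, 3, 1, 4, 4, 0, 3, 1]),
    (593097, [1, 4, 1, 4, 4, 0, 3, 1, 1, 4]),
    (596054, [2, 0, 3, 2, 0, 0, 4, 0, 4, 1]),
    (622863, [3, 1, 4, 1, 1, 4, 1, 3, 1, 4, 0]),
    (628112, [4, 0, 0, 4, 1, 1, 1, 3, 3]),
    (663645, [1, 4, 0, 4, 4, 0, 3, 1]),
    (668866, [3, 3, 1, 3, 0, 0, 4, 4, 0, 3]),
    (689317, [3, 1, 3, 0, 0, 0, 4, 1, 4, 0]),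
    (692282, [0, 3, 1, 4, 0, 4, 4, 0, 3]),
    (737427, [1, 2, 0, 3, 1, 4, 4, 0, 2, 0]),
    (742412, [2, 0, 0, 0, 4, 2, 1, 3, 1, 3]),
    (786999, [4, 4, 1, 4, 4, 1, 3, 0, 4]),
    (792232, [4, 4, 0, 0, 0, 3, 1, 1, 3]),
    (804052, [3, 1, 4, 1, 1, 1, 1, 1]),
    (806987, [4, 1, 1, 4, 4, 0, 4, 1, 1]),
    (861210, [1, 4, 4, 0, 4, 1, 1, 1, 1]),
    (864389, [1, 2, 0, 4, 4, 1, 3, 2, 0]),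
    (919694, [1, 3, 2, 0, 4, 1, 1, 3, 2, 0]),
    (924689, [1, 3, 1, 4, 2, 1, 4, 0, 3]),
    (1050548, [0, 0, 3, 0, 4, 0, 3, 1, 1, 3]),
    (1053483, [3, 1, 1, 1, 1, 3, 0, 2, 0, 0]),
    (1060490, [4, 0, 3, 3, 1, 1, 3, 3, 0]),
    (1063445, [1, 1, 4, 1, 4, 0, 0]),
    (1065303, [0, 4, 4, 0, 3, 0, 4, 0, 0]),
    (1070536, [4, 0, 0, 2, 0, 0, 3, 1, 2]),
    (1100945, [3, 0, 2, 0, 0, 0, 3, 0, 0]),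
    (1103886, [0, 4, 4, 1, 4, 4, 1, 3, 0, 0, 0]),
    (1116327, [1, 4, 0, 3, 0, 3, 3, 0, 4, 0, 0]),
    (1121336, [2, 0, 0, 0, 2, 1, 3, 3, 2, 0]),
    (1122713, [0, 0, 4, 2, 1, 1, 1, 2]),
    (1127686, [3, 1, 1, 4, 1, 4, 4, 0, 3, 1, 1]),
    (1182989, [3, 3, 1, 4, 1, 4, 1, 1, 1, 3]),
    (1186194, [1, 4, 0, 0, 4, 1, 3, 1]),
    (1188915, [4, 4, 1, 4, 1, 3, 0, 4, 4, 0]),
    (1192108, [4, 0, 0, 3, 1, 4, 1, 4, 1]),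
    (1212619, [0, 3, 1, 3, 0, 3, 0, 3, 3, 0]),
    (1217620, [1, 2, 0, 4, 0, 0, 4, 4, 2, 0]),
    (1245726, [4, 1, 4, 1, 4, 1]),
    (1250945, [1, 3, 0, 4, 0, 0, 0, 0, 2, 0]),
    (1312345, [4, 4, 2, 0, 3, 2, 1, 1, 1]),
    (1315526, [4, 0, 4, 1, 2, 0, 3, 1, 1, 1]),
    (1327290, [4, 4, 0, 3, 2, 1, 1, 4, 2]),
    (1332261, [3, 0, 3, 0, 3, 1, 3, 0, 4, 1]),
    (1410188, [0, 0, 2, 0, 0, 0, 4, 2, 1, 1]),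
    (1413139, [1, 3, 0, 0, 4, 2, 0, 4, 0, 3]),
    (1573998, [3, 1, 4, 0, 3, 3, 1, 3]),
    (1577201, [3, 2, 1, 4, 2, 1, 3, 3, 1]),
    (1589901, [0, 4, 1, 3, 1, 2, 0, 4, 0, 2, 0]),
    (1594898, [4, 0, 0, 0, 0, 3, 1, 4, 1, 1]),
    (1613974, [0, 2, 0, 0, 3, 1, 3, 3, 2, 1]),
    (1618953, [3, 0, 3, 0, 4, 0, 3]),
    (1836419, [3, 3, 2, 1, 1, 1, 4, 4, 2, 1]),
    (1839388, [4, 0, 4, 4, 1, 3, 0, 4]),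
    (2106966, [1, 3, 3, 2, 0, 4, 2, 0]),
    (2110153, [3, 2, 0, 3, 3, 2, 0, 3, 0, 4]),
    (2115979, [4, 0, 0, 3, 0, 0, 3, 3]),
    (2120980, [3, 1, 3, 1, 1, 1, 2, 0, 4, 2, 1]),
    (2121909, [0, 3, 2, 0, 0, 3, 1, 4, 2]),
    (2126890, [0, 0, 4, 0, 4, 2, 1, 4, 1]),
    (2130606, [3, 2, 0, 3, 1, 3, 3, 0, 2]),
    (2135601, [4, 4, 0, 0, 3, 1, 4, 1, 1]),
    (2147405, [1, 2, 0, 3, 3, 0, 3, 1, 4, 0, 0]),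
    (2150610, [3, 0, 2, 0, 0, 4, 0, 0]),
    (2162811, [4, 0, 3, 3, 0, 0, 0, 3, 3, 2, 0]),
    (2168036, [0, 3, 3, 1, 1, 4, 1, 3, 0, 3, 0]),
    (2180760, [1, 1, 3, 1, 2, 0, 4, 2]),
    (2183687, [4, 4, 1, 1, 1, 4, 1, 4, 1]),
    (2204803, [0, 3, 3, 1, 1, 3, 1, 1, 4]),
    (2207772, [3, 0, 2, 1, 1, 2, 0, 3, 1]),
    (2229713, [1, 1, 4, 1, 1, 2, 0, 4, 2]),
    (2232654, [4, 2, 0, 0, 3, 0, 3, 0, 4, 4, 2]),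
    (2263063, [4, 0, 2, 1, 1, 3, 1, 4, 0]),
    (2268296, [1, 4, 2, 0, 4, 4, 0, 0, 4]),
    (2363013, [0, 4, 4, 0, 3, 2, 0, 4, 2]),
    (2365978, [0, 3, 1, 4, 0, 3, 3, 1, 4, 1]),
    (2425238, [1, 1, 1, 4, 2, 1, 1, 4, 2, 0, 0]),
    (2430217, [0, 0, 0, 4, 0, 2, 1, 3]),
    (2491452, [4, 2, 1, 3, 3, 2, 0, 0, 0, 4]),
    (2494627, [0, 0, 4, 4, 1, 3, 1, 3]),
    (2624690, [1, 3, 3, 2, 0, 3, 0, 4, 2, 0]),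
    (2627629, [1, 1, 4, 4, 1, 4, 0, 0, 4]),
    (2631052, [1, 4, 4, 2, 0, 3, 1, 1]),
    (2634003, [1, 4, 4, 0, 0, 4, 4, 1, 3]),
    (2754059, [4, 2, 0, 3, 0, 4, 0, 3, 2, 1]),
    (2757268, [2, 0, 4, 1, 1, 3, 1, 1, 2]),
    (2916505, [4, 4, 1, 1, 1, 3, 1, 4, 1, 4]),
    (2921478, [4, 0, 4, 4, 2, 1, 1, 1, 2, 0]),
    (3147996, [1, 3, 2, 1, 4, 4, 2, 0]),
    (3152963, [3, 0, 0, 4, 0, 0, 4, 4, 1]),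
    (3179802, [2, 0, 4, 1, 1, 3, 3, 2]),
    (3182981, [3, 1, 1, 4, 1, 1, 2, 0, 3, 2]),
    (3294342, [3, 3, 0, 3, 3, 1, 3, 1]),
    (3297305, [4, 0, 4, 0, 3, 2, 1, 3, 2]),
    (3416079, [3, 1, 2, 1, 1, 3, 2, 0, 4, 4]),
    (3421328, [2, 0, 0, 3, 2]),
    (3736597, [1, 3, 0, 4, 2, 0, 3, 1, 3]),
    (3739786, [3, 3, 1, 3, 1, 4, 1, 1]),
    (4196943, [3, 2, 0, 0, 4, 2, 1, 3, 3]),
    (4202192, [4, 0, 4, 0, 3, 3, 1, 1]),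
    (4213932, [3, 1, 1, 4, 4, 0, 0, 0, 4, 2, 0]),
    (4216883, [1, 1, 3, 0, 3, 0, 0]),
    (4220306, [3, 1, 1, 4, 1, 2, 0]),
    (4223245, [1, 1, 4, 0, 3, 1, 4, 1, 2, 0, 3]),
    (4229001, [0, 3, 0, 3, 3, 1, 4, 1, 4]),
    (4231958, [2, 0, 0, 2, 0, 0, 3, 3]),
    (4261212, [4, 0, 4, 1, 2, 0, 0, 2, 1, 3]),
    (4264387, [0, 0, 3, 0, 4, 1, 1, 3, 3]),
    (4294810, [3, 1, 2, 0, 3, 0, 0, 0, 0, 0]),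
    (4299781, [4, 0, 0, 0, 0, 0, 4, 4]),
    (4325622, [0, 3, 0, 4, 4, 1, 3, 0, 4, 1]),
    (4330601, [0, 4, 1, 3, 3, 0, 4, 1, 3, 1]),
    (4343317, [1, 3, 1, 1, 2, 0, 0, 4, 0]),
    (4346506, [0, 3, 1, 4, 2, 0, 4, 2, 0, 0, 0]),
    (4367374, [0, 2, 1, 3, 0, 4, 1, 4, 2, 1]),
    (4370577, [4, 1, 1, 4, 0, 0, 0, 0, 3, 0, 0]),
    (4465308, [0, 4, 1, 2, 0, 0, 2, 1, 4]),
    (4470275, [4, 0, 0, 3, 3, 2, 0, 0, 3, 2]),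
    (4505735, [4, 0, 0, 2, 0, 0, 3, 0, 3, 2]),
    (4510744, [0, 3, 1, 4, 1, 1, 4, 1, 1]),
    (4523185, [2, 0, 4, 1, 4, 1, 1, 3, 2, 1]),
    (4526126, [4, 4, 0, 4, 4, 1, 1, 1, 4]),
    (4587803, [2, 0, 4, 4, 1, 3, 2, 0, 0, 3, 0]),
    (4593028, [0, 4, 1, 2, 1, 1, 3, 0, 3, 2, 0]),
    (4721045, [4, 0, 3, 1, 3, 3, 1, 3, 1, 3, 0]),
    (4726026, [4, 2, 1, 4, 1, 1, 3, 3, 2]),
    (4726955, [4, 1, 1, 4, 0, 0, 0, 4, 0, 0]),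
    (4731956, [4, 0, 4, 1, 3, 0, 4, 4, 0]),
    (4752467, [0, 0, 3, 0, 4, 0, 4, 4]),
    (4755660, [4, 0, 0, 3, 3]),
    (4785798, [2, 0, 0, 3, 3, 1, 2, 0, 4, 0, 0]),
    (4788761, [3, 1, 3, 3, 1, 3, 0, 4, 4, 1]),
    (5252293, [1, 4, 2, 1, 4, 2, 0, 0, 0, 4, 1]),
    (5255258, [0, 4, 1, 3, 3, 1, 3, 0]),
    (5275709, [1, 1, 3, 0, 3, 3, 0, 3, 0, 0]),
    (5280930, [1, 4, 1, 3, 0, 2, 0, 0, 0, 0]),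
    (5325835, [0, 0, 3, 1, 3, 3, 0, 0, 3]),
    (5329044, [0, 0, 3, 0, 0, 3, 0, 4, 1]),
    (5508118, [3, 1, 4, 1, 3, 1, 3, 3, 0]),
    (5511305, [0, 4, 2, 0, 0, 3, 0, 3, 1, 2]),
    (5899416, [0, 3, 3, 2, 0, 4, 1, 1, 3, 2]),
    (5902343, [4, 4, 1, 1, 3]),
    (6292775, [1, 2, 0, 0, 4, 0, 2, 1, 3, 0]),
    (6295992, [1, 1, 4, 4, 1, 4, 4, 1, 2, 0]),
    (6302745, [4, 4, 1, 4, 0, 3, 3, 1, 1]),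
    (6305926, [2, 0, 4, 0, 4, 4, 0, 3, 1, 2]),
    (6488205, [4, 1, 1, 3, 0, 4, 0, 4, 4, 1, 1]),
    (6493202, [3, 0, 3, 3, 0, 4, 0, 3, 2, 0]),
    (6554826, [4, 2, 0, 0, 0, 0, 3, 3, 1, 2]),
    (6557781, [1, 4, 0, 0, 0, 4, 1, 1, 1, 4, 0]),
    (6832158, [3, 3, 1, 4, 1, 4, 1, 3, 3]),
    (6837377, [3, 3, 0, 2, 1, 1, 2, 0, 3, 2, 1]),
    (7340691, [1, 3, 0, 3, 2, 1, 1, 2, 0, 3]),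
    (7345676, [4, 1, 3, 0, 4, 0, 4, 0, 4]),
    (8391797, [0, 3, 0, 3, 2, 1, 3, 1, 1]),
    (8394986, [4, 1, 4, 4, 2, 0, 4, 2, 1, 3]),
    (8398155, [1, 2, 0, 3, 0, 0, 4]),
    (8401364, [3, 0, 3, 0, 0, 3, 2, 0, 4, 0]),
    (8407702, [4, 4, 1, 1, 2, 0, 3, 2, 1, 1]),
    (8412681, [0, 0, 2, 1, 3, 3, 1, 4, 0, 2]),
    (8421811, [1, 1, 3, 2, 1, 1, 2, 0, 0, 0]),
    (8426796, [4, 1, 1, 4, 1, 3, 3, 2, 1, 3, 0]),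
    (8431757, [3, 2, 0, 4, 1, 1, 4, 2, 1]),
    (8436754, [1, 3, 0, 3, 2, 1, 1, 1, 3, 1, 1]),
    (8471941, [3, 2, 0, 4, 1, 4, 0, 0, 2, 1]),
    (8474906, [0, 2, 1, 1, 3, 1, 4, 2, 1]),
    (8521420, [4, 1, 2, 0, 0, 4, 2, 1, 4, 0]),
    (8524371, [3, 0, 3, 3, 2, 1, 1, 4, 0]),
    (8536111, [0, 3, 2, 1, 1, 1, 1, 1, 2, 1, 1]),
    (8541360, [2, 0, 0, 2, 1, 4, 1, 4, 1]),
    (8619033, [0, 2, 0, 0, 4, 1, 3, 0, 4, 2]),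
    (8622214, [0, 3, 1, 2, 0, 4, 2, 0, 0, 3]),
    (8654232, [1, 3, 1, 1, 4, 2, 1, 1, 3, 1]),
    (8657159, [2, 0, 4, 0, 4, 2, 1, 1, 1]),
    (8660134, [4, 1, 2, 0, 0, 4, 0, 4, 4, 0]),
    (8663097, [3, 3, 0, 3, 1, 4, 2, 1, 4, 2, 0]),
    (8683614, [3, 1, 4, 2, 1, 4, 0, 0, 0, 0, 0]),
    (8688833, [0, 4, 0, 0, 2, 1, 1, 3, 1]),
    (8716939, [3, 2, 1, 4, 0, 3, 1, 1, 2, 1]),
    (8721940, [3, 3, 2, 1, 3, 0, 4, 4, 2]),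
    (8922769, [2, 0, 4, 2, 0, 3, 0, 4, 4, 0]),
    (8925710, [0, 3, 3, 2, 1, 3, 2, 1, 3, 3]),
    (8963210, [4, 0, 3, 2, 1, 3, 2, 1, 4, 1]),
    (8966165, [0, 0, 0, 4, 2, 1, 3, 3, 2]),
    (8978620, [3, 1, 1, 4, 2, 0, 0, 0, 2, 0, 0, 0]),
    (8983587, [2, 0, 4, 2, 1, 1, 4, 4, 1, 3, 0]),
    (9045270, [3, 2, 0, 0, 0, 0, 3, 0, 4, 2]),
    (9048457, [0, 3, 3, 2, 0, 0, 0, 4, 4, 2]),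
    (9462812, [4, 4, 1, 2, 0, 0, 2, 0]),
    (9465987, [0, 0, 0, 3, 2, 1, 3, 0, 3, 2]),
    (9471495, [4, 1, 2, 1, 1, 4, 0, 4, 2, 0]),
    (9474712, [2, 0, 0, 4, 0, 0, 3, 1, 2]),
    (9503954, [0, 3, 0, 4, 2, 0, 4, 2, 1, 3]),
    (9506893, [4, 2, 0, 3, 2, 1, 1]),
    (9830549, [3, 0, 3, 0, 4, 0, 2, 1, 1, 2]),
    (9835530, [1, 2, 0, 4, 2, 0, 4, 4, 0, 2, 0]),
    (9963547, [0, 0, 4, 0, 2, 0, 0, 0, 3, 3]),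
    (9968772, [0, 3, 2, 1, 4, 1, 2, 0, 3, 3, 1]),
    (10486557, [4, 1, 1, 3, 2, 0, 0, 3, 2, 0]),
    (10491778, [4, 1, 3, 0, 3, 2, 0, 4, 0]),
    (10554382, [4, 1, 2, 1, 1, 3, 3, 2, 0]),
    (10557585, [2, 1, 1, 4, 1, 3, 3, 0, 2, 1, 1]),
    (10625178, [4, 0, 0, 3, 2, 0, 3, 2, 1, 1]),
    (10630149, [2, 1, 4, 0, 0, 4, 2, 1, 1, 1, 1]),
    (10765331, [3, 0, 3, 0, 4, 2, 1, 3, 1, 1]),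
    (10768524, [0, 2, 1, 4, 2, 0, 3, 2, 1]),
    (11010247, [2, 0, 4, 2, 0, 0, 3, 1, 3]),
    (11015256, [3, 2, 0, 0, 0, 3, 3, 1, 3, 2]),
    (11535529, [4, 2, 1, 4, 1, 3, 2, 1, 1, 1]),
    (11538486, [0, 0, 0, 4, 2, 0, 3, 1, 2]),
    (12584506, [4, 0, 2, 1, 1, 2, 0, 3, 1, 3]),
    (12587685, [4, 2, 1, 4, 0, 4, 2, 1, 1, 1]),
    (12599513, [2, 0, 0, 4, 0, 3, 2, 1, 1, 1]),
    (12604486, [3, 2, 1, 3, 0, 3, 0, 4, 1, 2]),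
    (12656663, [4, 2, 1, 4, 2, 1, 1, 3, 0, 3, 1]),
    (12661896, [4, 2, 1, 1, 2]),
    (12717187, [4, 0, 0, 3, 2, 1, 1, 2]),
    (12720156, [0, 4, 2, 1, 4, 1, 4, 0, 0, 2]),
    (13370381, [2, 1, 4, 0, 0, 2, 1, 3, 3, 0]),
    (13373586, [4, 0, 2, 1, 3, 0, 3, 1, 3, 3, 0]),
    (13631886, [0, 4, 4, 2, 0, 4, 1, 1, 2, 1]),
    (13636881, [2, 1, 3, 0, 4, 4, 0, 2, 1, 1]),
    (14714004, [0, 0, 3, 0, 0, 4, 2, 0, 4, 0, 4, 0]),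
    (14716939, [4, 1, 3, 1, 3, 2, 1, 1, 4, 0])]),
  (8, 5279, [
    (5279, [])])]

open Cfsg.Agent.Lib.Helper1 in
set_option maxRecDepth 1000000 in
theorem cls_ok : cls.all (fun c => certOK ([Cfsg.Agent.Lib.Helper1.O5] : List ℕ) ([] : List ℕ) c.2.1 c.2.2) = true := by decide +kernel

set_option maxRecDepth 1000000 in
theorem cls_keys : (cls.map (fun c => c.1)).Nodup := by decide +kernel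

open Cfsg.Agent.Lib.Helper1 in
set_option maxRecDepth 1000000 in
theorem cls_cover : ((allWords gbasis).filter P).all (fun n => cls.any (fun c => c.1 == inv n
    && (c.2.2.map Prod.fst).contains n)) = true := by decide +kernel

open Cfsg.Agent.Lib.Helper1 in
open scoped Pointwise in
theorem cls_trans (n n' : ℕ) (hn : n ∈ allWords gbasis) (hP : P n = true)
    (hn' : n' ∈ allWords gbasis) (hP' : P n' = true) (hinv : inv n = inv n') :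
    ∃ g ∈ Cfsg.M24, g • S n = S n' ∧ (∀ f ∈ ([Cfsg.Agent.Lib.Helper1.O5] : List ℕ), g • S f = S f)
      ∧ (∀ i ∈ ([] : List ℕ), g (pt i) = pt i) :=
  classes_trans P inv ([Cfsg.Agent.Lib.Helper1.O5] : List ℕ) ([] : List ℕ) cls cls_ok cls_keys cls_cover n n' hn hP hn' hP' hinv
/-- Two octads meeting a fixed octad in equally many points are in the same orbit of its stabiliser. -/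
theorem result (o o' o'' : Finset Cfsg.GolayPt) (ho : o ∈ Cfsg.octads) (ho' : o' ∈ Cfsg.octads) (ho'' : o'' ∈ Cfsg.octads) (h : (o ∩ o').card = (o ∩ o'').card) : ∃ g : Equiv.Perm Cfsg.GolayPt, g ∈ Cfsg.M24 ∧ g • o = o ∧ g • o' = o'' := by
  obtain ⟨g, hg, rfl⟩ := Cfsg.Agent.Lib.Helper1.octad_reach o ho
  have hinv := Cfsg.M24.inv_mem hg
  rw [Cfsg.Agent.Lib.Helper1.card_smul_inter, Cfsg.Agent.Lib.Helper1.card_smul_inter] at h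
  obtain ⟨n, hn, h8, hnS⟩ := (Cfsg.Agent.Lib.Helper1.mem_octads_iff (g⁻¹ • o')).1
    ((Cfsg.Agent.Lib.Helper1.smul_mem_weight_iff g⁻¹ hinv o' 8).2 ho')
  obtain ⟨n', hn', h8', hnS'⟩ := (Cfsg.Agent.Lib.Helper1.mem_octads_iff (g⁻¹ • o'')).1
    ((Cfsg.Agent.Lib.Helper1.smul_mem_weight_iff g⁻¹ hinv o'' 8).2 ho'')
  rw [hnS, hnS'] at h
  have h' : inv n = inv n' := by
    have e1 := Cfsg.Agent.Lib.Helper1.S_inter Cfsg.Agent.Lib.Helper1.O5 n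
    have e2 := Cfsg.Agent.Lib.Helper1.S_inter Cfsg.Agent.Lib.Helper1.O5 n'
    have c1 := Cfsg.Agent.Lib.Helper1.S_card (Cfsg.Agent.Lib.Helper1.O5 &&& n)
    have c2 := Cfsg.Agent.Lib.Helper1.S_card (Cfsg.Agent.Lib.Helper1.O5 &&& n')
    show Cfsg.Agent.Lib.Helper1.pcI 24 (Cfsg.Agent.Lib.Helper1.O5 &&& n) = Cfsg.Agent.Lib.Helper1.pcI 24 (Cfsg.Agent.Lib.Helper1.O5 &&& n')
    rw [← c1, ← c2, ← e1, ← e2]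
    exact h
  obtain ⟨k, hk, k1, k2, -⟩ := cls_trans n n' hn (by simp [P, h8]) hn' (by simp [P, h8']) h'
  refine ⟨g * k * g⁻¹, Cfsg.M24.mul_mem (Cfsg.M24.mul_mem hg hk) hinv, ?_, ?_⟩
  · rw [mul_smul, mul_smul, inv_smul_smul]
    have := k2 Cfsg.Agent.Lib.Helper1.O5 (by simp)
    exact congrArg (g • ·) this
  · rw [mul_smul, mul_smul, hnS, k1, ← hnS', smul_inv_smul]

end Cfsg.Agent.S1556
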