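import Cfsg.Statements.S1599
import Mathlib
import Cfsg.Agent.Lib.Helper1.Quartets

set_option autoImplicit false
open scoped Pointwise
open Cfsg

namespace Cfsg.Agent.S1599


open Cfsg.Agent.Lib.Helper9 Cfsg.Agent.Lib.Helper1
open Cfsg
open scoped Pointwise

/-- The joint stabiliser of the base dodecad and the base quartet. -/
def K2 : Subgroup (Equiv.Perm GolayPt) :=
  Kdod ⊓ MulAction.stabilizer (Equiv.Perm GolayPt) (obj Q0l)

theorem card_K2 : Nat.card K2 = 432 := cq.2

theorem memK2 (l : List ℕ) (hl : isM24L l = true)
    (h : (actM l 0 8551822 == 8551822 && sameSet (Q0l.map (actM l 0)) Q0l) = true) :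
    permL l ∈ K2 := by
  rw [Bool.and_eq_true] at h
  exact ⟨memKdod l hl h.1, stab_obj_of_sameSet (isPermL_of_isM24L hl) _ h.2⟩

def gensK2 : List (List ℕ) :=
  [[22, 3, 12, 7, 9, 16, 6, 1, 8, 19, 17, 2, 14, 11, 23, 21, 5, 10, 0, 4, 18, 20, 15, 13],
   [0, 12, 3, 8, 19, 22, 5, 23, 11, 9, 7, 1, 17, 10, 2, 6, 15, 14, 16, 4, 21, 18, 20, 13],
   [6, 14, 11, 17, 4, 0, 18, 3, 23, 19, 1, 13, 10, 8, 12, 22, 5, 2, 21, 9, 20, 15, 16, 7]]


theorem gensK2_ok : gensK2.all (fun l => isM24L l &&
    (actM l 0 8551822 == 8551822 && sameSet (Q0l.map (actM l 0)) Q0l)) = true := by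
  decide +kernel

def cr1_X : ℕ := 0x824000003008000c0400018282000800488000210400140280400802050000280200108480240002100400488000010a80208002050000500200080c80180002050000600400008a80110002200200488000040c800900020084004402003008800480020802004104003008800006024008002480001900800006022800005400000188800006021080006100000c08

def cr1_P : ℕ := 0x1000000000401000400000b02000401000b02000000000002000500000a010005000000

def cr1_D : ℕ := 0x10202020202010102030200

def cr1_levels : List (ℕ × List (List ℕ)) :=
  [(3, [[0, 1, 2, 3, 4, 5, 6, 7, 8, 9, 10, 11, 12, 13, 14, 15, 16, 17, 18, 19, 20, 21, 22, 23],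
      [18, 1, 2, 7, 19, 5, 6, 3, 8, 9, 17, 12, 11, 14, 13, 21, 16, 10, 0, 4, 22, 15, 20, 23],
      [0, 1, 2, 8, 9, 18, 6, 7, 3, 4, 13, 14, 17, 10, 11, 16, 15, 12, 5, 19, 22, 21, 20, 23],
      [6, 23, 2, 10, 9, 22, 0, 7, 13, 4, 3, 11, 17, 8, 14, 15, 16, 12, 20, 19, 18, 21, 5, 1],
      [18, 1, 2, 11, 19, 0, 22, 17, 13, 4, 3, 10, 7, 14, 8, 15, 16, 12, 5, 9, 6, 21, 20, 23],
      [0, 1, 2, 12, 4, 18, 20, 10, 14, 19, 7, 17, 3, 13, 8, 21, 16, 11, 5, 9, 6, 15, 22, 23],
      [5, 1, 2, 13, 4, 18, 22, 11, 17, 9, 8, 14, 3, 12, 7, 16, 21, 10, 0, 19, 6, 15, 20, 23],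
      [0, 1, 2, 14, 19, 5, 20, 10, 12, 4, 13, 8, 11, 7, 17, 16, 21, 3, 18, 9, 22, 15, 6, 23],
      [0, 1, 2, 17, 9, 5, 22, 13, 11, 19, 7, 12, 8, 10, 3, 21, 15, 14, 18, 4, 6, 16, 20, 23]]),
   (0, [[0, 1, 2, 3, 4, 5, 6, 7, 8, 9, 10, 11, 12, 13, 14, 15, 16, 17, 18, 19, 20, 21, 22, 23],
      [5, 1, 2, 3, 4, 0, 6, 8, 7, 19, 11, 10, 13, 12, 17, 15, 21, 14, 18, 9, 22, 16, 20, 23],
      [20, 23, 2, 3, 4, 22, 18, 14, 17, 9, 10, 11, 13, 12, 7, 15, 21, 8, 6, 19, 0, 16, 5, 1],
      [22, 23, 2, 3, 4, 20, 18, 17, 14, 19, 11, 10, 12, 13, 8, 15, 16, 7, 6, 9, 5, 21, 0, 1]])]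

set_option maxHeartbeats 40000000 in
theorem cr1 : (orbS K2 (obj [3080, 24832, 135296, 8388614])).ncard = 12 ∧
    Nat.card ↥(K2 ⊓ MulAction.stabilizer (Equiv.Perm GolayPt) (obj [3080, 24832, 135296, 8388614])) = 36 := by
  have h := orbK_exact K2 432 card_K2 (fun l => actM l 0 8551822 == 8551822 && sameSet (Q0l.map (actM l 0)) Q0l) memK2
    gensK2 gensK2_ok 4 cr1_X cr1_P cr1_D 12 0 [3080, 24832, 135296, 8388614] (by decide +kernel)
    (by decide +kernel) (by decide +kernel) cr1_levels (by decide +kernel) (by decide +kernel)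
  have e : chainProd cr1_levels = 36 := by decide +kernel
  rw [e] at h
  exact h

def cr2_X : ℕ := 0x82040000508000280800010682010000680000108800040682000400608000180800050282000200580000208800050480480002210000140800008680408002140000210800080680400402110000240800088280400202240000110800088480300002088000450000000e802008020c0000418000100680200402408000100a000d0080200202440000100c000980801008020180004c0000200680100402410000200a000c8080100202480000200c00058080088002300000400600050880080402100800408200250080080202010800408400340080050002000600700000088880040402010200600800188080040202010400408800380080010402040200480800308080010202040400500800288080008402040800480200310080008202200800480400150080000c02048000490000300280000a020900004480003004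

def cr2_P : ℕ := 0xf00001202000900000000000801000100001701001200001401000302000002001002001100000201001401000c010011020017010017020014000010000001010008010000020008000003000000

def cr2_D : ℕ := 0x30403010303020403020102030403040302020302030301030200

def cr2_levels : List (ℕ × List (List ℕ)) :=
  [(0, [[0, 1, 2, 3, 4, 5, 6, 7, 8, 9, 10, 11, 12, 13, 14, 15, 16, 17, 18, 19, 20, 21, 22, 23],
      [5, 1, 2, 3, 4, 0, 6, 8, 7, 19, 11, 10, 13, 12, 17, 15, 21, 14, 18, 9, 22, 16, 20, 23],
      [6, 14, 11, 10, 4, 21, 20, 1, 12, 9, 3, 2, 17, 8, 23, 15, 5, 13, 0, 19, 18, 22, 16, 7],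
      [16, 7, 11, 10, 4, 18, 0, 13, 23, 19, 2, 3, 17, 8, 12, 15, 5, 1, 20, 9, 21, 22, 6, 14],
      [18, 8, 10, 11, 4, 21, 5, 23, 12, 19, 3, 2, 7, 14, 1, 15, 20, 13, 22, 9, 6, 0, 16, 17],
      [20, 23, 2, 3, 4, 22, 18, 14, 17, 9, 10, 11, 13, 12, 7, 15, 21, 8, 6, 19, 0, 16, 5, 1],
      [21, 8, 10, 11, 4, 18, 5, 12, 23, 9, 2, 3, 14, 7, 13, 15, 0, 1, 22, 19, 16, 20, 6, 17],
      [22, 23, 2, 3, 4, 20, 18, 17, 14, 19, 11, 10, 12, 13, 8, 15, 16, 7, 6, 9, 5, 21, 0, 1]]),
   (1, [[0, 1, 2, 3, 4, 5, 6, 7, 8, 9, 10, 11, 12, 13, 14, 15, 16, 17, 18, 19, 20, 21, 22, 23],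
      [0, 12, 3, 2, 4, 22, 21, 7, 17, 19, 10, 11, 1, 23, 14, 15, 18, 8, 16, 9, 20, 6, 5, 13]])]

set_option maxHeartbeats 40000000 in
theorem cr2 : (orbS K2 (obj [12292, 17536, 133376, 8388618])).ncard = 27 ∧
    Nat.card ↥(K2 ⊓ MulAction.stabilizer (Equiv.Perm GolayPt) (obj [12292, 17536, 133376, 8388618])) = 16 := by
  have h := orbK_exact K2 432 card_K2 (fun l => actM l 0 8551822 == 8551822 && sameSet (Q0l.map (actM l 0)) Q0l) memK2
    gensK2 gensK2_ok 4 cr2_X cr2_P cr2_D 27 0 [12292, 17536, 133376, 8388618] (by decide +kernel)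
    (by decide +kernel) (by decide +kernel) cr2_levels (by decide +kernel) (by decide +kernel)
  have e : chainProd cr2_levels = 16 := by decide +kernel
  rw [e] at h
  exact h

def cr3_X : ℕ := 0x822000005008000806000580821000006008000d0000008682080000408800200600150082040000480400218000100a82040000410800300400088282010000440800300200088482010000408200200c001c00820080004808002500001006820004004c0000210800108282000400400a00340000098082000200418000280400140882000200400c003100000c80806000021008000c8000010680500002200800098000040680480002040400200a001180804800020088003004000502804400020108002880001006804100020408002006001880804080020808003002000504804080020102002c0000100c804004020c0000210200108880400402000a00380000058080400202018000280800140480400202000c003080000d00803000020404004082000908803000020102004804000488802800020006004480001108802100020480004006001808802008025000000884000502802008020104004802001480802004021400004102000888802004020108005800000482802002021100004808000484802002020804005080000508801400020900004006002088801080020006004900002408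801008026000000882000504801008020402004084002900801004022400004088000902801004020082006800000508801002022100004404000888801002020408006080000904800c0002110000608000000e80088002040200510000200c80088002010400640000100a80080802408000310000040680080402440000208800110280080402018000700000040a80080202200400450000108880080202048000600800110480050002208000480200100c80050002180000408400200a80040802410000308000080680040402480000208200110880040402300000418000080a80040202100800490000208480040202088000500400210880018002240000580000000e800108024400003800000086800104022008004480001802800104020880006002001408800102024080002408001804800102023000004c0000008c800088024800003400000106800084021002004500002808800084020900005008002402800082024100002404001808800082020c0000700000010c80000c02400200288000150080000c022100005080000c0280000a02400400250000188080000a021400006800000184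

def cr3_P : ℕ := 0x3702004302000401001300001902003f01003300004202003700003f01003600000c02002100000f00000402000802001902003301001600004701001a02002e01000b00000202001001000501000e00003602003e01000602000601003402004600003400000102003601004600002c02000502001300001401004302001600001600004601000000000000002002003500001e02001a01001901001000000801001e00001a01000300004301000900001002000202000101001f02000e01000c020041020014020015010014000015000041000000

def cr3_D : ℕ := 0x30304040204030503040404050504050203050402050504030404040505050504050504040504040303050504010105060402020305040204030503040504040404030303030400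

def cr3_levels : List (ℕ × List (List ℕ)) :=
  [(0, [[0, 17, 8, 12, 19, 15, 21, 7, 2, 9, 23, 11, 3, 13, 14, 5, 16, 1, 20, 4, 18, 6, 22, 10],
      [5, 1, 2, 3, 4, 0, 6, 8, 7, 19, 11, 10, 13, 12, 17, 15, 21, 14, 18, 9, 22, 16, 20, 23],
      [15, 14, 7, 13, 9, 5, 16, 2, 8, 4, 10, 23, 12, 3, 1, 0, 6, 17, 22, 19, 20, 21, 18, 11]]),
   (1, [[0, 1, 2, 3, 4, 5, 6, 7, 8, 9, 10, 11, 12, 13, 14, 15, 16, 17, 18, 19, 20, 21, 22, 23],
      [0, 17, 8, 12, 19, 15, 21, 7, 2, 9, 23, 11, 3, 13, 14, 5, 16, 1, 20, 4, 18, 6, 22, 10]])]

set_option maxHeartbeats 40000000 in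
theorem cr3 : (orbS K2 (obj [388, 26624, 136192, 8388618])).ncard = 72 ∧
    Nat.card ↥(K2 ⊓ MulAction.stabilizer (Equiv.Perm GolayPt) (obj [388, 26624, 136192, 8388618])) = 6 := by
  have h := orbK_exact K2 432 card_K2 (fun l => actM l 0 8551822 == 8551822 && sameSet (Q0l.map (actM l 0)) Q0l) memK2
    gensK2 gensK2_ok 4 cr3_X cr3_P cr3_D 72 0 [388, 26624, 136192, 8388618] (by decide +kernel)
    (by decide +kernel) (by decide +kernel) cr3_levels (by decide +kernel) (by decide +kernel)
  have e : chainProd cr3_levels = 6 := by decide +kernel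
  rw [e] at h
  exact h

def cr4_X : ℕ := 0x82400000290000148000000e82400000240200110400088882400000208400180200050882200000490000140400008a82200000440200188000010c822000004084001102000c0882100000480200240400018882100000448000210200080c82100000410400288000040a82080000610000100c00048282080000500200240800018482080000440400308000010a82040000600200190000008c82010000500400248000080a820080006004001108000c0282008000540000200a00090482008000410200380000040c820008007000000902000484820008004500002082001804820008004006002c0000118082000400510000280200048882000200640000108400090880600002090000108200040c80600002040200180400018880600002008400150000080a80500002080200250000008c80500002048000280400010a805000020104002082000c0880480002100200248000010c80440002200200180800018480440002108000200c00090280440002080400310000008a80410002280000100a000484804100021004002088000c0280410002008200340000080c80408002200400190000040a804008023000000904000482804008020880002404001102804008020006002180001c00804004022080001402000908804002021800002104000488803000024008000c02000184802800024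10000140200008c80280002108000400a00050480280002040800500400018280240002400200108800090480240002080800510000008680240002018000400c00180280210002480000108400040a802100021002004088000c0480210002000c00540000088280208002400400140800090280208002180000410800040680208002000a004c00001104802008020082004404001900802004020802004408001180802002020088004104001c0080180002400200210800048480180002208000440800010680180002000c00418000240280140002408000280200010c80140002200400480800018280140002000a006100000884801100024004002808000482801100020c0000400a00208480110002008800640000080680108002440000210400080a80108002280000400c000502801080020108006002000c04801008020804004102002480801004020808004402002180801002020084004108002c00800c00024004003002000188800c00022008004102001084800c0002008200500800210480090002600000100600048880090002140000400c00208280090002000a00508000240480088002400800210200140480080802240000410400108280080802100400600200058080080802010200540000208480080402200200410800148080080202500000218000040c80050002400800280400108280048002500000200600090880048002210000400a00180480048002000c00680000110280040802280000408200110480040802100200600400098080040802008400580000210280040402008800500200290080040202600000118000080c800180024002003004000c08800180021008004404002802800180020804006008001402800108022004005002000c80800108021080004804002402800108020802006080001404800104025000002c0000008a800102020808006004001480800088022002005004000d00800088021100004402002804800088020404006100001802800084026000001c0000010a80008202100400440800290080000c02180000640000018280000a022080005100000c04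

def cr4_P : ℕ := 0x3901004002006000004c02004400004e00006002002401001702002f02006701000f01006001003e01006b00000200003400002501002200006702002701006702004d02003801005c00005e01004902002202003100001601004401000001002a00000000005700002101002400006100000b01002f00001e02006802005c01000c02003e00006b01003601003802006b02000200004a01001601001401001500004302005501001d02006302001c00005d02000001005002005701000801004c01006801004702004902004a00005801001301003902003600000f02001300002d00000400006200000c01004200002700001b00001402004001004a02002b00001702002a01002b00003201001a00003b00002f02003b02003a02003900002201004101005f00006800003000001502000c00002b010064020017000065000000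

def cr4_D : ℕ := 0x30504020305040403020403040504040605040403040405050605040604030104010405040505020403050405040505040402040504050505040505010504040203050502050403050304050403040403040505020303040305050502050503040605030604040305030500

def cr4_levels : List (ℕ × List (List ℕ)) :=
  [(0, [[0, 1, 2, 3, 4, 5, 6, 7, 8, 9, 10, 11, 12, 13, 14, 15, 16, 17, 18, 19, 20, 21, 22, 23],
      [5, 1, 2, 3, 4, 0, 6, 8, 7, 19, 11, 10, 13, 12, 17, 15, 21, 14, 18, 9, 22, 16, 20, 23],
      [20, 23, 2, 3, 4, 22, 18, 14, 17, 9, 10, 11, 13, 12, 7, 15, 21, 8, 6, 19, 0, 16, 5, 1],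
      [22, 23, 2, 3, 4, 20, 18, 17, 14, 19, 11, 10, 12, 13, 8, 15, 16, 7, 6, 9, 5, 21, 0, 1]])]

set_option maxHeartbeats 40000000 in
theorem cr4 : (orbS K2 (obj [3076, 20736, 139392, 8388618])).ncard = 108 ∧
    Nat.card ↥(K2 ⊓ MulAction.stabilizer (Equiv.Perm GolayPt) (obj [3076, 20736, 139392, 8388618])) = 4 := by
  have h := orbK_exact K2 432 card_K2 (fun l => actM l 0 8551822 == 8551822 && sameSet (Q0l.map (actM l 0)) Q0l) memK2
    gensK2 gensK2_ok 4 cr4_X cr4_P cr4_D 108 0 [3076, 20736, 139392, 8388618] (by decide +kernel)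
    (by decide +kernel) (by decide +kernel) cr4_levels (by decide +kernel) (by decide +kernel)
  have e : chainProd cr4_levels = 4 := by decide +kernel
  rw [e] at h
  exact h


/-- The list of masks is a quartet of the base dodecad. -/
def isQuartL (l : List ℕ) : Bool :=
  l.length == 4 && pwLt l &&
    l.all (fun a => decide (a < 2 ^ 24) && pc 24 a == 3 && a &&& 8551822 == a) &&
    l.all (fun a => l.all (fun b => a == b || hexList.contains (a ||| b)))

theorem obj_mem_quartets {l : List ℕ} (h : isQuartL l = true) :
    obj l ∈ quartets (mset 8551822) := by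
  unfold isQuartL at h
  simp only [Bool.and_eq_true, beq_iff_eq, List.all_eq_true, decide_eq_true_eq,
    Bool.or_eq_true, List.contains_iff_mem] at h
  obtain ⟨⟨⟨h4, hpw⟩, htri⟩, hhex⟩ := h
  refine ⟨by rw [card_obj hpw (fun a ha => (htri a ha).1.1), h4], ?_, ?_⟩
  · intro s hs
    obtain ⟨a, ha, rfl⟩ := mem_obj.mp hs
    refine ⟨by rw [card_mset]; exact (htri a ha).1.2, ?_⟩
    rw [← Finset.inter_eq_left, ← mset_and, (htri a ha).2]
  · intro s hs s' hs' hne
    obtain ⟨a, ha, rfl⟩ := mem_obj.mp hs
    obtain ⟨b, hb, rfl⟩ := mem_obj.mp hs'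
    rcases hhex a ha b hb with h1 | h1
    · exact absurd (by rw [h1]) hne
    · rw [← mset_or]
      exact hex_of_mem h1

theorem c0 : (orbS K2 (obj Q0l)).ncard = 1 := by
  have h : orbS K2 (obj Q0l) = {obj Q0l} := by
    ext y
    rw [Set.mem_singleton_iff]
    constructor
    · rintro ⟨k, hk, rfl⟩
      exact hk.2
    · rintro rfl
      exact ⟨1, K2.one_mem, one_smul _ _⟩
  rw [h, Set.ncard_singleton]

section Transport

variable {A B C : Type*} [MulAction (Equiv.Perm GolayPt) A] [MulAction (Equiv.Perm GolayPt) B]
  [MulAction (Equiv.Perm GolayPt) C]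

theorem orbit_transport2 {g : Equiv.Perm GolayPt} (hg : g ∈ M24) (s1 : B) (s2 : C) (x : A) :
    MulAction.orbit ↥(MulAction.stabilizer ↥M24 (g • s1) ⊓ MulAction.stabilizer ↥M24 (g • s2))
        (g • x) =
      (fun y => g • y) '' orbS ((M24 ⊓ MulAction.stabilizer (Equiv.Perm GolayPt) s1) ⊓
        MulAction.stabilizer (Equiv.Perm GolayPt) s2) x := by
  ext z
  constructor
  · rintro ⟨⟨⟨h, hhM⟩, hh1, hh2⟩, rfl⟩
    have e1 : h • g • s1 = g • s1 := hh1
    have e2 : h • g • s2 = g • s2 := hh2
    refine ⟨(g⁻¹ * h * g) • x, ⟨g⁻¹ * h * g,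
      ⟨⟨M24.mul_mem (M24.mul_mem (M24.inv_mem hg) hhM) hg, ?_⟩, ?_⟩, rfl⟩, ?_⟩
    · show (g⁻¹ * h * g) • s1 = s1
      rw [mul_smul, mul_smul, e1, inv_smul_smul]
    · show (g⁻¹ * h * g) • s2 = s2
      rw [mul_smul, mul_smul, e2, inv_smul_smul]
    · show g • (g⁻¹ * h * g) • x = h • g • x
      rw [mul_smul, mul_smul, smul_inv_smul]
  · rintro ⟨_, ⟨k, ⟨⟨hkM, hk1⟩, hk2⟩, rfl⟩, rfl⟩
    have e1 : k • s1 = s1 := hk1
    have e2 : k • s2 = s2 := hk2
    refine ⟨⟨⟨g * k * g⁻¹, M24.mul_mem (M24.mul_mem hg hkM) (M24.inv_mem hg)⟩, ?_, ?_⟩, ?_⟩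
    · show (g * k * g⁻¹) • g • s1 = g • s1
      rw [mul_smul, mul_smul, inv_smul_smul, e1]
    · show (g * k * g⁻¹) • g • s2 = g • s2
      rw [mul_smul, mul_smul, inv_smul_smul, e2]
    · show (g * k * g⁻¹) • g • x = g • k • x
      rw [mul_smul, mul_smul, inv_smul_smul]

theorem ncard_orbit_transport2 {g : Equiv.Perm GolayPt} (hg : g ∈ M24) (s1 : B) (s2 : C)
    (x : A) :
    (MulAction.orbit ↥(MulAction.stabilizer ↥M24 (g • s1) ⊓ MulAction.stabilizer ↥M24 (g • s2))
        (g • x)).ncard =
      (orbS ((M24 ⊓ MulAction.stabilizer (Equiv.Perm GolayPt) s1) ⊓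
        MulAction.stabilizer (Equiv.Perm GolayPt) s2) x).ncard := by
  rw [orbit_transport2 hg]
  exact Set.ncard_image_of_injective _ (MulAction.injective g)

theorem mem_orbit_transport2 {g : Equiv.Perm GolayPt} (hg : g ∈ M24) (s1 : B) (s2 : C)
    (x s : A) :
    s ∈ MulAction.orbit ↥(MulAction.stabilizer ↥M24 (g • s1) ⊓
        MulAction.stabilizer ↥M24 (g • s2)) (g • x) ↔
      g⁻¹ • s ∈ orbS ((M24 ⊓ MulAction.stabilizer (Equiv.Perm GolayPt) s1) ⊓
        MulAction.stabilizer (Equiv.Perm GolayPt) s2) x := by
  rw [orbit_transport2 hg]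
  constructor
  · rintro ⟨y, hy, rfl⟩
    rw [inv_smul_smul]; exact hy
  · intro h
    exact ⟨g⁻¹ • s, h, smul_inv_smul g s⟩

end Transport

theorem exists_pair_dq {d : Finset GolayPt} (hd : d ∈ dodecads) {Q : Finset (Finset GolayPt)}
    (hQ : Q ∈ quartets d) : ∃ g ∈ M24, g • mset 8551822 = d ∧ g • obj Q0l = Q := by
  obtain ⟨g, hg, rfl⟩ := exists_smul_eq_dodecad hd
  rw [quartets_smul hg] at hQ
  obtain ⟨Q1, hQ1, rfl⟩ := hQ
  rw [quartets_eq] at hQ1
  obtain ⟨k, hk, rfl⟩ := hQ1
  refine ⟨g * k, M24.mul_mem hg hk.1, ?_, ?_⟩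
  · rw [mul_smul, smul_d0 hk]
  · show (g * k) • obj Q0l = g • k • obj Q0l
    rw [mul_smul]

/-- A quartet stabiliser has five orbits on the quartets of its dodecad, of sizes 1, 12, 27, 72, 108. -/
theorem result (d : Finset Cfsg.GolayPt) (hd : d ∈ Cfsg.dodecads) (Q : Finset (Finset Cfsg.GolayPt)) (hQ : Q ∈ Cfsg.quartets d) : ∃ X₁ ∈ Cfsg.quartets d, ∃ X₂ ∈ Cfsg.quartets d, ∃ X₃ ∈ Cfsg.quartets d, ∃ X₄ ∈ Cfsg.quartets d, (MulAction.orbit ↥(MulAction.stabilizer Cfsg.M24 d ⊓ MulAction.stabilizer Cfsg.M24 Q) X₁).ncard = 12 ∧ (MulAction.orbit ↥(MulAction.stabilizer Cfsg.M24 d ⊓ MulAction.stabilizer Cfsg.M24 Q) X₂).ncard = 27 ∧ (MulAction.orbit ↥(MulAction.stabilizer Cfsg.M24 d ⊓ MulAction.stabilizer Cfsg.M24 Q) X₃).ncard = 72 ∧ (MulAction.orbit ↥(MulAction.stabilizer Cfsg.M24 d ⊓ MulAction.stabilizer Cfsg.M24 Q) X₄).ncard = 108 ∧ Cfsg.quartets d = {Q} ∪ MulAction.orbit ↥(MulAction.stabilizer Cfsg.M24 d ⊓ MulAction.stabilizer Cfsg.M24 Q) X₁ ∪ MulAction.orbit ↥(MulAction.stabilizer Cfsg.M24 d ⊓ MulAction.stabilizer Cfsg.M24 Q) X₂ ∪ MulAction.orbit ↥(MulAction.stabilizer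 Cfsg.M24 d ⊓ MulAction.stabilizer Cfsg.M24 Q) X₃ ∪ MulAction.orbit ↥(MulAction.stabilizer Cfsg.M24 d ⊓ MulAction.stabilizer Cfsg.M24 Q) X₄ := by
  obtain ⟨g, hg, rfl, rfl⟩ := exists_pair_dq hd hQ
  have hx0 : obj Q0l ∈ quartets (mset 8551822) := Q0_mem
  have hx1 : obj [3080, 24832, 135296, 8388614] ∈ quartets (mset 8551822) := obj_mem_quartets (by decide +kernel)
  have hx2 : obj [12292, 17536, 133376, 8388618] ∈ quartets (mset 8551822) := obj_mem_quartets (by decide +kernel)
  have hx3 : obj [388, 26624, 136192, 8388618] ∈ quartets (mset 8551822) := obj_mem_quartets (by decide +kernel)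
  have hx4 : obj [3076, 20736, 139392, 8388618] ∈ quartets (mset 8551822) := obj_mem_quartets (by decide +kernel)
  have hinv : ∀ h ∈ K2, ∀ s ∈ quartets (mset 8551822), h • s ∈ quartets (mset 8551822) := by
    intro h hh s hs
    have := smul_quartets hh.1.1 hs
    rw [smul_d0 hh.1] at this
    exact this
  have hgq : ∀ s ∈ quartets (mset 8551822), g • s ∈ quartets (g • mset 8551822) :=
    fun s hs => smul_quartets hg hs
  have hxs : ∀ x ∈ [obj Q0l, obj [3080, 24832, 135296, 8388614], obj [12292, 17536, 133376, 8388618], obj [388, 26624, 136192, 8388618], obj [3076, 20736, 139392, 8388618]], x ∈ quartets (mset 8551822) := by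
    intro x hx
    simp only [List.mem_cons, List.not_mem_nil, or_false] at hx
    rcases hx with rfl | rfl | rfl | rfl | rfl <;> assumption
  have hcardq : (quartets (mset 8551822)).ncard = 220 := by
    rw [quartets_eq]; exact cq.1
  have cover := cover_of_orbits K2 (quartets (mset 8551822)) (Set.toFinite _)
    hinv [obj Q0l, obj [3080, 24832, 135296, 8388614], obj [12292, 17536, 133376, 8388618], obj [388, 26624, 136192, 8388618], obj [3076, 20736, 139392, 8388618]] hxs
    (by simp only [List.map_cons, List.map_nil]; rw [c0, cr1.1, cr2.1, cr3.1, cr4.1]; decide)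
    (by
      simp only [List.map_cons, List.map_nil, List.sum_cons, List.sum_nil]
      rw [c0, cr1.1, cr2.1, cr3.1, cr4.1, hcardq]
      decide)
  have e1 : (MulAction.orbit ↥(MulAction.stabilizer ↥M24 (g • mset 8551822) ⊓
      MulAction.stabilizer ↥M24 (g • obj Q0l)) (g • obj [3080, 24832, 135296, 8388614])).ncard = 12 := by
    rw [ncard_orbit_transport2 hg]; exact cr1.1
  have e2 : (MulAction.orbit ↥(MulAction.stabilizer ↥M24 (g • mset 8551822) ⊓
      MulAction.stabilizer ↥M24 (g • obj Q0l)) (g • obj [12292, 17536, 133376, 8388618])).ncard = 27 := by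
    rw [ncard_orbit_transport2 hg]; exact cr2.1
  have e3 : (MulAction.orbit ↥(MulAction.stabilizer ↥M24 (g • mset 8551822) ⊓
      MulAction.stabilizer ↥M24 (g • obj Q0l)) (g • obj [388, 26624, 136192, 8388618])).ncard = 72 := by
    rw [ncard_orbit_transport2 hg]; exact cr3.1
  have e4 : (MulAction.orbit ↥(MulAction.stabilizer ↥M24 (g • mset 8551822) ⊓
      MulAction.stabilizer ↥M24 (g • obj Q0l)) (g • obj [3076, 20736, 139392, 8388618])).ncard = 108 := by
    rw [ncard_orbit_transport2 hg]; exact cr4.1
  refine ⟨g • obj [3080, 24832, 135296, 8388614], hgq _ hx1, g • obj [12292, 17536, 133376, 8388618], hgq _ hx2, g • obj [388, 26624, 136192, 8388618], hgq _ hx3,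
    g • obj [3076, 20736, 139392, 8388618], hgq _ hx4, e1, e2, e3, e4, ?_⟩
  ext s
  simp only [Set.mem_union, Set.mem_singleton_iff, mem_orbit_transport2 hg]
  constructor
  · intro hs
    have hs' : g⁻¹ • s ∈ quartets (mset 8551822) := by
      have := smul_quartets (M24.inv_mem hg) hs
      rw [inv_smul_smul] at this
      exact this
    obtain ⟨x, hx, hmem⟩ := cover (g⁻¹ • s) hs'
    simp only [List.mem_cons, List.not_mem_nil, or_false] at hx
    rcases hx with rfl | rfl | rfl | rfl | rfl
    · obtain ⟨k, hk, hk2⟩ := hmem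
      have hk3 : k • obj Q0l = obj Q0l := hk.2
      rw [hk3] at hk2
      refine Or.inl (Or.inl (Or.inl (Or.inl ?_)))
      rw [hk2, smul_inv_smul]
    · exact Or.inl (Or.inl (Or.inl (Or.inr hmem)))
    · exact Or.inl (Or.inl (Or.inr hmem))
    · exact Or.inl (Or.inr hmem)
    · exact Or.inr hmem
  · have key : ∀ x ∈ quartets (mset 8551822),
        g⁻¹ • s ∈ orbS ((M24 ⊓ MulAction.stabilizer (Equiv.Perm GolayPt) (mset 8551822)) ⊓
          MulAction.stabilizer (Equiv.Perm GolayPt) (obj Q0l)) x →
        s ∈ quartets (g • mset 8551822) := by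
      rintro x hx ⟨k, hk, he⟩
      have h1 : k • x ∈ quartets (mset 8551822) := hinv k hk x hx
      have h2 := hgq _ h1
      rwa [he, smul_inv_smul] at h2
    rintro ((((h | h) | h) | h) | h)
    · rw [h]; exact hgq _ hx0
    · exact key _ hx1 h
    · exact key _ hx2 h
    · exact key _ hx3 h
    · exact key _ hx4 h

end Cfsg.Agent.S1599
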