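import Cfsg.Statements.S1608
import Mathlib
import Cfsg.Agent.Lib.Helper1.M24Base

set_option autoImplicit false
open scoped Pointwise
open Cfsg

namespace Cfsg.Agent.S1608


open Cfsg.Agent.Lib.Helper1 in
/-- The property cutting out the relevant enumerated words. -/
def P (n : ℕ) : Bool := pcI 24 n == 8 && !n.testBit 5

open Cfsg.Agent.Lib.Helper1 in
/-- The invariant separating the classes. -/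
def inv (n : ℕ) : ℕ := pcI 24 (O5 &&& n)

set_option maxRecDepth 1000000 in
/-- Class certificates: (invariant value, base mask, words). -/
def cls : List (ℕ × ℕ × List (ℕ × List ℕ)) := [
  (0, 1009728, [
    (1009728, []),
    (3328320, [1, 4, 4, 2, 0, 4, 1, 3, 1, 3]),
    (4038912, [1, 3, 3, 1, 4, 0, 3, 0, 3, 3]),
    (4645632, [2, 0, 0, 2, 1, 4, 1, 4, 1]),
    (4819776, [3, 0, 3, 3, 0, 3, 0, 4, 1, 4]),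
    (7612992, [1, 1, 3, 2, 1, 4, 2, 0, 3, 0]),
    (8077824, [4, 0, 4, 0, 3, 1, 3, 3, 2, 0]),
    (9929280, [3, 2, 1, 1, 4, 2, 1, 4, 4, 0]),
    (10021376, [1, 1, 3, 2, 0, 3, 0, 3, 3, 2, 0]),
    (10832640, [1, 4, 0, 4, 0, 0, 4, 2, 0, 4]),
    (11150144, [1, 4, 1, 3, 2, 0, 4, 2, 0, 0]),
    (13721920, [1, 1, 1, 2, 1, 1, 3, 2, 0, 3, 0, 0]),
    (14551296, [0, 4, 2, 1, 1, 4, 0, 3, 3, 2]),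
    (14919680, [0, 3, 0, 3, 0, 2, 1, 1, 2]),
    (15515712, [4, 4, 1, 4, 4, 2, 1, 1, 1, 2, 0])]),
  (2, 31554, [
    (31554, []),
    (126216, [0, 3, 3, 0, 0, 4, 4, 1, 1, 4, 0, 3]),
    (175681, [3, 2, 1, 3, 1, 3, 3, 0, 4, 4, 2, 1]),
    (213833, [0, 0, 3, 3, 0, 0, 0, 4, 1, 1, 4, 0]),
    (237906, [1, 3, 0, 0, 3, 0, 0, 3, 1, 1, 4]),
    (252432, [4, 1, 2, 0, 4, 0, 4, 0, 4, 0, 0, 4]),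
    (314056, [1, 2, 1, 1, 4, 4, 1, 1, 3, 0, 0, 4]),
    (337856, [1, 3, 1, 1, 2, 0, 3, 1, 1, 1, 4, 2, 0]),
    (371206, [2, 1, 4, 1, 3, 3, 0, 0, 3, 0, 2]),
    (381252, [0, 4, 1, 3, 0, 3, 0, 3, 3, 0, 4, 0]),
    (396116, [1, 2, 0, 3, 3, 1, 3, 0, 3, 1, 3, 0, 3]),
    (493953, [0, 2, 0, 0, 4, 0, 4, 4, 2, 1, 1, 1]),
    (582081, [3, 0, 4, 1, 4, 1, 1, 3, 1, 2, 0, 0]),
    (615188, [0, 0, 0, 3, 2, 1, 1, 3, 2, 1, 1, 1]),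
    (675712, [0, 0, 0, 0, 4, 2, 0, 3, 1, 4, 0, 0, 2]),
    (702724, [4, 0, 4, 1, 3, 0, 0, 3, 1, 4, 2, 0, 0]),
    (705094, [4, 0, 4, 0, 3, 1, 3, 3, 2, 0]),
    (762504, [0, 0, 4, 0, 0, 3, 2, 0, 0, 4, 0, 4, 0, 0]),
    (797449, [1, 3, 0, 0, 3, 1, 1, 1, 4, 4, 1, 1]),
    (832080, [1, 3, 3, 0, 2, 1, 4, 4, 0, 3, 3, 2]),
    (837906, [4, 0, 3, 3, 2, 1, 4, 0, 3, 0, 3, 0]),
    (902657, [2, 0, 3, 0, 2, 0, 0, 3, 1, 3, 0]),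
    (951624, [4, 2, 0, 4, 0, 3, 2, 1, 1, 1, 3, 1]),
    (987906, [1, 3, 3, 0, 4, 0, 4, 4, 2, 0, 3]),
    (1090380, [0, 3, 1, 3, 1, 2, 0, 0, 3, 0, 0, 2]),
    (1134148, [1, 3, 0, 4, 0, 2, 1, 3, 1, 1, 2]),
    (1161408, [3, 3, 0, 4, 4, 0, 3, 1, 4, 4, 0, 3]),
    (1164162, [4, 2, 1, 4, 1, 1, 3, 3, 0, 0, 3, 2]),
    (1204944, [1, 3, 2, 0, 3, 0, 3, 3, 1, 1, 2, 0]),
    (1302533, [0, 4, 1, 4, 4, 0, 3, 3, 2, 0, 4, 2]),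
    (1337732, [4, 2, 0, 4, 4, 1, 3, 0, 4, 0, 4, 2]),
    (1351424, [3, 3, 2, 0, 3, 3, 1, 4, 0, 3, 2]),
    (1369154, [0, 0, 4, 1, 2, 0, 0, 3, 1, 3, 0, 4]),
    (1378634, [0, 3, 0, 0, 3, 3, 0, 0, 0, 3, 2, 0, 0]),
    (1405448, [1, 1, 4, 2, 1, 1, 1, 4, 4, 1, 1, 4, 1]),
    (1454401, [4, 1, 1, 4, 1, 3, 1, 4, 0, 4, 4, 0]),
    (1460739, [3, 0, 0, 4, 1, 1, 4, 1, 1, 4, 0]),
    (1484824, [0, 0, 4, 1, 1, 1, 1, 4, 4, 0, 3, 3]),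
    (1525008, [0, 0, 3, 1, 4, 1, 4, 0, 3, 1, 3, 0, 0]),
    (1584464, [3, 1, 1, 4, 0, 0, 3, 3, 0, 0, 2, 0]),
    (1647171, [1, 4, 1, 3, 2, 0, 4, 2, 0, 0]),
    (1661185, [3, 3, 0, 0, 3, 0, 4, 0, 3, 3, 0]),
    (1687640, [3, 1, 1, 3, 0, 3, 1, 4, 0, 0]),
    (1710664, [1, 4, 4, 1, 1, 3, 0, 3, 0, 3, 3]),
    (1728778, [2, 1, 4, 1, 1, 4, 4, 0, 3, 0, 2]),
    (1737489, [4, 4, 1, 1, 4, 4, 1, 1, 1, 3, 3]),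
    (1769924, [2, 0, 0, 0, 4, 0, 3, 0, 2, 1, 3, 1]),
    (1805314, [1, 4, 0, 3, 0, 3, 3, 0, 4, 0, 0]),
    (1869893, [0, 0, 2, 1, 3, 2, 0, 3, 1, 3, 2]),
    (1903248, [0, 4, 2, 1, 1, 4, 0, 3, 3, 2]),
    (1975812, [4, 2, 0, 0, 3, 0, 3, 3, 0, 4, 4, 2]),
    (2019456, [1, 4, 4, 0, 3, 1, 1, 3, 3, 1, 2, 0, 0]),
    (2141072, [3, 3, 1, 1, 4, 1, 3, 0, 2, 1, 3, 2, 0]),
    (2173253, [1, 2, 0, 0, 4, 4, 1, 4, 1, 4, 2, 0]),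
    (2255372, [1, 3, 3, 0, 2, 1, 4, 0, 0, 3, 2, 1]),
    (2296514, [0, 4, 0, 0, 0, 0, 3, 0, 4, 0, 3, 0]),
    (2322816, [1, 4, 4, 1, 3, 1, 4, 1, 1, 4, 4]),
    (2328324, [3, 1, 3, 0, 4, 0, 2, 1, 1, 1, 2, 1]),
    (2384216, [4, 1, 4, 0, 4, 1, 4, 0, 4, 4, 1, 2, 0]),
    (2392899, [0, 4, 1, 1, 3, 1, 4, 1, 1, 4, 4, 1]),
    (2422785, [4, 0, 3, 3, 1, 4, 1, 1, 1, 1]),
    (2460752, [0, 4, 0, 3, 3, 0, 0, 0, 0, 4, 1, 3]),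
    (2501890, [0, 4, 0, 0, 0, 0, 3, 2, 1, 4, 0, 0]),
    (2512448, [3, 3, 0, 3, 0, 4, 4, 1, 3, 3, 0, 3]),
    (2531524, [3, 0, 4, 1, 1, 2, 0, 4, 4, 1, 3, 2]),
    (2564625, [4, 1, 2, 0, 3, 0, 0, 0, 0, 0, 4, 1]),
    (2605066, [4, 1, 4, 0, 0, 3, 0, 0, 3, 3, 1, 3]),
    (2640465, [0, 3, 0, 3, 0, 0, 4, 1, 1, 3, 0, 2, 0]),
    (2664522, [4, 4, 1, 4, 1, 4, 0, 0, 3, 3, 0]),
    (2675464, [1, 4, 4, 1, 1, 3, 3, 0, 4, 4, 0]),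
    (2702848, [3, 0, 2, 1, 1, 1, 1, 3, 0, 3, 2, 0]),
    (2704706, [2, 1, 1, 1, 1, 4, 1, 1, 2, 1, 1, 1]),
    (2738308, [2, 1, 1, 1, 1, 4, 4, 2, 1, 1, 1, 3, 0]),
    (2810896, [4, 1, 4, 2, 0, 0, 3, 1, 2, 1, 1, 4]),
    (2820376, [0, 0, 4, 1, 4, 1, 1, 3, 1, 2, 0]),
    (2854977, [3, 0, 4, 0, 4, 0, 3, 3, 1, 4, 0, 4]),
    (2890176, [0, 0, 4, 0, 3, 1, 4, 4, 2, 0, 0, 0]),
    (2908802, [4, 0, 0, 0, 3, 1, 3, 3, 1, 4, 0, 3]),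
    (2949708, [1, 3, 3, 2, 0, 4, 0, 3, 0, 0, 4]),
    (3031301, [3, 0, 0, 4, 2, 0, 0, 0, 0, 0, 0, 0]),
    (3172097, [0, 3, 3, 2, 1, 4, 4, 0, 4, 0, 4, 2]),
    (3216208, [4, 4, 2, 1, 3, 3, 0, 2, 1, 4, 4, 0]),
    (3237906, [1, 1, 1, 3, 1, 4, 0, 3, 0, 0, 4, 0, 0]),
    (3246601, [0, 2, 1, 1, 4, 4, 2, 0, 4, 4, 2, 0]),
    (3322370, [4, 4, 1, 4, 1, 3, 0, 4, 4, 0]),
    (3351624, [2, 1, 1, 1, 3, 0, 2, 1, 1, 4, 4, 2, 1]),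
    (3457556, [3, 1, 3, 3, 0, 2, 1, 4, 0, 3, 0, 0, 2]),
    (3489985, [0, 0, 4, 1, 4, 4, 0, 0, 0, 4, 0, 4, 0]),
    (3539848, [0, 3, 0, 4, 1, 3, 2, 1, 4, 1, 4, 0]),
    (3610628, [1, 1, 1, 3, 0, 2, 1, 4, 1, 1]),
    (3672838, [4, 0, 0, 2, 1, 1, 4, 0, 0, 0, 4, 2]),
    (3698756, [0, 3, 0, 0, 4, 1, 4, 1, 3, 1, 3, 1]),
    (3704512, [4, 4, 0, 0, 0, 3, 3, 0, 0, 3, 3]),
    (3811457, [4, 1, 3, 1, 4, 1, 4, 4, 0, 0, 3, 3]),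
    (3951624, [3, 0, 0, 4, 4, 1, 1, 3, 1, 4, 4, 0, 0]),
    (4063314, [1, 1, 1, 1, 1, 3, 1, 4, 2, 0, 0, 0]),
    (4253780, [0, 2, 1, 1, 4, 4, 1, 3, 0, 0, 4, 2]),
    (4287105, [4, 0, 0, 3, 0, 4, 0, 3, 2, 1, 3, 2]),
    (4336072, [2, 0, 0, 4, 0, 4, 0, 3, 2, 1, 3, 3]),
    (4403780, [3, 1, 2, 1, 1, 3, 3, 2, 1, 4, 1, 1]),
    (4409606, [0, 4, 4, 1, 4, 0, 0, 3, 0, 0, 3, 0]),
    (4441280, [1, 3, 0, 3, 3, 0, 4, 4, 0, 4, 4, 1, 1]),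
    (4476225, [4, 1, 2, 1, 1, 3, 0, 3, 3, 1, 2, 0]),
    (4536592, [1, 3, 0, 4, 0, 0, 2, 1, 4, 1, 1, 3]),
    (4538962, [3, 1, 4, 0, 4, 0, 3, 1, 4, 1, 3, 0]),
    (4563017, [3, 2, 1, 1, 4, 1, 4, 0, 0, 3, 2, 1]),
    (4626498, [4, 1, 3, 3, 2, 1, 3, 1, 4, 4, 0]),
    (4656648, [2, 0, 4, 0, 3, 1, 1, 3, 0, 4, 2]),
    (4744776, [4, 0, 0, 3, 0, 0, 3, 1, 4, 1, 4, 1]),
    (4845570, [1, 3, 3, 1, 4, 0, 3, 0, 3, 3]),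
    (4860434, [0, 0, 0, 0, 3, 0, 4, 4, 1, 3]),
    (4870480, [4, 4, 0, 4, 0, 3, 0, 4, 1, 3, 0, 4, 0]),
    (4900873, [4, 0, 4, 1, 4, 2, 0, 0, 3, 1, 2, 0]),
    (4924673, [0, 3, 1, 3, 0, 0, 3, 0, 4, 0, 4]),
    (4989254, [4, 4, 1, 3, 3, 0, 4, 4, 2, 0, 4, 2]),
    (5003780, [3, 0, 4, 1, 1, 2, 1, 1, 4, 1, 3, 2]),
    (5024896, [4, 4, 0, 2, 1, 1, 1, 2, 0, 3, 1, 2, 0]),
    (5063048, [3, 1, 1, 3, 0, 3, 2, 0, 4, 0, 3, 0]),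
    (5112513, [4, 2, 1, 4, 0, 3, 3, 1, 1, 3, 2, 1]),
    (5210132, [2, 1, 3, 1, 1, 4, 0, 4, 4, 0, 0, 0, 2]),
    (5262104, [4, 0, 4, 1, 4, 0, 2, 1, 3, 2, 1, 1]),
    (5286147, [4, 0, 2, 1, 4, 4, 1, 1, 4, 0, 0]),
    (5296705, [4, 0, 4, 4, 0, 4, 0, 0, 4, 0, 2, 0, 0]),
    (5350928, [1, 4, 0, 0, 4, 1, 3, 3, 0, 3, 0, 3]),
    (5375810, [3, 0, 3, 3, 0, 3, 0, 4, 1, 4]),
    (5405696, [3, 0, 3, 1, 4, 1, 4, 4, 1, 4]),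
    (5409412, [4, 4, 1, 3, 3, 0, 0, 0, 0, 3, 1, 1]),
    (5441617, [3, 0, 4, 0, 3, 0, 4, 1, 4, 0, 3, 0, 3]),
    (5476616, [4, 0, 4, 1, 2, 0, 4, 4, 1, 3, 0, 0]),
    (5538256, [2, 1, 4, 1, 3, 1, 1, 2, 1, 1, 1, 3]),
    (5571333, [3, 0, 0, 4, 0, 4, 0, 4, 4, 0, 4]),
    (5652556, [3, 1, 4, 0, 3, 3, 0, 3, 0, 0, 3, 3]),
    (5709954, [1, 1, 3, 1, 4, 4, 1, 4, 1, 3, 0]),
    (5780352, [3, 2, 0, 0, 0, 0, 2, 1, 3, 3, 1]),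
    (5785794, [1, 1, 3, 2, 1, 4, 2, 0, 3, 0]),
    (5817604, [3, 3, 2, 1, 3, 3, 0, 3, 3, 1, 1, 2]),
    (5842956, [0, 4, 0, 3, 2, 0, 3, 3, 1, 3, 0, 2]),
    (6053905, [4, 2, 1, 1, 2, 0, 0, 4, 1, 3, 3, 2, 0]),
    (6062602, [4, 4, 0, 4, 0, 0, 4, 0, 4, 0, 4, 2, 0]),
    (6100032, [1, 3, 1, 4, 0, 3, 0, 0, 4, 0, 3, 0, 0]),
    (6308804, [2, 0, 0, 4, 0, 2, 1, 3, 1, 4, 0]),
    (6337856, [4, 2, 1, 3, 0, 4, 4, 1, 4, 4, 2]),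
    (6344194, [3, 3, 1, 3, 1, 4, 4, 2, 1, 3, 2]),
    (6365962, [4, 4, 1, 1, 4, 2, 0, 0, 3, 1, 2]),
    (6379592, [1, 3, 0, 4, 1, 4, 1, 3, 1, 4, 4, 1]),
    (6406417, [0, 0, 0, 0, 0, 3, 1, 4, 1, 2, 0]),
    (6429441, [3, 1, 3, 3, 1, 4, 1, 2, 1, 1, 3, 2, 0]),
    (6447171, [4, 2, 0, 3, 0, 0, 2, 0, 0, 3, 1, 4]),
    (6455896, [3, 2, 1, 4, 0, 0, 4, 1, 3, 1, 2]),
    (6588684, [3, 1, 2, 1, 1, 3, 3, 1, 4, 0, 0, 0]),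
    (6644740, [1, 1, 3, 0, 4, 1, 4, 0, 0, 4]),
    (6656640, [3, 1, 3, 0, 4, 4, 1, 3, 1, 3, 1, 4]),
    (6703248, [1, 4, 0, 0, 0, 3, 3, 0, 3, 0, 3, 0]),
    (6857221, [0, 3, 1, 1, 3, 1, 3, 1, 1, 1, 3, 2, 0]),
    (6889680, [3, 3, 2, 1, 4, 4, 1, 4, 1, 1, 3, 2]),
    (6949956, [4, 0, 3, 1, 1, 1, 1, 4, 4, 1, 3, 1]),
    (6979970, [4, 0, 3, 3, 0, 0, 4, 4, 1, 4, 4, 0]),
    (7079696, [4, 0, 3, 1, 3, 0, 4, 0, 3, 1, 4, 4, 0]),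
    (7145475, [0, 0, 3, 0, 2, 1, 4, 0, 0, 0]),
    (7221256, [3, 0, 4, 0, 0, 4, 2, 0, 0, 3, 2, 1, 3]),
    (7397512, [3, 1, 1, 4, 1, 3, 1, 4, 4, 2, 0]),
    (7409024, [4, 1, 4, 4, 1, 4, 1, 1, 4, 1, 3, 1]),
    (7438406, [4, 0, 3, 3, 1, 4, 0, 3, 1, 4, 1, 2, 0]),
    (7479572, [0, 0, 4, 1, 1, 4, 4, 1, 2, 0, 4, 2, 0]),
    (7622914, [2, 0, 3, 0, 2, 1, 4, 1, 4, 1, 1, 1]),
    (7767041, [4, 0, 4, 4, 0, 3, 3, 0, 3, 0, 4, 0]),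
    (7864649, [4, 4, 2, 1, 3, 0, 0, 3, 2, 1]),
    (7903248, [3, 2, 1, 3, 0, 4, 4, 1, 2, 1, 1, 1]),
    (8439632, [2, 1, 4, 0, 3, 0, 2, 1, 4, 1, 3, 0]),
    (8464984, [0, 4, 2, 1, 1, 3, 0, 2, 1, 4, 4, 0]),
    (8499969, [0, 4, 0, 0, 4, 1, 2, 0, 0, 4, 4, 0, 0]),
    (8505411, [1, 4, 1, 2, 0, 3, 3, 0, 3, 0, 0, 2, 0]),
    (8546577, [2, 0, 3, 0, 4, 1, 1, 4, 0, 0, 0, 2, 1]),
    (8555274, [4, 1, 4, 4, 0, 4, 0, 0, 2, 1, 3, 1, 1]),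
    (8581192, [3, 1, 4, 1, 1, 4, 2, 0, 3, 1, 2]),
    (8592704, [1, 4, 4, 2, 1, 4, 1, 1, 4, 2, 0, 3, 0]),
    (8611330, [2, 0, 4, 1, 1, 3, 2, 0, 0, 3, 3]),
    (8675909, [4, 0, 3, 0, 0, 3, 1, 2, 0, 0, 0, 4, 1]),
    (8773776, [3, 2, 1, 1, 4, 2, 1, 4, 4, 0]),
    (8796800, [1, 3, 1, 3, 2, 0, 4, 2, 0, 0, 3, 1]),
    (8798658, [4, 4, 1, 4, 4, 2, 1, 1, 1, 2, 0]),
    (8834052, [0, 3, 0, 3, 0, 2, 1, 1, 2]),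
    (8855820, [3, 3, 2, 1, 4, 0, 3, 0, 3, 2, 1, 1, 1]),
    (8931660, [1, 1, 2, 0, 4, 0, 0, 3, 0, 3, 1, 4]),
    (8989058, [3, 1, 3, 1, 1, 4, 0, 2, 1, 3, 1, 4, 1]),
    (8999616, [1, 1, 3, 0, 0, 3, 3, 0, 2, 1, 3]),
    (9020484, [1, 2, 0, 4, 0, 0, 3, 0, 3, 1, 1]),
    (9078992, [4, 4, 0, 2, 1, 3, 0, 4, 2, 0, 4, 0, 2]),
    (9112069, [1, 1, 3, 0, 3, 1, 2, 0, 0, 4, 2, 0, 0]),
    (9178690, [4, 2, 0, 3, 3, 0, 3, 2, 0, 3, 2, 0, 0]),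
    (9204992, [2, 1, 3, 1, 4, 1, 1, 4, 0, 3, 3, 1, 2]),
    (9208708, [1, 4, 0, 0, 4, 1, 3, 1, 4, 2, 1, 1, 2]),
    (9240913, [0, 4, 0, 0, 3, 0, 4, 2, 1, 4, 0, 3]),
    (9279496, [3, 2, 0, 4, 4, 0, 4, 0, 0, 4, 2]),
    (9323032, [1, 4, 0, 4, 0, 0, 4, 2, 0, 4]),
    (9347075, [4, 1, 3, 1, 1, 1, 4, 1, 4, 2, 0, 4, 0]),
    (9440193, [1, 1, 2, 1, 1, 1, 1, 1, 3, 1, 1, 1, 1]),
    (9537812, [3, 1, 3, 2, 0, 4, 1, 1, 4, 0, 4]),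
    (9578566, [0, 4, 4, 0, 2, 1, 1, 1, 1, 4, 2]),
    (9589508, [3, 2, 1, 1, 1, 3, 0, 0, 2, 1, 1, 3]),
    (9610624, [0, 2, 1, 4, 0, 0, 4, 4, 2, 1, 1, 3, 0]),
    (9652360, [0, 3, 1, 1, 3, 1, 2, 0, 4, 1, 1, 3, 1]),
    (9708306, [1, 3, 0, 2, 1, 4, 4, 1, 3, 3, 1, 1, 1]),
    (9721936, [2, 0, 0, 0, 4, 4, 0, 3, 0, 4, 2]),
    (9748745, [3, 3, 0, 2, 1, 1, 3, 2, 1, 4, 1, 3, 2]),
    (9776129, [4, 0, 2, 1, 1, 4, 0, 0, 4, 1, 3, 2, 0]),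
    (9998658, [4, 1, 3, 0, 4, 0, 0, 2, 1, 4, 0, 4]),
    (10028808, [3, 0, 0, 0, 0, 4, 1, 2, 0, 0, 2, 1, 1]),
    (10110017, [4, 2, 0, 3, 3, 1, 2, 0, 0, 3, 1, 4]),
    (10170384, [3, 2, 1, 1, 4, 1, 4, 4, 0, 3, 3, 2]),
    (10232008, [3, 0, 4, 0, 0, 3, 3, 2, 0, 0, 0, 0, 3]),
    (10305542, [4, 0, 3, 0, 2, 0, 0, 4, 0, 0, 0, 3]),
    (10513600, [0, 0, 0, 4, 2, 0, 0, 4, 2, 1, 1, 1]),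
    (10525252, [2, 0, 3, 3, 1, 4, 4, 1, 1, 1, 1, 2]),
    (10543366, [3, 1, 1, 3, 2, 0, 0, 0, 4, 4, 0]),
    (10584520, [1, 1, 1, 1, 3, 0, 2, 1, 1, 4, 1, 3, 0]),
    (10666625, [0, 4, 2, 1, 1, 3, 0, 3, 0, 0, 4, 2]),
    (10698836, [3, 3, 2, 0, 0, 3, 0, 3, 1, 1, 3, 0, 2]),
    (10790408, [2, 1, 1, 1, 1, 2, 0, 3, 0, 3, 0]),
    (10825794, [4, 4, 1, 4, 2, 1, 3, 0, 3, 3, 2, 0, 0]),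
    (10881097, [3, 1, 3, 2, 1, 1, 3, 1, 3, 0]),
    (10916112, [4, 2, 0, 3, 0, 0, 0, 4, 4, 1, 3, 2]),
    (11046145, [3, 3, 1, 4, 4, 0, 3, 3, 2, 0, 3, 2]),
    (11100169, [4, 0, 3, 3, 0, 0, 4, 2, 0, 0, 4, 2]),
    (11108882, [3, 1, 2, 0, 0, 4, 1, 1, 4, 4, 1, 2, 0]),
    (11163650, [3, 1, 1, 1, 4, 4, 2, 1, 4, 1, 1, 2]),
    (11282452, [3, 2, 1, 3, 3, 0, 3, 2, 1, 1, 1, 4, 0]),
    (11469952, [1, 3, 3, 2, 0, 0, 0, 3, 0, 4, 2, 0, 0, 0]),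
    (11548936, [1, 4, 4, 2, 0, 4, 1, 3, 1, 3]),
    (11551306, [4, 1, 1, 1, 4, 1, 1, 2, 0, 3, 0, 2]),
    (11575377, [3, 1, 3, 1, 3, 1, 4, 2, 1, 3, 1, 1]),
    (11608708, [3, 1, 3, 0, 0, 3, 1, 4, 2, 0, 4]),
    (11654144, [4, 4, 0, 3, 0, 4, 2, 1, 1, 1, 3, 0, 4]),
    (11669008, [2, 1, 4, 4, 0, 3, 0, 3, 0, 0, 4, 1, 2]),
    (11731203, [4, 1, 1, 1, 3, 1, 2, 0, 4, 2, 1, 3]),
    (11797828, [1, 1, 1, 3, 0, 4, 4, 0, 2, 1, 4, 2]),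
    (11831426, [3, 2, 1, 1, 3, 1, 3, 3, 1, 4, 2]),
    (12075408, [1, 3, 3, 1, 1, 1, 2, 0, 3, 1, 4, 0, 0]),
    (12222476, [3, 1, 4, 2, 0, 0, 0, 3, 1, 3, 1, 4, 1]),
    (12325377, [3, 3, 1, 3, 2, 0, 0, 0, 3, 1, 4]),
    (12594948, [3, 1, 1, 2, 0, 3, 2, 1, 1, 1, 2, 1]),
    (12624578, [2, 1, 4, 2, 0, 0, 4, 1, 4, 1, 3, 2, 1]),
    (12638592, [1, 3, 1, 4, 1, 4, 2, 0, 0, 0, 3, 3, 2]),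
    (12698124, [1, 1, 3, 0, 4, 1, 2, 0, 0, 0, 4, 4, 0]),
    (12747077, [1, 1, 1, 2, 1, 1, 3, 2, 0, 3, 0, 0]),
    (12780432, [1, 3, 3, 0, 3, 2, 0, 0, 4, 2]),
    (12849992, [3, 2, 1, 4, 1, 3, 3, 1, 1, 1, 2]),
    (12871690, [1, 1, 3, 0, 2, 1, 3, 1, 4, 4, 0, 4, 0]),
    (12880401, [2, 0, 4, 2, 0, 0, 3, 2, 0, 0, 2, 0]),
    (12912836, [1, 4, 0, 4, 1, 2, 0, 4, 0, 2, 0]),
    (12944642, [4, 4, 2, 1, 3, 3, 0, 3, 0, 0, 4, 2]),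
    (12985424, [1, 4, 1, 4, 1, 2, 0, 0, 0, 0, 2]),
    (13062145, [1, 1, 1, 3, 2, 0, 4, 0, 0, 0, 0, 0]),
    (13121601, [0, 0, 2, 1, 4, 1, 1, 4, 1, 3, 1, 2]),
    (13124355, [1, 4, 0, 3, 3, 0, 2, 1, 3, 1, 3, 0, 0]),
    (13148440, [4, 4, 1, 4, 2, 0, 3, 1, 4, 2, 1, 4]),
    (13192208, [4, 1, 4, 1, 1, 3, 1, 1, 4, 2, 0, 3, 2]),
    (13262980, [2, 0, 4, 0, 0, 4, 2, 0, 3, 0, 4, 0]),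
    (13276672, [3, 2, 1, 3, 3, 2, 0, 0, 0, 3, 1, 1]),
    (13303882, [2, 1, 4, 0, 3, 2, 1, 1, 4, 0, 0, 0, 0]),
    (13667400, [3, 0, 4, 4, 1, 3, 0, 3, 2, 0, 3, 0, 2]),
    (13703682, [2, 1, 1, 3, 0, 0, 4, 2, 0, 0, 3, 0]),
    (13771273, [0, 4, 0, 0, 0, 0, 2, 1, 4, 0, 0, 4]),
    (13811730, [3, 3, 0, 2, 1, 3, 1, 2, 0, 3, 3, 2, 0]),
    (13911680, [4, 4, 0, 4, 2, 0, 0, 4, 1, 3, 2, 1, 1]),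
    (13938692, [3, 3, 1, 4, 0, 0, 0, 0, 4, 2, 0, 4, 0]),
    (14156372, [1, 3, 0, 3, 0, 4, 2, 0, 3, 1, 4, 1]),
    (14254209, [4, 4, 2, 1, 3, 3, 0, 0, 3, 3, 0, 0, 2, 1]),
    (14682450, [1, 2, 0, 0, 0, 3, 3, 2, 0, 3, 3]),
    (14709264, [0, 4, 4, 2, 0, 0, 4, 1, 3, 3, 0, 3, 2]),
    (14747201, [1, 1, 1, 3, 3, 1, 4, 2, 0, 4, 0, 4]),
    (14828808, [2, 0, 0, 2, 1, 4, 1, 4, 1]),
    (14950785, [2, 0, 0, 4, 2, 1, 1, 4, 1, 1, 3]),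
    (15073798, [3, 1, 4, 2, 1, 1, 1, 4, 1, 1, 4, 2, 0]),
    (15207048, [4, 2, 0, 4, 1, 4, 1, 2, 1, 1, 1]),
    (15274244, [0, 0, 3, 1, 4, 1, 2, 1, 1, 3, 3, 0, 3]),
    (15747077, [3, 1, 1, 3, 1, 4, 2, 1, 4, 0, 0, 2, 0]),
    (15864000, [3, 3, 0, 0, 4, 2, 1, 3, 3, 0, 4, 2]),
    (16056344, [3, 3, 1, 4, 1, 4, 1, 1, 2, 0, 0, 2, 0]),
    (16262146, [1, 4, 0, 0, 0, 2, 0, 0, 4, 1, 3, 3, 2])]),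
  (4, 36294, [
    (36294, []),
    (39257, [3, 0, 0, 0, 3, 3, 0, 0, 3, 1, 1, 3]),
    (57883, [1, 1, 4, 1, 4, 2, 0, 0, 2, 0, 0, 0]),
    (63108, [1, 2, 0, 4, 4, 1, 4, 0, 2, 1, 3, 2]),
    (69395, [1, 3, 1, 3, 1, 3, 0, 4, 1, 1, 2, 0, 0]),
    (72588, [4, 0, 0, 3, 0, 4, 0, 3, 2, 1, 3, 2]),
    (90318, [4, 2, 1, 3, 0, 0, 3, 0, 0, 4, 0, 2]),
    (95313, [3, 0, 4, 1, 4, 1, 1, 3, 1, 2, 0, 0]),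
    (99029, [4, 0, 0, 3, 0, 2, 1, 1, 3, 1, 4, 0]),
    (104010, [1, 2, 0, 0, 0, 3, 2, 1, 3, 0, 4, 4, 0]),
    (140167, [4, 0, 0, 0, 2, 0, 0, 4, 0, 3, 0, 2]),
    (145176, [0, 4, 0, 4, 0, 0, 3, 0, 3, 1, 4, 2, 0]),
    (150618, [3, 0, 0, 4, 1, 1, 4, 1, 1, 4, 0]),
    (153797, [1, 1, 3, 2, 0, 3, 0, 3, 3, 2, 0]),
    (180636, [3, 1, 4, 4, 1, 4, 1, 1, 3, 0, 4, 0, 0]),
    (185603, [4, 4, 1, 1, 4, 4, 1, 1, 1, 3, 3]),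
    (208020, [4, 2, 0, 3, 3, 1, 1, 1, 4, 1, 3, 2]),
    (210955, [1, 3, 1, 3, 2, 0, 4, 2, 0, 0, 3, 1]),
    (272595, [4, 4, 1, 3, 3, 0, 4, 4, 2, 0, 4, 2]),
    (277580, [1, 3, 1, 4, 4, 1, 4, 1, 4, 0, 3, 1]),
    (280334, [1, 1, 1, 3, 3, 2, 0, 4, 1, 3, 1, 1]),
    (283537, [4, 1, 1, 2, 0, 3, 1, 3, 2, 0, 0, 3]),
    (304405, [3, 0, 3, 2, 0, 4, 1, 3, 2, 0, 3, 3]),
    (307594, [2, 0, 0, 4, 2, 1, 1, 4, 1, 1, 3]),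
    (346141, [1, 2, 0, 3, 0, 4, 1, 1, 1, 1, 1]),
    (351362, [0, 0, 0, 2, 0, 0, 3, 0, 0, 0, 0, 2]),
    (418953, [1, 4, 4, 1, 3, 1, 4, 1, 1, 4, 4]),
    (421910, [3, 0, 3, 1, 4, 1, 4, 4, 1, 4]),
    (427666, [3, 1, 4, 1, 4, 0, 0, 4, 1, 2, 0, 0]),
    (430605, [4, 4, 0, 4, 0, 0, 4, 0, 4, 0, 4, 2, 0]),
    (459847, [0, 4, 0, 0, 3, 0, 4, 2, 1, 4, 0, 3]),
    (463064, [4, 1, 2, 1, 1, 4, 1, 1, 4, 1, 3, 2, 0]),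
    (525274, [4, 2, 0, 3, 3, 0, 3, 2, 0, 3, 2, 0, 0]),
    (530245, [1, 4, 4, 2, 1, 4, 1, 4, 2, 0, 0]),
    (551943, [3, 0, 2, 1, 1, 1, 1, 3, 0, 3, 2, 0]),
    (555160, [2, 0, 0, 0, 0, 3, 3, 0, 4, 4, 1, 2]),
    (560668, [1, 2, 0, 4, 1, 1, 3, 2, 0, 3, 1, 3]),
    (563843, [3, 1, 1, 1, 1, 3, 1, 3, 1, 2, 0, 4, 4]),
    (593097, [1, 3, 3, 1, 4, 4, 0, 0, 3, 3, 0]),
    (596054, [0, 4, 0, 0, 0, 0, 3, 0, 4, 0, 3, 0]),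
    (622863, [1, 3, 0, 0, 3, 0, 0, 3, 1, 1, 4]),
    (628112, [4, 0, 0, 4, 1, 3, 0, 3, 0, 4, 1]),
    (663645, [1, 2, 0, 4, 0, 0, 3, 0, 3, 1, 1]),
    (668866, [4, 2, 0, 0, 4, 1, 4, 2, 0, 3, 2, 0, 0]),
    (737427, [3, 3, 0, 0, 3, 0, 4, 0, 3, 3, 0]),
    (742412, [4, 1, 4, 1, 4, 4, 0, 3, 1, 1, 3, 0]),
    (804052, [4, 0, 4, 0, 3, 1, 3, 3, 2, 0]),
    (806987, [1, 4, 0, 0, 3, 3, 2, 1, 1, 3, 0, 2, 1]),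
    (861210, [2, 1, 4, 1, 3, 3, 0, 0, 3, 0, 2]),
    (864389, [0, 0, 3, 0, 0, 4, 0, 4, 4, 0, 4, 1]),
    (919694, [4, 1, 4, 4, 2, 0, 4, 1, 2, 0, 3, 1, 2]),
    (924689, [0, 2, 0, 0, 4, 0, 4, 4, 2, 1, 1, 1]),
    (1060490, [3, 3, 2, 0, 3, 3, 1, 4, 0, 3, 2]),
    (1063445, [1, 3, 1, 3, 1, 4, 1, 3, 2, 0, 4, 2, 1]),
    (1065303, [4, 4, 1, 4, 4, 2, 1, 1, 1, 2, 0]),
    (1070536, [3, 1, 1, 4, 0, 0, 3, 3, 0, 0, 2, 0]),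
    (1100945, [1, 1, 4, 0, 3, 3, 1, 2, 0, 3, 1, 3]),
    (1103886, [1, 3, 0, 4, 0, 2, 1, 3, 1, 1, 2]),
    (1122713, [0, 0, 2, 1, 3, 0, 3, 1, 3, 0, 3, 1, 2]),
    (1127686, [3, 2, 0, 0, 0, 0, 2, 1, 3, 3, 1]),
    (1182989, [3, 1, 2, 0, 4, 4, 1, 4, 0, 0, 2, 0, 0]),
    (1186194, [1, 1, 3, 0, 4, 2, 1, 1, 1, 1, 3, 1]),
    (1212619, [4, 2, 0, 4, 2, 1, 3, 1, 4, 1, 1, 3]),
    (1217620, [4, 1, 3, 3, 2, 1, 3, 1, 4, 4, 0]),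
    (1245726, [3, 1, 3, 0, 4, 0, 2, 1, 1, 1, 2, 1]),
    (1250945, [0, 0, 0, 4, 2, 1, 4, 1, 3, 0, 4, 4, 2]),
    (1312345, [2, 0, 4, 0, 3, 0, 0, 3, 0, 2, 1, 1]),
    (1315526, [1, 3, 0, 2, 1, 1, 2, 0, 3, 3, 0, 0]),
    (1410188, [3, 0, 4, 1, 1, 1, 4, 2, 0, 4, 4]),
    (1413139, [4, 2, 0, 0, 0, 0, 4, 2, 0, 0, 0, 4]),
    (1589901, [1, 4, 0, 4, 0, 0, 4, 2, 0, 4]),
    (1594898, [2, 1, 4, 1, 1, 4, 4, 0, 3, 0, 2]),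
    (1613974, [3, 1, 1, 4, 1, 3, 1, 4, 4, 2, 0]),
    (1618953, [4, 0, 2, 1, 4, 4, 1, 1, 4, 0, 0]),
    (1836419, [1, 3, 1, 3, 3, 0, 4, 0, 2, 1, 4, 0, 0]),
    (1839388, [3, 0, 0, 2, 0, 0, 0, 4, 0, 3, 1, 3, 0]),
    (2106966, [4, 2, 1, 3, 0, 4, 4, 1, 4, 4, 2]),
    (2110153, [2, 1, 1, 4, 1, 1, 2, 0, 4, 0, 4, 1]),
    (2115979, [0, 4, 0, 0, 0, 0, 3, 2, 1, 4, 0, 0]),
    (2120980, [1, 2, 1, 1, 4, 1, 4, 4, 1, 2, 0, 3, 0]),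
    (2147405, [0, 4, 2, 1, 1, 3, 0, 3, 0, 0, 4, 2]),
    (2150610, [0, 0, 3, 2, 1, 4, 1, 1, 1, 3, 1, 2]),
    (2180760, [1, 2, 1, 1, 4, 2, 1, 1, 3, 0, 2, 0]),
    (2183687, [2, 0, 3, 0, 2, 0, 0, 3, 1, 3, 0]),
    (2204803, [3, 2, 0, 4, 1, 3, 0, 4, 4, 1, 2, 1]),
    (2207772, [0, 0, 0, 0, 0, 3, 1, 4, 1, 2, 0]),
    (2229713, [3, 0, 3, 3, 1, 1, 1, 2, 0, 4, 0, 4]),
    (2232654, [4, 2, 0, 4, 0, 3, 2, 1, 1, 1, 3, 1]),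
    (2263063, [3, 2, 1, 3, 1, 3, 3, 0, 4, 4, 2, 1]),
    (2268296, [3, 1, 3, 1, 3, 2, 0, 4, 4, 0, 0, 0]),
    (2363013, [0, 4, 2, 1, 1, 4, 0, 3, 3, 2]),
    (2365978, [4, 2, 0, 3, 3, 2, 0, 4, 0, 4, 4]),
    (2425238, [1, 3, 3, 2, 0, 4, 0, 3, 0, 0, 4]),
    (2430217, [3, 0, 0, 4, 2, 0, 0, 0, 0, 0, 0, 0]),
    (2631052, [2, 1, 1, 1, 1, 4, 1, 1, 2, 1, 1, 1]),
    (2634003, [0, 0, 4, 1, 4, 1, 1, 3, 1, 2, 0]),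
    (2754059, [0, 0, 4, 2, 0, 0, 0, 3, 3, 0, 3, 2]),
    (2757268, [3, 2, 1, 3, 3, 2, 0, 0, 0, 3, 1, 1]),
    (2916505, [1, 1, 1, 1, 1, 3, 1, 4, 2, 0, 0, 0]),
    (2921478, [3, 3, 1, 3, 2, 0, 0, 0, 3, 1, 4]),
    (3147996, [4, 4, 1, 4, 1, 4, 0, 0, 3, 3, 0]),
    (3152963, [1, 4, 1, 3, 1, 4, 1, 1, 1, 1, 3, 1]),
    (3179802, [0, 3, 1, 4, 1, 4, 0, 3, 1, 1, 3]),
    (3182981, [1, 4, 4, 1, 1, 3, 3, 0, 4, 4, 0]),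
    (3294342, [4, 4, 1, 4, 1, 3, 0, 4, 4, 0]),
    (3297305, [1, 4, 1, 3, 0, 2, 0, 0, 4, 1, 4, 0, 0]),
    (3416079, [4, 1, 1, 4, 1, 3, 1, 4, 0, 4, 4, 0]),
    (3421328, [4, 0, 3, 3, 1, 4, 1, 1, 1, 1]),
    (3736597, [2, 1, 1, 1, 1, 4, 4, 2, 1, 1, 1, 3, 0]),
    (3739786, [3, 1, 1, 3, 0, 3, 1, 4, 0, 0]),
    (4196943, [4, 2, 0, 0, 4, 2, 0, 0, 4, 1, 3, 3]),
    (4202192, [0, 4, 4, 0, 3, 0, 0, 3, 0, 0]),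
    (4220306, [3, 1, 3, 0, 2, 1, 1, 3, 1, 4, 0, 3]),
    (4223245, [3, 2, 1, 1, 4, 0, 3, 3, 0, 0, 2, 1]),
    (4229001, [0, 0, 4, 1, 2, 1, 1, 3, 0, 3, 1, 3]),
    (4231958, [2, 0, 0, 4, 0, 2, 1, 3, 1, 4, 0]),
    (4261212, [4, 4, 0, 3, 1, 1, 3, 2, 1, 1, 3, 2]),
    (4264387, [4, 0, 4, 1, 2, 0, 4, 4, 1, 3, 0, 0]),
    (4294810, [3, 0, 0, 2, 1, 4, 4, 0, 2, 1, 4, 1]),
    (4299781, [3, 2, 1, 1, 4, 1, 4, 0, 0, 3, 2, 1]),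
    (4343317, [0, 0, 0, 0, 3, 0, 4, 4, 1, 3]),
    (4346506, [0, 4, 4, 1, 4, 0, 0, 3, 0, 0, 3, 0]),
    (4367374, [2, 1, 4, 0, 0, 0, 3, 1, 1, 4, 0, 2]),
    (4370577, [3, 1, 1, 1, 3, 2, 1, 1, 1, 1, 3, 2]),
    (4465308, [1, 1, 3, 0, 4, 1, 4, 0, 0, 4]),
    (4470275, [1, 4, 1, 1, 4, 1, 1, 3, 0, 3, 3, 1]),
    (4505735, [4, 1, 2, 1, 1, 3, 0, 3, 3, 1, 2, 0]),
    (4510744, [1, 1, 1, 3, 2, 0, 4, 0, 0, 0, 0, 0]),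
    (4587803, [2, 0, 3, 0, 2, 1, 4, 1, 4, 1, 1, 1]),
    (4593028, [4, 4, 0, 0, 0, 3, 2, 0, 0, 3, 1, 2]),
    (4721045, [4, 2, 1, 1, 3, 3, 1, 1, 1, 4, 4, 2, 1]),
    (4726026, [1, 2, 0, 0, 0, 3, 3, 2, 0, 3, 3]),
    (4752467, [0, 0, 2, 1, 3, 2, 0, 3, 1, 3, 2]),
    (4755660, [1, 4, 1, 1, 3, 2, 1, 1, 4, 0, 0, 2]),
    (4785798, [1, 3, 3, 1, 4, 0, 3, 0, 3, 3]),
    (4788761, [1, 3, 1, 4, 0, 3, 0, 0, 4, 0, 3, 0, 0]),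
    (5252293, [3, 1, 2, 1, 1, 3, 3, 2, 1, 4, 1, 1]),
    (5255258, [1, 4, 1, 3, 2, 0, 4, 2, 0, 0]),
    (5325835, [4, 0, 3, 0, 2, 0, 0, 4, 0, 0, 0, 3]),
    (5329044, [3, 1, 1, 3, 1, 4, 2, 1, 4, 0, 0, 2, 0]),
    (5508118, [4, 0, 2, 1, 1, 2, 0, 4, 1, 3, 0, 4]),
    (5511305, [1, 1, 1, 3, 0, 2, 1, 4, 1, 1]),
    (5899416, [3, 1, 1, 3, 0, 2, 1, 1, 1, 1, 3, 1]),
    (5902343, [0, 4, 0, 3, 2, 0, 3, 3, 1, 3, 0, 2]),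
    (6302745, [3, 3, 1, 3, 1, 4, 4, 2, 1, 3, 2]),
    (6305926, [2, 0, 3, 0, 3, 2, 0, 3, 1, 3, 1, 2, 0]),
    (6488205, [0, 3, 1, 1, 1, 1, 1, 4, 1, 2, 0, 3]),
    (6493202, [4, 4, 1, 1, 4, 2, 0, 0, 3, 1, 2]),
    (6554826, [1, 3, 3, 0, 0, 0, 0, 3, 3, 1, 4, 1, 2, 0]),
    (6557781, [3, 0, 4, 1, 1, 2, 0, 4, 4, 1, 3, 2]),
    (6832158, [4, 1, 4, 2, 0, 0, 3, 1, 2, 1, 1, 4]),
    (6837377, [2, 1, 4, 1, 1, 3, 0, 2, 1, 1, 1, 3, 0]),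
    (7340691, [4, 1, 3, 1, 3, 0, 3, 0, 0, 4, 0, 3]),
    (7345676, [3, 0, 3, 3, 0, 3, 0, 4, 1, 4]),
    (8398155, [1, 4, 1, 4, 1, 3, 0, 4, 4, 2, 1, 3]),
    (8401364, [4, 4, 1, 4, 2, 0, 3, 1, 4, 2, 1, 4]),
    (8407702, [3, 1, 1, 1, 4, 4, 2, 1, 4, 1, 1, 2]),
    (8412681, [1, 1, 3, 0, 0, 3, 3, 0, 2, 1, 3]),
    (8431757, [0, 4, 0, 0, 4, 1, 2, 0, 0, 4, 4, 0, 0]),
    (8436754, [3, 2, 0, 4, 4, 0, 4, 0, 0, 4, 2]),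
    (8471941, [4, 0, 3, 3, 0, 0, 4, 2, 0, 0, 4, 2]),
    (8474906, [1, 3, 1, 2, 1, 1, 1, 1, 1, 3, 0, 0, 2, 0]),
    (8521420, [3, 2, 1, 4, 1, 3, 3, 1, 1, 1, 2]),
    (8524371, [4, 2, 0, 3, 3, 1, 2, 0, 0, 3, 1, 4]),
    (8619033, [4, 0, 4, 0, 3, 3, 2, 0, 4, 0, 3, 2, 1]),
    (8622214, [3, 1, 3, 2, 0, 4, 1, 1, 4, 0, 4]),
    (8654232, [3, 2, 1, 1, 3, 1, 3, 3, 1, 4, 2]),
    (8657159, [4, 0, 3, 3, 2, 1, 4, 0, 3, 0, 3, 0]),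
    (8683614, [4, 0, 0, 3, 0, 0, 3, 2, 1, 1, 2]),
    (8688833, [3, 0, 0, 0, 4, 4, 2, 0, 0, 3, 0, 4, 2]),
    (8716939, [4, 1, 4, 2, 0, 0, 0, 3, 3, 2, 0, 4, 0]),
    (8721940, [1, 3, 0, 4, 4, 1, 2, 1, 1, 1, 3, 2]),
    (8922769, [1, 3, 3, 0, 2, 1, 4, 4, 0, 3, 3, 2]),
    (8925710, [3, 0, 2, 0, 0, 4, 4, 0, 4, 4, 1, 1, 1]),
    (8963210, [0, 3, 0, 3, 0, 2, 1, 1, 2]),
    (8966165, [1, 1, 3, 0, 4, 1, 2, 0, 0, 0, 4, 4, 0]),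
    (9045270, [3, 2, 0, 0, 3, 0, 4, 2, 0, 0, 3, 0, 0]),
    (9048457, [4, 1, 4, 4, 0, 2, 1, 3, 2, 0, 4, 1, 1]),
    (9462812, [2, 0, 0, 4, 4, 1, 3, 1, 4, 1, 1, 3, 2]),
    (9465987, [3, 1, 4, 1, 1, 4, 2, 0, 3, 1, 2]),
    (9471495, [1, 3, 0, 3, 0, 4, 2, 0, 3, 1, 4, 1]),
    (9474712, [0, 3, 1, 3, 1, 2, 0, 0, 3, 0, 0, 2]),
    (9503954, [1, 1, 2, 0, 4, 4, 0, 0, 4, 1, 3, 3, 0]),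
    (9506893, [0, 4, 2, 1, 1, 3, 0, 2, 1, 4, 4, 0]),
    (9830549, [3, 1, 3, 2, 1, 1, 3, 1, 3, 0]),
    (9835530, [4, 1, 1, 1, 3, 1, 2, 0, 4, 2, 1, 3]),
    (9963547, [1, 1, 3, 2, 1, 4, 2, 0, 3, 0]),
    (9968772, [0, 4, 4, 0, 2, 1, 1, 1, 1, 4, 2]),
    (10486557, [1, 3, 3, 2, 1, 3, 3, 2, 0, 0, 2, 1]),
    (10491778, [1, 4, 4, 2, 0, 4, 1, 3, 1, 3]),
    (10554382, [1, 1, 4, 4, 1, 2, 0, 0, 2, 1, 4, 0]),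
    (10557585, [0, 0, 3, 0, 2, 1, 4, 0, 0, 0]),
    (10625178, [3, 2, 1, 3, 0, 4, 0, 3, 1, 3, 2]),
    (10630149, [2, 1, 4, 0, 4, 0, 0, 4, 0, 3, 1, 2, 1]),
    (10765331, [3, 1, 1, 3, 2, 0, 0, 0, 4, 4, 0]),
    (10768524, [3, 0, 2, 1, 4, 2, 1, 1, 3, 2, 0, 3]),
    (11010247, [4, 4, 2, 1, 3, 0, 0, 3, 2, 1]),
    (11015256, [3, 1, 3, 1, 3, 1, 4, 2, 1, 3, 1, 1]),
    (12599513, [4, 4, 2, 0, 0, 3, 0, 2, 0, 0, 3, 3]),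
    (12604486, [2, 0, 0, 2, 1, 4, 1, 4, 1]),
    (12656663, [2, 0, 4, 1, 1, 3, 2, 0, 0, 3, 3]),
    (12661896, [1, 4, 0, 4, 1, 2, 0, 4, 0, 2, 0]),
    (12717187, [1, 3, 3, 0, 3, 2, 0, 0, 4, 2]),
    (12720156, [1, 4, 1, 4, 1, 2, 0, 0, 0, 0, 2]),
    (13370381, [3, 1, 1, 3, 0, 3, 2, 0, 4, 0, 3, 0]),
    (13373586, [0, 4, 2, 1, 3, 1, 4, 2, 1, 3, 3, 2, 0]),
    (13631886, [1, 1, 2, 0, 3, 1, 1, 3, 0, 3, 0, 4]),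
    (13636881, [0, 0, 0, 2, 1, 1, 3, 2, 1, 4, 4, 0, 3]),
    (14714004, [3, 2, 1, 3, 0, 4, 4, 1, 2, 1, 1, 1]),
    (14716939, [4, 1, 4, 1, 4, 0, 0, 4, 0, 2, 1, 3])]),
  (8, 5279, [
    (5279, [])])]

open Cfsg.Agent.Lib.Helper1 in
set_option maxRecDepth 1000000 in
theorem cls_ok : cls.all (fun c => certOK ([O5] : List ℕ) ([5] : List ℕ) c.2.1 c.2.2) = true := by decide +kernel

set_option maxRecDepth 1000000 in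
theorem cls_keys : (cls.map (fun c => c.1)).Nodup := by decide +kernel

open Cfsg.Agent.Lib.Helper1 in
set_option maxRecDepth 1000000 in
theorem cls_cover : ((allWords gbasis).filter P).all (fun n => cls.any (fun c => c.1 == inv n
    && (c.2.2.map Prod.fst).contains n)) = true := by decide +kernel

open Cfsg.Agent.Lib.Helper1 in
open scoped Pointwise in
theorem cls_trans (n n' : ℕ) (hn : n ∈ allWords gbasis) (hP : P n = true)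
    (hn' : n' ∈ allWords gbasis) (hP' : P n' = true) (hinv : inv n = inv n') :
    ∃ g ∈ Cfsg.M24, g • S n = S n' ∧ (∀ f ∈ ([O5] : List ℕ), g • S f = S f)
      ∧ (∀ i ∈ ([5] : List ℕ), g (pt i) = pt i) :=
  classes_trans P inv ([O5] : List ℕ) ([5] : List ℕ) cls cls_ok cls_keys cls_cover n n' hn hP hn' hP' hinv

open Cfsg.Agent.Lib.Helper1 in
set_option maxRecDepth 1000000 in
theorem cnt0 : ((allWords gbasis).filter (fun n => P n && inv n == 0)).length = 15 := by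
  decide +kernel

open Cfsg.Agent.Lib.Helper1 in
set_option maxRecDepth 1000000 in
theorem cnt2 : ((allWords gbasis).filter (fun n => P n && inv n == 2)).length = 280 := by
  decide +kernel

open Cfsg.Agent.Lib.Helper1 in
set_option maxRecDepth 1000000 in
theorem cnt4 : ((allWords gbasis).filter (fun n => P n && inv n == 4)).length = 210 := by
  decide +kernel

open Cfsg.Agent.Lib.Helper1 in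
theorem base_mem (b : Finset Cfsg.GolayPt) :
    (b ∈ Cfsg.octads ∧ pt 5 ∉ b) ↔ ∃ n ∈ allWords gbasis, P n = true ∧ b = S n := by
  rw [mem_octads_iff]
  constructor
  · rintro ⟨⟨n, hn, h8, rfl⟩, h0⟩
    rw [pt_mem_S _ _ (by norm_num)] at h0
    exact ⟨n, hn, by simp [P, h8, h0], rfl⟩
  · rintro ⟨n, hn, hP, rfl⟩
    simp only [P, Bool.and_eq_true, beq_iff_eq, Bool.not_eq_true'] at hP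
    refine ⟨⟨n, hn, hP.1, rfl⟩, ?_⟩
    rw [pt_mem_S _ _ (by norm_num), hP.2]
    decide

open Cfsg.Agent.Lib.Helper1 in
theorem base_set (k : ℕ) :
    {o' : Finset Cfsg.GolayPt | o' ∈ Cfsg.octads ∧ pt 5 ∉ o' ∧ (S O5 ∩ o').card = k}
    = {b : Finset Cfsg.GolayPt | ∃ n ∈ allWords gbasis, (P n && inv n == k) = true ∧ b = S n} := by
  ext b
  simp only [Set.mem_setOf_eq]
  constructor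
  · rintro ⟨h1, h2, h3⟩
    obtain ⟨n, hn, hP, rfl⟩ := (base_mem b).1 ⟨h1, h2⟩
    rw [S_inter, S_card] at h3
    exact ⟨n, hn, by simp [hP, inv, h3], rfl⟩
  · rintro ⟨n, hn, hP, rfl⟩
    simp only [Bool.and_eq_true, beq_iff_eq] at hP
    obtain ⟨h1, h2⟩ := (base_mem (S n)).2 ⟨n, hn, hP.1, rfl⟩
    refine ⟨h1, h2, ?_⟩
    rw [S_inter, S_card]; exact hP.2

open Cfsg.Agent.Lib.Helper1 in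
open scoped Pointwise in
theorem transport (g : Equiv.Perm Cfsg.GolayPt) (hg : g ∈ Cfsg.M24) (k : ℕ) :
    {o' : Finset Cfsg.GolayPt | o' ∈ Cfsg.octads ∧ g (pt 5) ∉ o' ∧ (g • S O5 ∩ o').card = k}.ncard
      = {o' : Finset Cfsg.GolayPt | o' ∈ Cfsg.octads ∧ pt 5 ∉ o' ∧ (S O5 ∩ o').card = k}.ncard := by
  apply ncard_transport g
  intro b
  simp only [Set.mem_setOf_eq]
  rw [smul_mem_octads_iff g⁻¹ (Cfsg.M24.inv_mem hg), card_smul_inter, perm_mem_inv_smul]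

open Cfsg.Agent.Lib.Helper1 in
open scoped Pointwise in
theorem base_trans (o' o'' : Finset Cfsg.GolayPt) (ho' : o' ∈ Cfsg.octads)
    (ho'' : o'' ∈ Cfsg.octads) (hx' : pt 5 ∉ o') (hx'' : pt 5 ∉ o'')
    (h : (S O5 ∩ o').card = (S O5 ∩ o'').card) :
    ∃ g ∈ Cfsg.M24, g (pt 5) = pt 5 ∧ g • S O5 = S O5 ∧ g • o' = o'' := by
  obtain ⟨n, hn, hP, rfl⟩ := (base_mem o').1 ⟨ho', hx'⟩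
  obtain ⟨n', hn', hP', rfl⟩ := (base_mem o'').1 ⟨ho'', hx''⟩
  rw [S_inter, S_card, S_inter, S_card] at h
  obtain ⟨g, hg, h1, h2, h3⟩ := cls_trans n n' hn hP hn' hP' h
  exact ⟨g, hg, h3 5 (by simp), h2 O5 (by simp), h1⟩

/-- The point stabiliser acts on the 506 octads avoiding the point with rank 4 and subdegrees 1, 15, 210, 280, the suborbits being given by intersection size with the fixed octad. -/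
theorem result (x : Cfsg.GolayPt) (o : Finset Cfsg.GolayPt) (ho : o ∈ Cfsg.octads) (hx : x ∉ o) : {o' : Finset Cfsg.GolayPt | o' ∈ Cfsg.octads ∧ x ∉ o' ∧ (o ∩ o').card = 0}.ncard = 15 ∧ {o' : Finset Cfsg.GolayPt | o' ∈ Cfsg.octads ∧ x ∉ o' ∧ (o ∩ o').card = 4}.ncard = 210 ∧ {o' : Finset Cfsg.GolayPt | o' ∈ Cfsg.octads ∧ x ∉ o' ∧ (o ∩ o').card = 2}.ncard = 280 ∧ ∀ o' o'' : Finset Cfsg.GolayPt, o' ∈ Cfsg.octads → o'' ∈ Cfsg.octads → x ∉ o' → x ∉ o'' → (o ∩ o').card = (o ∩ o'').card → ∃ g : Equiv.Perm Cfsg.GolayPt, g ∈ Cfsg.M24 ∧ g x = x ∧ g • o = o ∧ g • o' = o'' := by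
  obtain ⟨g, hg, rfl, rfl⟩ := Cfsg.Agent.Lib.Helper1.octad_npt_reach o ho x hx
  refine ⟨?_, ?_, ?_, ?_⟩
  · rw [transport g hg 0, base_set 0, Cfsg.Agent.Lib.Helper1.ncard_filter]
    exact cnt0
  · rw [transport g hg 4, base_set 4, Cfsg.Agent.Lib.Helper1.ncard_filter]
    exact cnt4
  · rw [transport g hg 2, base_set 2, Cfsg.Agent.Lib.Helper1.ncard_filter]
    exact cnt2
  · intro o' o'' ho' ho'' hx' hx'' hcard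
    have hinv := Cfsg.M24.inv_mem hg
    rw [Cfsg.Agent.Lib.Helper1.card_smul_inter, Cfsg.Agent.Lib.Helper1.card_smul_inter] at hcard
    obtain ⟨h, hh, h1, h2, h3⟩ := base_trans (g⁻¹ • o') (g⁻¹ • o'')
      ((Cfsg.Agent.Lib.Helper1.smul_mem_octads_iff g⁻¹ hinv o').2 ho')
      ((Cfsg.Agent.Lib.Helper1.smul_mem_octads_iff g⁻¹ hinv o'').2 ho'')
      (fun hc => hx' ((Cfsg.Agent.Lib.Helper1.perm_mem_inv_smul g _ o').1 hc))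
      (fun hc => hx'' ((Cfsg.Agent.Lib.Helper1.perm_mem_inv_smul g _ o'').1 hc)) hcard
    refine ⟨g * h * g⁻¹, Cfsg.M24.mul_mem (Cfsg.M24.mul_mem hg hh) hinv, ?_, ?_, ?_⟩
    · simp [h1]
    · rw [mul_smul, mul_smul, inv_smul_smul, h2]
    · rw [mul_smul, mul_smul, h3, smul_inv_smul]

end Cfsg.Agent.S1608
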