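import Cfsg.Statements.S1639
import Mathlib
import Cfsg.Agent.Lib.Helper1.M24Base2
import Cfsg.Agent.S0387

set_option autoImplicit false
open scoped Pointwise
open Cfsg

namespace Cfsg.Agent.S1639


open Cfsg.Agent.Lib.Helper1 in
/-- The property cutting out the relevant enumerated words. -/
def P (n : ℕ) : Bool := pcI 24 n == 12 && n.testBit 0

open Cfsg.Agent.Lib.Helper1 in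
/-- The invariant separating the classes. -/
def inv (n : ℕ) : ℕ := pcI 24 (28637 &&& n)

set_option maxRecDepth 1000000 in
/-- Class certificates: (invariant value, base mask, words). -/
noncomputable def cls : List (ℕ × ℕ × List (ℕ × List ℕ)) := [
  (4, 1038375, [
    (1038375, []),
    (1814947, [0, 0, 0, 3, 1, 3, 0, 0, 3, 3, 1, 4]),
    (2004579, [1, 2, 0, 3, 3, 1, 4, 1, 1, 1, 4, 1]),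
    (2994731, [1, 3, 3, 1, 1, 1, 3, 0, 0, 0, 3, 3, 0]),
    (3114291, [3, 0, 4, 4, 1, 1, 4, 0, 4, 1, 1, 1]),
    (3380271, [4, 1, 1, 4, 1, 3, 3, 1, 1, 1]),
    (3647587, [3, 1, 1, 1, 3, 1, 1, 4, 1, 1]),
    (3658529, [1, 3, 2, 1, 3, 3, 0, 0, 4, 0, 0, 0]),
    (3873331, [3, 1, 4, 4, 0, 3, 2, 0, 3, 1]),
    (4002151, [3, 0, 3, 3, 0, 3, 0, 4, 2, 0]),
    (4037793, [0, 2, 1, 1, 1, 1, 1, 4, 0, 3]),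
    (4102411, [4, 2, 1, 4, 1, 4, 1, 2]),
    (4108341, [1, 3, 3, 0, 0, 3, 1, 1, 3, 1, 4, 1, 1]),
    (4158467, [0, 0, 4, 1, 4, 0, 4, 0, 0, 0, 0, 3, 0]),
    (4162183, [3, 3, 2, 0, 3, 3, 0, 0, 4, 4, 2]),
    (5189747, [0, 4, 4, 0, 3, 0, 0, 3, 0, 0]),
    (5215371, [0, 3, 0, 0, 0, 3, 0, 4, 4, 1, 2, 0]),
    (5697579, [0, 3, 1, 1, 3, 0, 3, 3, 0, 3, 3]),
    (5709091, [4, 4, 1, 4, 4, 1, 4, 0, 0, 4, 1]),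
    (5738725, [3, 1, 4, 1, 4, 0, 0, 3, 1, 1]),
    (5871723, [2, 0, 0, 4, 1, 3, 1, 4, 0, 3, 2]),
    (6018097, [3, 0, 4, 0, 0, 4, 0, 3, 3, 1, 1, 1, 3]),
    (6116003, [4, 1, 1, 1, 2, 0, 4, 1, 1, 4, 1, 3]),
    (6136871, [1, 1, 3, 3, 0, 4, 4, 0, 3, 0, 4, 4]),
    (6195379, [2, 0, 4, 1, 4, 1, 4, 0, 3, 0, 2]),
    (6273537, [3, 1, 1, 4, 0, 0, 0, 4, 4, 0, 4, 4, 0]),
    (6275395, [4, 2, 1, 3, 0, 4, 0, 3, 1, 1, 2]),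
    (6673507, [2, 1, 4, 1, 3, 0, 3, 0, 3, 1, 2]),
    (6789177, [1, 1, 1, 3, 1, 1, 4, 4, 0, 4, 2, 0]),
    (6795527, [1, 1, 3, 3, 0, 4, 1, 1, 1, 3, 1, 4]),
    (6918327, [3, 2, 1, 3, 3, 0, 3, 0, 3, 0, 4, 2]),
    (6994979, [0, 0, 4, 1, 1, 3, 0, 3, 0, 4]),
    (7033131, [1, 1, 4, 1, 3, 3, 0, 0, 4, 4, 0, 0, 3]),
    (7241839, [2, 0, 3, 1, 1, 1, 4, 1, 4, 1, 3, 2]),
    (7262739, [4, 1, 1, 3, 3, 1, 1, 4, 4, 0, 3, 0, 0]),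
    (7280165, [3, 0, 4, 0, 0, 0, 3, 1, 4, 4, 0, 0]),
    (7332001, [3, 3, 2, 1, 1, 4, 4, 1, 4, 4, 2]),
    (7508339, [0, 3, 0, 4, 1, 3, 0, 4, 0]),
    (7592067, [3, 0, 3, 1, 3, 0, 4, 4, 0, 4, 0]),
    (7641639, [2, 1, 4, 0, 3, 3, 0, 0, 4, 0, 0, 2]),
    (7700907, [0, 3, 3, 1, 1, 3, 1, 1, 3, 0, 4]),
    (7803467, [3, 2, 1, 1, 4, 4, 0, 3, 1, 2]),
    (7815223, [1, 1, 4, 1, 4, 0, 4, 1, 4, 0, 0, 0]),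
    (7968515, [0, 3, 3, 1, 4, 4, 0, 2, 0, 0, 0]),
    (8032937, [0, 4, 0, 3, 3, 1, 3, 1, 3, 1]),
    (8062179, [3, 3, 0, 4, 1, 4, 0, 4, 1, 1, 4, 1]),
    (8096037, [1, 4, 2, 0, 3, 3, 2, 0, 4, 1, 4]),
    (8101915, [1, 3, 1, 4, 0, 3, 1, 4, 1]),
    (8131643, [3, 1, 4, 0, 0, 4, 0, 0, 4, 4, 1]),
    (8171715, [0, 4, 0, 4, 0, 4, 4, 1, 3, 1]),
    (8225393, [0, 3, 0, 0, 3, 1, 3, 0, 3, 1, 4, 4]),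
    (8245261, [1, 3, 1, 3, 3, 1, 4, 0, 4, 1, 4]),
    (8266531, [2, 0, 0, 2, 1, 1, 1, 2, 0, 3, 1, 4]),
    (8280161, [1, 1, 1, 4, 0, 4, 4, 1, 4, 4, 0, 4]),
    (8327569, [1, 3, 3, 0, 4, 4, 1, 1, 4, 4, 1, 4, 1]),
    (8884587, [4, 1, 2, 0, 0, 4, 4, 0, 4, 0, 0, 2, 0]),
    (9409201, [1, 3, 2, 1, 3, 1, 4, 4, 1, 4, 4, 0, 0]),
    (9908775, [2, 1, 1, 2, 0, 4, 1, 3, 2, 1, 4, 0, 0]),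
    (9946275, [0, 3, 1, 4, 1, 4, 4, 2, 1, 4, 4, 2, 1]),
    (10190967, [2, 0, 0, 4, 2, 1, 3, 2, 0, 3, 2, 1]),
    (10211851, [4, 1, 1, 1, 3, 0, 0, 3, 3, 0, 2, 1]),
    (10260655, [0, 4, 4, 1, 4, 4, 0, 3, 3, 0, 2, 1]),
    (10324771, [2, 1, 4, 1, 3, 0, 4, 4, 0, 0, 4, 2]),
    (10350689, [1, 3, 2, 1, 4, 1, 4, 4, 1, 4]),
    (10375475, [1, 3, 2, 1, 3, 1, 3, 0, 3, 0, 4, 4]),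
    (10426563, [1, 1, 3, 3, 1, 4, 4, 2, 1, 1, 1, 1, 1]),
    (10458373, [4, 4, 0, 4, 0, 3, 1, 3, 3, 1, 1, 2, 1]),
    (10743859, [3, 3, 1, 4, 1, 4, 1, 1, 3, 2, 0, 3, 0]),
    (10984963, [1, 1, 4, 4, 0, 4, 4, 2, 1, 1, 1, 3, 2]),
    (11178791, [1, 4, 4, 2, 0, 4, 0, 3, 1, 1, 2, 0, 0]),
    (11241643, [4, 4, 0, 3, 1, 4, 1, 4, 0, 3, 2, 1]),
    (11311219, [0, 2, 1, 4, 0, 0, 4, 2, 0, 3, 0, 4, 1]),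
    (11391363, [0, 3, 3, 2, 0, 4, 4, 1, 1, 3, 0, 2, 1]),
    (11457577, [3, 3, 2, 0, 3, 0, 3, 0, 4, 0, 4, 2]),
    (11472927, [3, 2, 1, 1, 3, 3, 1, 4, 0, 3, 0, 2]),
    (11483425, [0, 2, 1, 4, 0, 4, 0, 0, 3, 2, 0, 0]),
    (11485795, [1, 1, 3, 0, 3, 1, 1, 3, 0, 4, 2, 1]),
    (11637475, [3, 2, 0, 0, 0, 0, 0, 3, 1, 1, 3, 2]),
    (11842851, [1, 3, 0, 4, 2, 0, 4, 0, 3, 0, 4]),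
    (11884587, [2, 0, 4, 1, 3, 1, 3, 1, 3, 0, 3, 2]),
    (11960891, [2, 0, 4, 1, 3, 3, 0, 0, 4, 2]),
    (11980871, [0, 4, 0, 2, 1, 3, 2, 0, 0, 3, 2, 0, 0]),
    (11998321, [1, 4, 1, 3, 3, 0, 0, 3, 2, 1, 4, 0, 0]),
    (12038281, [2, 0, 3, 1, 3, 1, 1, 1, 1, 4, 0, 4, 2]),
    (12161337, [4, 1, 3, 3, 1, 3, 0, 0, 0, 3, 1, 2, 1]),
    (12171271, [2, 0, 3, 0, 0, 4, 0, 3, 0, 0, 4, 2]),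
    (12202091, [3, 1, 4, 1, 3, 1, 3, 2, 1, 4, 0]),
    (12227731, [1, 3, 2, 0, 0, 4, 2, 0, 0, 4]),
    (12275877, [3, 0, 3, 1, 4, 4, 2, 1, 3, 2, 0]),
    (12297761, [2, 1, 1, 3, 0, 0, 4, 1, 1, 4, 0, 0, 2]),
    (12394675, [4, 0, 4, 2, 0, 3, 1, 3, 2, 0, 0, 2, 1]),
    (12420171, [1, 4, 0, 0, 3, 3, 2, 0, 0, 4, 2, 0, 4]),
    (12454951, [2, 1, 1, 1, 4, 4, 0, 4, 0, 0, 0, 3, 2]),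
    (12485089, [1, 4, 4, 2, 0, 4, 4, 0, 4, 0, 0, 3, 1]),
    (12568593, [1, 4, 0, 4, 2, 1, 4, 1, 1, 4, 1, 1]),
    (12957859, [0, 3, 1, 4, 1, 3, 2, 1, 1, 3, 0, 2, 1]),
    (13014071, [1, 2, 0, 4, 2, 1, 1, 3, 0, 4, 1, 3]),
    (13291747, [0, 4, 0, 0, 3, 0, 4, 4, 2, 0, 4, 2, 1]),
    (13342995, [0, 3, 3, 1, 1, 1, 2, 0, 4, 1, 2, 1, 1]),
    (13348909, [0, 0, 3, 1, 4, 2, 1, 3, 3, 1, 2, 1]),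
    (13472327, [3, 0, 3, 1, 1, 4, 0, 4, 1, 3, 2, 0, 0, 2]),
    (13484091, [4, 0, 3, 1, 3, 1, 4, 2, 1, 3, 2, 0, 0]),
    (13507115, [1, 1, 1, 4, 2, 0, 4, 1, 3, 0, 4]),
    (13566375, [0, 4, 1, 4, 2, 1, 3, 3, 0, 4]),
    (13601889, [4, 1, 3, 0, 0, 0, 0, 0, 2, 1]),
    (13750567, [4, 4, 2, 1, 4, 1, 4, 2]),
    (13832379, [4, 0, 0, 4, 1, 1, 1, 4, 2, 1, 1, 1, 2]),
    (13874243, [3, 1, 3, 2, 1, 1, 4, 4, 2, 1, 1, 3, 0]),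
    (13997609, [2, 1, 3, 3, 1, 3, 0, 0, 0, 0, 0, 2]),
    (14062467, [2, 0, 3, 1, 4, 0, 3, 3, 0, 0, 0, 4, 2]),
    (14125071, [1, 3, 1, 3, 3, 1, 3, 3, 2, 1, 3, 2, 0]),
    (14131505, [4, 2, 0, 3, 3, 1, 1, 4, 4, 0, 3, 3, 2]),
    (14201395, [0, 0, 2, 1, 3, 3, 0, 3, 2, 0, 0, 3, 2, 0]),
    (14320939, [4, 0, 0, 4, 0, 4, 4, 2, 0, 3, 3, 1]),
    (14357345, [3, 2, 1, 4, 2, 0, 0, 3, 1, 3, 0, 0]),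
    (14379043, [3, 2, 0, 4, 0, 0, 3, 0, 3, 3, 1, 2]),
    (14474243, [2, 0, 0, 4, 1, 1, 4, 0, 0, 0, 0, 2]),
    (14489653, [1, 3, 0, 3, 2, 0, 4, 0, 4, 1, 3, 0, 0]),
    (14496011, [4, 0, 3, 1, 3, 1, 1, 1, 1, 4, 4, 2, 1]),
    (14562465, [4, 1, 1, 1, 4, 4, 2, 0, 3, 3, 0, 3, 0]),
    (14585945, [4, 1, 4, 1, 1, 4, 1, 3, 2, 0, 0, 0, 0]),
    (14598693, [0, 3, 2, 1, 1, 4, 0, 4, 0, 3, 1, 3]),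
    (14616083, [1, 4, 1, 4, 1, 3, 2, 1, 3, 3, 1, 2]),
    (14882919, [2, 0, 3, 1, 1, 3, 0, 2]),
    (14914977, [1, 1, 2, 0, 3, 3, 2, 0, 4, 4, 1]),
    (15012659, [3, 2, 1, 1, 1, 4, 4, 1, 3, 1, 3, 0, 2]),
    (15118945, [1, 3, 3, 0, 4, 0, 2, 1, 4, 0, 3, 1, 1]),
    (15124771, [2, 1, 3, 1, 4, 0, 3, 1, 3, 1, 3, 1, 2]),
    (15148075, [0, 4, 4, 1, 3, 3, 2, 1, 3, 1, 1, 3]),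
    (15171795, [2, 1, 1, 1, 1, 1, 4, 0, 4, 4, 0, 2]),
    (15311203, [4, 4, 1, 1, 3, 0, 2, 1, 1, 4, 2, 0, 0]),
    (15325729, [3, 2, 0, 3, 0, 3, 3, 2]),
    (15413891, [3, 0, 4, 4, 2, 0, 0, 3, 1, 3, 0, 4, 0]),
    (15451143, [0, 0, 3, 0, 0, 3, 0, 3, 2, 1, 3, 0]),
    (15495207, [2, 1, 4, 0, 0, 4, 1, 2]),
    (15500963, [4, 1, 4, 0, 3, 0, 2, 0, 0, 0, 3, 1, 4, 1]),
    (15536361, [2, 0, 4, 4, 0, 4, 2, 0, 3, 0, 3, 0]),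
    (15578129, [3, 0, 0, 4, 2, 0, 4, 2, 1, 3, 3, 1, 1]),
    (15603011, [4, 2, 1, 3, 3, 0, 4, 1, 4, 0, 4, 1, 2]),
    (15636613, [2, 1, 1, 1, 1, 3, 0, 0, 3, 1, 1, 2]),
    (15696649, [3, 1, 1, 3, 2, 1, 1, 4, 2, 0]),
    (15830067, [4, 2, 0, 4, 0, 4, 0, 0, 3, 0, 2]),
    (15881763, [4, 1, 3, 3, 2, 1, 1, 3, 0, 2, 0, 0, 0]),
    (15900839, [4, 1, 4, 2, 1, 4, 4, 0, 4, 1, 3, 0]),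
    (15962645, [2, 1, 4, 1, 1, 3, 1, 3, 1, 3, 2]),
    (15974505, [3, 0, 4, 4, 2, 0, 0, 3, 3, 1, 4, 1]),
    (16044209, [0, 3, 0, 0, 2, 1, 4, 4, 0, 4, 2, 0, 4]),
    (16061575, [0, 2, 1, 4, 4, 1, 4, 2, 1, 3, 1, 1, 3]),
    (16095553, [4, 2, 1, 4, 1, 1, 1, 3, 0, 2]),
    (16114179, [2, 0, 3, 0, 0, 0, 0, 0, 0, 0, 3, 1, 2]),
    (16126253, [2, 1, 3, 2, 0, 3, 3, 0, 3, 3, 1, 1]),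
    (16136211, [3, 0, 3, 1, 4, 1, 1, 1, 2, 0, 3, 0, 0]),
    (16190113, [0, 3, 3, 1, 3, 3, 0, 0, 4, 4, 2, 0, 3]),
    (16259491, [3, 3, 2, 0, 0, 0, 0, 0, 3, 1, 4, 2]),
    (16290917, [1, 4, 0, 3, 1, 3, 3, 0, 3, 2, 0, 3]),
    (16319023, [2, 1, 4, 0, 0, 0, 3, 0, 3, 2]),
    (16339027, [2, 1, 3, 1, 4, 4, 1, 3, 0, 3, 1, 4, 2]),
    (16419395, [3, 3, 1, 4, 1, 1, 3, 1, 3, 0, 3, 2, 1]),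
    (16445697, [4, 0, 0, 4, 0, 3, 2, 0, 3, 3, 0, 2, 1]),
    (16456713, [0, 4, 0, 3, 3, 2, 0, 3, 1, 1, 2, 0, 4, 0]),
    (16548119, [0, 0, 4, 4, 1, 4, 4, 1, 4, 1, 2, 1]),
    (16558121, [0, 3, 0, 4, 4, 1, 1, 3, 3, 2, 1, 4]),
    (16598305, [4, 4, 0, 2, 1, 4, 2, 0, 4, 2, 1, 3, 0]),
    (16662667, [1, 1, 2, 0, 4, 2, 0, 0, 4, 4, 2, 0, 3]),
    (16719941, [4, 1, 1, 2, 0, 0, 0, 3, 0, 4, 0, 3, 0])]),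
  (6, 236787, [
    (236787, []),
    (366503, [4, 1, 3, 3, 0, 4, 0, 2, 1, 4, 1, 1]),
    (441139, [4, 1, 1, 1, 3, 0, 3, 3, 0, 3, 3, 1]),
    (480827, [1, 1, 3, 0, 3, 3, 0, 3, 1, 4, 1, 1]),
    (499903, [3, 1, 1, 1, 3, 1, 1, 4, 1, 1]),
    (520899, [1, 4, 4, 1, 4, 1, 4, 1, 2, 0, 0, 0]),
    (643955, [0, 4, 0, 4, 1, 1, 4, 4, 1, 3, 0, 2, 0]),
    (725743, [4, 1, 4, 4, 0, 0, 0, 4, 1, 4, 2, 0]),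
    (761641, [4, 2, 1, 3, 3, 1, 1, 1, 4, 1, 1, 2]),
    (767511, [0, 0, 3, 0, 2, 1, 3, 1, 4, 4, 0, 3]),
    (779371, [0, 4, 1, 2, 0, 0, 3, 1, 4, 1, 4, 0, 4]),
    (849075, [2, 0, 3, 1, 1, 3, 0, 0, 3, 1, 1, 3, 0, 2]),
    (858555, [4, 1, 1, 1, 2, 0, 4, 1, 1, 4, 1, 3]),
    (889981, [4, 2, 0, 0, 4, 1, 3, 0, 3, 3, 0, 4, 2]),
    (900419, [4, 4, 0, 4, 0, 0, 4, 0, 4, 4, 1, 1, 3]),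
    (931119, [3, 1, 1, 4, 1, 3, 3, 0, 0, 4, 4, 0, 0]),
    (954839, [3, 3, 0, 4, 2, 1, 1, 2, 0, 4, 0, 4, 0, 0]),
    (964841, [1, 1, 2, 1, 1, 1, 3, 0, 0, 0, 0, 3, 0]),
    (967595, [3, 1, 1, 3, 3, 0, 3, 3, 1, 3, 0, 2, 0]),
    (994979, [3, 0, 4, 4, 1, 1, 4, 0, 4, 1, 1, 1]),
    (1005025, [2, 1, 4, 1, 4, 0, 4, 0, 2, 1, 3, 3, 0, 0]),
    (1018459, [2, 0, 3, 3, 0, 4, 0, 3, 1, 3, 0, 0, 2]),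
    (1024869, [4, 0, 3, 0, 4, 0, 3, 1, 4, 4, 2, 0, 3, 0]),
    (1044761, [1, 4, 4, 0, 0, 4, 4, 0, 4, 2, 1, 1, 4, 2]),
    (1179171, [3, 0, 3, 3, 0, 3, 3, 1, 3, 0, 3, 0, 4, 4]),
    (1233591, [1, 4, 1, 3, 3, 1, 4, 4, 0, 0, 0, 2, 0]),
    (1284935, [4, 2, 0, 4, 0, 0, 0, 4, 0, 3, 0, 2]),
    (1290873, [3, 0, 4, 4, 0, 3, 0, 3, 3, 1, 1, 2, 0]),
    (1296699, [1, 4, 1, 2, 0, 3, 0, 4, 1, 1, 4, 0, 0, 0]),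
    (1366499, [4, 0, 4, 4, 2, 1, 1, 2, 0, 0, 4, 2, 0, 0]),
    (1389803, [4, 4, 1, 4, 4, 1, 4, 0, 0, 4, 1]),
    (1423661, [4, 2, 0, 4, 1, 2, 1, 1, 3, 2, 1, 3, 0]),
    (1426031, [0, 4, 0, 3, 3, 1, 4, 4, 1, 3, 1, 3, 1]),
    (1448063, [1, 3, 3, 1, 4, 0, 4, 1, 4, 0, 3, 3, 0]),
    (1480121, [1, 3, 0, 0, 2, 0, 0, 3, 2, 0, 0, 2, 1, 3]),
    (1490055, [1, 1, 4, 0, 0, 0, 4, 4, 0, 3, 0, 0, 0, 0]),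
    (1508339, [3, 2, 0, 4, 4, 1, 1, 3, 3, 0, 0, 0, 2]),
    (1528207, [4, 2, 1, 1, 4, 0, 3, 3, 0, 0, 0, 0, 2]),
    (1538225, [3, 1, 1, 1, 2, 0, 4, 2, 0, 3, 3, 0, 0, 0]),
    (1543733, [1, 4, 4, 1, 3, 0, 3, 1, 3, 0, 4, 4, 0]),
    (1550091, [1, 3, 1, 3, 3, 1, 3, 3, 2, 1, 3, 2, 0]),
    (1563721, [0, 3, 2, 1, 3, 3, 2, 1, 4, 1, 1, 3, 1]),
    (1613111, [1, 1, 4, 4, 0, 2, 1, 3, 1, 3, 0, 3, 0, 2]),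
    (1667135, [3, 0, 2, 1, 4, 4, 0, 3, 1, 3, 3, 0, 0]),
    (1672891, [1, 4, 1, 1, 4, 0, 4, 0, 0, 4, 0, 4, 0]),
    (1692871, [4, 0, 3, 1, 4, 0, 0, 3, 0, 2, 0, 0]),
    (1727659, [1, 4, 1, 1, 1, 1, 4, 0, 0, 0, 2, 0, 0]),
    (1747503, [1, 1, 4, 4, 0, 4, 1, 3, 3, 0, 2, 1, 4]),
    (1757549, [1, 1, 4, 1, 1, 3, 2, 1, 3, 0, 3, 2, 1, 3]),
    (1767507, [4, 4, 0, 0, 0, 3, 1, 1, 1, 1, 3, 0, 0, 0, 0]),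
    (1774939, [1, 3, 1, 4, 1, 1, 1, 4, 0, 3, 2, 0, 0, 0]),
    (1784933, [4, 4, 0, 3, 1, 1, 3, 0, 4, 0, 4, 1, 4, 1]),
    (1787687, [2, 0, 4, 1, 4, 1, 4, 4, 1, 4, 1, 3, 2]),
    (1808541, [0, 0, 0, 3, 1, 3, 0, 0, 3, 3, 1, 4]),
    (1821409, [2, 1, 1, 3, 0, 0, 4, 1, 1, 4, 0, 0, 2]),
    (1876347, [0, 3, 2, 0, 0, 0, 2, 1, 3, 0, 0, 4, 0]),
    (1890873, [3, 3, 0, 2, 1, 4, 2, 1, 1, 3, 3, 0, 4, 0]),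
    (1897223, [4, 4, 1, 1, 1, 4, 4, 2, 0, 3, 1, 3]),
    (1908239, [3, 1, 4, 4, 1, 3, 0, 0, 3, 3, 1, 4, 4, 1]),
    (1914673, [4, 4, 1, 1, 4, 0, 3, 3, 0, 3, 1, 3, 1, 3]),
    (1920115, [1, 2, 1, 1, 4, 0, 4, 4, 0, 3, 0, 3]),
    (1938377, [0, 3, 3, 1, 4, 4, 1, 3, 1, 1, 1, 3, 3, 1]),
    (1950133, [2, 0, 4, 1, 4, 1, 4, 0, 0, 0, 4, 1, 2]),
    (1960075, [0, 2, 1, 3, 0, 2, 0, 0, 0, 0, 4, 4, 1]),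
    (1973157, [4, 1, 1, 4, 1, 1, 3, 0, 3, 1, 3, 2, 1, 4]),
    (1979035, [0, 0, 4, 1, 4, 0, 4, 0, 0, 0, 0, 3, 0]),
    (1990887, [1, 2, 0, 3, 3, 1, 4, 1, 1, 1, 4, 1]),
    (2016287, [3, 2, 1, 1, 4, 4, 0, 3, 3, 0, 3, 0, 3, 2]),
    (2026785, [0, 3, 2, 1, 1, 4, 0, 4, 0, 3, 1, 3]),
    (2042135, [3, 0, 4, 0, 4, 2, 1, 3, 0, 0, 4, 0, 2, 0]),
    (2052693, [4, 2, 1, 1, 3, 3, 1, 3, 3, 1, 3, 0, 2]),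
    (2073809, [0, 3, 3, 1, 1, 3, 1, 3, 1, 3, 2, 0, 0, 0]),
    (2284139, [2, 0, 4, 2, 0, 3, 3, 0, 0, 3, 1, 3, 1]),
    (2307939, [0, 0, 0, 4, 0, 3, 0, 4, 0, 0, 3, 0, 0]),
    (2331547, [2, 0, 3, 2, 1, 4, 0, 4, 1, 3, 3, 1, 3, 1]),
    (2341541, [0, 0, 3, 0, 4, 1, 4, 4, 1, 4, 0, 0]),
    (2343399, [0, 0, 3, 0, 0, 4, 0, 0, 0, 4]),
    (2412863, [2, 1, 4, 0, 3, 3, 0, 0, 4, 0, 0, 2]),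
    (2440247, [1, 3, 2, 0, 3, 3, 0, 0, 4, 1, 1, 3, 3, 0]),
    (2463951, [1, 3, 0, 2, 1, 3, 1, 4, 0, 0, 3, 0, 3, 3]),
    (2470385, [1, 4, 1, 1, 4, 0, 3, 2, 0, 0, 4, 1, 1]),
    (2476723, [0, 3, 0, 0, 4, 4, 0, 4, 0, 0, 0, 0, 0, 2, 0]),
    (2530661, [3, 3, 2, 0, 3, 0, 3, 0, 4, 0, 4, 2]),
    (2536539, [4, 0, 3, 1, 1, 1, 1, 2, 0, 3, 0, 0, 3, 2]),
    (2549287, [0, 4, 0, 3, 3, 0, 0, 0, 4, 0, 0, 0, 3, 0]),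
    (2558767, [2, 1, 1, 3, 1, 1, 4, 4, 0, 4, 1, 2]),
    (2578771, [4, 1, 3, 3, 2, 1, 3, 3, 0, 4, 0, 4, 4, 1, 1]),
    (2584685, [1, 3, 2, 1, 3, 3, 0, 0, 4, 0, 0, 0]),
    (2590441, [3, 2, 0, 4, 1, 3, 3, 0, 3, 1, 3, 1, 2]),
    (2610325, [2, 1, 3, 1, 1, 1, 1, 3, 0, 3, 0, 4, 0, 2]),
    (2659819, [1, 4, 2, 1, 4, 0, 3, 0, 4, 1, 3, 1, 4, 0]),
    (2717923, [3, 0, 2, 0, 0, 4, 1, 4, 0, 4, 1, 3, 0]),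
    (2723431, [2, 0, 3, 3, 2, 0, 3, 1, 2, 0, 0, 4, 0]),
    (2743323, [0, 3, 3, 1, 4, 4, 0, 2, 0, 0, 0]),
    (2749733, [3, 1, 4, 0, 3, 1, 1, 4, 1, 4, 1, 3, 0]),
    (2774135, [4, 2, 0, 0, 4, 4, 0, 3, 3, 0, 4, 4, 0, 2]),
    (2794227, [0, 4, 0, 3, 0, 3, 2, 0, 3, 3, 1, 1, 3, 1, 1]),
    (2808241, [2, 1, 3, 3, 1, 1, 3, 1, 1, 4, 0, 4, 2]),
    (2814095, [0, 0, 4, 1, 1, 3, 0, 3, 0, 4]),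
    (2825607, [1, 1, 1, 3, 1, 4, 1, 1, 1, 4, 1, 1, 3]),
    (2831545, [0, 3, 1, 3, 2, 0, 3, 0, 0, 4, 4, 0, 3, 2, 0]),
    (2867773, [1, 1, 1, 2, 1, 1, 3, 1, 1, 1, 3, 3, 1]),
    (2878211, [1, 4, 0, 4, 2, 1, 4, 4, 0, 0, 0, 4]),
    (2907939, [0, 3, 0, 3, 0, 4, 0, 4, 1, 3, 0, 3, 1]),
    (2927015, [4, 4, 2, 1, 4, 0, 0, 0, 0, 3, 1, 1, 3, 2]),
    (2937573, [0, 4, 2, 1, 3, 0, 3, 0, 4, 1, 3, 3]),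
    (2954963, [2, 1, 3, 0, 3, 0, 3, 1, 4, 1, 1, 1, 2]),
    (2966703, [1, 3, 0, 0, 4, 4, 1, 4, 1, 3, 0, 0, 4]),
    (2988821, [4, 1, 4, 4, 0, 4, 4, 1, 4, 0, 0, 4, 4]),
    (3000681, [4, 4, 1, 3, 2, 0, 0, 4, 1, 2, 1, 1, 3]),
    (3006551, [1, 3, 3, 1, 1, 1, 3, 0, 0, 0, 3, 3, 0]),
    (3019641, [3, 0, 4, 0, 0, 0, 3, 1, 4, 4, 0, 0]),
    (3029575, [4, 4, 0, 3, 3, 0, 3, 1, 3, 3, 0, 4, 0, 3]),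
    (3041339, [4, 1, 3, 1, 1, 1, 3, 1, 4, 0, 4, 1, 3, 1]),
    (3061633, [4, 1, 1, 3, 3, 1, 1, 4, 4, 0, 3, 0, 0]),
    (3067075, [2, 0, 4, 4, 0, 3, 0, 4, 0, 0, 0, 0, 2]),
    (3082485, [0, 4, 2, 1, 4, 2, 0, 3, 2, 1, 1, 2]),
    (3088843, [3, 0, 3, 0, 0, 4, 1, 2, 0, 0, 4, 1, 4]),
    (3103369, [2, 1, 3, 0, 4, 4, 0, 3, 3, 0, 0, 4, 0, 2]),
    (3124237, [4, 1, 3, 0, 0, 4, 2, 0, 0, 4, 4, 2, 1, 1, 1]),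
    (3193019, [3, 3, 0, 4, 1, 4, 0, 4, 1, 4, 1, 3, 0, 4, 0]),
    (3233203, [3, 0, 3, 1, 3, 0, 3, 3, 0, 3, 1, 4, 1]),
    (3253047, [0, 0, 4, 0, 4, 1, 4, 0, 0, 3, 1, 4, 0]),
    (3266677, [3, 2, 1, 4, 4, 1, 4, 0, 3, 1, 1, 3, 2]),
    (3273035, [1, 3, 0, 4, 1, 1, 3, 0, 3, 1, 3, 1, 1]),
    (3307815, [4, 1, 4, 2, 1, 4, 0, 3, 1, 2, 0, 4, 2]),
    (3313571, [4, 0, 3, 0, 0, 3, 1, 2, 0, 0, 0, 3]),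
    (3339489, [0, 4, 1, 3, 3, 0, 0, 3, 2, 0, 3, 1, 3, 1]),
    (3348969, [3, 0, 4, 0, 2, 1, 3, 1, 1, 4, 1, 3, 2, 1]),
    (3354839, [3, 0, 3, 0, 3, 1, 1, 3, 0, 0, 0, 0, 2, 0]),
    (3367595, [3, 2, 0, 0, 3, 2, 1, 3, 3, 1, 1, 3, 3, 0]),
    (3390737, [3, 2, 0, 4, 4, 1, 4, 0, 0, 0, 3, 2]),
    (3393107, [2, 0, 0, 3, 1, 3, 3, 0, 0, 3, 0, 0, 0, 2]),
    (3437171, [1, 4, 0, 3, 0, 4, 1, 3, 1, 4, 1, 1, 1]),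
    (3441911, [1, 3, 1, 4, 0, 4, 1, 1, 3, 3, 2, 1, 4]),
    (3462795, [4, 4, 2, 1, 3, 3, 1, 4, 0, 0, 0, 3, 2]),
    (3478205, [3, 3, 1, 1, 1, 4, 0, 0, 3, 3, 0, 2, 1, 4]),
    (3488643, [1, 3, 1, 3, 1, 4, 0, 4, 1, 4, 1, 1, 4]),
    (3520069, [1, 4, 0, 3, 0, 4, 0, 4, 1, 1, 4, 4, 0, 0]),
    (3525895, [3, 2, 0, 0, 4, 0, 4, 0, 4, 1, 1, 1, 2]),
    (3531833, [4, 0, 0, 3, 1, 1, 3, 1, 4, 1, 3, 1, 2, 0]),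
    (3544855, [3, 1, 3, 0, 3, 3, 1, 4, 1, 1, 1, 1, 4]),
    (3554857, [1, 4, 4, 0, 3, 0, 3, 1, 3, 0, 3, 0, 0, 4]),
    (3556715, [1, 3, 3, 0, 4, 0, 3, 3, 1, 3, 2, 1, 3, 2]),
    (3578577, [4, 2, 1, 4, 1, 4, 1, 2]),
    (3590317, [3, 2, 0, 4, 0, 0, 2, 0, 0, 4, 0, 0, 3, 0]),
    (3596691, [3, 1, 4, 1, 1, 4, 1, 4, 0, 0, 3, 3, 1]),
    (3607707, [2, 1, 1, 1, 1, 3, 1, 4, 1, 3, 3, 1, 2]),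
    (3614117, [3, 0, 0, 3, 3, 1, 4, 0, 3, 1, 1, 1, 3, 0]),
    (3637597, [1, 4, 1, 1, 1, 1, 3, 1, 3, 0, 3, 1, 1]),
    (3684007, [3, 3, 2, 0, 0, 0, 0, 0, 3, 1, 4, 2]),
    (3707487, [1, 4, 1, 4, 0, 3, 1, 4, 4, 1, 3, 2, 0, 0]),
    (3717985, [3, 1, 4, 0, 3, 1, 3, 2, 0, 0, 0]),
    (3747115, [4, 1, 4, 0, 0, 4, 4, 0, 0, 0, 0, 3, 0, 4, 0]),
    (3757673, [3, 1, 1, 4, 0, 3, 0, 3, 3, 1, 1, 4, 0]),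
    (3770835, [1, 3, 0, 4, 4, 0, 3, 0, 3, 0, 4, 2, 0, 3]),
    (3776749, [1, 1, 1, 3, 1, 1, 3, 3, 1, 4, 4, 1, 4]),
    (3797649, [0, 3, 3, 1, 3, 1, 1, 1, 1, 3, 1, 1, 3, 0]),
    (3801535, [1, 1, 4, 0, 4, 1, 1, 3, 2, 0, 4, 2]),
    (3822531, [0, 4, 0, 3, 0, 0, 3, 3, 1, 3, 3, 1, 4, 0]),
    (3837049, [1, 4, 0, 4, 1, 3, 3, 1, 4, 2, 1, 4, 1, 1]),
    (3843399, [3, 0, 0, 4, 1, 3, 0, 0, 0, 0, 0, 3]),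
    (3857925, [2, 0, 3, 0, 4, 4, 1, 1, 1, 4, 1, 1, 2]),
    (3879693, [3, 1, 4, 4, 0, 3, 2, 0, 3, 1]),
    (3885135, [2, 0, 4, 4, 1, 4, 4, 2, 1, 1, 4, 4, 2, 1]),
    (3891569, [4, 0, 2, 1, 3, 2, 1, 1, 4, 2, 0, 3, 3]),
    (3917193, [3, 3, 2, 0, 3, 3, 0, 0, 4, 4, 2]),
    (3934955, [4, 1, 4, 1, 1, 3, 1, 3, 3, 2, 0, 0, 4]),
    (3954839, [1, 1, 3, 0, 4, 2, 1, 1, 4, 4, 0, 3, 0]),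
    (3961257, [4, 2, 1, 4, 4, 0, 0, 2, 1, 1, 4, 4, 2, 1]),
    (3966765, [0, 4, 4, 0, 3, 0, 4, 0, 4, 1, 4, 0, 0, 0]),
    (3976723, [0, 4, 0, 4, 0, 4, 4, 1, 3, 1]),
    (3986769, [3, 0, 3, 0, 0, 2, 1, 1, 3, 1, 1, 4, 0, 0]),
    (4012121, [3, 0, 3, 3, 0, 3, 0, 4, 2, 0]),
    (4014875, [2, 1, 3, 1, 1, 1, 4, 1, 3, 1, 3, 0, 0, 2]),
    (4024869, [0, 2, 1, 1, 1, 1, 1, 4, 0, 3]),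
    (4068557, [4, 0, 3, 2, 1, 3, 3, 2, 1, 3, 0, 2, 1, 1]),
    (4081329, [2, 0, 3, 0, 4, 0, 3, 0, 0, 0, 0, 4, 2]),
    (4121161, [0, 0, 4, 1, 4, 0, 4, 4, 0, 0, 0, 2, 0, 0]),
    (4132673, [4, 2, 0, 3, 1, 1, 1, 3, 1, 4, 4, 1, 3, 2]),
    (4306235, [4, 1, 3, 3, 0, 0, 3, 2, 0, 4, 0, 0, 2]),
    (4364719, [2, 1, 1, 3, 1, 4, 2, 1, 1, 4, 4, 0, 3]),
    (4420775, [3, 3, 0, 4, 0, 2, 1, 1, 4, 0, 4, 4, 1]),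
    (4444255, [1, 3, 3, 2, 0, 0, 4, 2, 0, 4, 1, 4, 4, 1]),
    (4454753, [1, 1, 3, 3, 0, 3, 1, 3, 1, 1, 1, 3, 0, 4]),
    (4494075, [3, 2, 0, 4, 1, 4, 2, 1, 1, 1, 4, 0, 0, 0]),
    (4557175, [3, 1, 3, 1, 1, 4, 1, 4, 0, 3, 3, 1, 1]),
    (4578059, [4, 1, 3, 3, 0, 4, 2, 1, 4, 2, 0, 0, 0, 4]),
    (4583989, [3, 1, 4, 1, 4, 0, 0, 3, 1, 1]),
    (4608871, [0, 4, 4, 0, 3, 3, 1, 4, 1, 3, 1, 1, 1]),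
    (4629987, [4, 2, 0, 0, 4, 1, 4, 1, 4, 1, 1, 1, 3, 2]),
    (4644513, [0, 3, 1, 1, 3, 0, 3, 3, 0, 3, 3]),
    (4659863, [1, 1, 3, 3, 0, 3, 3, 0, 4, 0, 4, 2, 0]),
    (4666281, [1, 1, 1, 3, 1, 1, 4, 4, 0, 4, 2, 0]),
    (4671723, [3, 3, 2, 0, 4, 0, 3, 2, 0, 0, 4, 1, 1, 1]),
    (4691793, [0, 4, 4, 0, 0, 0, 0, 4, 4, 0, 4, 4, 2, 0]),
    (4703533, [4, 2, 0, 3, 3, 1, 1, 4, 4, 0, 3, 3, 2]),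
    (4713491, [4, 2, 1, 3, 0, 4, 0, 3, 1, 1, 2]),
    (4773423, [0, 0, 3, 1, 1, 1, 1, 1, 3, 1, 1, 1, 4]),
    (4799271, [2, 0, 3, 1, 3, 3, 0, 0, 4, 0, 0, 2]),
    (4830945, [3, 2, 0, 3, 0, 3, 3, 2]),
    (4836771, [1, 1, 3, 3, 0, 4, 4, 0, 3, 0, 4, 4]),
    (4855731, [2, 1, 3, 3, 1, 3, 0, 3, 0, 0, 3, 1, 1, 2]),
    (4889205, [0, 4, 0, 0, 3, 0, 4, 4, 2, 0, 4, 2, 1]),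
    (4895563, [0, 3, 3, 1, 4, 1, 4, 0, 4, 1, 3, 1, 1, 4]),
    (4907319, [2, 0, 4, 1, 4, 1, 4, 0, 3, 0, 2]),
    (4918335, [4, 1, 4, 1, 1, 1, 1, 3, 2, 1, 4, 1, 4, 0]),
    (4939331, [3, 0, 3, 0, 3, 2, 0, 3, 0, 3, 3, 2, 1]),
    (4948473, [3, 2, 1, 1, 3, 3, 0, 3, 3, 1, 3, 0, 4, 2]),
    (4958407, [1, 3, 1, 4, 0, 3, 1, 4, 1]),
    (4969349, [1, 4, 1, 1, 1, 3, 1, 1, 1, 4, 4, 1, 3, 1]),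
    (4988135, [2, 1, 4, 0, 0, 4, 1, 2]),
    (5027871, [4, 4, 0, 3, 1, 1, 4, 1, 3, 1, 4, 0, 4]),
    (5040739, [2, 1, 3, 3, 1, 3, 3, 1, 1, 1, 3, 0, 0, 4, 2]),
    (5048171, [1, 4, 0, 3, 3, 0, 4, 0, 4, 1, 1, 3, 3, 0, 0]),
    (5068055, [2, 0, 0, 3, 0, 3, 2, 0, 3, 0, 3, 2, 1, 3]),
    (5078057, [4, 2, 0, 3, 3, 1, 1, 3, 3, 1, 4, 2]),
    (5081773, [1, 3, 0, 3, 0, 4, 1, 1, 4, 1, 3, 3, 0]),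
    (5088147, [0, 0, 0, 2, 1, 4, 0, 0, 0, 3, 0, 2, 1, 1]),
    (5101777, [1, 3, 1, 3, 3, 1, 4, 0, 4, 1, 4]),
    (5132477, [3, 2, 0, 4, 4, 0, 0, 4, 4, 1, 3, 2]),
    (5142915, [1, 4, 0, 3, 1, 4, 0, 0, 4, 4, 1, 1, 3, 1]),
    (5148423, [3, 2, 1, 3, 3, 1, 3, 0, 4, 0, 3, 0, 4, 2]),
    (5154361, [0, 0, 3, 1, 4, 0, 0, 0, 3, 3, 0, 4, 0, 4]),
    (5174341, [0, 4, 1, 1, 3, 3, 0, 0, 3, 3, 0, 3, 1, 1]),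
    (5183821, [0, 3, 0, 0, 0, 3, 0, 4, 4, 1, 2, 0]),
    (5196593, [0, 4, 0, 3, 1, 3, 0, 4, 0, 0, 0, 4, 0, 3]),
    (5202447, [0, 4, 1, 4, 2, 1, 3, 3, 0, 4]),
    (5314167, [0, 0, 3, 0, 4, 0, 0, 4, 1, 1, 4, 4, 0]),
    (5348273, [3, 2, 1, 1, 4, 1, 3, 1, 3, 0, 3, 2]),
    (5354127, [0, 4, 4, 0, 0, 0, 4, 0, 0, 2, 0, 0, 0]),
    (5366003, [2, 0, 0, 4, 1, 3, 1, 4, 0, 3, 2]),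
    (5389027, [2, 1, 4, 0, 0, 4, 1, 4, 4, 1, 4, 1, 4, 2]),
    (5414427, [0, 4, 0, 0, 2, 1, 3, 3, 1, 3, 3, 1, 3, 1]),
    (5420837, [3, 1, 1, 3, 1, 4, 1, 3, 1, 1, 1, 2, 0]),
    (5426279, [4, 1, 1, 3, 3, 0, 3, 0, 4, 1, 1, 2, 0, 0]),
    (5448047, [3, 1, 3, 3, 0, 0, 4, 2, 1, 3, 1, 1, 2]),
    (5462573, [2, 1, 1, 1, 1, 4, 4, 1, 3, 0, 0, 3, 2]),
    (5468947, [2, 1, 1, 3, 3, 1, 3, 3, 1, 1, 4, 1, 2]),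
    (5473687, [3, 0, 4, 0, 4, 1, 3, 0, 3, 0, 4, 0, 4, 0]),
    (5483689, [3, 3, 1, 4, 1, 3, 3, 1, 4, 4, 0, 0]),
    (5517751, [3, 3, 2, 1, 4, 0, 0, 3, 0, 4, 0, 4, 0, 2]),
    (5543247, [0, 3, 1, 4, 0, 4, 1, 1, 1, 2, 0, 0, 0]),
    (5553265, [3, 2, 0, 4, 4, 1, 4, 0, 0, 4, 1, 4, 1, 2]),
    (5556019, [3, 3, 1, 1, 1, 1, 1, 4, 1, 1, 4, 0, 2, 0]),
    (5581371, [4, 4, 0, 4, 0, 0, 3, 0, 4, 1, 3, 3, 2, 0]),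
    (5591417, [1, 3, 1, 4, 1, 2, 0, 4, 2, 1, 3, 0, 3]),
    (5601351, [3, 1, 3, 3, 0, 0, 0, 0, 3, 1, 3, 0, 0, 3]),
    (5607107, [2, 1, 4, 2, 0, 3, 1, 1, 3, 1, 4, 2, 1]),
    (5633409, [0, 3, 2, 1, 4, 2, 0, 0, 4, 1, 4, 0, 4]),
    (5637807, [3, 3, 1, 4, 1, 4, 0, 4, 0, 4, 2, 0]),
    (5657811, [2, 0, 0, 4, 0, 0, 0, 3, 0, 4, 0, 0, 0, 2]),
    (5671785, [2, 0, 0, 3, 0, 0, 0, 3, 3, 1, 4, 1, 2]),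
    (5677655, [3, 0, 0, 3, 0, 3, 1, 3, 0, 4, 0, 4, 0]),
    (5691669, [3, 1, 1, 4, 0, 0, 0, 4, 4, 0, 4, 4, 0]),
    (5714973, [3, 2, 1, 1, 4, 4, 0, 3, 1, 2]),
    (5727841, [1, 3, 2, 1, 4, 0, 4, 0, 0, 2, 1, 4, 2, 0, 0]),
    (5751449, [3, 0, 0, 0, 0, 3, 0, 4, 4, 1, 4, 0, 4]),
    (5797219, [0, 0, 4, 1, 3, 0, 2, 1, 3, 1, 4, 4, 0]),
    (5800935, [3, 0, 0, 3, 3, 1, 3, 3, 0, 3, 0, 2, 0, 0]),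
    (5820827, [3, 2, 0, 0, 3, 0, 0, 3, 3, 0, 0, 0, 2]),
    (5830821, [0, 4, 1, 3, 0, 3, 3, 1, 1, 3, 1, 3, 0, 0]),
    (5838253, [3, 2, 1, 4, 2, 0, 0, 3, 1, 3, 0, 0]),
    (5848211, [2, 1, 3, 1, 4, 4, 1, 3, 0, 3, 1, 4, 2]),
    (5878101, [4, 1, 1, 4, 0, 3, 1, 3, 1, 1, 3, 2, 0]),
    (5884439, [4, 1, 3, 1, 1, 1, 1, 1, 4, 0, 3, 0, 0, 2, 0]),
    (5890857, [1, 4, 2, 0, 3, 3, 2, 0, 4, 1, 4]),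
    (5912889, [4, 2, 0, 3, 1, 3, 0, 4, 1, 4, 4, 1, 4, 2]),
    (5915259, [4, 4, 0, 0, 2, 1, 3, 3, 0, 0, 4, 0, 3]),
    (5938625, [4, 0, 4, 0, 0, 4, 4, 0, 4, 0, 3, 1, 4]),
    (5957251, [3, 0, 3, 0, 3, 0, 4, 0, 3, 1, 3, 1, 1]),
    (5966731, [0, 3, 1, 4, 4, 0, 4, 0, 2, 1, 1, 4, 2]),
    (5972661, [2, 0, 0, 0, 3, 1, 3, 1, 3, 1, 1, 4, 2]),
    (5992649, [3, 2, 1, 4, 4, 1, 3, 0, 4, 4, 1, 3, 1, 2]),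
    (5998157, [2, 0, 0, 4, 1, 3, 0, 4, 1, 4, 1, 3, 3, 2]),
    (6036307, [0, 0, 0, 0, 4, 0, 3, 0, 3, 3, 2, 1, 4]),
    (6042221, [1, 3, 0, 3, 2, 0, 4, 0, 4, 1, 3, 0, 0]),
    (6048047, [0, 3, 1, 3, 3, 1, 1, 1, 4, 1, 3, 3, 2, 0]),
    (6067861, [4, 0, 0, 0, 0, 3, 0, 3, 1, 4, 1, 1, 1, 3]),
    (6079721, [0, 3, 0, 4, 4, 1, 1, 3, 3, 2, 1, 4]),
    (6095071, [4, 2, 1, 3, 1, 4, 1, 4, 2, 1, 4, 1, 4, 1]),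
    (6105569, [0, 3, 1, 3, 0, 0, 4, 1, 3, 1, 1, 4, 4, 0]),
    (6130969, [0, 3, 2, 0, 3, 3, 0, 3, 3, 1, 1, 3, 0]),
    (6161781, [4, 1, 1, 1, 4, 4, 2, 0, 3, 3, 0, 3, 0]),
    (6171723, [1, 3, 3, 0, 0, 4, 0, 3, 1, 1, 4, 0, 4, 1]),
    (6182665, [1, 3, 3, 0, 2, 1, 4, 2, 0, 4, 0, 3, 2]),
    (6201741, [4, 1, 4, 1, 1, 4, 1, 3, 2, 0, 0, 0, 0]),
    (6245509, [3, 1, 4, 0, 4, 4, 0, 0, 3, 1, 4, 2, 0, 0, 0]),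
    (6353827, [4, 2, 1, 3, 3, 1, 4, 2, 0, 4, 2, 1, 4, 1]),
    (6364843, [4, 4, 0, 4, 1, 1, 4, 2, 1, 3, 2, 1, 1]),
    (6394733, [3, 1, 1, 3, 0, 2, 1, 1, 2, 0, 0, 0, 2, 1]),
    (6404691, [3, 2, 1, 3, 3, 0, 3, 0, 3, 0, 4, 2]),
    (6416431, [2, 1, 4, 1, 3, 0, 3, 0, 3, 1, 2]),
    (6435391, [0, 3, 0, 3, 3, 1, 4, 0, 3, 1, 1, 1, 1, 1]),
    (6461127, [2, 1, 1, 1, 3, 0, 3, 0, 3, 1, 3, 3, 2]),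
    (6472891, [0, 3, 0, 4, 1, 3, 0, 4, 0]),
    (6498739, [0, 3, 0, 0, 4, 4, 1, 3, 0, 2, 0, 0, 4, 0]),
    (6509297, [3, 0, 3, 2, 1, 3, 0, 4, 4, 0, 3, 3, 1, 1, 1]),
    (6524235, [4, 1, 1, 4, 2, 1, 4, 1, 4, 1, 3, 1, 2, 0]),
    (6530165, [0, 0, 4, 4, 1, 3, 0, 3, 0, 0, 4, 0, 4]),
    (6551049, [0, 4, 0, 4, 0, 3, 3, 0, 4, 4, 1, 3, 1]),
    (6568299, [3, 1, 4, 0, 0, 4, 0, 0, 4, 4, 1]),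
    (6593939, [4, 1, 4, 1, 3, 3, 1, 3, 0, 0, 2, 0]),
    (6599853, [0, 0, 0, 4, 1, 1, 4, 1, 4, 2, 0, 0, 4, 1]),
    (6628071, [4, 0, 2, 1, 3, 1, 2, 1, 1, 4, 0, 3, 0]),
    (6642085, [3, 0, 3, 3, 0, 4, 4, 0, 0, 4, 0, 0, 0]),
    (6647963, [2, 1, 4, 0, 4, 4, 0, 4, 4, 0, 0, 3, 2]),
    (6653471, [0, 4, 4, 0, 0, 0, 4, 0, 3, 3, 0, 4, 4, 1]),
    (6663969, [3, 3, 2, 1, 1, 4, 4, 1, 4, 4, 2]),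
    (6688371, [2, 0, 0, 2, 1, 1, 1, 2, 0, 3, 1, 4]),
    (6708239, [3, 2, 0, 0, 4, 4, 0, 0, 4, 4, 0, 4, 2]),
    (6714673, [1, 1, 1, 4, 0, 4, 4, 1, 4, 4, 0, 4]),
    (6718389, [0, 4, 2, 0, 0, 4, 1, 3, 0, 3, 1, 4, 0]),
    (6728331, [3, 0, 4, 0, 3, 2, 0, 0, 4, 1, 1, 3, 0]),
    (6738377, [1, 1, 4, 4, 2, 0, 3, 1, 3, 3, 2, 1, 3, 0]),
    (6765761, [1, 1, 1, 4, 2, 0, 4, 0, 4, 0, 0, 4, 4, 1]),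
    (6768515, [2, 1, 1, 1, 1, 1, 4, 0, 4, 4, 0, 2]),
    (6801989, [3, 1, 1, 3, 2, 1, 1, 4, 2, 0]),
    (6851387, [3, 1, 1, 1, 1, 3, 3, 2, 1, 4, 2, 0, 0, 2]),
    (6871367, [2, 0, 3, 1, 1, 1, 3, 0, 3, 0, 3, 1, 2]),
    (6877305, [1, 4, 0, 3, 1, 3, 3, 0, 3, 2, 0, 3]),
    (6888817, [0, 3, 1, 2, 0, 0, 3, 0, 4, 4, 0, 4, 0, 0, 0]),
    (6894671, [4, 1, 3, 3, 1, 4, 4, 1, 2, 1, 1, 4, 2, 0]),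
    (6907443, [3, 3, 2, 1, 1, 4, 0, 3, 0, 4, 0, 4, 2]),
    (6928777, [1, 1, 1, 3, 0, 3, 1, 3, 0, 3, 0, 0]),
    (6931147, [0, 4, 0, 4, 0, 0, 0, 0, 4, 0, 0, 0, 3, 0]),
    (6953179, [2, 0, 4, 1, 4, 1, 4, 1, 3, 1, 3, 1, 3, 2]),
    (6959589, [0, 4, 4, 1, 1, 3, 1, 4, 0, 4, 4, 1, 2, 0]),
    (6965927, [0, 3, 0, 3, 3, 1, 1, 4, 2, 0, 3, 1, 3, 1]),
    (6984989, [0, 0, 4, 0, 4, 1, 3, 3, 0, 3, 0, 3, 0]),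
    (6997857, [3, 3, 0, 0, 4, 4, 0, 0, 4, 0, 0, 3, 2, 0]),
    (7013207, [1, 1, 4, 1, 3, 3, 0, 0, 4, 4, 0, 0, 3]),
    (7023209, [2, 1, 3, 1, 4, 0, 0, 3, 3, 1, 4, 0, 2]),
    (7043093, [0, 3, 3, 1, 1, 1, 1, 1, 1, 3, 3, 1, 4]),
    (7048849, [4, 4, 1, 4, 4, 0, 4, 2, 0, 3, 2, 0, 4]),
    (7082895, [3, 1, 3, 3, 0, 3, 0, 3, 1, 3, 0, 2, 0, 0]),
    (7092913, [1, 1, 3, 2, 0, 0, 2, 1, 4, 0, 0, 3, 3]),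
    (7094771, [3, 1, 3, 1, 4, 1, 3, 1, 1, 4, 1, 4, 0, 0, 0]),
    (7118409, [3, 0, 0, 4, 2, 0, 4, 2, 1, 3, 3, 1, 1]),
    (7130165, [0, 3, 0, 0, 3, 1, 3, 0, 3, 1, 4, 4]),
    (7136523, [1, 4, 1, 1, 3, 3, 0, 0, 4, 0, 4, 4, 0]),
    (7151933, [1, 1, 3, 2, 1, 4, 2, 1, 4, 4, 0, 2, 1]),
    (7172929, [3, 2, 1, 1, 1, 4, 4, 1, 3, 0, 4, 1, 2]),
    (7177669, [4, 0, 4, 0, 3, 3, 1, 1, 4, 2, 1, 3, 2, 0]),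
    (7212457, [1, 4, 4, 0, 3, 2, 0, 0, 4, 1, 1, 2, 0, 0]),
    (7218327, [1, 1, 2, 0, 4, 2, 0, 0, 4, 4, 2, 0, 3]),
    (7252305, [0, 0, 3, 0, 4, 2, 1, 1, 4, 4, 0, 4, 4, 2, 0]),
    (7291993, [0, 4, 0, 2, 1, 4, 2, 0, 3, 3, 0, 4, 0, 3, 1]),
    (7360751, [3, 1, 3, 0, 4, 0, 3, 0, 0, 4, 1, 3, 3]),
    (7382635, [0, 0, 2, 1, 1, 3, 1, 2, 0, 4, 1, 3, 2]),
    (7396649, [0, 2, 1, 3, 0, 3, 0, 4, 1, 4, 0, 4, 0, 0]),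
    (7402519, [0, 4, 1, 1, 3, 1, 3, 3, 1, 3, 3, 2, 0]),
    (7411999, [2, 1, 1, 1, 4, 4, 1, 1, 4, 1, 1, 4, 2]),
    (7424867, [3, 0, 4, 4, 0, 0, 0, 0, 0, 0, 4, 4, 1]),
    (7443673, [3, 0, 3, 1, 3, 0, 4, 4, 0, 4, 0]),
    (7456421, [0, 3, 3, 1, 1, 3, 1, 1, 3, 0, 4]),
    (7478453, [3, 1, 3, 0, 0, 4, 1, 3, 3, 1, 4, 0, 0]),
    (7484811, [2, 0, 4, 1, 3, 1, 3, 1, 1, 4, 1, 2]),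
    (7518285, [3, 2, 0, 4, 1, 1, 1, 1, 1, 4, 4, 2]),
    (7521039, [2, 0, 3, 1, 3, 0, 3, 1, 4, 4, 0, 3, 2]),
    (7531057, [0, 4, 1, 4, 0, 3, 1, 3, 1, 4, 1, 4, 1]),
    (7538489, [1, 1, 4, 1, 4, 0, 4, 1, 4, 0, 0, 0]),
    (7548423, [2, 1, 3, 0, 3, 1, 1, 3, 0, 0, 4, 0, 3, 2]),
    (7558469, [0, 4, 0, 3, 3, 2, 0, 3, 1, 1, 2, 0, 4, 0]),
    (7578561, [3, 2, 0, 3, 0, 3, 1, 4, 1, 4, 1, 2]),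
    (7608289, [3, 3, 2, 0, 0, 4, 0, 3, 0, 4, 0, 2]),
    (7629987, [2, 0, 4, 0, 0, 4, 1, 3, 1, 3, 1, 4, 1, 2]),
    (7648025, [1, 4, 2, 1, 4, 2, 1, 3, 0, 0, 0, 0, 3, 1]),
    (7653467, [4, 1, 4, 4, 1, 3, 2, 0, 4, 0, 0, 4, 2, 1]),
    (7659877, [3, 0, 3, 1, 4, 0, 0, 4, 4, 1, 3, 1, 3]),
    (7670893, [1, 3, 0, 4, 1, 1, 4, 4, 0, 3, 0, 3, 0]),
    (7677267, [4, 4, 1, 4, 1, 1, 1, 4, 1, 3, 0, 4, 0, 0]),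
    (7691793, [4, 4, 1, 1, 3, 1, 1, 1, 1, 3, 0, 2, 0, 0]),
    (7710869, [0, 0, 4, 4, 0, 3, 2, 1, 3, 2, 1, 1, 4]),
    (7735751, [4, 2, 1, 1, 3, 1, 1, 1, 3, 1, 1, 1, 1, 2]),
    (7741689, [2, 1, 3, 1, 4, 1, 3, 1, 1, 4, 4, 2]),
    (7762565, [2, 1, 1, 1, 3, 3, 0, 0, 3, 1, 3, 0, 4, 2]),
    (7825673, [1, 3, 3, 0, 4, 4, 1, 1, 4, 4, 1, 4, 1]),
    (7874679, [3, 3, 0, 4, 1, 4, 0, 4, 1, 1, 4, 1]),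
    (7885621, [0, 3, 0, 3, 3, 0, 0, 3, 3, 1, 4, 4, 0]),
    (7895563, [4, 0, 4, 0, 3, 3, 1, 1, 3, 0, 4, 1, 4]),
    (7900303, [1, 1, 1, 4, 0, 4, 0, 3, 1, 3, 0, 2, 0, 0]),
    (7906737, [4, 1, 3, 2, 0, 0, 4, 2, 0, 0, 4, 0, 2, 0]),
    (7936709, [2, 1, 4, 2, 1, 1, 3, 2, 0, 4, 4, 2, 1, 4, 0]),
    (7948473, [3, 1, 3, 2, 1, 3, 3, 0, 2, 1, 1, 4, 1]),
    (7954823, [4, 1, 3, 1, 3, 1, 1, 2, 0, 0, 0, 3, 0, 3]),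
    (7990337, [0, 2, 1, 1, 4, 2, 0, 4, 1, 3, 2, 1, 3]),
    (8009297, [1, 4, 0, 3, 3, 2, 1, 1, 1, 3, 0, 3, 3, 1]),
    (8015123, [4, 1, 3, 1, 4, 4, 1, 3, 1, 1, 4, 1, 1, 1]),
    (8021037, [2, 0, 3, 0, 4, 2, 1, 4, 1, 3, 1, 2, 1, 1]),
    (8044757, [0, 4, 0, 3, 3, 1, 3, 1, 3, 1]),
    (8142085, [4, 4, 0, 3, 3, 1, 1, 4, 1, 3, 3, 1, 2, 0]),
    (8144455, [2, 0, 4, 0, 0, 3, 0, 4, 1, 3, 3, 1, 2]),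
    (8178561, [2, 0, 4, 4, 0, 3, 1, 4, 1, 1, 3, 1, 2]),
    (8201865, [3, 0, 2, 1, 4, 1, 4, 4, 2, 0, 4, 0, 3, 0]),
    (8260125, [4, 2, 1, 1, 3, 3, 0, 3, 3, 1, 1, 3, 2]),
    (8493631, [1, 1, 1, 4, 1, 1, 1, 4, 2, 1, 1, 3, 3, 0, 0]),
    (8566443, [1, 2, 0, 0, 4, 4, 1, 4, 1, 3, 3, 1, 4]),
    (8608675, [4, 1, 2, 0, 0, 4, 4, 0, 4, 0, 0, 2, 0]),
    (8629543, [1, 3, 2, 1, 1, 3, 0, 4, 4, 1, 4, 4, 1, 2, 0]),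
    (8640101, [3, 1, 4, 1, 4, 4, 1, 4, 4, 2, 1, 4, 0, 0]),
    (8737015, [3, 0, 0, 2, 1, 1, 2, 0, 3, 1, 1, 4, 1, 3, 1]),
    (8758899, [1, 1, 2, 0, 0, 4, 1, 3, 1, 3, 3, 2, 0]),
    (8772913, [2, 0, 4, 0, 0, 0, 3, 3, 1, 1, 3, 1, 1, 2]),
    (8778767, [3, 0, 3, 1, 1, 4, 0, 4, 1, 3, 2, 0, 0, 2]),
    (8813667, [2, 1, 1, 2, 0, 4, 1, 3, 2, 1, 4, 0, 0]),
    (8817383, [1, 2, 0, 4, 2, 1, 1, 3, 0, 4, 1, 3]),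
    (8837275, [3, 2, 1, 4, 1, 1, 1, 3, 3, 0, 4, 0, 0, 2]),
    (8843685, [4, 2, 0, 3, 0, 3, 3, 0, 3, 0, 3, 1, 2]),
    (8854701, [0, 2, 1, 1, 1, 2, 0, 0, 0, 2, 1, 4, 2, 0]),
    (8861075, [1, 1, 2, 0, 0, 3, 3, 1, 4, 4, 1, 1, 1, 1]),
    (8894549, [2, 0, 4, 4, 1, 2, 0, 0, 4, 1, 4, 1, 1, 1]),
    (8897303, [3, 3, 1, 3, 2, 0, 4, 0, 0, 3, 2, 1, 3, 0]),
    (8907305, [3, 2, 0, 0, 4, 2, 1, 1, 4, 0, 3, 0, 4, 0]),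
    (8976683, [1, 1, 4, 2, 0, 3, 0, 2, 1, 3, 3, 0, 3, 2]),
    (9017829, [1, 3, 2, 1, 3, 1, 4, 4, 1, 4, 4, 0, 0]),
    (9023707, [4, 0, 4, 4, 0, 0, 3, 3, 1, 1, 2, 1, 1, 4, 0]),
    (9036455, [4, 4, 2, 0, 3, 0, 3, 1, 1, 4, 0, 3, 2]),
    (9058487, [2, 0, 4, 4, 0, 3, 2, 0, 0, 3, 1, 4, 0]),
    (9083983, [0, 0, 4, 1, 1, 4, 1, 4, 4, 2, 1, 4, 0, 0]),
    (9090417, [2, 1, 1, 1, 4, 4, 0, 0, 3, 3, 1, 4, 2]),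
    (9096755, [4, 4, 1, 1, 4, 2, 0, 3, 3, 2, 0, 0, 3, 3, 1]),
    (9118523, [3, 1, 3, 0, 0, 0, 0, 0, 4, 4, 0, 0, 0, 2, 1]),
    (9132153, [4, 2, 1, 4, 0, 4, 0, 3, 0, 0, 4, 2]),
    (9138503, [2, 0, 3, 3, 2, 0, 3, 3, 1, 2, 0, 3, 1, 1]),
    (9144259, [1, 4, 2, 0, 0, 3, 0, 3, 1, 1, 3, 2, 0, 3]),
    (9174145, [3, 1, 4, 1, 4, 4, 1, 2, 0, 3, 1, 4, 1, 1]),
    (9188323, [1, 3, 2, 1, 3, 1, 3, 0, 3, 0, 4, 4]),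
    (9213723, [3, 1, 1, 2, 0, 4, 0, 3, 1, 4, 4, 0, 0, 0]),
    (9223717, [2, 1, 3, 0, 4, 0, 0, 3, 3, 1, 1, 4, 0, 2]),
    (9225575, [3, 0, 4, 1, 4, 1, 1, 4, 2, 1, 1, 3, 3, 0]),
    (9250927, [4, 4, 2, 0, 4, 0, 0, 3, 1, 1, 1, 3, 1, 2]),
    (9261869, [0, 0, 3, 0, 4, 4, 0, 0, 0, 4, 0, 0, 2, 1]),
    (9271827, [2, 0, 0, 0, 3, 2, 0, 0, 0, 3, 1, 1, 3]),
    (9276567, [0, 3, 3, 2, 0, 4, 4, 1, 1, 3, 0, 2, 1]),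
    (9282985, [3, 2, 0, 3, 0, 4, 4, 0, 3, 0, 3, 3, 2]),
    (9307387, [2, 1, 4, 4, 2, 0, 3, 2, 0, 4, 1, 1]),
    (9328263, [3, 0, 0, 3, 1, 3, 1, 4, 4, 1, 4, 0, 2, 1]),
    (9341245, [2, 1, 4, 4, 1, 1, 3, 0, 4, 4, 0, 4, 4, 2]),
    (9362241, [0, 2, 1, 3, 0, 2, 1, 1, 3, 3, 1, 4]),
    (9385545, [0, 2, 1, 4, 4, 1, 1, 4, 0, 0, 0, 3]),
    (9391371, [4, 1, 4, 0, 3, 0, 2, 0, 0, 3, 0, 4, 0]),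
    (9397301, [2, 0, 0, 3, 1, 1, 4, 1, 1, 3, 1, 4, 1, 1, 2]),
    (9421005, [2, 0, 0, 0, 3, 1, 1, 4, 0, 0, 0, 4, 2]),
    (9491579, [4, 4, 2, 1, 4, 1, 4, 2]),
    (9517427, [1, 3, 1, 1, 2, 0, 4, 1, 4, 4, 0, 2, 0]),
    (9543051, [2, 1, 3, 3, 0, 0, 4, 0, 3, 2, 1, 1, 4, 4, 0]),
    (9548981, [4, 1, 3, 3, 1, 3, 0, 0, 0, 3, 1, 2, 1]),
    (9573863, [2, 0, 0, 4, 1, 1, 4, 1, 4, 0, 4, 4, 0, 2]),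
    (9613599, [1, 1, 3, 3, 2, 1, 3, 1, 1, 2, 0, 0, 0, 0]),
    (9626467, [4, 2, 0, 0, 3, 3, 0, 4, 1, 1, 3, 1, 2]),
    (9637483, [4, 4, 1, 4, 1, 1, 3, 0, 4, 0, 2, 1, 4, 0]),
    (9657367, [0, 0, 3, 1, 1, 4, 2, 1, 3, 0, 0, 3, 0]),
    (9663785, [2, 0, 3, 0, 4, 4, 0, 4, 1, 4, 1, 3, 0, 2]),
    (9667501, [3, 0, 3, 0, 3, 3, 2, 0, 3, 3, 2, 0, 3, 0]),
    (9677459, [2, 0, 0, 4, 4, 1, 4, 1, 1, 3, 0, 0, 2]),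
    (9687505, [4, 0, 3, 0, 3, 1, 1, 3, 3, 2, 0, 3, 2, 0]),
    (9707187, [2, 0, 0, 0, 3, 0, 4, 1, 4, 1, 4, 0, 2]),
    (9737077, [0, 3, 2, 0, 4, 4, 0, 3, 3, 2, 1, 4, 1, 1]),
    (9747019, [2, 1, 3, 1, 3, 2, 0, 3, 3, 1, 2, 1, 1]),
    (9758775, [4, 1, 2, 0, 0, 4, 2, 0, 4, 2, 1, 4, 0, 0]),
    (9766207, [2, 1, 4, 1, 3, 0, 4, 4, 0, 0, 4, 2]),
    (9787203, [0, 3, 0, 3, 2, 1, 1, 1, 3, 3, 1, 3, 2, 0, 0]),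
    (9799929, [4, 0, 3, 0, 4, 0, 0, 3, 1, 1, 4, 2, 1]),
    (9806279, [3, 3, 1, 3, 2, 0, 0, 4, 1, 2, 0, 0, 0, 3, 0]),
    (9820805, [2, 1, 3, 3, 1, 3, 0, 0, 0, 0, 0, 2]),
    (9841067, [4, 0, 3, 1, 3, 2, 1, 3, 1, 3, 3, 1, 3]),
    (9851625, [2, 0, 3, 0, 3, 0, 4, 1, 4, 1, 4, 2]),
    (9866579, [3, 0, 3, 3, 0, 2, 1, 1, 4, 4, 1, 3, 0, 0, 0]),
    (9872493, [4, 2, 1, 3, 1, 1, 4, 0, 0, 4, 1, 4, 0, 2]),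
    (9893393, [1, 3, 0, 4, 1, 1, 2, 0, 4, 0, 0, 0, 0, 2]),
    (9902873, [4, 4, 2, 0, 4, 4, 1, 4, 1, 3, 1, 3, 3, 2]),
    (9914725, [3, 3, 0, 3, 2, 0, 3, 0, 2, 1, 3, 3, 1, 4, 0]),
    (9920603, [4, 2, 0, 3, 1, 4, 0, 4, 4, 1, 4, 0, 0, 2]),
    (9984615, [0, 0, 3, 1, 4, 1, 4, 0, 0, 4, 0, 2, 1]),
    (10005731, [1, 1, 4, 4, 1, 3, 1, 1, 4, 2, 1, 1, 2, 1]),
    (10016673, [4, 2, 1, 3, 0, 4, 1, 4, 0, 0, 0, 0, 2]),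
    (10032023, [3, 0, 2, 1, 3, 2, 0, 0, 2, 1, 1, 3, 0, 4, 0]),
    (10042025, [1, 3, 0, 4, 1, 4, 0, 3, 1, 1, 3, 2, 1]),
    (10043883, [1, 1, 4, 2, 0, 3, 2, 0, 4, 0, 4, 1, 3]),
    (10067537, [1, 2, 0, 3, 3, 2, 0, 4, 1, 4, 0, 3, 1, 3, 0]),
    (10079277, [1, 2, 0, 0, 3, 3, 0, 4, 0, 4, 0, 3, 3, 2, 0]),
    (10085651, [4, 1, 1, 1, 3, 0, 0, 3, 3, 0, 2, 1]),
    (10098237, [2, 1, 3, 0, 4, 4, 1, 1, 3, 0, 4, 0, 2]),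
    (10108675, [4, 2, 1, 4, 4, 1, 1, 4, 0, 0, 3, 1, 3, 2]),
    (10138309, [4, 0, 0, 4, 4, 0, 4, 2, 0, 0, 0, 4, 4, 0, 0]),
    (10144135, [4, 0, 2, 0, 0, 4, 1, 2, 0, 4, 4, 0, 3]),
    (10150073, [0, 4, 2, 0, 3, 1, 4, 4, 1, 1, 2, 0, 0, 0, 0]),
    (10161585, [2, 0, 0, 4, 2, 1, 3, 2, 0, 3, 2, 1]),
    (10167439, [1, 1, 3, 3, 1, 4, 4, 2, 1, 1, 1, 1, 1]),
    (10201417, [4, 1, 4, 4, 0, 0, 2, 1, 3, 3, 0, 2, 1, 1]),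
    (10231145, [1, 3, 2, 1, 4, 1, 4, 4, 1, 4]),
    (10237015, [0, 4, 4, 1, 4, 4, 0, 3, 3, 0, 2, 1]),
    (10249771, [1, 1, 2, 1, 1, 1, 3, 3, 1, 3, 0, 3, 1, 1]),
    (10271121, [3, 2, 1, 1, 4, 1, 3, 1, 1, 4, 1, 2]),
    (10273491, [1, 1, 1, 3, 2, 0, 0, 0, 3, 2, 0, 4, 0, 0]),
    (10290917, [4, 4, 1, 1, 1, 4, 2, 1, 3, 0, 0, 4, 2, 1]),
    (10310809, [1, 2, 1, 1, 4, 1, 1, 3, 0, 3, 1, 2, 0, 3]),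
    (10330653, [2, 0, 4, 4, 2, 1, 4, 1, 4, 1, 3, 0, 2, 0]),
    (10355535, [3, 3, 0, 3, 3, 0, 4, 0, 0, 0, 2, 1, 3, 0]),
    (10365553, [0, 4, 0, 3, 3, 2, 1, 1, 1, 3, 2, 0, 3, 0, 2]),
    (10385421, [3, 2, 1, 4, 1, 1, 4, 0, 4, 4, 1, 1, 2]),
    (10391177, [3, 2, 1, 1, 1, 1, 1, 1, 3, 0, 0, 0, 2]),
    (10445697, [2, 1, 3, 3, 0, 0, 0, 4, 0, 4, 1, 3, 3, 2]),
    (10542247, [2, 0, 4, 1, 4, 0, 2, 1, 4, 4, 1, 4, 1, 1]),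
    (10564015, [2, 0, 4, 1, 3, 1, 3, 1, 3, 0, 3, 2]),
    (10589527, [3, 0, 2, 1, 3, 1, 1, 1, 3, 3, 0, 4, 1]),
    (10599529, [2, 1, 1, 3, 1, 4, 4, 0, 0, 0, 3, 0, 4, 2]),
    (10602283, [4, 2, 0, 4, 0, 4, 0, 0, 3, 0, 2]),
    (10624315, [1, 4, 4, 2, 0, 4, 0, 3, 1, 1, 2, 0, 0]),
    (10653949, [2, 1, 1, 3, 0, 0, 3, 1, 1, 4, 0, 0, 2]),
    (10664387, [0, 4, 0, 2, 1, 3, 2, 0, 0, 3, 2, 0, 0]),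
    (10684087, [0, 4, 1, 3, 0, 3, 0, 0, 3, 2, 1, 1, 3, 1]),
    (10704075, [0, 4, 2, 1, 1, 4, 1, 2, 0, 4, 1, 3, 2, 0, 0]),
    (10718065, [4, 2, 1, 1, 1, 3, 0, 3, 3, 1, 4, 2]),
    (10723919, [4, 2, 1, 4, 0, 4, 0, 4, 0, 3, 1, 2]),
    (10737933, [2, 1, 4, 1, 1, 3, 1, 3, 1, 3, 2]),
    (10753647, [3, 2, 0, 4, 0, 0, 4, 1, 1, 3, 1, 4, 1, 2]),
    (10787753, [0, 4, 1, 4, 4, 0, 3, 3, 0, 4, 4, 0, 2, 1]),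
    (10793623, [1, 3, 0, 4, 2, 0, 4, 0, 3, 0, 4]),
    (10805483, [2, 0, 4, 1, 3, 3, 0, 0, 4, 2]),
    (10816995, [4, 2, 0, 0, 3, 0, 4, 2, 0, 4, 4, 1, 3, 0]),
    (10843809, [2, 1, 1, 3, 3, 1, 3, 0, 3, 0, 0, 4, 2]),
    (10856731, [4, 0, 2, 0, 0, 3, 1, 2, 0, 4, 1, 3, 0, 0]),
    (10867289, [1, 4, 2, 0, 0, 4, 0, 4, 1, 3, 0, 0, 3]),
    (10887543, [4, 1, 1, 1, 3, 0, 4, 2, 1, 3, 1, 1, 3]),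
    (10902069, [3, 2, 1, 1, 3, 3, 1, 1, 1, 1, 3, 1, 3, 2]),
    (10908427, [4, 2, 1, 3, 3, 0, 4, 1, 4, 0, 4, 1, 2]),
    (10913167, [4, 1, 3, 3, 1, 2, 0, 3, 1, 2, 0, 3, 2]),
    (10923185, [4, 1, 4, 1, 4, 4, 2, 1, 4, 0, 0, 0, 4, 1]),
    (10949573, [3, 2, 1, 1, 3, 3, 1, 4, 0, 3, 0, 2]),
    (10961337, [0, 0, 4, 4, 0, 0, 2, 0, 0, 3, 1, 4, 4, 0]),
    (10971271, [0, 0, 0, 0, 0, 3, 3, 2, 0, 4, 4, 0, 0]),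
    (11003201, [2, 0, 3, 0, 0, 4, 0, 4, 0, 3, 1, 2]),
    (11031227, [1, 3, 2, 1, 3, 1, 1, 1, 3, 2, 0, 3, 0]),
    (11052095, [4, 4, 2, 1, 4, 1, 3, 3, 1, 4, 1, 4, 2]),
    (11073091, [3, 1, 3, 3, 0, 4, 0, 0, 3, 2, 0, 4, 2, 0]),
    (11082571, [1, 3, 3, 1, 1, 3, 1, 1, 4, 0, 2, 1, 4, 0]),
    (11088501, [2, 0, 3, 2, 1, 3, 2, 0, 3, 2, 1, 4, 1, 2, 1]),
    (11094327, [1, 1, 3, 0, 3, 1, 1, 3, 0, 4, 2, 1]),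
    (11114125, [3, 1, 4, 0, 3, 0, 3, 1, 3, 2, 0, 3, 3, 1]),
    (11126001, [0, 3, 2, 0, 0, 4, 1, 1, 3, 1, 4, 1, 3]),
    (11149025, [0, 2, 1, 4, 0, 4, 0, 0, 3, 2, 0, 0]),
    (11167139, [3, 1, 4, 1, 3, 1, 3, 2, 1, 4, 0]),
    (11188761, [3, 3, 2, 1, 4, 0, 0, 0, 0, 3, 0, 0, 3, 2]),
    (11190619, [3, 2, 1, 4, 0, 4, 4, 1, 3, 0, 3, 1, 2]),
    (11200613, [4, 2, 0, 4, 1, 1, 3, 0, 0, 3, 1, 4, 1, 2]),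
    (11208045, [4, 4, 0, 3, 1, 4, 1, 4, 0, 3, 2, 1]),
    (11218003, [3, 0, 4, 4, 2, 0, 0, 3, 1, 3, 0, 4, 0]),
    (11228945, [3, 0, 3, 2, 0, 3, 3, 1, 4, 1, 1, 1, 1]),
    (11248021, [1, 4, 0, 4, 2, 1, 4, 1, 1, 4, 1, 1]),
    (11277749, [3, 2, 0, 0, 0, 4, 0, 3, 1, 4, 1, 1, 4, 2]),
    (11287691, [1, 1, 4, 1, 2, 0, 0, 0, 4, 2, 1, 3, 2, 0]),
    (11317581, [2, 0, 0, 3, 3, 1, 3, 0, 0, 3, 0, 4, 2]),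
    (11323919, [4, 1, 4, 0, 3, 0, 2, 0, 0, 0, 3, 1, 4, 1]),
    (11330353, [4, 0, 0, 0, 3, 2, 0, 3, 1, 1, 4, 2, 0, 4]),
    (11341369, [4, 0, 4, 2, 0, 3, 1, 3, 2, 0, 0, 2, 1]),
    (11347719, [2, 1, 3, 3, 0, 4, 0, 3, 0, 4, 1, 3, 1, 2]),
    (11361349, [4, 0, 0, 4, 1, 2, 0, 3, 1, 3, 0, 3, 3]),
    (11381441, [1, 3, 1, 3, 0, 4, 4, 0, 2, 0, 0, 4, 4, 2, 0]),
    (11406227, [4, 4, 1, 1, 2, 0, 4, 2, 0, 4, 0, 0, 4, 0, 3]),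
    (11412141, [3, 2, 1, 3, 0, 0, 0, 0, 4, 0, 4, 1, 2]),
    (11432145, [0, 2, 1, 4, 4, 1, 3, 3, 0, 3, 3, 1]),
    (11437653, [2, 0, 4, 4, 1, 4, 1, 1, 3, 1, 4, 2]),
    (11569519, [4, 1, 3, 2, 0, 4, 0, 4, 0, 3, 3, 1, 4, 2, 0]),
    (11590419, [4, 0, 4, 4, 0, 4, 0, 4, 2, 0, 4, 1, 3]),
    (11596333, [3, 2, 0, 0, 0, 0, 0, 3, 1, 1, 3, 2]),
    (11607845, [4, 2, 1, 1, 1, 3, 1, 3, 3, 0, 0, 0, 2]),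
    (11613723, [0, 0, 4, 1, 4, 1, 1, 3, 2, 0, 0, 2, 1, 3, 0]),
    (11625575, [2, 0, 4, 2, 1, 1, 4, 4, 1, 3, 1, 1, 4, 0]),
    (11649183, [3, 2, 0, 0, 0, 0, 3, 0, 3, 3, 0, 4, 2]),
    (11659681, [2, 0, 4, 1, 4, 0, 3, 3, 1, 3, 0, 4, 2]),
    (11672207, [2, 0, 0, 4, 1, 1, 1, 4, 1, 3, 3, 1, 2]),
    (11678641, [3, 0, 2, 0, 0, 3, 1, 1, 4, 4, 1, 4, 0, 3, 0]),
    (11684083, [4, 2, 0, 3, 1, 3, 3, 0, 4, 0, 0, 4, 0, 2]),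
    (11704137, [1, 3, 2, 0, 0, 4, 2, 0, 0, 4]),
    (11715893, [2, 0, 4, 4, 0, 3, 3, 0, 4, 4, 1, 4, 0, 2]),
    (11725835, [4, 1, 4, 2, 1, 4, 4, 0, 4, 1, 3, 0]),
    (11741245, [0, 0, 3, 0, 4, 1, 2, 0, 3, 0, 0, 3, 1, 1]),
    (11762241, [1, 2, 0, 0, 4, 0, 2, 1, 3, 3, 0, 0, 0, 0]),
    (11766981, [2, 0, 3, 0, 3, 1, 1, 3, 0, 3, 3, 1, 4, 2]),
    (11801051, [0, 2, 1, 4, 4, 1, 4, 2, 1, 3, 1, 1, 3]),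
    (11811045, [1, 1, 3, 3, 2, 1, 4, 4, 0, 4, 1, 3, 2, 1]),
    (11813799, [4, 0, 3, 1, 4, 1, 1, 1, 3, 3, 2, 0, 4, 1]),
    (11836445, [1, 4, 2, 0, 3, 2, 1, 1, 1, 2, 0, 3, 0, 0]),
    (11849313, [1, 4, 0, 0, 4, 4, 1, 4, 4, 1, 4, 2, 1]),
    (11864663, [0, 3, 3, 0, 2, 1, 4, 0, 4, 4, 0, 3, 3, 0]),
    (11871081, [2, 0, 4, 0, 0, 3, 0, 0, 0, 0, 3, 1, 1, 2]),
    (11890965, [1, 1, 1, 2, 0, 3, 1, 2, 0, 4, 0, 0, 3, 2]),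
    (11896721, [4, 0, 0, 4, 4, 2, 0, 0, 3, 1, 2, 0, 4, 0, 2]),
    (11937475, [0, 3, 1, 4, 2, 0, 0, 0, 3, 1, 4, 2, 0, 0]),
    (11951489, [1, 4, 1, 3, 3, 0, 0, 3, 2, 1, 4, 0, 0]),
    (11971333, [2, 0, 3, 1, 3, 1, 1, 1, 1, 4, 0, 4, 2]),
    (12011021, [1, 3, 2, 0, 4, 1, 4, 4, 2, 0, 0, 4, 0]),
    (12060531, [2, 1, 4, 1, 4, 0, 3, 0, 3, 1, 4, 0, 2]),
    (12080399, [4, 2, 1, 1, 3, 1, 2, 0, 4, 1, 2, 0, 0, 0]),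
    (12090417, [0, 3, 2, 1, 3, 2, 1, 1, 3, 0, 4, 1, 2, 1]),
    (12094133, [2, 0, 4, 0, 3, 0, 4, 1, 4, 0, 0, 4, 1, 3, 2]),
    (12100491, [2, 0, 4, 1, 1, 1, 1, 1, 1, 1, 4, 1, 2]),
    (12114121, [2, 0, 3, 0, 0, 4, 0, 3, 0, 0, 4, 2]),
    (12137921, [4, 0, 4, 0, 3, 1, 4, 0, 4, 0, 3, 0, 2, 1]),
    (12144259, [3, 2, 1, 3, 1, 3, 2, 0, 0, 0, 0, 0, 3, 0]),
    (12174149, [1, 2, 0, 4, 0, 4, 4, 1, 3, 3, 0, 3, 2, 0]),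
    (12196181, [4, 0, 0, 4, 0, 3, 2, 0, 3, 3, 0, 2, 1]),
    (12208937, [0, 3, 2, 0, 0, 4, 0, 0, 4, 4, 1, 3, 3, 0, 0]),
    (12214807, [1, 4, 4, 1, 2, 1, 1, 3, 0, 4, 2, 0, 4, 0]),
    (12255961, [3, 1, 3, 1, 1, 4, 1, 3, 3, 1, 4, 1, 2, 1]),
    (12337277, [1, 3, 0, 3, 2, 0, 0, 4, 0, 3, 3, 0, 4, 1, 1]),
    (12347715, [3, 3, 1, 2, 0, 4, 4, 0, 3, 0, 0, 2, 0, 0]),
    (12379269, [1, 4, 1, 1, 2, 0, 3, 0, 4, 1, 2, 0, 4, 0]),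
    (12388749, [0, 2, 1, 4, 4, 0, 4, 0, 0, 3, 3, 0, 4, 0]),
    (12461337, [0, 3, 3, 2, 0, 0, 0, 0, 4, 0, 4, 1, 3]),
    (12623715, [1, 1, 3, 2, 1, 1, 2, 0, 0, 3, 3, 2, 1, 3]),
    (12677739, [3, 1, 1, 1, 3, 3, 0, 3, 2, 1, 3, 0]),
    (12682479, [0, 4, 4, 1, 2, 0, 4, 1, 1, 1, 1, 1, 3, 1]),
    (12703379, [1, 3, 0, 4, 1, 1, 4, 2, 1, 3, 3, 1, 2]),
    (12757115, [4, 0, 0, 4, 0, 4, 4, 2, 0, 3, 3, 1]),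
    (12768057, [1, 1, 4, 1, 2, 1, 1, 4, 1, 3, 2, 0, 4, 1]),
    (12777991, [1, 1, 1, 1, 2, 0, 0, 4, 0, 4, 4, 2, 0, 0]),
    (12785423, [2, 1, 1, 3, 1, 1, 4, 4, 1, 3, 0, 2]),
    (12795441, [2, 1, 4, 0, 0, 4, 4, 1, 3, 3, 0, 0, 4, 2]),
    (12797299, [4, 2, 0, 3, 0, 3, 0, 0, 0, 4, 1, 2]),
    (12819145, [1, 1, 2, 0, 3, 3, 2, 0, 4, 4, 1]),
    (12830901, [0, 4, 0, 0, 0, 0, 0, 3, 1, 2, 0, 3, 3, 1]),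
    (12837259, [0, 4, 2, 0, 0, 3, 0, 4, 1, 3, 0, 2, 1]),
    (12866987, [0, 4, 1, 3, 0, 3, 1, 4, 2, 1, 1, 3, 2]),
    (12886831, [4, 0, 4, 1, 3, 3, 2, 0, 0, 0, 3, 3]),
    (12900461, [3, 2, 1, 1, 1, 3, 0, 0, 4, 1, 1, 1, 2]),
    (12906835, [1, 1, 4, 0, 3, 1, 2, 0, 4, 1, 2, 0, 3, 2]),
    (12917851, [3, 3, 2, 0, 4, 4, 1, 3, 0, 4, 1, 1, 1, 2]),
    (12924261, [4, 4, 1, 3, 2, 0, 0, 0, 2, 1, 4, 0, 3, 0]),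
    (12930599, [0, 3, 1, 4, 1, 3, 2, 1, 1, 3, 0, 2, 1]),
    (12947869, [2, 0, 4, 0, 3, 3, 1, 4, 0, 3, 3, 0, 4, 2]),
    (12960737, [0, 3, 2, 1, 4, 0, 0, 4, 1, 4, 0, 0]),
    (12982769, [3, 3, 0, 4, 4, 1, 4, 0, 4, 0, 4, 4, 2, 1]),
    (12988623, [4, 4, 0, 4, 1, 3, 1, 1, 4, 4, 0, 3, 2, 1]),
    (13001395, [3, 3, 0, 2, 1, 3, 2, 1, 4, 0, 4, 0, 0, 2, 1]),
    (13024521, [0, 4, 2, 1, 3, 3, 0, 0, 4, 0, 3, 1, 3, 3]),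
    (13026891, [4, 1, 1, 4, 0, 4, 4, 1, 1, 2, 0, 4, 4]),
    (13042301, [2, 1, 1, 1, 3, 0, 0, 0, 3, 1, 1, 1, 4, 2]),
    (13052739, [1, 4, 1, 3, 0, 3, 3, 1, 1, 3, 1, 2, 1]),
    (13084293, [3, 2, 1, 3, 3, 1, 1, 3, 3, 1, 1, 4, 2]),
    (13111679, [0, 0, 4, 0, 3, 3, 1, 1, 4, 0, 3, 1, 4, 2, 1]),
    (13147321, [0, 0, 3, 0, 3, 2, 0, 4, 4, 0, 3, 1, 3, 0]),
    (13153671, [2, 0, 4, 4, 0, 4, 0, 4, 0, 4, 0, 0, 3, 2]),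
    (13175539, [3, 1, 4, 2, 1, 3, 2, 1, 3, 3, 0, 3, 3]),
    (13195407, [1, 1, 1, 3, 3, 1, 3, 3, 1, 1, 2, 0, 3, 2, 0]),
    (13201841, [1, 4, 1, 3, 1, 4, 4, 2, 0, 4, 0, 2, 0, 0]),
    (13207349, [0, 2, 0, 0, 3, 3, 0, 0, 0, 0, 3, 1, 2, 0, 0]),
    (13217291, [2, 0, 0, 4, 1, 4, 1, 4, 0, 4, 0, 0, 3, 1, 2]),
    (13227337, [3, 2, 1, 1, 4, 1, 4, 0, 4, 4, 0, 0, 2]),
    (13248103, [2, 1, 1, 1, 1, 3, 0, 3, 1, 4, 0, 3, 2]),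
    (13262117, [1, 1, 1, 4, 2, 0, 4, 1, 3, 0, 4]),
    (13267995, [0, 0, 4, 1, 1, 4, 1, 2, 0, 3, 1, 4, 1, 1]),
    (13271711, [0, 3, 3, 1, 1, 1, 2, 0, 4, 1, 2, 1, 1]),
    (13282209, [1, 3, 0, 4, 1, 3, 0, 0, 3, 3, 1, 1, 2, 1]),
    (13309141, [0, 0, 3, 1, 4, 2, 1, 3, 3, 1, 2, 1]),
    (13321897, [0, 2, 1, 3, 1, 1, 3, 0, 3, 0, 4, 1, 1]),
    (13361745, [1, 1, 1, 3, 2, 1, 3, 1, 1, 3, 3, 1, 2, 0]),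
    (13380915, [2, 1, 3, 0, 4, 1, 4, 1, 1, 4, 1, 3, 2]),
    (13391473, [0, 4, 0, 2, 1, 4, 4, 2, 1, 4, 1, 1, 3, 2, 1]),
    (13404619, [4, 2, 0, 4, 1, 3, 0, 3, 0, 4, 1, 1, 2]),
    (13410549, [4, 2, 1, 4, 0, 3, 0, 3, 3, 1, 1, 3, 1, 2]),
    (13431433, [0, 0, 4, 4, 1, 2, 0, 0, 4, 2, 0, 4, 4, 2]),
    (13442945, [0, 3, 2, 1, 1, 3, 1, 4, 2, 0, 3, 3, 0, 3]),
    (13460675, [1, 1, 3, 1, 4, 2, 1, 1, 1, 4, 2, 0, 0, 0]),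
    (13494533, [4, 1, 3, 0, 0, 0, 0, 0, 2, 1]),
    (13513493, [4, 4, 2, 1, 1, 1, 1, 3, 1, 4, 1, 4, 4, 0, 2]),
    (13518935, [1, 1, 1, 4, 4, 2, 0, 3, 1, 1, 1, 4, 4, 0]),
    (13525353, [0, 4, 2, 1, 4, 1, 4, 0, 0, 4, 1, 4, 0, 4, 1]),
    (13550993, [1, 1, 2, 1, 1, 4, 4, 1, 3, 1, 1, 3, 0]),
    (13576345, [1, 2, 0, 4, 2, 0, 4, 1, 3, 1, 3, 0, 0, 0]),
    (13646895, [2, 0, 4, 4, 0, 3, 0, 0, 0, 3, 1, 1, 2]),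
    (13670615, [3, 1, 3, 2, 1, 1, 4, 4, 2, 1, 1, 3, 0]),
    (13677033, [2, 1, 1, 3, 3, 1, 3, 0, 4, 0, 3, 1, 2]),
    (13683371, [3, 2, 1, 4, 4, 1, 1, 4, 1, 4, 0, 3, 3, 2]),
    (13707171, [4, 0, 0, 4, 1, 1, 1, 4, 2, 1, 1, 1, 2]),
    (13720801, [1, 1, 1, 1, 3, 2, 0, 0, 2, 0, 0, 0, 3, 0]),
    (13730651, [3, 3, 1, 2, 1, 1, 3, 1, 3, 1, 3, 1, 3, 0]),
    (13740645, [0, 0, 4, 1, 2, 0, 4, 1, 2, 0, 0, 4, 0]),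
    (13760537, [0, 2, 1, 3, 3, 1, 4, 4, 1, 3, 3, 0, 3, 1]),
    (13765431, [0, 0, 3, 0, 4, 4, 2, 1, 3, 3, 1, 4, 2, 1]),
    (13785419, [1, 2, 0, 3, 3, 0, 2, 1, 4, 0, 2, 1, 3, 0, 0]),
    (13791349, [0, 4, 2, 1, 4, 0, 4, 0, 0, 3, 0, 4, 4]),
    (13797105, [3, 0, 4, 1, 2, 0, 0, 0, 2, 1, 1, 2]),
    (13816973, [0, 0, 3, 0, 4, 1, 4, 1, 1, 3, 0, 4, 2, 1]),
    (13842821, [2, 1, 3, 2, 0, 4, 0, 0, 0, 4, 0, 4, 4, 0, 0]),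
    (13845191, [0, 3, 0, 3, 2, 0, 3, 0, 4, 0, 0, 4, 4]),
    (13881089, [4, 2, 1, 1, 4, 1, 4, 0, 4, 4, 0, 0, 0, 2]),
    (13914655, [2, 0, 3, 1, 4, 0, 3, 3, 0, 0, 0, 4, 2]),
    (13925153, [0, 4, 2, 0, 3, 2, 1, 4, 1, 3, 1, 2, 1]),
    (13929893, [2, 0, 4, 4, 1, 4, 2, 0, 0, 4, 0, 0, 3, 0]),
    (13935771, [0, 4, 4, 1, 4, 0, 0, 0, 4, 4, 2, 1, 3, 0]),
    (13972177, [4, 2, 1, 4, 1, 1, 1, 3, 0, 2]),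
    (13978003, [4, 4, 2, 0, 4, 4, 1, 1, 4, 1, 3, 3, 0, 2]),
    (13983917, [1, 3, 1, 3, 1, 4, 1, 1, 2, 0, 4, 1, 3, 1, 1]),
    (14009429, [2, 1, 1, 1, 4, 0, 0, 0, 0, 0, 0, 4, 2]),
    (14032453, [0, 3, 1, 2, 0, 0, 4, 0, 0, 4, 2, 1, 4, 1]),
    (14044217, [0, 4, 0, 4, 4, 0, 0, 4, 2, 1, 3, 3, 0, 3, 0]),
    (14050567, [3, 0, 3, 1, 4, 1, 1, 1, 2, 0, 3, 0, 0]),
    (14084289, [3, 1, 4, 0, 0, 3, 1, 2, 0, 4, 1, 3, 0, 0, 0]),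
    (14091721, [0, 4, 1, 4, 0, 0, 0, 4, 2, 0, 4, 1, 3, 3]),
    (14161611, [1, 4, 4, 0, 3, 2, 1, 4, 2, 0, 4, 0, 3]),
    (14173367, [3, 2, 0, 4, 0, 0, 3, 0, 3, 3, 1, 2]),
    (14195469, [3, 2, 1, 4, 0, 4, 1, 1, 4, 4, 0, 0, 0, 2]),
    (14207345, [2, 1, 1, 1, 4, 4, 0, 0, 4, 4, 0, 3, 3, 2]),
    (14213199, [3, 0, 2, 1, 4, 1, 3, 0, 4, 0, 2, 0, 0]),
    (14224711, [2, 1, 4, 0, 0, 0, 3, 0, 3, 2]),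
    (14230649, [3, 0, 4, 4, 2, 1, 4, 1, 3, 1, 1, 1, 1]),
    (14251525, [2, 1, 1, 3, 1, 3, 3, 0, 4, 1, 1, 3, 2]),
    (14289133, [4, 2, 1, 1, 4, 4, 0, 4, 0, 3, 3, 0, 2]),
    (14295507, [1, 3, 1, 3, 0, 3, 1, 3, 1, 4, 2, 0, 0, 2]),
    (14310033, [4, 4, 0, 4, 0, 4, 1, 1, 1, 3, 2, 0, 4, 0, 0]),
    (14330901, [0, 3, 3, 2, 0, 3, 1, 3, 1, 4, 4, 1, 3]),
    (14369053, [1, 4, 1, 4, 1, 3, 2, 1, 3, 3, 1, 2]),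
    (14418873, [3, 1, 4, 2, 1, 3, 2, 1, 1, 4, 0, 0, 4, 1]),
    (14428807, [2, 0, 0, 4, 1, 1, 4, 0, 0, 0, 0, 2]),
    (14438853, [4, 0, 3, 1, 3, 1, 1, 1, 1, 4, 4, 2, 1]),
    (14460737, [0, 0, 4, 4, 1, 4, 4, 1, 4, 1, 2, 1]),
    (14502473, [2, 1, 4, 2, 1, 4, 2, 0, 4, 2, 0, 3, 3, 0]),
    (14693619, [2, 0, 3, 1, 1, 3, 0, 2]),
    (14727477, [1, 3, 3, 0, 4, 0, 2, 1, 4, 0, 3, 1, 1]),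
    (14729847, [1, 1, 3, 1, 4, 4, 2, 1, 3, 1, 3, 2, 0]),
    (14767165, [4, 0, 0, 3, 2, 0, 3, 1, 1, 3, 2, 0, 0, 2, 0]),
    (14777603, [3, 2, 0, 4, 0, 0, 4, 2, 1, 1, 4, 4, 2, 1]),
    (14781319, [1, 1, 1, 2, 0, 0, 0, 3, 1, 3, 0, 4, 1]),
    (14787257, [3, 0, 2, 1, 1, 2, 0, 4, 4, 2, 1, 1, 4, 0, 0]),
    (14807237, [3, 2, 0, 0, 3, 3, 0, 0, 3, 1, 1, 1, 2]),
    (14812139, [4, 1, 1, 2, 0, 0, 0, 4, 2, 0, 4, 0, 2, 0, 0]),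
    (14832023, [0, 0, 4, 1, 3, 1, 4, 0, 4, 2, 1, 4, 4, 2]),
    (14842025, [3, 0, 4, 4, 0, 0, 2, 1, 4, 0, 2, 1]),
    (14847533, [3, 0, 3, 3, 2, 0, 4, 1, 1, 3, 3, 0, 4, 0, 0]),
    (14853907, [3, 3, 1, 4, 1, 1, 3, 1, 3, 0, 3, 2, 1]),
    (14867537, [3, 2, 0, 4, 1, 4, 0, 3, 3, 0, 4, 0, 2]),
    (14889305, [4, 0, 4, 1, 3, 1, 3, 0, 0, 4, 2, 1]),
    (14895643, [0, 0, 3, 0, 0, 3, 0, 3, 2, 1, 3, 0]),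
    (14902053, [4, 2, 1, 4, 0, 0, 0, 0, 0, 0, 3, 1, 2]),
    (14944447, [2, 1, 3, 1, 4, 4, 0, 4, 4, 0, 0, 0, 0, 2]),
    (14965443, [4, 1, 1, 3, 3, 0, 3, 1, 4, 2, 1, 3, 3, 0]),
    (14976377, [0, 3, 0, 0, 2, 1, 4, 4, 0, 4, 2, 0, 4]),
    (14986311, [2, 0, 3, 1, 3, 1, 1, 4, 0, 0, 4, 4, 0, 2]),
    (14997253, [2, 0, 3, 3, 0, 4, 1, 3, 0, 4, 1, 4, 0, 2]),
    (15022605, [2, 0, 4, 4, 0, 4, 2, 0, 3, 0, 3, 0]),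
    (15024463, [2, 0, 0, 0, 0, 4, 2, 0, 0, 4, 2, 0, 0, 4, 0]),
    (15034481, [3, 0, 0, 3, 3, 0, 2, 1, 1, 1, 1, 3, 3]),
    (15060105, [3, 1, 1, 4, 4, 1, 3, 2, 1, 1, 1, 3, 1, 1]),
    (15079065, [2, 0, 0, 4, 4, 0, 4, 1, 1, 1, 4, 0, 3, 2]),
    (15090917, [4, 4, 1, 3, 1, 1, 1, 3, 3, 1, 1, 3, 2, 1]),
    (15130653, [4, 1, 1, 2, 0, 0, 4, 0, 4, 2, 0, 0, 4, 0, 0]),
    (15142165, [4, 4, 0, 0, 0, 0, 2, 1, 4, 4, 1, 1, 4]),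
    (15212055, [0, 0, 4, 1, 3, 0, 3, 3, 1, 3, 2, 1, 3, 0]),
    (15218473, [2, 1, 4, 2, 0, 3, 0, 4, 2, 1, 3, 2, 1]),
    (15223915, [4, 4, 1, 1, 3, 0, 2, 1, 1, 4, 2, 0, 0]),
    (15242193, [4, 2, 1, 1, 4, 0, 4, 4, 0, 0, 3, 1, 1, 2]),
    (15253933, [3, 0, 0, 4, 1, 2, 0, 4, 1, 1, 4, 0, 0, 3, 0]),
    (15263891, [1, 3, 0, 2, 1, 1, 4, 4, 1, 1, 1, 4, 4, 0]),
    (15271323, [2, 1, 3, 0, 4, 1, 4, 1, 3, 0, 3, 0, 2]),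
    (15281317, [0, 3, 3, 2, 0, 4, 4, 1, 4, 0, 0, 3, 2, 0, 0]),
    (15304797, [3, 2, 1, 1, 1, 1, 4, 1, 3, 1, 4, 1, 2]),
    (15345935, [1, 1, 3, 0, 3, 0, 4, 0, 3, 0, 3, 0, 2, 1]),
    (15356493, [0, 4, 1, 1, 1, 1, 4, 0, 3, 2, 0, 3, 2, 0]),
    (15377609, [1, 3, 0, 4, 4, 2, 1, 1, 2, 0, 0, 3, 1, 4]),
    (15419841, [0, 4, 1, 4, 2, 1, 3, 1, 4, 0, 0, 3, 1, 1]),
    (15469413, [2, 0, 3, 1, 1, 1, 1, 3, 1, 3, 1, 3, 2]),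
    (15475291, [2, 0, 0, 0, 3, 1, 4, 0, 4, 0, 0, 4, 4, 2]),
    (15489305, [3, 1, 4, 4, 2, 0, 4, 0, 3, 2, 1, 3, 0, 0]),
    (15549077, [4, 1, 1, 2, 0, 0, 0, 3, 0, 4, 0, 3, 0]),
    (15625729, [2, 1, 1, 1, 1, 3, 0, 0, 3, 1, 1, 2]),
    (15735417, [4, 1, 3, 3, 2, 1, 1, 3, 0, 2, 0, 0, 0]),
    (15741767, [0, 2, 1, 3, 3, 0, 3, 2, 0, 4, 2, 0, 0]),
    (15753531, [1, 3, 1, 3, 2, 1, 4, 0, 2, 1, 3, 3, 2, 0]),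
    (15777409, [1, 4, 2, 1, 3, 2, 0, 0, 3, 3, 1, 1, 3, 3, 0]),
    (15779267, [0, 3, 1, 3, 0, 2, 1, 1, 1, 4, 1, 3, 1, 2, 0]),
    (15794677, [2, 1, 3, 0, 3, 3, 1, 2, 0, 3, 1, 3, 1, 1]),
    (15804619, [1, 3, 3, 0, 0, 0, 3, 3, 0, 0, 2, 1, 4, 0]),
    (15815561, [2, 1, 3, 0, 3, 1, 4, 0, 0, 3, 1, 3, 0, 0, 2]),
    (15836429, [1, 3, 1, 1, 3, 3, 2, 0, 3, 1, 4, 2, 0]),
    (15860831, [3, 3, 2, 0, 0, 0, 4, 0, 0, 0, 0, 3, 1, 2]),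
    (15871329, [1, 3, 1, 1, 2, 0, 4, 1, 4, 2, 0, 3, 0, 3, 2]),
    (15894937, [1, 1, 3, 2, 0, 4, 1, 1, 1, 3, 2, 0, 4, 1]),
    (15950993, [3, 0, 4, 4, 2, 0, 0, 3, 3, 1, 4, 1]),
    (15994635, [1, 3, 0, 4, 2, 0, 4, 4, 0, 0, 3, 1, 1]),
    (16000565, [4, 4, 0, 2, 1, 4, 2, 0, 4, 2, 1, 3, 0]),
    (16020553, [2, 0, 4, 0, 0, 3, 0, 2, 0, 0, 3, 1, 4, 0]),
    (16024269, [1, 4, 4, 1, 3, 2, 1, 3, 2, 0, 3, 1, 2, 1]),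
    (16139089, [2, 1, 3, 2, 0, 3, 3, 0, 3, 3, 1, 1]),
    (16265373, [2, 1, 3, 1, 3, 1, 4, 0, 0, 3, 0, 0, 3, 2]),
    (16278241, [4, 4, 0, 2, 1, 4, 1, 3, 2, 0, 3, 2, 0, 0, 0]),
    (16303641, [0, 0, 4, 1, 1, 3, 3, 1, 3, 2, 1, 4, 0]),
    (16329489, [1, 4, 0, 3, 2, 1, 3, 1, 2, 1, 1, 3, 3]),
    (16385925, [4, 0, 4, 1, 2, 0, 0, 0, 2, 1, 3, 0, 0, 0, 2]),
    (16518353, [0, 2, 1, 3, 1, 3, 1, 4, 1, 4, 0, 3, 1, 1, 1])]),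
  (8, 89455, [
    (89455, []),
    (109547, [2, 0, 3, 3, 2, 0, 3, 1, 2, 0, 0, 4, 0]),
    (129431, [0, 0, 3, 0, 2, 1, 3, 1, 4, 4, 0, 3]),
    (160251, [4, 1, 2, 0, 0, 4, 4, 0, 4, 0, 0, 2, 0]),
    (165759, [4, 0, 3, 0, 0, 3, 1, 2, 0, 0, 0, 3]),
    (195645, [4, 1, 1, 4, 1, 3, 3, 1, 1, 1]),
    (223863, [2, 1, 1, 3, 1, 1, 4, 4, 0, 4, 1, 2]),
    (243149, [4, 1, 4, 4, 2, 0, 0, 3, 1, 3, 0, 0, 4, 0]),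
    (249487, [1, 4, 4, 1, 4, 1, 4, 1, 2, 0, 0, 0]),
    (255921, [0, 3, 1, 4, 1, 4, 4, 2, 1, 4, 4, 2, 1]),
    (293551, [2, 1, 4, 0, 0, 4, 1, 2]),
    (319063, [4, 1, 4, 1, 3, 3, 1, 3, 0, 0, 2, 0]),
    (325481, [3, 3, 2, 0, 3, 0, 3, 0, 4, 0, 4, 2]),
    (340831, [2, 0, 0, 0, 3, 2, 0, 0, 0, 3, 1, 1, 3]),
    (376473, [4, 2, 1, 1, 3, 3, 1, 3, 3, 0, 4, 1, 2]),
    (378331, [1, 4, 1, 1, 1, 2, 1, 1, 4, 2, 0, 0, 0, 0]),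
    (388325, [3, 1, 1, 1, 3, 1, 1, 4, 1, 1]),
    (401355, [4, 0, 0, 3, 0, 0, 4, 4, 1, 1, 4, 1, 2, 0]),
    (407285, [3, 2, 0, 4, 4, 0, 0, 4, 4, 1, 3, 2]),
    (413111, [1, 2, 0, 4, 2, 1, 1, 3, 0, 4, 1, 3]),
    (452943, [4, 2, 1, 3, 0, 4, 0, 3, 1, 1, 2]),
    (470393, [4, 2, 0, 3, 3, 1, 1, 4, 4, 0, 3, 3, 2]),
    (491269, [1, 1, 3, 0, 3, 3, 0, 3, 1, 4, 1, 1]),
    (540283, [0, 4, 4, 0, 3, 0, 0, 3, 0, 0]),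
    (570301, [1, 3, 2, 1, 3, 1, 4, 4, 1, 4, 4, 0, 0]),
    (575743, [2, 0, 4, 1, 4, 1, 4, 0, 3, 0, 2]),
    (599543, [1, 1, 3, 0, 4, 2, 0, 3, 1, 2, 0, 0, 2]),
    (614069, [3, 2, 0, 3, 0, 3, 3, 2]),
    (620427, [2, 1, 3, 0, 3, 0, 3, 1, 4, 1, 1, 1, 2]),
    (653901, [3, 2, 1, 1, 4, 1, 4, 0, 4, 4, 0, 0, 2]),
    (678687, [1, 2, 1, 1, 1, 3, 3, 0, 4, 4, 0, 3, 0]),
    (699803, [3, 0, 4, 2, 0, 3, 3, 1, 2, 1, 1, 4, 2]),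
    (710361, [1, 1, 2, 1, 1, 1, 3, 0, 0, 0, 0, 3, 0]),
    (736209, [3, 2, 0, 4, 1, 1, 4, 1, 1, 1, 4, 1, 2]),
    (747949, [4, 1, 4, 4, 0, 0, 0, 4, 1, 4, 2, 0]),
    (773461, [1, 3, 0, 3, 0, 4, 2, 0, 0, 0, 0, 3, 0, 3]),
    (817525, [1, 3, 2, 1, 4, 1, 4, 4, 1, 4]),
    (823281, [2, 0, 4, 1, 4, 1, 4, 0, 0, 0, 4, 1, 2]),
    (829135, [1, 4, 1, 1, 3, 3, 0, 0, 4, 0, 4, 4, 0]),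
    (843149, [0, 2, 1, 3, 0, 2, 1, 1, 3, 3, 1, 4]),
    (871367, [1, 2, 1, 1, 4, 0, 4, 4, 0, 3, 0, 3]),
    (877305, [4, 2, 0, 3, 3, 1, 1, 3, 3, 1, 4, 2]),
    (937581, [1, 4, 4, 0, 3, 2, 0, 0, 4, 1, 1, 2, 0, 0]),
    (943955, [3, 0, 4, 4, 1, 1, 4, 0, 4, 1, 1, 1]),
    (977557, [0, 3, 2, 1, 1, 4, 0, 4, 0, 3, 1, 3]),
    (984989, [0, 4, 1, 4, 2, 1, 3, 3, 0, 4]),
    (1089261, [4, 0, 0, 3, 0, 0, 0, 3, 0, 4, 0, 0, 0]),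
    (1095635, [2, 0, 3, 0, 0, 0, 3, 0, 0, 3, 1, 4, 2]),
    (1107375, [0, 4, 4, 1, 4, 1, 1, 3, 0, 3, 2, 0, 3, 0]),
    (1137371, [1, 3, 1, 1, 2, 0, 4, 1, 4, 4, 0, 2, 0]),
    (1143781, [4, 2, 0, 4, 1, 2, 1, 1, 3, 2, 1, 3, 0]),
    (1158239, [1, 4, 1, 2, 0, 3, 0, 4, 1, 1, 4, 0, 0, 0]),
    (1169181, [3, 0, 4, 4, 0, 3, 0, 3, 3, 1, 1, 2, 0]),
    (1204081, [4, 2, 0, 0, 0, 3, 3, 2, 1, 3, 3, 0, 0]),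
    (1209935, [0, 0, 3, 1, 1, 4, 2, 1, 3, 0, 0, 3, 0]),
    (1223157, [3, 3, 1, 4, 1, 3, 3, 1, 4, 4, 0, 0]),
    (1244041, [0, 0, 0, 3, 1, 3, 0, 0, 3, 3, 1, 4]),
    (1262845, [2, 1, 1, 1, 1, 4, 4, 1, 3, 0, 0, 3, 2]),
    (1273283, [4, 2, 0, 4, 0, 0, 0, 4, 0, 3, 0, 2]),
    (1322855, [4, 4, 1, 4, 4, 1, 4, 0, 0, 4, 1]),
    (1342747, [0, 0, 0, 0, 4, 0, 3, 0, 3, 3, 2, 1, 4]),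
    (1346463, [0, 3, 2, 0, 0, 0, 2, 1, 3, 0, 0, 4, 0]),
    (1372381, [3, 3, 0, 2, 1, 4, 2, 1, 1, 3, 3, 0, 4, 0]),
    (1383893, [3, 0, 3, 3, 0, 3, 0, 4, 2, 0]),
    (1396649, [2, 1, 4, 1, 3, 0, 4, 4, 0, 0, 4, 2]),
    (1402519, [3, 2, 0, 4, 4, 1, 1, 3, 3, 0, 0, 0, 2]),
    (1436497, [4, 2, 1, 4, 1, 1, 1, 1, 4, 1, 4, 1, 3, 2]),
    (1467197, [1, 4, 1, 4, 1, 1, 3, 1, 1, 2, 0, 4, 2, 0]),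
    (1492933, [1, 4, 4, 2, 0, 4, 4, 0, 4, 0, 0, 3, 1]),
    (1518285, [0, 3, 2, 1, 3, 3, 2, 1, 4, 1, 1, 3, 1]),
    (1587663, [4, 0, 3, 1, 4, 0, 0, 3, 0, 2, 0, 0]),
    (1600435, [0, 2, 1, 4, 0, 4, 4, 1, 2, 1, 1, 3, 1]),
    (1625931, [4, 4, 1, 1, 1, 4, 4, 2, 0, 3, 1, 3]),
    (1631861, [2, 1, 1, 3, 0, 0, 4, 1, 1, 4, 0, 0, 2]),
    (1641341, [1, 4, 2, 0, 3, 3, 2, 0, 4, 1, 4]),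
    (1683333, [1, 4, 1, 1, 4, 0, 4, 0, 0, 4, 0, 4, 0]),
    (1707735, [1, 2, 0, 3, 3, 1, 4, 1, 1, 1, 4, 1]),
    (1714153, [1, 4, 1, 1, 1, 1, 4, 0, 0, 0, 2, 0, 0]),
    (1734037, [4, 0, 0, 4, 0, 3, 2, 0, 3, 3, 0, 2, 1]),
    (1797657, [3, 1, 4, 4, 0, 3, 2, 0, 3, 1]),
    (1846461, [1, 3, 0, 3, 2, 0, 4, 0, 4, 1, 3, 0, 0]),
    (1867457, [0, 0, 4, 1, 4, 0, 4, 0, 0, 0, 0, 3, 0]),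
    (1926477, [0, 2, 1, 3, 0, 2, 0, 0, 0, 0, 4, 4, 1]),
    (1984985, [1, 3, 3, 0, 2, 1, 4, 2, 0, 4, 0, 3, 2]),
    (2104311, [2, 0, 3, 1, 1, 3, 0, 2]),
    (2146063, [0, 0, 4, 1, 1, 3, 0, 3, 0, 4]),
    (2157939, [1, 1, 3, 1, 4, 4, 2, 1, 3, 1, 3, 2, 0]),
    (2194233, [1, 3, 2, 1, 3, 3, 0, 0, 4, 0, 0, 0]),
    (2198973, [0, 3, 3, 1, 1, 3, 1, 1, 3, 0, 4]),
    (2219969, [1, 4, 1, 1, 4, 0, 3, 2, 0, 0, 4, 1, 1]),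
    (2239727, [2, 0, 3, 1, 1, 1, 4, 1, 4, 1, 3, 2]),
    (2250669, [3, 2, 1, 1, 1, 1, 4, 1, 3, 3, 0, 3, 2]),
    (2260627, [2, 0, 0, 4, 1, 1, 1, 4, 1, 3, 3, 1, 2]),
    (2290517, [3, 2, 0, 4, 1, 1, 1, 1, 1, 4, 4, 2]),
    (2301533, [3, 2, 1, 1, 3, 3, 1, 4, 0, 3, 0, 2]),
    (2319647, [0, 0, 3, 0, 0, 4, 0, 0, 0, 4]),
    (2353369, [3, 3, 1, 4, 1, 4, 1, 1, 3, 2, 0, 3, 0]),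
    (2369467, [4, 1, 4, 1, 1, 3, 1, 3, 3, 2, 0, 0, 4]),
    (2383097, [0, 4, 2, 1, 3, 0, 3, 0, 4, 1, 3, 3]),
    (2389447, [1, 3, 0, 4, 2, 0, 4, 0, 3, 0, 4]),
    (2402941, [0, 3, 0, 0, 3, 1, 3, 0, 3, 1, 4, 4]),
    (2443125, [1, 1, 3, 2, 1, 4, 2, 1, 4, 4, 0, 2, 1]),
    (2453067, [2, 0, 3, 0, 4, 0, 4, 0, 3, 1, 1, 3, 1, 2]),
    (2483085, [1, 3, 3, 1, 1, 1, 3, 0, 0, 0, 3, 3, 0]),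
    (2505117, [1, 1, 4, 2, 1, 1, 3, 1, 3, 0, 2, 1]),
    (2507487, [0, 0, 0, 0, 0, 3, 3, 2, 0, 4, 4, 0, 0]),
    (2517985, [0, 0, 0, 0, 3, 0, 4, 4, 1, 4, 2, 1, 4]),
    (2543385, [2, 0, 3, 0, 0, 4, 0, 4, 0, 3, 1, 2]),
    (2646895, [3, 1, 4, 1, 3, 1, 3, 2, 1, 4, 0]),
    (2669781, [3, 1, 4, 0, 3, 1, 3, 2, 0, 0, 0]),
    (2672535, [0, 3, 3, 1, 4, 4, 0, 2, 0, 0, 0]),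
    (2682537, [2, 1, 3, 3, 1, 1, 3, 1, 1, 4, 0, 4, 2]),
    (2697887, [3, 0, 4, 4, 2, 0, 0, 3, 1, 3, 0, 4, 0]),
    (2707933, [4, 1, 3, 0, 3, 1, 4, 4, 1, 4, 4, 2, 0, 0]),
    (2729817, [0, 2, 1, 1, 4, 2, 0, 4, 1, 3, 2, 1, 3]),
    (2764597, [3, 0, 4, 0, 0, 0, 3, 1, 4, 4, 0, 0]),
    (2784585, [3, 1, 4, 1, 4, 1, 1, 3, 1, 3, 0, 2, 1, 4, 0]),
    (2788301, [2, 0, 4, 4, 1, 4, 1, 1, 3, 1, 4, 2]),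
    (2844357, [0, 4, 2, 1, 4, 2, 0, 3, 2, 1, 1, 2]),
    (2887007, [1, 1, 3, 0, 4, 2, 1, 1, 4, 4, 0, 3, 0]),
    (2913821, [3, 0, 0, 4, 2, 0, 4, 2, 1, 3, 3, 1, 1]),
    (2977169, [4, 0, 4, 2, 0, 3, 1, 3, 2, 0, 0, 2, 1]),
    (3159421, [2, 0, 4, 2, 0, 4, 4, 1, 4, 4, 0, 0, 4]),
    (3165759, [2, 0, 4, 1, 3, 1, 4, 0, 4, 4, 0, 0, 2]),
    (3195897, [3, 2, 0, 0, 0, 0, 0, 3, 1, 1, 3, 2]),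
    (3205831, [4, 1, 4, 2, 1, 4, 4, 0, 4, 1, 3, 0]),
    (3213263, [3, 0, 4, 4, 0, 0, 0, 0, 0, 0, 4, 4, 1]),
    (3223281, [4, 0, 2, 1, 3, 2, 1, 1, 4, 2, 0, 3, 3]),
    (3243149, [3, 0, 3, 1, 4, 4, 2, 1, 3, 2, 0]),
    (3287899, [3, 0, 0, 4, 1, 3, 0, 0, 0, 0, 0, 3]),
    (3319453, [3, 3, 2, 0, 3, 3, 0, 0, 4, 4, 2]),
    (3361685, [1, 1, 4, 1, 4, 0, 4, 1, 4, 0, 0, 0]),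
    (3431245, [4, 2, 1, 4, 1, 4, 1, 2]),
    (3452361, [3, 3, 1, 2, 0, 0, 3, 3, 1, 3, 0, 0, 3]),
    (3566677, [1, 3, 2, 0, 4, 1, 4, 4, 2, 0, 0, 4, 0]),
    (3678105, [3, 3, 2, 0, 0, 0, 0, 0, 3, 1, 4, 2]),
    (3689957, [0, 2, 1, 1, 1, 1, 1, 4, 0, 3]),
    (3695835, [0, 3, 1, 3, 1, 3, 2, 1, 3, 1, 1, 2, 1, 1]),
    (3729693, [2, 0, 3, 0, 0, 4, 0, 3, 0, 0, 4, 2]),
    (3941333, [0, 4, 0, 4, 0, 4, 4, 1, 3, 1]),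
    (4239031, [0, 0, 2, 1, 1, 3, 1, 2, 0, 4, 1, 3, 2]),
    (4249077, [2, 1, 1, 3, 3, 1, 3, 0, 4, 0, 3, 1, 2]),
    (4259019, [3, 2, 0, 0, 3, 0, 0, 3, 3, 0, 0, 0, 2]),
    (4274429, [1, 1, 1, 3, 1, 1, 4, 4, 0, 4, 2, 0]),
    (4277183, [4, 4, 0, 4, 1, 1, 4, 2, 1, 3, 2, 1, 1]),
    (4312697, [0, 3, 2, 1, 4, 0, 0, 4, 1, 4, 0, 0]),
    (4319047, [1, 3, 0, 4, 1, 1, 4, 2, 1, 3, 3, 1, 2]),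
    (4341079, [3, 1, 3, 1, 3, 1, 1, 3, 1, 3, 1, 1, 2, 0]),
    (4353835, [3, 3, 1, 4, 1, 4, 0, 4, 0, 4, 2, 0]),
    (4377555, [3, 0, 4, 0, 3, 2, 0, 0, 4, 1, 1, 3, 0]),
    (4383469, [3, 1, 1, 3, 1, 4, 1, 3, 1, 1, 1, 2, 0]),
    (4394981, [0, 2, 1, 3, 1, 1, 3, 0, 3, 0, 4, 1, 1]),
    (4400859, [1, 1, 3, 3, 0, 3, 3, 0, 4, 0, 4, 2, 0]),
    (4414873, [0, 4, 0, 4, 0, 3, 3, 0, 4, 4, 1, 3, 1]),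
    (4434717, [1, 4, 1, 4, 2, 0, 0, 0, 4, 0, 4, 2, 0]),
    (4464445, [1, 4, 2, 0, 4, 0, 3, 3, 2, 0, 4, 0, 0]),
    (4482175, [3, 1, 4, 0, 0, 4, 0, 0, 4, 4, 1]),
    (4504517, [0, 3, 1, 4, 0, 4, 1, 1, 1, 2, 0, 0, 0]),
    (4516281, [0, 2, 1, 4, 4, 2, 1, 4, 2, 0, 4, 0, 2]),
    (4533647, [2, 1, 4, 2, 0, 3, 1, 1, 3, 1, 4, 2, 1]),
    (4544205, [3, 1, 4, 1, 4, 0, 0, 3, 1, 1]),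
    (4618841, [3, 1, 1, 4, 0, 0, 0, 4, 4, 0, 4, 4, 0]),
    (4623581, [3, 2, 1, 3, 3, 1, 1, 3, 3, 1, 1, 4, 2]),
    (4678101, [2, 1, 1, 1, 1, 1, 4, 0, 4, 4, 0, 2]),
    (4742121, [0, 3, 0, 0, 4, 1, 1, 3, 1, 1, 1, 4, 2, 0]),
    (4747991, [4, 1, 3, 3, 1, 4, 4, 1, 2, 1, 1, 4, 2, 0]),
    (4762989, [3, 1, 1, 1, 1, 3, 3, 2, 1, 4, 2, 0, 0, 2]),
    (4783889, [0, 3, 3, 2, 0, 4, 0, 4, 1, 2, 0, 0, 4, 1]),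
    (4811099, [2, 0, 3, 3, 0, 0, 3, 3, 0, 3, 0, 0, 0, 2]),
    (4842653, [1, 3, 1, 4, 0, 3, 1, 4, 1]),
    (4865677, [1, 1, 1, 4, 2, 0, 4, 1, 3, 0, 4]),
    (4867535, [4, 0, 0, 4, 0, 3, 2, 1, 4, 0, 0, 0, 3]),
    (4877553, [4, 1, 1, 1, 4, 4, 2, 0, 3, 3, 0, 3, 0]),
    (4994521, [3, 1, 3, 3, 0, 3, 0, 3, 1, 3, 0, 2, 0, 0]),
    (5000859, [0, 0, 4, 0, 0, 3, 0, 2, 0, 0, 3, 0, 0, 2]),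
    (5007269, [2, 0, 4, 0, 0, 4, 4, 1, 4, 1, 3, 0, 3, 2]),
    (5030749, [3, 1, 3, 0, 0, 2, 1, 1, 1, 4, 1, 2, 0, 0]),
    (5058133, [0, 3, 2, 0, 3, 3, 0, 3, 3, 1, 1, 3, 0]),
    (5246459, [0, 0, 3, 0, 4, 0, 0, 4, 1, 1, 4, 4, 0]),
    (5267335, [0, 2, 1, 3, 3, 0, 3, 2, 0, 4, 2, 0, 0]),
    (5273273, [0, 0, 4, 1, 3, 0, 2, 1, 3, 1, 4, 4, 0]),
    (5324617, [3, 2, 1, 1, 4, 4, 0, 3, 1, 2]),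
    (5336373, [0, 0, 4, 1, 2, 0, 4, 1, 2, 0, 0, 4, 0]),
    (5360077, [2, 0, 0, 4, 1, 3, 1, 4, 0, 3, 2]),
    (5379037, [2, 1, 4, 4, 0, 3, 0, 0, 3, 3, 1, 3, 3, 2]),
    (5400735, [3, 0, 3, 1, 4, 1, 1, 1, 2, 0, 3, 0, 0]),
    (5432665, [2, 1, 3, 0, 4, 4, 1, 3, 1, 3, 1, 3, 1, 2]),
    (5524213, [1, 3, 3, 1, 3, 1, 1, 4, 4, 0, 0, 3, 0]),
    (5530571, [4, 4, 1, 4, 1, 1, 1, 4, 1, 3, 0, 4, 0, 0]),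
    (5565965, [0, 3, 0, 4, 4, 1, 1, 3, 3, 2, 1, 4]),
    (5648273, [2, 1, 4, 1, 1, 3, 0, 0, 0, 3, 0, 3, 1, 2]),
    (5777183, [1, 1, 1, 4, 0, 4, 0, 3, 1, 3, 0, 2, 0, 0]),
    (5790813, [0, 2, 0, 0, 4, 4, 0, 4, 1, 3, 1, 3, 3]),
    (5810905, [4, 1, 4, 1, 1, 4, 1, 3, 2, 0, 0, 0, 0]),
    (5851089, [2, 1, 3, 1, 4, 4, 1, 3, 0, 3, 1, 4, 2]),
    (5925701, [0, 0, 3, 0, 3, 0, 2, 1, 1, 4, 1, 4, 4, 0]),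
    (6313819, [1, 4, 4, 0, 3, 0, 0, 3, 1, 4, 1, 4, 0]),
    (6323813, [2, 1, 4, 2, 0, 3, 0, 4, 2, 1, 3, 2, 1]),
    (6332895, [0, 3, 0, 4, 1, 3, 0, 4, 0]),
    (6347421, [3, 0, 3, 1, 3, 0, 4, 4, 0, 4, 0]),
    (6371221, [3, 2, 1, 1, 1, 4, 4, 1, 3, 0, 4, 1, 2]),
    (6376663, [3, 2, 1, 3, 3, 0, 3, 0, 3, 0, 4, 2]),
    (6383081, [2, 1, 4, 1, 3, 0, 3, 0, 3, 1, 2]),
    (6441341, [2, 1, 3, 1, 4, 1, 3, 1, 1, 4, 4, 2]),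
    (6483333, [3, 3, 0, 0, 4, 4, 0, 0, 4, 0, 0, 3, 2, 0]),
    (6581015, [2, 0, 0, 2, 1, 1, 1, 2, 0, 3, 1, 4]),
    (6612689, [3, 3, 2, 1, 1, 4, 4, 1, 4, 4, 2]),
    (6622169, [3, 1, 1, 3, 2, 1, 1, 4, 2, 0]),
    (6694733, [3, 2, 0, 0, 4, 4, 0, 0, 4, 4, 0, 4, 2]),
    (6817533, [3, 3, 0, 4, 1, 4, 0, 4, 1, 1, 4, 1]),
    (6827971, [1, 1, 3, 1, 1, 2, 0, 3, 1, 3, 0, 0, 0, 0]),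
    (6901517, [3, 2, 1, 1, 1, 1, 4, 1, 3, 1, 4, 1, 2]),
    (6972313, [0, 4, 0, 3, 3, 1, 3, 1, 3, 1]),
    (7104717, [1, 4, 0, 0, 4, 0, 3, 3, 0, 0, 2, 0, 0]),
    (7351213, [1, 3, 1, 3, 2, 1, 4, 0, 2, 1, 3, 3, 2, 0]),
    (7371217, [4, 2, 1, 1, 3, 1, 2, 0, 0, 3, 0, 3, 3, 0]),
    (7376725, [0, 4, 1, 1, 3, 1, 3, 3, 1, 3, 3, 2, 0]),
    (7430749, [1, 3, 3, 0, 0, 0, 3, 3, 0, 0, 2, 1, 4, 0]),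
    (7491273, [3, 0, 4, 4, 2, 0, 0, 3, 3, 1, 4, 1]),
    (7619997, [1, 3, 0, 4, 2, 0, 4, 4, 0, 0, 3, 1, 1]),
    (8419127, [4, 4, 2, 1, 4, 1, 4, 2]),
    (8442831, [1, 4, 1, 3, 0, 2, 1, 4, 1, 2, 1, 1, 3]),
    (8452849, [1, 3, 3, 0, 4, 0, 2, 1, 4, 0, 3, 1, 1]),
    (8460281, [4, 4, 1, 3, 2, 0, 0, 0, 2, 1, 4, 0, 3, 0]),
    (8470215, [3, 0, 3, 1, 1, 4, 0, 4, 1, 3, 2, 0, 0, 2]),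
    (8481979, [1, 1, 2, 0, 0, 4, 1, 3, 1, 3, 3, 2, 0]),
    (8511869, [4, 1, 3, 3, 1, 3, 0, 0, 0, 3, 1, 2, 1]),
    (8534893, [2, 0, 4, 4, 0, 3, 2, 0, 0, 3, 1, 4, 0]),
    (8560533, [1, 1, 2, 0, 3, 3, 2, 0, 4, 4, 1]),
    (8572393, [4, 0, 0, 4, 0, 4, 4, 2, 0, 3, 3, 1]),
    (8578263, [0, 4, 2, 0, 0, 3, 0, 4, 1, 3, 0, 2, 1]),
    (8587743, [2, 1, 1, 3, 1, 1, 4, 4, 1, 3, 0, 2]),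
    (8614557, [3, 1, 4, 1, 4, 4, 1, 4, 4, 2, 1, 4, 0, 0]),
    (8670075, [2, 0, 4, 1, 3, 3, 0, 0, 4, 2]),
    (8701629, [0, 3, 2, 0, 4, 4, 0, 3, 3, 2, 1, 4, 1, 1]),
    (8712067, [4, 0, 2, 0, 0, 3, 1, 2, 0, 4, 1, 3, 0, 0]),
    (8727477, [3, 2, 0, 4, 1, 1, 4, 1, 1, 3, 0, 3, 2]),
    (8747465, [1, 3, 1, 1, 2, 0, 3, 1, 2, 0, 3, 1, 1]),
    (8752973, [4, 1, 3, 0, 0, 0, 0, 0, 2, 1]),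
    (8793631, [1, 4, 1, 3, 0, 3, 3, 1, 1, 3, 1, 2, 1]),
    (8803677, [1, 4, 1, 3, 3, 0, 0, 3, 2, 1, 4, 0, 0]),
    (8823769, [3, 1, 3, 1, 1, 3, 1, 3, 0, 2, 1, 3, 3, 0]),
    (8867537, [2, 0, 0, 0, 3, 1, 1, 4, 0, 0, 0, 4, 2]),
    (8916911, [2, 1, 4, 4, 2, 0, 3, 2, 0, 4, 1, 1]),
    (8936915, [1, 4, 4, 0, 3, 2, 1, 4, 2, 0, 4, 0, 3]),
    (8942829, [4, 2, 1, 3, 0, 4, 1, 4, 0, 0, 0, 0, 2]),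
    (8956759, [2, 1, 4, 1, 3, 1, 1, 4, 0, 0, 3, 0, 2]),
    (8994077, [0, 0, 3, 1, 4, 2, 1, 3, 3, 1, 2, 1]),
    (8996447, [4, 1, 1, 1, 3, 0, 0, 3, 3, 0, 2, 1]),
    (9006945, [4, 2, 0, 3, 0, 0, 3, 0, 3, 1, 4, 0, 2]),
    (9030553, [4, 4, 2, 0, 4, 1, 4, 1, 4, 0, 0, 0, 2]),
    (9061365, [2, 1, 3, 3, 2, 0, 4, 0, 4, 1, 3, 3, 1, 2, 0]),
    (9071307, [1, 1, 3, 3, 1, 4, 4, 2, 1, 1, 1, 1, 1]),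
    (9103117, [0, 3, 3, 2, 0, 3, 1, 3, 1, 4, 4, 1, 3]),
    (9181917, [3, 1, 1, 2, 0, 4, 0, 3, 1, 4, 4, 0, 0, 0]),
    (9200031, [0, 4, 4, 1, 4, 4, 0, 3, 3, 0, 2, 1]),
    (9235545, [3, 2, 1, 1, 4, 1, 3, 1, 1, 4, 1, 2]),
    (9317829, [3, 2, 1, 4, 1, 1, 4, 0, 4, 4, 1, 1, 2]),
    (9446143, [2, 0, 4, 0, 4, 1, 4, 4, 0, 3, 1, 4, 2]),
    (9460157, [0, 0, 3, 1, 4, 1, 4, 0, 0, 4, 0, 2, 1]),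
    (9482041, [4, 0, 3, 0, 4, 0, 0, 3, 1, 1, 4, 2, 1]),
    (9502021, [3, 1, 3, 2, 1, 1, 4, 4, 2, 1, 1, 3, 0]),
    (9530127, [2, 1, 4, 0, 0, 0, 3, 0, 3, 2]),
    (9561801, [2, 1, 3, 3, 1, 3, 0, 0, 0, 0, 0, 2]),
    (9583833, [0, 3, 1, 2, 0, 0, 4, 0, 0, 4, 2, 1, 4, 1]),
    (9586587, [1, 1, 3, 3, 2, 1, 3, 1, 1, 2, 0, 0, 0, 0]),
    (9596581, [0, 0, 3, 0, 4, 1, 2, 0, 3, 0, 0, 3, 1, 1]),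
    (9620061, [4, 1, 4, 4, 0, 0, 2, 1, 3, 3, 0, 2, 1, 1]),
    (9643861, [2, 0, 0, 4, 2, 1, 3, 2, 0, 3, 2, 1]),
    (9713549, [2, 0, 3, 0, 3, 0, 4, 1, 4, 1, 4, 2]),
    (9718991, [0, 3, 3, 0, 2, 1, 4, 0, 4, 4, 0, 3, 3, 0]),
    (9725425, [1, 4, 0, 0, 4, 4, 1, 4, 4, 1, 4, 2, 1]),
    (9991001, [1, 3, 0, 4, 1, 4, 0, 3, 1, 1, 3, 2, 1]),
    (9995741, [3, 2, 1, 1, 1, 1, 1, 1, 3, 0, 0, 0, 2]),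
    (10053845, [3, 1, 1, 1, 1, 3, 2, 0, 4, 1, 4, 0, 4, 0]),
    (10243861, [0, 0, 4, 4, 1, 4, 4, 1, 4, 1, 2, 1]),
    (10516575, [4, 2, 1, 1, 3, 1, 2, 0, 4, 1, 2, 0, 0, 0]),
    (10522331, [4, 2, 0, 4, 0, 4, 0, 0, 3, 0, 2]),
    (10528741, [2, 1, 1, 3, 0, 0, 3, 1, 1, 4, 0, 0, 2]),
    (10548633, [4, 2, 1, 3, 3, 0, 4, 1, 4, 1, 3, 0, 2]),
    (10570477, [4, 4, 0, 3, 1, 4, 1, 4, 0, 3, 2, 1]),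
    (10576851, [3, 1, 1, 4, 4, 2, 0, 4, 0, 0, 3, 0, 3]),
    (10612245, [1, 4, 0, 4, 2, 1, 4, 1, 1, 4, 1, 1]),
    (10637127, [0, 4, 0, 2, 1, 3, 2, 0, 0, 3, 2, 0, 0]),
    (10643065, [4, 2, 1, 1, 1, 3, 0, 3, 3, 1, 4, 2]),
    (10694537, [4, 4, 0, 0, 0, 0, 2, 1, 4, 4, 1, 1, 4]),
    (10764113, [4, 1, 3, 3, 2, 1, 1, 4, 4, 0, 4, 4, 1]),
    (10775853, [4, 4, 0, 2, 1, 4, 2, 0, 4, 2, 1, 3, 0]),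
    (10799573, [2, 1, 4, 4, 1, 3, 1, 3, 3, 0, 0, 3, 2]),
    (10822877, [2, 0, 4, 4, 0, 4, 2, 0, 3, 0, 3, 0]),
    (11020793, [0, 3, 2, 1, 3, 2, 1, 1, 3, 0, 4, 1, 2, 1]),
    (11041669, [0, 2, 1, 4, 0, 4, 0, 0, 3, 2, 0, 0]),
    (11160733, [4, 1, 2, 0, 3, 3, 2, 0, 0, 3, 1, 3, 0]),
    (11290569, [3, 2, 1, 3, 0, 0, 0, 0, 4, 0, 4, 1, 2]),
    (11546007, [4, 2, 0, 4, 0, 4, 0, 0, 0, 0, 4, 1, 2]),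
    (11556565, [1, 3, 2, 0, 0, 4, 2, 0, 0, 4]),
    (11619673, [2, 0, 4, 1, 4, 0, 3, 3, 1, 3, 0, 4, 2]),
    (11690445, [2, 0, 3, 1, 3, 1, 1, 1, 1, 4, 0, 4, 2]),
    (11823769, [4, 2, 0, 0, 4, 4, 1, 4, 4, 0, 0, 3, 2]),
    (12070477, [4, 1, 1, 4, 1, 4, 0, 3, 3, 0, 3, 1, 2, 1]),
    (12598171, [2, 0, 4, 4, 0, 3, 0, 0, 0, 3, 1, 1, 2]),
    (12610023, [4, 2, 0, 3, 0, 3, 0, 0, 0, 4, 1, 2]),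
    (12629597, [3, 2, 1, 3, 0, 0, 4, 0, 0, 4, 4, 0, 2]),
    (12635423, [4, 0, 4, 1, 3, 3, 2, 0, 0, 0, 3, 3]),
    (12671829, [3, 1, 1, 1, 3, 3, 0, 3, 2, 1, 3, 0]),
    (12692945, [1, 1, 1, 2, 0, 0, 0, 3, 1, 3, 0, 4, 1]),
    (12723645, [3, 0, 4, 1, 2, 0, 0, 0, 2, 1, 1, 2]),
    (12744641, [1, 1, 1, 1, 2, 0, 0, 4, 0, 4, 4, 2, 0, 0]),
    (12807245, [0, 4, 4, 1, 3, 3, 2, 1, 3, 1, 1, 3]),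
    (12847063, [1, 1, 1, 4, 4, 2, 0, 3, 1, 1, 1, 4, 4, 0]),
    (12857065, [2, 0, 3, 1, 1, 1, 1, 3, 1, 3, 1, 3, 2]),
    (12876949, [3, 2, 1, 1, 1, 3, 0, 0, 4, 1, 1, 1, 2]),
    (12936985, [3, 1, 1, 4, 4, 1, 3, 2, 1, 1, 1, 3, 1, 1]),
    (12995469, [2, 1, 1, 1, 1, 3, 0, 0, 3, 1, 1, 2]),
    (13134397, [3, 1, 4, 2, 1, 3, 2, 1, 3, 3, 0, 3, 3]),
    (13160133, [0, 0, 3, 0, 3, 2, 0, 4, 4, 0, 3, 1, 3, 0]),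
    (13181901, [2, 1, 4, 0, 0, 0, 0, 4, 0, 4, 0, 3, 1, 2]),
    (13242201, [1, 1, 2, 1, 1, 4, 4, 1, 3, 1, 1, 3, 0]),
    (13649773, [4, 1, 3, 3, 2, 1, 1, 3, 0, 2, 0, 0, 0]),
    (13659731, [3, 1, 2, 0, 0, 4, 0, 0, 4, 4, 0, 2, 1, 1]),
    (13689749, [0, 4, 4, 1, 4, 0, 0, 0, 4, 4, 2, 1, 3, 0]),
    (13700765, [0, 3, 0, 3, 2, 0, 3, 0, 4, 0, 0, 4, 4]),
    (13904221, [2, 1, 3, 2, 0, 3, 3, 0, 3, 3, 1, 1]),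
    (14183817, [2, 0, 0, 4, 1, 1, 4, 0, 0, 0, 0, 2]),
    (14687693, [3, 0, 4, 4, 0, 0, 2, 1, 4, 0, 2, 1]),
    (14700465, [3, 2, 1, 3, 2, 0, 3, 2, 0, 3, 0, 4, 2, 1]),
    (14706319, [0, 0, 3, 0, 0, 3, 0, 3, 2, 1, 3, 0]),
    (14740297, [2, 0, 3, 0, 0, 0, 0, 0, 0, 0, 3, 1, 2]),
    (14822101, [4, 0, 4, 1, 3, 1, 3, 0, 0, 4, 2, 1]),
    (15230293, [4, 1, 1, 2, 0, 0, 0, 3, 0, 4, 0, 3, 0])]),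
  (12, 28637, [
    (28637, [])])]

open Cfsg.Agent.Lib.Helper1 in
set_option maxRecDepth 1000000 in
theorem cls_ok : cls.all (fun c => certOK ([28637] : List ℕ) ([0] : List ℕ) c.2.1 c.2.2) = true := by decide +kernel

open Cfsg.Agent.Lib.Helper1 in
set_option maxRecDepth 1000000 in
theorem cls_keys : ((allWords gbasis).filter P).all
    (fun n => (cls.map (fun c => c.1)).contains (inv n)) = true := by decide +kernel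

open Cfsg.Agent.Lib.Helper1 in
set_option maxRecDepth 1000000 in
theorem cls_lists : cls.all (fun c => c.2.2.map Prod.fst
    == (allWords gbasis).filter (fun n => P n && inv n == c.1)) = true := by decide +kernel

open Cfsg.Agent.Lib.Helper1 in
open scoped Pointwise in
theorem cls_trans (n n' : ℕ) (hn : n ∈ allWords gbasis) (hP : P n = true)
    (hn' : n' ∈ allWords gbasis) (hP' : P n' = true) (hinv : inv n = inv n') :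
    ∃ g ∈ Cfsg.M24, g • S n = S n' ∧ (∀ f ∈ ([28637] : List ℕ), g • S f = S f)
      ∧ (∀ i ∈ ([0] : List ℕ), g (pt i) = pt i) :=
  classes_trans' P inv ([28637] : List ℕ) ([0] : List ℕ) cls cls_ok cls_keys cls_lists n n' hn hP hn' hP' hinv

open Cfsg.Agent.Lib.Helper1 in
set_option maxRecDepth 1000000 in
theorem cnt4 : ((allWords gbasis).filter (fun n => P n && inv n == 4)).length = 165 := by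
  decide +kernel

open Cfsg.Agent.Lib.Helper1 in
set_option maxRecDepth 1000000 in
theorem cnt8 : ((allWords gbasis).filter (fun n => P n && inv n == 8)).length = 330 := by
  decide +kernel

open Cfsg.Agent.Lib.Helper1 in
set_option maxRecDepth 1000000 in
theorem cnt6 : ((allWords gbasis).filter (fun n => P n && inv n == 6)).length = 792 := by
  decide +kernel

open Cfsg.Agent.Lib.Helper1 in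
theorem base_mem (b : Finset Cfsg.GolayPt) :
    (b ∈ Cfsg.dodecads ∧ pt 0 ∈ b) ↔ ∃ n ∈ allWords gbasis, P n = true ∧ b = S n := by
  constructor
  · rintro ⟨hb, hpts⟩
    obtain ⟨n, hn, h8, rfl⟩ := (mem_dodecads_iff b).1 hb
    refine ⟨n, hn, ?_, rfl⟩
    simp only [pt_mem_S _ _ (show (0 : ℕ) < 24 by norm_num)] at hpts
    simp [P, h8, hpts]
  · rintro ⟨n, hn, hP, rfl⟩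
    simp only [P, Bool.and_eq_true, beq_iff_eq, Bool.not_eq_true'] at hP
    refine ⟨(mem_dodecads_iff _).2 ⟨n, hn, hP.1, rfl⟩, ?_⟩
    simp only [pt_mem_S _ _ (show (0 : ℕ) < 24 by norm_num)]
    simp [hP]

open Cfsg.Agent.Lib.Helper1 in
theorem base_set (k : ℕ) :
    {o' : Finset Cfsg.GolayPt | (o' ∈ Cfsg.dodecads ∧ pt 0 ∈ o') ∧ (S 28637 ∩ o').card = k}
    = {b : Finset Cfsg.GolayPt | ∃ n ∈ allWords gbasis, (P n && inv n == k) = true ∧ b = S n} := by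
  ext b
  simp only [Set.mem_setOf_eq]
  constructor
  · rintro ⟨h1, h3⟩
    obtain ⟨n, hn, hP, rfl⟩ := (base_mem b).1 h1
    rw [S_inter, S_card] at h3
    exact ⟨n, hn, by simp [hP, inv, h3], rfl⟩
  · rintro ⟨n, hn, hP, rfl⟩
    simp only [Bool.and_eq_true, beq_iff_eq] at hP
    refine ⟨(base_mem (S n)).2 ⟨n, hn, hP.1, rfl⟩, ?_⟩
    rw [S_inter, S_card]; exact hP.2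

open Cfsg.Agent.Lib.Helper1 in
open scoped Pointwise in
theorem transport (g : Equiv.Perm Cfsg.GolayPt) (hg : g ∈ Cfsg.M24) (k : ℕ) :
    {o' : Finset Cfsg.GolayPt | (o' ∈ Cfsg.dodecads ∧ g (pt 0) ∈ o') ∧ (g • S 28637 ∩ o').card = k}.ncard
      = {o' : Finset Cfsg.GolayPt | (o' ∈ Cfsg.dodecads ∧ pt 0 ∈ o') ∧ (S 28637 ∩ o').card = k}.ncard := by
  apply ncard_transport g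
  intro b
  simp only [Set.mem_setOf_eq]
  rw [smul_mem_dodecads_iff g⁻¹ (Cfsg.M24.inv_mem hg), card_smul_inter]
  simp only [perm_mem_inv_smul]

open Cfsg.Agent.Lib.Helper1 in
open scoped Pointwise in
theorem base_trans (o' o'' : Finset Cfsg.GolayPt) (ho' : o' ∈ Cfsg.dodecads ∧ pt 0 ∈ o')
    (ho'' : o'' ∈ Cfsg.dodecads ∧ pt 0 ∈ o'')
    (h : (S 28637 ∩ o').card = (S 28637 ∩ o'').card) :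
    ∃ g ∈ Cfsg.M24, g • S 28637 = S 28637 ∧ g • o' = o'' ∧ ∀ i ∈ ([0] : List ℕ), g (pt i) = pt i := by
  obtain ⟨n, hn, hP, rfl⟩ := (base_mem o').1 ho'
  obtain ⟨n', hn', hP', rfl⟩ := (base_mem o'').1 ho''
  rw [S_inter, S_card, S_inter, S_card] at h
  obtain ⟨g, hg, h1, h2, h3⟩ := cls_trans n n' hn hP hn' hP' h
  exact ⟨g, hg, h2 28637 (by simp), h1, h3⟩

open Cfsg.Agent.Lib.Helper1 in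
open scoped Pointwise in
/-- The transitivity statement transported to the image configuration under `g`. -/
theorem gen_trans (g : Equiv.Perm Cfsg.GolayPt) (hg : g ∈ Cfsg.M24) (o' o'' : Finset Cfsg.GolayPt)
    (ho' : o' ∈ Cfsg.dodecads ∧ g (pt 0) ∈ o') (ho'' : o'' ∈ Cfsg.dodecads ∧ g (pt 0) ∈ o'')
    (h : (g • S 28637 ∩ o').card = (g • S 28637 ∩ o'').card) :
    ∃ k ∈ Cfsg.M24, k • (g • S 28637) = g • S 28637 ∧ k • o' = o''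
      ∧ ∀ i ∈ ([0] : List ℕ), k (g (pt i)) = g (pt i) := by
  have hinv := Cfsg.M24.inv_mem hg
  rw [card_smul_inter, card_smul_inter] at h
  have h1 : g⁻¹ • o' ∈ Cfsg.dodecads ∧ pt 0 ∈ g⁻¹ • o' := by
    rw [smul_mem_dodecads_iff g⁻¹ hinv]
    simp only [perm_mem_inv_smul]
    exact ho'
  have h2 : g⁻¹ • o'' ∈ Cfsg.dodecads ∧ pt 0 ∈ g⁻¹ • o'' := by
    rw [smul_mem_dodecads_iff g⁻¹ hinv]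
    simp only [perm_mem_inv_smul]
    exact ho''
  obtain ⟨k, hk, k1, k2, k3⟩ := base_trans (g⁻¹ • o') (g⁻¹ • o'') h1 h2 h
  refine ⟨g * k * g⁻¹, Cfsg.M24.mul_mem (Cfsg.M24.mul_mem hg hk) hinv, ?_, ?_, ?_⟩
  · rw [mul_smul, mul_smul, inv_smul_smul, k1]
  · rw [mul_smul, mul_smul, k2, smul_inv_smul]
  · intro i hi
    simp [k3 i hi]
/-- The point stabiliser acts on the 1288 dodecads through the point with rank 4 and subdegrees 1, 165, 330, 792, distinguished by intersection 4, 8, 6 with the fixed dodecad. -/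
theorem result (x : Cfsg.GolayPt) (d : Finset Cfsg.GolayPt) (hd : d ∈ Cfsg.dodecads) (hx : x ∈ d) : {d' : Finset Cfsg.GolayPt | d' ∈ Cfsg.dodecads ∧ x ∈ d' ∧ (d ∩ d').card = 4}.ncard = 165 ∧ {d' : Finset Cfsg.GolayPt | d' ∈ Cfsg.dodecads ∧ x ∈ d' ∧ (d ∩ d').card = 8}.ncard = 330 ∧ {d' : Finset Cfsg.GolayPt | d' ∈ Cfsg.dodecads ∧ x ∈ d' ∧ (d ∩ d').card = 6}.ncard = 792 ∧ ∀ d' d'' : Finset Cfsg.GolayPt, d' ∈ Cfsg.dodecads → d'' ∈ Cfsg.dodecads → x ∈ d' → x ∈ d'' → (d ∩ d').card = (d ∩ d'').card → ∃ g : Equiv.Perm Cfsg.GolayPt, g ∈ Cfsg.M24 ∧ g x = x ∧ g • d = d ∧ g • d' = d'' := by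
  obtain ⟨g, hg, rfl, rfl⟩ := Cfsg.Agent.S0387.flag_reach d hd x hx
  have e : ∀ k : ℕ, {d' : Finset Cfsg.GolayPt | d' ∈ Cfsg.dodecads ∧ g (Cfsg.Agent.Lib.Helper1.pt 0) ∈ d'
      ∧ (g • Cfsg.Agent.Lib.Helper1.S 28637 ∩ d').card = k}
      = {o' : Finset Cfsg.GolayPt | (o' ∈ Cfsg.dodecads ∧ g (Cfsg.Agent.Lib.Helper1.pt 0) ∈ o')
      ∧ (g • Cfsg.Agent.Lib.Helper1.S 28637 ∩ o').card = k} := by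
    intro k
    ext x
    simp only [Set.mem_setOf_eq, and_assoc]
  refine ⟨?_, ?_, ?_, ?_⟩
  · rw [e 4, transport g hg 4, base_set 4, Cfsg.Agent.Lib.Helper1.ncard_filter]
    exact cnt4
  · rw [e 8, transport g hg 8, base_set 8, Cfsg.Agent.Lib.Helper1.ncard_filter]
    exact cnt8
  · rw [e 6, transport g hg 6, base_set 6, Cfsg.Agent.Lib.Helper1.ncard_filter]
    exact cnt6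
  · intro d' d'' hd' hd'' hx' hx'' hcard
    obtain ⟨k, hk, k1, k2, k3⟩ := gen_trans g hg d' d'' ⟨hd', hx'⟩ ⟨hd'', hx''⟩ hcard
    exact ⟨k, hk, k3 0 (by simp), k1, k2⟩

end Cfsg.Agent.S1639
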