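import Cfsg.Statements.S1907
import Mathlib
import Cfsg.Agent.Lib.Helper3.Frat

set_option autoImplicit false
open Cfsg

namespace Cfsg.Agent.S1907

open Cfsg.Agent.Lib.Helper3

/-- Let P be a Sylow p-subgroup of a finite group G, H = P ∩ O_{p',p}(G), N = N_G(H) and D = O_{p'}(G). (a) If y is an element of p-power order of N and d ∈ D with d⁻¹ y d ∈ N, then d = d₁ d₂ with d₁ ∈ C_D(y) and d₂ ∈ C_D(H). (b) Two elements of P that are conjugate in G are conjugate in N. -/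
theorem result {G : Type*} [Group G] [Finite G] {p : ℕ} [Fact p.Prime] (P : Sylow p G) :
    (∀ y ∈ Subgroup.normalizer (((P : Subgroup G) ⊓ Cfsg.pPrimePCore p G : Subgroup G) : Set G), (∃ k : ℕ, orderOf y = p ^ k) →
      ∀ d ∈ Cfsg.pPrimeCore p G, d⁻¹ * y * d ∈ Subgroup.normalizer (((P : Subgroup G) ⊓ Cfsg.pPrimePCore p G : Subgroup G) : Set G) →
        ∃ d₁ ∈ Cfsg.pPrimeCore p G ⊓ Subgroup.centralizer ({y} : Set G),
          ∃ d₂ ∈ Cfsg.pPrimeCore p G ⊓ Subgroup.centralizer (((P : Subgroup G) ⊓ Cfsg.pPrimePCore p G : Subgroup G) : Set G), d = d₁ * d₂) ∧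
    ∀ x y : G, x ∈ (P : Subgroup G) → y ∈ (P : Subgroup G) → IsConj x y →
      ∃ n ∈ Subgroup.normalizer (((P : Subgroup G) ⊓ Cfsg.pPrimePCore p G : Subgroup G) : Set G), n * x * n⁻¹ = y := by
  classical
  have hp : p.Prime := Fact.out
  set D := Cfsg.pPrimeCore p G with hD
  set K := Cfsg.pPrimePCore p G with hK
  set H : Subgroup G := (P : Subgroup G) ⊓ K with hH
  set N : Subgroup G := Subgroup.normalizer (H : Set G) with hN
  have hDn : D.Normal := inferInstance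
  have hKn : K.Normal := pPrimePCore_normal p G
  have hDc : (Nat.card ↥D).Coprime p := pPrimeCore_coprime hp G
  have hHp : IsPGroup p ↥H := P.isPGroup'.to_le inf_le_left
  have hPN : (P : Subgroup G) ≤ N := by
    intro g hg
    apply mem_normalizer_of_map_conj_le
    rintro _ ⟨q, hq, rfl⟩
    exact Subgroup.mem_inf.mpr ⟨mul_mem (mul_mem hg (Subgroup.mem_inf.mp hq).1) (inv_mem hg),
      hKn.conj_mem q (Subgroup.mem_inf.mp hq).2 g⟩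
  -- D ∩ N centralizes H
  have hDNC : D ⊓ N ≤ Subgroup.centralizer (H : Set G) := by
    intro x hx
    rw [Subgroup.mem_centralizer_iff]
    intro h hh
    have hxD := (Subgroup.mem_inf.mp hx).1
    have hxN := (Subgroup.mem_inf.mp hx).2
    have h1 : x * h * x⁻¹ * h⁻¹ ∈ H :=
      mul_mem ((Subgroup.mem_normalizer_iff.mp hxN h).mp hh) (inv_mem hh)
    have h2 : x * h * x⁻¹ * h⁻¹ ∈ D := by
      have : x * h * x⁻¹ * h⁻¹ = x * (h * x⁻¹ * h⁻¹) := by group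
      rw [this]
      exact mul_mem hxD (hDn.conj_mem _ (inv_mem hxD) h)
    have h3 : x * h * x⁻¹ * h⁻¹ ∈ H ⊓ D := Subgroup.mem_inf.mpr ⟨h1, h2⟩
    rw [disjoint_of_isPGroup_of_coprime H D hHp hDc, Subgroup.mem_bot] at h3
    calc h * x = (x * h * x⁻¹ * h⁻¹)⁻¹ * (x * h) := by group
      _ = x * h := by rw [h3]; group
  have partA : ∀ y ∈ N, (∃ k : ℕ, orderOf y = p ^ k) → ∀ d ∈ D, d⁻¹ * y * d ∈ N →
      ∃ d₁ ∈ D ⊓ Subgroup.centralizer ({y} : Set G),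
        ∃ d₂ ∈ D ⊓ Subgroup.centralizer (H : Set G), d = d₁ * d₂ := by
    intro y hy ⟨k, hk⟩ d hd hyd
    set D₀ : Subgroup G := D ⊓ N with hD₀
    set Y : Subgroup G := Subgroup.zpowers y with hY
    have hYp : IsPGroup p ↥Y := IsPGroup.of_card (n := k) (by rw [hY, Nat.card_zpowers, hk])
    have hD₀c : (Nat.card ↥D₀).Coprime p :=
      Nat.Coprime.coprime_dvd_left (Subgroup.card_dvd_of_le inf_le_left) hDc
    have hYD₀ : Y ≤ Subgroup.normalizer (D₀ : Set G) := by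
      rw [hY, Subgroup.zpowers_le, Subgroup.mem_normalizer_iff]
      intro x
      constructor
      · intro hx
        exact Subgroup.mem_inf.mpr ⟨hDn.conj_mem x (Subgroup.mem_inf.mp hx).1 y,
          mul_mem (mul_mem hy (Subgroup.mem_inf.mp hx).2) (inv_mem hy)⟩
      · intro hx
        have e : x = y⁻¹ * (y * x * y⁻¹) * y⁻¹⁻¹ := by group
        rw [e]
        exact Subgroup.mem_inf.mpr ⟨hDn.conj_mem _ (Subgroup.mem_inf.mp hx).1 y⁻¹,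
          mul_mem (mul_mem (inv_mem hy) (Subgroup.mem_inf.mp hx).2) (inv_mem (inv_mem hy))⟩
    have hzD₀ : y⁻¹ * (d⁻¹ * y * d) ∈ D₀ := by
      refine Subgroup.mem_inf.mpr ⟨?_, mul_mem (inv_mem hy) hyd⟩
      have e : y⁻¹ * (d⁻¹ * y * d) = (y⁻¹ * d⁻¹ * y⁻¹⁻¹) * d := by group
      rw [e]
      exact mul_mem (hDn.conj_mem _ (inv_mem hd) y⁻¹) hd
    have hy'eq : d⁻¹ * y * d = y * (y⁻¹ * (d⁻¹ * y * d)) := by group
    have hordy' : orderOf (d⁻¹ * y * d) = p ^ k := by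
      rw [← hk]
      have := MulEquiv.orderOf_eq (MulAut.conj d⁻¹) y
      simpa [MulAut.conj_apply] using this
    have hY'p : IsPGroup p ↥(Subgroup.zpowers (d⁻¹ * y * d)) :=
      IsPGroup.of_card (n := k) (by rw [Nat.card_zpowers, hordy'])
    have hY'X : Subgroup.zpowers (d⁻¹ * y * d) ≤ Y ⊔ D₀ := by
      rw [Subgroup.zpowers_le, hy'eq]
      exact mul_mem (Subgroup.mem_sup_left (Subgroup.mem_zpowers y)) (Subgroup.mem_sup_right hzD₀)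
    obtain ⟨n, hn, hnY⟩ := exists_conj_mem_of_relIndex Y (Y ⊔ D₀) _ hYp
      (not_dvd_relIndex_sup Y D₀ hYD₀ hYp hD₀c) hY'p hY'X
    obtain ⟨u, hu, d₀, hd₀, rfl⟩ := exists_mul_of_mem_sup_of_le_normalizer Y D₀ hYD₀ hn
    have h1 : d₀ * (d⁻¹ * y * d) * d₀⁻¹ ∈ Y := by
      have := hnY _ (Subgroup.mem_zpowers (d⁻¹ * y * d))
      have e : d₀ * (d⁻¹ * y * d) * d₀⁻¹ = u⁻¹ * (u * d₀ * (d⁻¹ * y * d) * (u * d₀)⁻¹) * u := by group
      rw [e]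
      exact mul_mem (mul_mem (inv_mem hu) this) hu
    have h2 : y⁻¹ * (d₀ * (d⁻¹ * y * d) * d₀⁻¹) ∈ D₀ := by
      have e : y⁻¹ * (d₀ * (d⁻¹ * y * d) * d₀⁻¹) =
          (y⁻¹ * d₀ * y⁻¹⁻¹) * (y⁻¹ * (d⁻¹ * y * d)) * d₀⁻¹ := by group
      rw [e]
      refine mul_mem (mul_mem ?_ hzD₀) (inv_mem hd₀)
      exact (Subgroup.mem_normalizer_iff.mp (hYD₀ (inv_mem (Subgroup.mem_zpowers y))) d₀).mp hd₀
    have h3 : y⁻¹ * (d₀ * (d⁻¹ * y * d) * d₀⁻¹) ∈ Y ⊓ D₀ :=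
      Subgroup.mem_inf.mpr ⟨mul_mem (inv_mem (Subgroup.mem_zpowers y)) h1, h2⟩
    rw [disjoint_of_isPGroup_of_coprime Y D₀ hYp hD₀c, Subgroup.mem_bot] at h3
    have h4 : d₀ * (d⁻¹ * y * d) * d₀⁻¹ = y := by
      calc d₀ * (d⁻¹ * y * d) * d₀⁻¹ = y * (y⁻¹ * (d₀ * (d⁻¹ * y * d) * d₀⁻¹)) := by group
        _ = y := by rw [h3, mul_one]
    refine ⟨d * d₀⁻¹, Subgroup.mem_inf.mpr ⟨mul_mem hd (inv_mem (Subgroup.mem_inf.mp hd₀).1), ?_⟩,
      d₀, Subgroup.mem_inf.mpr ⟨(Subgroup.mem_inf.mp hd₀).1, hDNC hd₀⟩, by group⟩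
    rw [Subgroup.mem_centralizer_iff]
    intro h hh
    rw [Set.mem_singleton_iff] at hh
    rw [hh]
    calc y * (d * d₀⁻¹) = d * (d⁻¹ * y * d) * d₀⁻¹ := by group
      _ = d * d₀⁻¹ * (d₀ * (d⁻¹ * y * d) * d₀⁻¹) := by group
      _ = d * d₀⁻¹ * y := by rw [h4]
  refine ⟨partA, ?_⟩
  intro x y hx hy hconj
  obtain ⟨c, hc⟩ := isConj_iff.mp hconj
  obtain ⟨d, hd, n, hn, rfl⟩ := frattini_pPrimePCore P c
  have hx₁N : n * x * n⁻¹ ∈ N := mul_mem (mul_mem hn (hPN hx)) (inv_mem hn)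
  have hord : ∃ k : ℕ, orderOf (n * x * n⁻¹) = p ^ k := by
    obtain ⟨k, hk⟩ := P.isPGroup' ⟨x, hx⟩
    have h1 : x ^ p ^ k = 1 := by simpa using congrArg Subtype.val hk
    have h2 : orderOf (n * x * n⁻¹) = orderOf x := by
      have := MulEquiv.orderOf_eq (MulAut.conj n) x
      simpa [MulAut.conj_apply] using this
    rw [h2]
    obtain ⟨j, -, hj⟩ := (Nat.dvd_prime_pow hp).mp (orderOf_dvd_of_pow_eq_one h1)
    exact ⟨j, hj⟩
  have hy' : (d⁻¹)⁻¹ * (n * x * n⁻¹) * d⁻¹ ∈ N := by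
    have e : (d⁻¹)⁻¹ * (n * x * n⁻¹) * d⁻¹ = y := by rw [← hc]; group
    rw [e]; exact hPN hy
  obtain ⟨d₁, hd₁, d₂, hd₂, hdd⟩ := partA (n * x * n⁻¹) hx₁N hord d⁻¹ (inv_mem hd) hy'
  refine ⟨d₂⁻¹ * n,
    mul_mem (inv_mem (Subgroup.centralizer_le_normalizer _ (Subgroup.mem_inf.mp hd₂).2)) hn, ?_⟩
  have hcomm : (n * x * n⁻¹) * d₁ = d₁ * (n * x * n⁻¹) :=
    (Subgroup.mem_centralizer_iff.mp (Subgroup.mem_inf.mp hd₁).2) _ (Set.mem_singleton _)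
  have hd' : d = d₂⁻¹ * d₁⁻¹ := by
    have := inv_eq_iff_eq_inv.mp hdd
    rwa [mul_inv_rev] at this
  calc d₂⁻¹ * n * x * (d₂⁻¹ * n)⁻¹ = d₂⁻¹ * (d₁⁻¹ * (d₁ * (n * x * n⁻¹))) * d₂ := by group
    _ = d₂⁻¹ * (d₁⁻¹ * ((n * x * n⁻¹) * d₁)) * d₂ := by rw [hcomm]
    _ = (d₂⁻¹ * d₁⁻¹) * n * x * ((d₂⁻¹ * d₁⁻¹) * n)⁻¹ := by group
    _ = d * n * x * (d * n)⁻¹ := by rw [← hd']
    _ = y := hc

end Cfsg.Agent.S1907
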