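import Cfsg.Statements.S1921
import Mathlib
import Cfsg.Agent.Lib.Helper2.Layer
import Cfsg.Agent.Lib.Helper2.Layer2
import Cfsg.Agent.Lib.Helper2.Quasi

set_option autoImplicit false
open Cfsg

namespace Cfsg.Agent.S1921

/-- Let a be an involution of a finite group H and L a component of H with a L a⁻¹ ≠ L; put M = ⟨L, aLa⁻¹⟩ and let J be the subgroup generated by the elements x · a x a⁻¹ with x ∈ L (the diagonal). Then every element of M outside J·Z(M) generates M together with J. -/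
theorem result {H : Type*} [Group H] [Finite H] (a : H) (ha : orderOf a = 2) (L : Subgroup H) (hL : Cfsg.IsComponent L)
    (hLa : L.map (MulAut.conj a).toMonoidHom ≠ L) (x : H) (hxM : x ∈ L ⊔ L.map (MulAut.conj a).toMonoidHom)
    (hxJ : x ∉ Subgroup.closure {y : H | ∃ l ∈ L, y = l * (a * l * a⁻¹)} ⊔
      ((L ⊔ L.map (MulAut.conj a).toMonoidHom) ⊓ Subgroup.centralizer ((L ⊔ L.map (MulAut.conj a).toMonoidHom : Subgroup H) : Set H))) :
    Subgroup.closure {y : H | ∃ l ∈ L, y = l * (a * l * a⁻¹)} ⊔ Subgroup.zpowers x = L ⊔ L.map (MulAut.conj a).toMonoidHom := by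
  set L' : Subgroup H := L.map (MulAut.conj a).toMonoidHom with hL'def
  set J : Subgroup H := Subgroup.closure {y : H | ∃ l ∈ L, y = l * (a * l * a⁻¹)} with hJdef
  have hL' : Cfsg.IsComponent L' := Cfsg.Agent.Lib.Helper2.isComponent_conj L hL a
  have hcomm : ∀ l ∈ L, ∀ l' ∈ L', l * l' = l' * l := by
    intro l hl l' hl'
    have h1 := Cfsg.Agent.Lib.Helper2.components_commute L L' hL hL' (Ne.symm hLa)
    exact (Subgroup.mem_centralizer_iff.mp (h1 hl) l' hl').symm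
  have hconjmem : ∀ l ∈ L, a * l * a⁻¹ ∈ L' := fun l hl => ⟨l, hl, by simp [MulAut.conj_apply]⟩
  have hJgen : ∀ l ∈ L, l * (a * l * a⁻¹) ∈ J := fun l hl => Subgroup.subset_closure ⟨l, hl, rfl⟩
  have hJM : J ≤ L ⊔ L' := by
    rw [hJdef, Subgroup.closure_le]
    rintro _ ⟨l, hl, rfl⟩
    exact Subgroup.mul_mem _ (Subgroup.mem_sup_left hl) (Subgroup.mem_sup_right (hconjmem l hl))
  apply le_antisymm
  · exact sup_le hJM ((Subgroup.zpowers_le).mpr hxM)
  · obtain ⟨l₁, hl₁, l₂', hl₂', hx⟩ := Cfsg.Agent.Lib.Helper2.mem_sup_of_commute L L' hcomm x hxM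
    obtain ⟨u, hu, hue⟩ := hl₂'
    have hue' : l₂' = a * u * a⁻¹ := by rw [← hue]; simp [MulAut.conj_apply]
    set Hx : Subgroup H := J ⊔ Subgroup.zpowers x with hHxdef
    have hJH : J ≤ Hx := le_sup_left
    have hxH : x ∈ Hx := Subgroup.mem_sup_right (Subgroup.mem_zpowers x)
    have hlL : l₁ * u⁻¹ ∈ L := L.mul_mem hl₁ (L.inv_mem hu)
    have hxl : x = (l₁ * u⁻¹) * (u * (a * u * a⁻¹)) := by rw [hx, hue']; group
    have hlH : l₁ * u⁻¹ ∈ Hx := by
      have : l₁ * u⁻¹ = x * (u * (a * u * a⁻¹))⁻¹ := by rw [hxl]; group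
      rw [this]
      exact Hx.mul_mem hxH (Hx.inv_mem (hJH (hJgen u hu)))
    have hlnc : ¬ ∀ y ∈ L, y * (l₁ * u⁻¹) = (l₁ * u⁻¹) * y := by
      intro hc
      apply hxJ
      have hlZ : l₁ * u⁻¹ ∈ (L ⊔ L') ⊓ Subgroup.centralizer ((L ⊔ L' : Subgroup H) : Set H) := by
        refine Subgroup.mem_inf.mpr ⟨Subgroup.mem_sup_left hlL, ?_⟩
        rw [Subgroup.mem_centralizer_iff]
        intro m hm
        obtain ⟨m₁, hm₁, m₂, hm₂, rfl⟩ :=
          Cfsg.Agent.Lib.Helper2.mem_sup_of_commute L L' hcomm m hm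
        rw [mul_assoc, ← hcomm _ hlL m₂ hm₂, ← mul_assoc, hc m₁ hm₁, mul_assoc]
      have h2 : x ∈ J ⊔ ((L ⊔ L') ⊓ Subgroup.centralizer ((L ⊔ L' : Subgroup H) : Set H)) := by
        rw [hxl]
        exact Subgroup.mul_mem _ (Subgroup.mem_sup_right hlZ) (Subgroup.mem_sup_left (hJgen u hu))
      exact h2
    have hconj : ∀ y ∈ L, ∀ n ∈ L,
        y * n * y⁻¹ = (y * (a * y * a⁻¹)) * n * (y * (a * y * a⁻¹))⁻¹ := by
      intro y hy n hn
      have h1 := hcomm n hn (a * y * a⁻¹) (hconjmem y hy)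
      calc y * n * y⁻¹ = y * (n * (a * y * a⁻¹)) * (a * y * a⁻¹)⁻¹ * y⁻¹ := by group
        _ = y * ((a * y * a⁻¹) * n) * (a * y * a⁻¹)⁻¹ * y⁻¹ := by rw [h1]
        _ = (y * (a * y * a⁻¹)) * n * (y * (a * y * a⁻¹))⁻¹ := by group
    have hN : ((Hx ⊓ L).subgroupOf L).Normal := by
      refine ⟨fun n hn y => ?_⟩
      rw [Subgroup.mem_subgroupOf] at hn ⊢
      refine Subgroup.mem_inf.mpr ⟨?_, (y * n * y⁻¹).2⟩
      have h3 := hconj y y.2 n n.2
      have h4 : ((y * n * y⁻¹ : ↥L) : H) = (y : H) * (n : H) * (y : H)⁻¹ := by simp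
      rw [h4, h3]
      exact Hx.mul_mem (Hx.mul_mem (hJH (hJgen y y.2)) (Subgroup.mem_inf.mp hn).1)
        (Hx.inv_mem (hJH (hJgen y y.2)))
    rcases Cfsg.Agent.Lib.Helper2.quasisimple_normal hL.2 ((Hx ⊓ L).subgroupOf L) with h | h
    · have hLH : L ≤ Hx := by
        intro y hy
        have : (⟨y, hy⟩ : ↥L) ∈ (Hx ⊓ L).subgroupOf L := by rw [h]; exact Subgroup.mem_top _
        exact (Subgroup.mem_inf.mp (Subgroup.mem_subgroupOf.mp this)).1
      apply sup_le hLH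
      rintro _ ⟨v, hv, rfl⟩
      have h1 := hJH (hJgen v hv)
      have : (MulAut.conj a).toMonoidHom v = v⁻¹ * (v * (a * v * a⁻¹)) := by
        simp [MulAut.conj_apply]
      rw [this]
      exact Hx.mul_mem (Hx.inv_mem (hLH hv)) h1
    · exfalso
      apply hlnc
      intro y hy
      have hl' : (⟨l₁ * u⁻¹, hlL⟩ : ↥L) ∈ (Hx ⊓ L).subgroupOf L :=
        Subgroup.mem_subgroupOf.mpr (Subgroup.mem_inf.mpr ⟨hlH, hlL⟩)
      have := Subgroup.mem_center_iff.mp (h hl') ⟨y, hy⟩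
      exact congrArg Subtype.val this

end Cfsg.Agent.S1921
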