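import Cfsg.Statements.S1944
import Mathlib
import Cfsg.Agent.Lib.Helper3.Trace
import Cfsg.Agent.S1907

set_option autoImplicit false
open Cfsg

namespace Cfsg.Agent.S1944

open Cfsg.Agent.Lib.Helper3

/-- Let S be a Sylow p-subgroup of the finite group G and suppose that the centre Z(S) lies in O_{p',p}(G). The elements of S each of which is its only G-conjugate in S form a subgroup W of Z(S); W is then a direct factor of Z(S): there is a subgroup K of Z(S) with W ∩ K = 1 and WK = Z(S). -/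
theorem result {G : Type*} [Group G] [Finite G] {p : ℕ} [Fact p.Prime] (S : Sylow p G)
    (hZ : ((S : Subgroup G) ⊓ Subgroup.centralizer ((S : Subgroup G) : Set G)) ≤ Cfsg.pPrimePCore p G) :
    ∃ W K : Subgroup G, (∀ x : G, x ∈ W ↔ (x ∈ (S : Subgroup G) ∧ ∀ g : G, g * x * g⁻¹ ∈ (S : Subgroup G) → g * x * g⁻¹ = x)) ∧
      K ≤ ((S : Subgroup G) ⊓ Subgroup.centralizer ((S : Subgroup G) : Set G)) ∧ W ⊓ K = ⊥ ∧ W ⊔ K = ((S : Subgroup G) ⊓ Subgroup.centralizer ((S : Subgroup G) : Set G)) := by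
  classical
  have hp : p.Prime := Fact.out
  set K := Cfsg.pPrimePCore p G with hK
  have hKn : K.Normal := pPrimePCore_normal p G
  set Z : Subgroup G := (S : Subgroup G) ⊓ Subgroup.centralizer ((S : Subgroup G) : Set G) with hZdef
  set H : Subgroup G := (S : Subgroup G) ⊓ K with hH
  set N : Subgroup G := Subgroup.normalizer (H : Set G) with hN
  set B : Subgroup G := H ⊓ Subgroup.centralizer (H : Set G) with hB
  have hHS : H ≤ S := inf_le_left
  have hSN : (S : Subgroup G) ≤ N := by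
    intro g hg
    apply mem_normalizer_of_map_conj_le
    rintro _ ⟨q, hq, rfl⟩
    exact Subgroup.mem_inf.mpr ⟨mul_mem (mul_mem hg (Subgroup.mem_inf.mp hq).1) (inv_mem hg),
      hKn.conj_mem q (Subgroup.mem_inf.mp hq).2 g⟩
  have hidx : ¬ p ∣ (S : Subgroup G).relIndex N :=
    fun h => S.not_dvd_index (dvd_trans h (Subgroup.relIndex_dvd_index_of_le hSN))
  have hBp : IsPGroup p ↥B := S.isPGroup'.to_le (inf_le_left.trans hHS)
  have hBcomm : ∀ a ∈ B, ∀ b ∈ B, a * b = b * a := by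
    intro a ha b hb
    exact (Subgroup.mem_centralizer_iff.mp (Subgroup.mem_inf.mp hb).2) a (Subgroup.mem_inf.mp ha).1
  have hNB : N ≤ Subgroup.normalizer (B : Set G) := by
    intro n hn
    apply mem_normalizer_of_map_conj_le
    rintro _ ⟨b, hb, rfl⟩
    refine Subgroup.mem_inf.mpr ⟨(Subgroup.mem_normalizer_iff.mp hn b).mp (Subgroup.mem_inf.mp hb).1, ?_⟩
    exact conj_mem_centralizer_of_mem_normalizer H n b hn (Subgroup.mem_inf.mp hb).2
  have hZB : B ⊓ Subgroup.centralizer ((S : Subgroup G) : Set G) = Z := by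
    apply le_antisymm
    · exact inf_le_inf_right _ (inf_le_left.trans hHS)
    · intro x hx
      have hxS := (Subgroup.mem_inf.mp hx).1
      have hxC := (Subgroup.mem_inf.mp hx).2
      refine Subgroup.mem_inf.mpr ⟨Subgroup.mem_inf.mpr ⟨Subgroup.mem_inf.mpr ⟨hxS, hZ hx⟩, ?_⟩, hxC⟩
      exact Subgroup.centralizer_le (fun y hy => hHS hy) hxC
  obtain ⟨K', hK'le, hdisj, hsup⟩ :=
    exists_complement_fixed N (S : Subgroup G) B hSN hidx hBp hBcomm hNB
  rw [hZB] at hK'le hsup
  refine ⟨B ⊓ Subgroup.centralizer (N : Set G), K', ?_, hK'le, hdisj, hsup⟩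
  intro x
  constructor
  · intro hx
    obtain ⟨hxB, hxN⟩ := Subgroup.mem_inf.mp hx
    have hxS : x ∈ (S : Subgroup G) := hHS (Subgroup.mem_inf.mp hxB).1
    refine ⟨hxS, fun g hg => ?_⟩
    obtain ⟨n, hn, hnx⟩ := (Cfsg.Agent.S1907.result S).2 x (g * x * g⁻¹) hxS hg
      (isConj_iff.mpr ⟨g, rfl⟩)
    rw [← hnx]
    have := (Subgroup.mem_centralizer_iff.mp hxN) n hn
    rw [this]; group
  · rintro ⟨hxS, hxw⟩
    have hxZ : x ∈ Z := by
      refine Subgroup.mem_inf.mpr ⟨hxS, ?_⟩
      rw [Subgroup.mem_centralizer_iff]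
      intro s hs
      have := hxw s (mul_mem (mul_mem hs hxS) (inv_mem hs))
      calc s * x = (s * x * s⁻¹) * s := by group
        _ = x * s := by rw [this]
    have hxB : x ∈ B := by rw [← hZB] at hxZ; exact (Subgroup.mem_inf.mp hxZ).1
    refine Subgroup.mem_inf.mpr ⟨hxB, ?_⟩
    rw [Subgroup.mem_centralizer_iff]
    intro n hn
    have hxH : x ∈ H := (Subgroup.mem_inf.mp hxB).1
    have h1 : n * x * n⁻¹ ∈ H := (Subgroup.mem_normalizer_iff.mp hn x).mp hxH
    have := hxw n (hHS h1)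
    calc n * x = (n * x * n⁻¹) * n := by group
      _ = x * n := by rw [this]

end Cfsg.Agent.S1944
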