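import Cfsg.Statements.S1946
import Mathlib
import Cfsg.Agent.Lib.Helper3.HallHigman
import Cfsg.Agent.Lib.Lead.PNilp

set_option autoImplicit false
open Cfsg

namespace Cfsg.Agent.S1946

open Cfsg.Agent.Lib.Helper3

/-- Let P be a Sylow p-subgroup of the finite group G. Then G has a normal p-complement if and only if P controls the fusion of its elements of order dividing p (dividing 4 when p = 2): whenever such an element a of P has a G-conjugate g a g⁻¹ in P, that conjugate is already x a x⁻¹ for some x in P. -/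
theorem result {G : Type*} [Group G] [Finite G] {p : ℕ} [Fact p.Prime] (P : Sylow p G) :
    Cfsg.HasNormalPComplement p G ↔
      ∀ a ∈ (P : Subgroup G), (a ^ p = 1 ∨ (p = 2 ∧ a ^ 4 = 1)) → ∀ g : G, g * a * g⁻¹ ∈ (P : Subgroup G) →
        ∃ x ∈ (P : Subgroup G), g * a * g⁻¹ = x * a * x⁻¹ := by
  classical
  have hp : p.Prime := Fact.out
  constructor
  · rintro ⟨P', N, hNn, hNc⟩ a ha _ g hg
    -- N is a normal p'-subgroup with G = P N
    have hcard := hNc.card_mul_card
    have hNcop : (Nat.card ↥N).Coprime p := by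
      have h1 : Nat.card ↥N = (P' : Subgroup G).index := by
        have h2 := (P' : Subgroup G).card_mul_index
        have h3 : Nat.card ↥N * Nat.card ↥(P' : Subgroup G) =
            (P' : Subgroup G).index * Nat.card ↥(P' : Subgroup G) := by
          rw [hcard, mul_comm, h2]
        exact Nat.eq_of_mul_eq_mul_right Nat.card_pos h3
      rw [h1]
      exact ((Nat.Prime.coprime_iff_not_dvd hp).mpr P'.not_dvd_index).symm
    have hPN : (P : Subgroup G) ≤ Subgroup.normalizer (N : Set G) := by
      rw [Subgroup.normalizer_eq_top_iff.mpr hNn]; exact le_top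
    have hdisj : (P : Subgroup G) ⊓ N = ⊥ :=
      disjoint_of_isPGroup_of_coprime (P : Subgroup G) N P.isPGroup' hNcop
    have htop : (P : Subgroup G) ⊔ N = ⊤ := by
      apply (Subgroup.card_eq_iff_eq_top _).mp
      obtain ⟨k, hk⟩ := IsPGroup.iff_card.mp P.isPGroup'
      have hcop : (Nat.card ↥(P : Subgroup G)).Coprime (Nat.card ↥N) := by
        rw [hk]; exact (Nat.Coprime.pow_right k hNcop).symm
      rw [card_sup_of_coprime (P : Subgroup G) N hPN hcop, ← hcard, mul_comm]
      congr 1
      exact Sylow.card_eq_multiplicity P ▸ (Sylow.card_eq_multiplicity P').symm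
    have hgmem : g ∈ (P : Subgroup G) ⊔ N := by rw [htop]; exact Subgroup.mem_top g
    obtain ⟨x, hx, k, hk, rfl⟩ := exists_mul_of_mem_sup_of_le_normalizer (P : Subgroup G) N hPN hgmem
    refine ⟨x, hx, ?_⟩
    have h1 : k * a * k⁻¹ * a⁻¹ ∈ N := by
      have : k * a * k⁻¹ * a⁻¹ = k * (a * k⁻¹ * a⁻¹) := by group
      rw [this]
      exact mul_mem hk (hNn.conj_mem _ (inv_mem hk) a)
    have h2 : k * a * k⁻¹ * a⁻¹ ∈ (P : Subgroup G) := by
      have : k * a * k⁻¹ * a⁻¹ = x⁻¹ * (x * k * a * (x * k)⁻¹) * x * a⁻¹ := by group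
      rw [this]
      exact mul_mem (mul_mem (mul_mem (inv_mem hx) hg) hx) (inv_mem ha)
    have h3 : k * a * k⁻¹ * a⁻¹ ∈ (P : Subgroup G) ⊓ N := Subgroup.mem_inf.mpr ⟨h2, h1⟩
    rw [hdisj, Subgroup.mem_bot] at h3
    calc x * k * a * (x * k)⁻¹ = x * ((k * a * k⁻¹ * a⁻¹) * a) * x⁻¹ := by group
      _ = x * a * x⁻¹ := by rw [h3, one_mul]
  · intro hfus
    suffices hs : ∃ N : Subgroup G, N.Normal ∧ N.IsComplement' (P : Subgroup G) by
      obtain ⟨N, hN1, hN2⟩ := hs
      exact ⟨P, N, hN1, hN2⟩
    rw [Cfsg.Agent.Lib.Lead.frobenius_pnilpotent P]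
    intro Q hQP g hg hcop
    by_contra hgc
    have hQp : IsPGroup p ↥Q := P.isPGroup'.to_le hQP
    have hyQ : ∀ a ∈ Q, g * a * g⁻¹ ∈ Q := fun a ha => (Subgroup.mem_normalizer_iff.mp hg a).mp ha
    have hnc : ¬ ∀ a ∈ Q, g * a * g⁻¹ = a := by
      intro hall
      apply hgc
      rw [Subgroup.mem_centralizer_iff]
      intro a ha
      have := hall a ha
      calc a * g = (g * a * g⁻¹) * g := by rw [this]
        _ = g * a := by group
    obtain ⟨R, hRQ, hyR, hncR, hexp⟩ := exists_small_exponent_not_centralized Q hQp g hyQ hcop hnc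
    have hRP : R ≤ (P : Subgroup G) := hRQ.trans hQP
    have hRp : IsPGroup p ↥R := hQp.to_le hRQ
    apply hncR
    have hnil : Group.IsNilpotent ↥(P : Subgroup G) := P.isPGroup'.isNilpotent
    obtain ⟨n, hn⟩ := (Subgroup.isNilpotent_iff_lowerCentralSeries (P : Subgroup G)).mp hnil
    have hconj : ∀ a ∈ R, ∃ x ∈ (P : Subgroup G), g * a * g⁻¹ = x * a * x⁻¹ :=
      fun a ha => hfus a (hRP ha) (hexp a ha) g (hRP (hyR a ha))
    have key := chainStab_coprime_centralizes
      (fun i => R ⊓ (P : Subgroup G).lowerCentralSeries i) n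
      (by
        show R ⊓ (P : Subgroup G).lowerCentralSeries n = ⊥
        rw [hn, inf_bot_eq])
      (fun i => hRp.to_le inf_le_left) g
      (by
        intro i
        constructor
        · apply mem_normalizer_of_map_conj_le
          rintro _ ⟨a, ha, rfl⟩
          have haR := (Subgroup.mem_inf.mp ha).1
          refine Subgroup.mem_inf.mpr ⟨hyR a haR, ?_⟩
          obtain ⟨x, hx, hxa⟩ := hconj a haR
          show g * a * g⁻¹ ∈ (P : Subgroup G).lowerCentralSeries i
          rw [hxa]
          exact (Subgroup.mem_normalizer_iff.mp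
            (Subgroup.self_le_normalizer_lowerCentralSeries (P : Subgroup G) i hx) a).mp
            (Subgroup.mem_inf.mp ha).2
        · intro a ha
          show g * a * g⁻¹ * a⁻¹ ∈ R ⊓ (P : Subgroup G).lowerCentralSeries (i + 1)
          have haR : a ∈ R := (Subgroup.mem_inf.mp ha).1
          refine Subgroup.mem_inf.mpr ⟨mul_mem (hyR a haR) (inv_mem haR), ?_⟩
          obtain ⟨x, hx, hxa⟩ := hconj a haR
          rw [hxa, Subgroup.lowerCentralSeries_succ, Subgroup.commutator_comm]
          exact Subgroup.commutator_mem_commutator hx (Subgroup.mem_inf.mp ha).2) hcop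
    intro a ha
    apply key a
    show a ∈ R ⊓ (P : Subgroup G).lowerCentralSeries 0
    exact Subgroup.mem_inf.mpr ⟨ha, hRP ha⟩

end Cfsg.Agent.S1946
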