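import Cfsg.Statements.S1947
import Mathlib
import Cfsg.Agent.Lib.Helper3.HallHigman
import Cfsg.Agent.Lib.Lead.PNilp

set_option autoImplicit false
open Cfsg

namespace Cfsg.Agent.S1947

open Cfsg.Agent.Lib.Helper3

/-- Let G be a finite group and p a prime. If every element of G of order dividing p (dividing 4 when p = 2) lies in some fixed term Z_n(G) of the upper central series, then G has a normal p-complement. -/
theorem result {G : Type*} [Group G] [Finite G] {p : ℕ} [Fact p.Prime] (n : ℕ)
    (h : ∀ a : G, (a ^ p = 1 ∨ (p = 2 ∧ a ^ 4 = 1)) → a ∈ Subgroup.upperCentralSeries G n) : Cfsg.HasNormalPComplement p G := by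
  classical
  have hp : p.Prime := Fact.out
  obtain ⟨P⟩ : Nonempty (Sylow p G) := inferInstance
  suffices hs : ∃ N : Subgroup G, N.Normal ∧ N.IsComplement' (P : Subgroup G) by
    obtain ⟨N, hN1, hN2⟩ := hs
    exact ⟨P, N, hN1, hN2⟩
  rw [Cfsg.Agent.Lib.Lead.frobenius_pnilpotent P]
  intro Q hQP g hg hcop
  by_contra hgc
  have hQp : IsPGroup p ↥Q := P.isPGroup'.to_le hQP
  have hyQ : ∀ a ∈ Q, g * a * g⁻¹ ∈ Q := fun a ha => (Subgroup.mem_normalizer_iff.mp hg a).mp ha
  have hnc : ¬ ∀ a ∈ Q, g * a * g⁻¹ = a := by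
    intro hall
    apply hgc
    rw [Subgroup.mem_centralizer_iff]
    intro a ha
    have := hall a ha
    calc a * g = (g * a * g⁻¹) * g := by rw [this]
      _ = g * a := by group
  obtain ⟨R, hRQ, hyR, hncR, hexp⟩ := exists_small_exponent_not_centralized Q hQp g hyQ hcop hnc
  have hRp : IsPGroup p ↥R := hQp.to_le hRQ
  apply hncR
  have key := chainStab_coprime_centralizes (fun i => R ⊓ Subgroup.upperCentralSeries G (n - i)) n
    (by
      show R ⊓ Subgroup.upperCentralSeries G (n - n) = ⊥
      rw [Nat.sub_self, Subgroup.upperCentralSeries_zero, inf_bot_eq])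
    (fun i => hRp.to_le inf_le_left) g
    (by
      intro i
      constructor
      · apply mem_normalizer_of_map_conj_le
        rintro _ ⟨a, ha, rfl⟩
        refine Subgroup.mem_inf.mpr ⟨hyR a (Subgroup.mem_inf.mp ha).1, ?_⟩
        exact (inferInstance : (Subgroup.upperCentralSeries G (n - i)).Normal).conj_mem a
          (Subgroup.mem_inf.mp ha).2 g
      · intro a ha
        show g * a * g⁻¹ * a⁻¹ ∈ R ⊓ Subgroup.upperCentralSeries G (n - (i + 1))
        have haR : a ∈ R := (Subgroup.mem_inf.mp ha).1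
        have haZ : a ∈ Subgroup.upperCentralSeries G (n - i) := (Subgroup.mem_inf.mp ha).2
        refine Subgroup.mem_inf.mpr ⟨mul_mem (hyR a haR) (inv_mem haR), ?_⟩
        rcases Nat.eq_zero_or_pos (n - i) with h0 | hpos
        · rw [h0, Subgroup.upperCentralSeries_zero, Subgroup.mem_bot] at haZ
          rw [haZ]
          have : g * 1 * g⁻¹ * (1 : G)⁻¹ = 1 := by group
          rw [this]; exact one_mem _
        · obtain ⟨k, hk⟩ : ∃ k, n - i = k + 1 := ⟨n - i - 1, by omega⟩
          have hk' : n - (i + 1) = k := by omega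
          rw [hk] at haZ
          rw [hk']
          have h1 := (Subgroup.mem_upperCentralSeries_succ_iff.mp haZ) g
          have h2 : g * a * g⁻¹ * a⁻¹ = (a * g * a⁻¹ * g⁻¹)⁻¹ := by group
          rw [h2]; exact inv_mem h1) hcop
  intro a ha
  apply key a
  show a ∈ R ⊓ Subgroup.upperCentralSeries G (n - 0)
  exact Subgroup.mem_inf.mpr ⟨ha, h a (hexp a ha)⟩

end Cfsg.Agent.S1947
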