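import Cfsg.Statements.S2302
import Mathlib
import Cfsg.Agent.Lib.Helper4.SL2

set_option autoImplicit false
open Cfsg

namespace Cfsg.Agent.S2302

open Cfsg.Agent.Lib.Helper4

theorem char2_sq_eq_one {F : Type*} [Field F] [CharP F 2] (a : F) (h : a * a = 1) : a = 1 := by
  have h2 : (2 : F) = 0 := CharP.ofNat_eq_zero F 2
  have : (a - 1) ^ 2 = 0 := by linear_combination h - a * h2 + h2
  exact sub_eq_zero.1 ((pow_eq_zero_iff two_ne_zero).1 this)

theorem char2_sq_inj {F : Type*} [Field F] [CharP F 2] (a b : F) (h : a * a = b * b) : a = b := by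
  have h2 : (2 : F) = 0 := CharP.ofNat_eq_zero F 2
  have : (a - b) ^ 2 = 0 := by linear_combination h - a * b * h2 + b * b * h2
  exact sub_eq_zero.1 ((pow_eq_zero_iff two_ne_zero).1 this)

theorem ord2_entries {F : Type*} [Field F] [CharP F 2]
    (x : Matrix.SpecialLinearGroup (Fin 2) F) (hx : orderOf x = 2) :
    (x : Matrix (Fin 2) (Fin 2) F) 1 1 = (x : Matrix (Fin 2) (Fin 2) F) 0 0 ∧
    ¬ ((x : Matrix (Fin 2) (Fin 2) F) 0 1 = 0 ∧ (x : Matrix (Fin 2) (Fin 2) F) 1 0 = 0) := by
  have h2 : (2 : F) = 0 := CharP.ofNat_eq_zero F 2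
  have hx2 : x ^ 2 = 1 := by
    have h := pow_orderOf_eq_one x
    rw [hx] at h
    exact h
  have hx1 : x ≠ 1 := by rintro rfl; simp at hx
  have hm : (x : Matrix (Fin 2) (Fin 2) F) * (x : Matrix (Fin 2) (Fin 2) F) = 1 := by
    rw [← Matrix.SpecialLinearGroup.coe_mul, ← sq, hx2, Matrix.SpecialLinearGroup.coe_one]
  obtain ⟨a, ha⟩ : ∃ a, a = (x : Matrix (Fin 2) (Fin 2) F) 0 0 := ⟨_, rfl⟩
  obtain ⟨b, hb⟩ : ∃ b, b = (x : Matrix (Fin 2) (Fin 2) F) 0 1 := ⟨_, rfl⟩
  obtain ⟨c, hc⟩ : ∃ c, c = (x : Matrix (Fin 2) (Fin 2) F) 1 0 := ⟨_, rfl⟩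
  obtain ⟨d, hd⟩ : ∃ d, d = (x : Matrix (Fin 2) (Fin 2) F) 1 1 := ⟨_, rfl⟩
  have hxm : (x : Matrix (Fin 2) (Fin 2) F) = !![a, b; c, d] := by
    rw [ha, hb, hc, hd]
    exact Matrix.eta_fin_two _
  rw [← ha, ← hb, ← hc, ← hd]
  rw [hxm] at hm
  have e00 := congrFun (congrFun hm 0) 0
  have e01 := congrFun (congrFun hm 0) 1
  have e10 := congrFun (congrFun hm 1) 0
  have e11 := congrFun (congrFun hm 1) 1
  simp only [Matrix.mul_apply, Fin.sum_univ_two, Matrix.of_apply, Matrix.cons_val', Matrix.cons_val_zero,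
    Matrix.cons_val_one, Matrix.one_apply_eq, Matrix.cons_val_fin_one] at e00 e01 e10 e11
  have e01' : a * b + b * d = 0 := by simpa using e01
  have e10' : c * a + d * c = 0 := by simpa using e10
  have hscal : b = 0 → c = 0 → False := by
    intro hb0 hc0
    rw [hb0, hc0] at e00 e11
    have ha1 := char2_sq_eq_one a (by simpa using e00)
    have hd1 := char2_sq_eq_one d (by simpa using e11)
    apply hx1
    apply Subtype.ext
    rw [hxm, Matrix.SpecialLinearGroup.coe_one, ha1, hd1, hb0, hc0]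
    exact Matrix.one_fin_two.symm
  have htr : a + d = 0 := by
    by_contra hne
    have hb0 : b = 0 := by
      have : b * (a + d) = 0 := by linear_combination e01'
      rcases mul_eq_zero.1 this with h | h
      · exact h
      · exact absurd h hne
    have hc0 : c = 0 := by
      have : c * (a + d) = 0 := by linear_combination e10'
      rcases mul_eq_zero.1 this with h | h
      · exact h
      · exact absurd h hne
    exact hscal hb0 hc0
  refine ⟨?_, fun ⟨hb0, hc0⟩ => hscal hb0 hc0⟩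
  linear_combination htr - a * h2

theorem ord2_of_entries {F : Type*} [Field F] [CharP F 2]
    (x : Matrix.SpecialLinearGroup (Fin 2) F)
    (h11 : (x : Matrix (Fin 2) (Fin 2) F) 1 1 = (x : Matrix (Fin 2) (Fin 2) F) 0 0)
    (hns : ¬ ((x : Matrix (Fin 2) (Fin 2) F) 0 1 = 0 ∧ (x : Matrix (Fin 2) (Fin 2) F) 1 0 = 0)) :
    orderOf x = 2 := by
  have h2 : (2 : F) = 0 := CharP.ofNat_eq_zero F 2
  have hdet := sl2_det x
  obtain ⟨a, ha⟩ : ∃ a, a = (x : Matrix (Fin 2) (Fin 2) F) 0 0 := ⟨_, rfl⟩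
  obtain ⟨b, hb⟩ : ∃ b, b = (x : Matrix (Fin 2) (Fin 2) F) 0 1 := ⟨_, rfl⟩
  obtain ⟨c, hc⟩ : ∃ c, c = (x : Matrix (Fin 2) (Fin 2) F) 1 0 := ⟨_, rfl⟩
  have hxm : (x : Matrix (Fin 2) (Fin 2) F) = !![a, b; c, a] := by
    have h := Matrix.eta_fin_two (x : Matrix (Fin 2) (Fin 2) F)
    rw [h11] at h
    rw [ha, hb, hc]
    exact h
  rw [h11, ← ha, ← hb, ← hc] at hdet
  apply orderOf_eq_prime
  · apply Subtype.ext
    rw [sq, Matrix.SpecialLinearGroup.coe_mul, Matrix.SpecialLinearGroup.coe_one, hxm]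
    ext i j
    fin_cases i <;> fin_cases j <;> simp [Matrix.mul_apply, Fin.sum_univ_two]
    · linear_combination hdet + b * c * h2
    · linear_combination a * b * h2
    · linear_combination a * c * h2
    · linear_combination hdet + b * c * h2
  · rintro rfl
    apply hns
    simp

theorem ord2_conj_std {F : Type*} [Field F] [Fintype F] [CharP F 2]
    (x : Matrix.SpecialLinearGroup (Fin 2) F) (hx : orderOf x = 2) :
    IsConj x (sl2Comp 0 1) := by
  have h2 : (2 : F) = 0 := CharP.ofNat_eq_zero F 2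
  obtain ⟨h11, hns⟩ := ord2_entries x hx
  have htr : Matrix.trace (x : Matrix (Fin 2) (Fin 2) F) = 0 := by
    rw [Matrix.trace_fin_two, h11]
    linear_combination (x : Matrix (Fin 2) (Fin 2) F) 0 0 * h2
  obtain ⟨u, hu⟩ := sl2_isConj_comp x (fun h => hns ⟨h.1, h.2.1⟩)
  rw [htr] at hu
  obtain ⟨r, hr⟩ := FiniteField.isSquare_of_char_two (ringChar.eq F 2) (u : F)
  have hr0 : r ≠ 0 := by
    rintro rfl
    simp at hr
  have hu2 : u = 1 * (Units.mk0 r hr0) ^ 2 := by
    apply Units.ext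
    simp [hr, sq]
  have h3 := sl2Comp_conj_sq (0 : F) 1 (Units.mk0 r hr0)
  rw [← hu2] at h3
  exact hu.trans h3


/-- Over a finite field with q elements of characteristic 2, the involutions of SL₂ (the non-identity unipotent elements) form a single conjugacy class, of size q² − 1. -/
theorem result {F : Type*} [Field F] [Fintype F] [CharP F 2] (g h : Matrix.SpecialLinearGroup (Fin 2) F) (hg : orderOf g = 2) (hh : orderOf h = 2) :
    IsConj g h ∧ Nat.card (ConjClasses.mk g).carrier = Fintype.card F ^ 2 - 1 := by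
  classical
  have hgh : IsConj g h := (ord2_conj_std g hg).trans (ord2_conj_std h hh).symm
  refine ⟨hgh, ?_⟩
  have hcar : ∀ x, x ∈ (ConjClasses.mk g).carrier ↔ orderOf x = 2 := by
    intro x
    rw [ConjClasses.mem_carrier_iff_mk_eq, ConjClasses.mk_eq_mk_iff_isConj]
    constructor
    · intro hc
      obtain ⟨c, hc⟩ := hc
      rw [SemiconjBy.orderOf_eq _ hc, hg]
    · intro hx
      exact (ord2_conj_std x hx).trans (ord2_conj_std g hg).symm
  have hne : ∀ x : (ConjClasses.mk g).carrier,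
      (((x.1 : Matrix (Fin 2) (Fin 2) F) 0 1, (x.1 : Matrix (Fin 2) (Fin 2) F) 1 0) : F × F) ≠ 0 := by
    intro x hx0
    have h1 := (ord2_entries x.1 ((hcar x.1).1 x.2)).2
    apply h1
    exact ⟨congrArg Prod.fst hx0, congrArg Prod.snd hx0⟩
  have key : Function.Bijective (fun x : (ConjClasses.mk g).carrier =>
      (⟨((x.1 : Matrix (Fin 2) (Fin 2) F) 0 1, (x.1 : Matrix (Fin 2) (Fin 2) F) 1 0), hne x⟩ :
        {p : F × F // p ≠ 0})) := by
    constructor
    · intro x y hxy
      have hxy' := congrArg Subtype.val hxy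
      have hb : (x.1 : Matrix (Fin 2) (Fin 2) F) 0 1 = (y.1 : Matrix (Fin 2) (Fin 2) F) 0 1 :=
        congrArg Prod.fst hxy'
      have hc : (x.1 : Matrix (Fin 2) (Fin 2) F) 1 0 = (y.1 : Matrix (Fin 2) (Fin 2) F) 1 0 :=
        congrArg Prod.snd hxy'
      have hx11 := (ord2_entries x.1 ((hcar x.1).1 x.2)).1
      have hy11 := (ord2_entries y.1 ((hcar y.1).1 y.2)).1
      have hdx := sl2_det x.1
      have hdy := sl2_det y.1
      rw [hx11] at hdx
      rw [hy11, ← hb, ← hc] at hdy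
      have ha : (x.1 : Matrix (Fin 2) (Fin 2) F) 0 0 = (y.1 : Matrix (Fin 2) (Fin 2) F) 0 0 := by
        apply char2_sq_inj
        linear_combination hdx - hdy
      apply Subtype.ext
      apply Subtype.ext
      ext i j
      fin_cases i <;> fin_cases j
      · exact ha
      · exact hb
      · exact hc
      · exact (hx11.trans ha).trans hy11.symm
    · rintro ⟨⟨b, c⟩, hp⟩
      obtain ⟨a, ha⟩ := FiniteField.isSquare_of_char_two (ringChar.eq F 2) (1 + b * c)
      obtain ⟨x, hx⟩ : ∃ x : Matrix.SpecialLinearGroup (Fin 2) F,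
          (x : Matrix (Fin 2) (Fin 2) F) = !![a, b; c, a] :=
        ⟨⟨!![a, b; c, a], by rw [Matrix.det_fin_two]; simp; linear_combination -ha⟩, rfl⟩
      have hxo : orderOf x = 2 := by
        apply ord2_of_entries
        · rw [hx]; simp
        · rw [hx]
          simp
          intro hb hc
          apply hp
          rw [hb, hc]
          rfl
      refine ⟨⟨x, (hcar x).2 hxo⟩, ?_⟩
      apply Subtype.ext
      simp [hx]
  rw [Nat.card_congr (Equiv.ofBijective _ key), Nat.card_eq_fintype_card,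
    Fintype.card_subtype_compl, Fintype.card_subtype_eq, Fintype.card_prod, sq]

end Cfsg.Agent.S2302
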