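import Cfsg.Statements.S2477
import Mathlib
import Cfsg.Agent.Lib.Helper4.CycleType

set_option autoImplicit false
open Cfsg

namespace Cfsg.Agent.S2477

/-- The list of element orders. -/
def okSet : List ℕ := [1, 2, 3, 4, 5, 6, 7, 8, 9, 10, 12, 15, 21]

/-- Exhaustive checker over all multisets of parts at least 2 with bounded sum. -/
def chk : ℕ → ℕ → ℕ → Bool → Bool
  | 0, _, L, par => par || okSet.contains L
  | fuel + 1, b, L, par => (par || okSet.contains L) &&
      (List.range (b + 1)).all (fun a => decide (a < 2) ||
        chk fuel (b - a) (Nat.lcm L a) (xor par (decide (a % 2 = 0))))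

theorem chk_head (fuel b L : ℕ) (par : Bool) (h : chk fuel b L par = true) :
    (par || okSet.contains L) = true := by
  cases fuel with
  | zero => exact h
  | succ n =>
    simp only [chk, Bool.and_eq_true] at h
    exact h.1

theorem chk_sound : ∀ (fuel b L : ℕ) (par : Bool), b ≤ fuel → chk fuel b L par = true →
    ∀ l : List ℕ, (∀ a ∈ l, 2 ≤ a) → l.sum ≤ b →
      par = decide (Odd (Multiset.card ((l : Multiset ℕ).filter (fun n => Even n)))) →
      Nat.lcm L (Multiset.lcm (l : Multiset ℕ)) ∈ okSet := by
  intro fuel
  induction fuel with
  | zero =>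
    intro b L par hb h l hl hsum hpar
    cases l with
    | nil =>
      have h1 := chk_head 0 b L par h
      simp at hpar
      rw [hpar] at h1
      simpa using h1
    | cons a l' =>
      exfalso
      have := hl a (List.mem_cons_self)
      simp at hsum
      omega
  | succ n ih =>
    intro b L par hb h l hl hsum hpar
    cases l with
    | nil =>
      have h1 := chk_head (n + 1) b L par h
      simp at hpar
      rw [hpar] at h1
      simpa using h1
    | cons a l' =>
      have ha2 := hl a (List.mem_cons_self)
      simp only [List.sum_cons] at hsum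
      simp only [chk, Bool.and_eq_true, List.all_eq_true, List.mem_range] at h
      have h2 := h.2 a (by omega)
      have h3 : chk n (b - a) (Nat.lcm L a) (xor par (decide (a % 2 = 0))) = true := by
        rcases (Bool.or_eq_true_iff).1 h2 with h4 | h4
        · simp at h4; omega
        · exact h4
      have h5 := ih (b - a) (Nat.lcm L a) (xor par (decide (a % 2 = 0))) (by omega) h3 l'
        (fun x hx => hl x (List.mem_cons_of_mem _ hx)) (by omega) (by
          rw [hpar]
          rw [← Multiset.cons_coe]
          by_cases hae : Even a
          · rw [Multiset.filter_cons_of_pos _ hae, Multiset.card_cons]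
            have : a % 2 = 0 := Nat.even_iff.1 hae
            simp only [this, decide_true, Bool.xor_true]
            generalize Multiset.card (Multiset.filter (fun n => Even n) (l' : Multiset ℕ)) = c
            by_cases hc : Odd c
            · have : ¬ Odd (c + 1) := by rw [Nat.odd_add_one]; exact not_not.2 hc
              simp [hc, this]
            · have : Odd (c + 1) := by rw [Nat.odd_add_one]; exact hc
              simp [hc, this]
          · rw [Multiset.filter_cons_of_neg _ hae]
            have : a % 2 ≠ 0 := fun h0 => hae (Nat.even_iff.2 h0)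
            simp [this])
      rw [← Multiset.cons_coe, Multiset.lcm_cons]
      have h6 : Nat.lcm L (GCDMonoid.lcm a (Multiset.lcm (l' : Multiset ℕ))) =
          Nat.lcm (Nat.lcm L a) (Multiset.lcm (l' : Multiset ℕ)) := by
        rw [lcm_eq_nat_lcm, Nat.lcm_assoc]
      rw [h6]
      exact h5

theorem exists_of_cycleType (m : Multiset ℕ) (hsum : m.sum ≤ 10) (h2 : ∀ a ∈ m, 2 ≤ a)
    (heven : Even (Multiset.card (m.filter (fun n => Even n)))) :
    m.lcm ∈ Set.range (orderOf : alternatingGroup (Fin 10) → ℕ) := by
  obtain ⟨σ, hσ⟩ := (Equiv.Perm.exists_with_cycleType_iff (α := Fin 10) (m := m)).2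
    ⟨by simpa using hsum, h2⟩
  have hsign : Equiv.Perm.sign σ = 1 := by
    rw [Cfsg.Agent.Lib.Helper4.sign_eq_neg_one_pow_card_even, hσ, heven.neg_one_pow]
  refine ⟨⟨σ, Equiv.Perm.mem_alternatingGroup.2 hsign⟩, ?_⟩
  rw [← Subgroup.orderOf_coe]
  show orderOf σ = _
  rw [← Equiv.Perm.lcm_cycleType, hσ]


/-- The set of element orders of the alternating group of degree 10 is {1, 2, 3, 4, 5, 6, 7, 8, 9, 10, 12, 15, 21}. -/
theorem result : Set.range (orderOf : alternatingGroup (Fin 10) → ℕ) = {1, 2, 3, 4, 5, 6, 7, 8, 9, 10, 12, 15, 21} := by
  ext k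
  constructor
  · rintro ⟨g, rfl⟩
    have hord : orderOf g = orderOf (g : Equiv.Perm (Fin 10)) := (Subgroup.orderOf_coe g).symm
    rw [hord, ← Equiv.Perm.lcm_cycleType]
    have hsign : Equiv.Perm.sign (g : Equiv.Perm (Fin 10)) = 1 :=
      Equiv.Perm.mem_alternatingGroup.1 g.2
    have heven := Cfsg.Agent.Lib.Helper4.even_card_even_cycles _ hsign
    have hsum : (g : Equiv.Perm (Fin 10)).cycleType.sum ≤ 10 := by
      have := Equiv.Perm.sum_cycleType_le (g : Equiv.Perm (Fin 10))
      simpa using this
    have h2 : ∀ a ∈ (g : Equiv.Perm (Fin 10)).cycleType, 2 ≤ a :=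
      fun a ha => Equiv.Perm.two_le_of_mem_cycleType ha
    obtain ⟨l, hl⟩ : ∃ l : List ℕ, (l : Multiset ℕ) = (g : Equiv.Perm (Fin 10)).cycleType :=
      ⟨_, Multiset.coe_toList _⟩
    rw [← hl] at heven hsum h2 ⊢
    have hchk : chk 10 10 1 false = true := by decide +kernel
    have := chk_sound 10 10 1 false le_rfl hchk l (fun a ha => h2 a (by simpa using ha))
      (by simpa using hsum) (by
        symm
        rw [decide_eq_false_iff_not, Nat.not_odd_iff_even]
        exact heven)
    rw [Nat.lcm_one_left] at this
    simpa [okSet] using this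
  · intro hk
    simp only [Set.mem_insert_iff, Set.mem_singleton_iff] at hk
    rcases hk with rfl | rfl | rfl | rfl | rfl | rfl | rfl | rfl | rfl | rfl | rfl | rfl | rfl
    · exact exists_of_cycleType 0 (by decide) (by decide) (by decide)
    · exact exists_of_cycleType {2, 2} (by decide) (by decide) (by decide)
    · exact exists_of_cycleType {3} (by decide) (by decide) (by decide)
    · exact exists_of_cycleType {4, 2} (by decide) (by decide) (by decide)
    · exact exists_of_cycleType {5} (by decide) (by decide) (by decide)
    · exact exists_of_cycleType {3, 2, 2} (by decide) (by decide) (by decide)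
    · exact exists_of_cycleType {7} (by decide) (by decide) (by decide)
    · exact exists_of_cycleType {8, 2} (by decide) (by decide) (by decide)
    · exact exists_of_cycleType {9} (by decide) (by decide) (by decide)
    · exact exists_of_cycleType {5, 2, 2} (by decide) (by decide) (by decide)
    · exact exists_of_cycleType {4, 3, 2} (by decide) (by decide) (by decide)
    · exact exists_of_cycleType {5, 3} (by decide) (by decide) (by decide)
    · exact exists_of_cycleType {7, 3} (by decide) (by decide) (by decide)

end Cfsg.Agent.S2477
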