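import Mathlib
import Cfsg.Statements.S2565
import Cfsg.Agent.S0825

set_option autoImplicit false
open Cfsg

namespace Cfsg.Agent.S2565

/-- The commutator subgroup of the full orthogonal group of the plus-type form Σ xᵢyᵢ in dimension 6 over the field of two elements (the group Ω⁺₆(2), of index 2) is isomorphic to the alternating group of degree 8. -/
theorem result :
    (Cfsg.Omega (ZMod 2) (Cfsg.quadFormPlus 3 (ZMod 2))).index = 2 ∧
    Nonempty (↥(Cfsg.Omega (ZMod 2) (Cfsg.quadFormPlus 3 (ZMod 2))) ≃* alternatingGroup (Fin 8)) := by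
  obtain ⟨e⟩ := Cfsg.Agent.S0825.result (F := ZMod 2) (ZMod.card 2)
  have h5 : 5 ≤ Nat.card (Fin 8) := by
    rw [Nat.card_eq_fintype_card, Fintype.card_fin]
    omega
  have hmap : Subgroup.map
      (e : ↥(Cfsg.isometryGroup (ZMod 2) (Cfsg.quadFormPlus 3 (ZMod 2))) →* Equiv.Perm (Fin 8))
      (commutator ↥(Cfsg.isometryGroup (ZMod 2) (Cfsg.quadFormPlus 3 (ZMod 2)))) =
      alternatingGroup (Fin 8) := by
    rw [← alternatingGroup.commutator_perm_eq h5]
    show Subgroup.map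
      (e : ↥(Cfsg.isometryGroup (ZMod 2) (Cfsg.quadFormPlus 3 (ZMod 2))) →* Equiv.Perm (Fin 8))
      ⁅(⊤ : Subgroup ↥(Cfsg.isometryGroup (ZMod 2) (Cfsg.quadFormPlus 3 (ZMod 2)))), ⊤⁆ =
      ⁅(⊤ : Subgroup (Equiv.Perm (Fin 8))), ⊤⁆
    rw [Subgroup.map_commutator, Subgroup.map_top_of_surjective _ e.surjective]
  have hidx := Subgroup.index_map_equiv
    (commutator ↥(Cfsg.isometryGroup (ZMod 2) (Cfsg.quadFormPlus 3 (ZMod 2)))) e
  rw [hmap, alternatingGroup.index_eq_two] at hidx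
  refine ⟨hidx.symm, ?_⟩
  exact ⟨(e.subgroupMap
    (commutator ↥(Cfsg.isometryGroup (ZMod 2) (Cfsg.quadFormPlus 3 (ZMod 2))))).trans
    (MulEquiv.subgroupCongr hmap)⟩

end Cfsg.Agent.S2565
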