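import Cfsg.Statements.S3799
import Mathlib
import Cfsg.Agent.Lib.Lead.Class2
import Cfsg.Agent.Lib.Helper4.Frattini
-- import your own Cfsg.Agent.* helpers here

set_option autoImplicit false
open Cfsg

namespace Cfsg.Agent.S3799

open Matrix

@[ext] structure Heis (n p : ℕ) where
  a : Fin n → ZMod p
  b : Fin n → ZMod p
  c : ZMod p

namespace Heis

variable {n p : ℕ}

instance : Mul (Heis n p) := ⟨fun x y => ⟨x.a + y.a, x.b + y.b, x.c + y.c + x.a ⬝ᵥ y.b⟩⟩
instance : One (Heis n p) := ⟨⟨0, 0, 0⟩⟩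
instance : Inv (Heis n p) := ⟨fun x => ⟨-x.a, -x.b, -x.c + x.a ⬝ᵥ x.b⟩⟩

@[simp] theorem mul_a (x y : Heis n p) : (x * y).a = x.a + y.a := rfl
@[simp] theorem mul_b (x y : Heis n p) : (x * y).b = x.b + y.b := rfl
@[simp] theorem mul_c (x y : Heis n p) : (x * y).c = x.c + y.c + x.a ⬝ᵥ y.b := rfl
@[simp] theorem one_a : (1 : Heis n p).a = 0 := rfl
@[simp] theorem one_b : (1 : Heis n p).b = 0 := rfl
@[simp] theorem one_c : (1 : Heis n p).c = 0 := rfl
@[simp] theorem inv_a (x : Heis n p) : (x⁻¹).a = -x.a := rfl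
@[simp] theorem inv_b (x : Heis n p) : (x⁻¹).b = -x.b := rfl
@[simp] theorem inv_c (x : Heis n p) : (x⁻¹).c = -x.c + x.a ⬝ᵥ x.b := rfl

instance : Group (Heis n p) := Group.ofLeftAxioms
  (by
    intro x y z
    ext1
    · simp [add_assoc]
    · simp [add_assoc]
    · simp only [mul_c, mul_a, mul_b, add_dotProduct, dotProduct_add]; ring)
  (by intro x; ext1 <;> simp)
  (by intro x; ext1 <;> simp [neg_dotProduct])

theorem pow_formula (x : Heis n p) (k : ℕ) :
    (x ^ k).a = k • x.a ∧ (x ^ k).b = k • x.b ∧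
      (x ^ k).c = k • x.c + (k.choose 2 : ZMod p) * (x.a ⬝ᵥ x.b) := by
  induction k with
  | zero => simp
  | succ k ih =>
    obtain ⟨h1, h2, h3⟩ := ih
    rw [pow_succ]
    refine ⟨?_, ?_, ?_⟩
    · rw [mul_a, h1, succ_nsmul]
    · rw [mul_b, h2, succ_nsmul]
    · rw [mul_c, h3, h1, succ_nsmul, Nat.choose_succ_succ, Nat.choose_one_right, smul_dotProduct]
      push_cast
      simp only [nsmul_eq_mul]
      ring

def Mat (x : Heis n p) :
    Matrix (Fin 1 ⊕ (Fin n ⊕ Fin 1)) (Fin 1 ⊕ (Fin n ⊕ Fin 1)) (ZMod p) :=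
  Matrix.fromBlocks 1 (Matrix.of fun _ j => Sum.elim x.a (fun _ => x.c) j) 0
    (Matrix.fromBlocks 1 (Matrix.of fun i _ => x.b i) 0 1)

theorem Mat_mul (x y : Heis n p) : Mat (x * y) = Mat x * Mat y := by
  ext (i | i | i) (j | j | j) <;>
    (try rw [Subsingleton.elim i (0 : Fin 1)]) <;> (try rw [Subsingleton.elim j (0 : Fin 1)]) <;>
    simp [Mat, Matrix.mul_apply, Fintype.sum_sum_type, Matrix.one_apply, dotProduct] <;>
    (try ring)

theorem Mat_one : Mat (1 : Heis n p) = 1 := by
  ext (i | i | i) (j | j | j) <;> simp [Mat, Matrix.one_apply]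

theorem Mat_inj : Function.Injective (Mat : Heis n p → _) := by
  intro x y h
  ext j
  · have := congrFun (congrFun h (Sum.inl 0)) (Sum.inr (Sum.inl j))
    simpa [Mat] using this
  · have := congrFun (congrFun h (Sum.inr (Sum.inl j))) (Sum.inr (Sum.inr 0))
    simpa [Mat] using this
  · have := congrFun (congrFun h (Sum.inl 0)) (Sum.inr (Sum.inr 0))
    simpa [Mat] using this

def μ : Heis n p →* GL (Fin 1 ⊕ (Fin n ⊕ Fin 1)) (ZMod p) where
  toFun x := ⟨Mat x, Mat x⁻¹, by rw [← Mat_mul, mul_inv_cancel, Mat_one],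
    by rw [← Mat_mul, inv_mul_cancel, Mat_one]⟩
  map_one' := Units.ext Mat_one
  map_mul' x y := Units.ext (Mat_mul x y)

theorem μ_inj : Function.Injective (μ : Heis n p →* _) := by
  intro x y h
  have h' := congrArg Units.val h
  exact Mat_inj h'

instance [Fact p.Prime] : Finite (Heis n p) := by
  haveI : NeZero p := ⟨(Fact.out : p.Prime).ne_zero⟩
  exact Finite.of_injective (fun x : Heis n p => (x.a, x.b, x.c))
    (fun x y h => by
      ext1
      · exact congrArg (fun t => t.1) h
      · exact congrArg (fun t => t.2.1) h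
      · exact congrArg (fun t => t.2.2) h)

theorem card_heis [Fact p.Prime] : Nat.card (Heis n p) = p ^ (1 + 2 * n) := by
  have e : Heis n p ≃ (Fin n → ZMod p) × (Fin n → ZMod p) × ZMod p :=
    { toFun := fun x => (x.a, x.b, x.c)
      invFun := fun t => ⟨t.1, t.2.1, t.2.2⟩
      left_inv := fun x => rfl
      right_inv := fun t => rfl }
  rw [Nat.card_congr e, Nat.card_prod, Nat.card_prod, Nat.card_fun, Nat.card_zmod, Nat.card_fin]
  ring

theorem mem_center_iff' (x : Heis n p) :
    x ∈ Subgroup.center (Heis n p) ↔ x.a = 0 ∧ x.b = 0 := by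
  classical
  rw [Subgroup.mem_center_iff]
  constructor
  · intro h
    constructor
    · funext j
      have := congrArg Heis.c (h ⟨0, Pi.single j 1, 0⟩)
      simp at this
      exact this
    · funext j
      have := congrArg Heis.c (h ⟨Pi.single j 1, 0, 0⟩)
      simp at this
      exact this
  · rintro ⟨ha, hb⟩ g
    ext <;> simp [ha, hb, add_comm]

theorem card_center [Fact p.Prime] : Nat.card (Subgroup.center (Heis n p)) = p := by
  have e : Subgroup.center (Heis n p) ≃ ZMod p :=
    { toFun := fun z => z.1.c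
      invFun := fun c => ⟨⟨0, 0, c⟩, (mem_center_iff' _).mpr ⟨rfl, rfl⟩⟩
      left_inv := fun z => by
        obtain ⟨ha, hb⟩ := (mem_center_iff' z.1).mp z.2
        apply Subtype.ext
        ext1
        · exact ha.symm
        · exact hb.symm
        · rfl
      right_inv := fun c => rfl }
  rw [Nat.card_congr e, Nat.card_zmod]

theorem comm_le_center : commutator (Heis n p) ≤ Subgroup.center (Heis n p) := by
  rw [commutator_eq_closure, Subgroup.closure_le]
  rintro _ ⟨x, y, rfl⟩
  rw [SetLike.mem_coe, mem_center_iff', commutatorElement_def]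
  constructor <;> simp

theorem comm_eq_center [Fact p.Prime] (hn : 1 ≤ n) :
    commutator (Heis n p) = Subgroup.center (Heis n p) := by
  classical
  apply Subgroup.eq_of_le_of_card_ge comm_le_center
  have hdvd := Subgroup.card_dvd_of_le (comm_le_center (n := n) (p := p))
  rw [card_center] at hdvd ⊢
  rcases (Nat.Prime.eq_one_or_self_of_dvd (Fact.out : p.Prime) _ hdvd) with h1 | h1
  · exfalso
    have hbot : commutator (Heis n p) = ⊥ := Subgroup.card_eq_one.mp h1
    let x0 : Heis n p := ⟨Pi.single ⟨0, hn⟩ 1, 0, 0⟩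
    let y0 : Heis n p := ⟨0, Pi.single ⟨0, hn⟩ 1, 0⟩
    have hmem : x0 * y0 * x0⁻¹ * y0⁻¹ ∈ commutator (Heis n p) := by
      have := Subgroup.commutator_mem_commutator (Subgroup.mem_top x0) (Subgroup.mem_top y0)
      rw [commutatorElement_def] at this
      exact this
    rw [hbot, Subgroup.mem_bot] at hmem
    have := congrArg Heis.c hmem
    simp [x0, y0] at this
  · exact le_of_eq h1.symm

theorem frattini_eq_center [Fact p.Prime] (hn : 1 ≤ n) :
    frattini (Heis n p) = Subgroup.center (Heis n p) := by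
  have hP : IsPGroup p (Heis n p) := IsPGroup.of_card card_heis
  apply le_antisymm
  · let f : Heis n p →* Multiplicative ((Fin n → ZMod p) × (Fin n → ZMod p)) :=
      { toFun := fun x => Multiplicative.ofAdd (x.a, x.b)
        map_one' := rfl
        map_mul' := fun x y => rfl }
    have h1 := Cfsg.Agent.Lib.Helper4.frattini_le_ker_of_elementary (Fact.out : p.Prime) f
      (fun x y => mul_comm _ _) (fun x => by
        show Multiplicative.ofAdd (x.a, x.b) ^ p = 1
        rw [← ofAdd_nsmul]
        have : p • (x.a, x.b) = 0 := by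
          refine Prod.ext ?_ ?_ <;> funext j <;> simp
        rw [this]; rfl)
    intro x hx
    have hx' := h1 hx
    rw [MonoidHom.mem_ker] at hx'
    have h2 : (x.a, x.b) = 0 := hx'
    rw [mem_center_iff']
    exact ⟨congrArg Prod.fst h2, congrArg Prod.snd h2⟩
  · rw [← comm_eq_center hn]
    exact Cfsg.Agent.Lib.Lead.commutator_le_frattini_of_pGroup hP

theorem extraspecial [Fact p.Prime] (hn : 1 ≤ n) : Cfsg.IsExtraspecial p (Heis n p) :=
  ⟨⟨IsPGroup.of_card card_heis, frattini_eq_center hn, comm_eq_center hn⟩, card_center⟩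

theorem pow_p [Fact p.Prime] (hp : p ≠ 2) (x : Heis n p) : x ^ p = 1 := by
  obtain ⟨h1, h2, h3⟩ := pow_formula x p
  have hp3 : 2 < p := lt_of_le_of_ne (Fact.out : p.Prime).two_le (Ne.symm hp)
  have hch : ((p.choose 2 : ℕ) : ZMod p) = 0 :=
    (ZMod.natCast_eq_zero_iff _ _).mpr ((Fact.out : p.Prime).dvd_choose_self two_ne_zero hp3)
  ext1
  · rw [h1]; funext j; simp
  · rw [h2]; funext j; simp
  · rw [h3, hch]; simp

end Heis

theorem extraspecial_of_equiv {A B : Type} [Group A] [Group B] {p : ℕ} (e : A ≃* B)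
    (h : Cfsg.IsExtraspecial p A) : Cfsg.IsExtraspecial p B := by
  obtain ⟨⟨hP, hF, hC⟩, hZ⟩ := h
  have hcen : (Subgroup.center A).map e.toMonoidHom = Subgroup.center B := by
    ext x
    rw [Subgroup.mem_map, Subgroup.mem_center_iff]
    constructor
    · rintro ⟨y, hy, rfl⟩ g
      rw [Subgroup.mem_center_iff] at hy
      have := congrArg e (hy (e.symm g))
      simpa using this
    · intro hx
      refine ⟨e.symm x, ?_, by simp⟩
      rw [Subgroup.mem_center_iff]
      intro g
      apply e.injective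
      simpa using hx (e g)
  have hfr : (frattini A).map e.toMonoidHom = frattini B := by
    apply le_antisymm
    · rw [Subgroup.map_le_iff_le_comap]
      exact frattini_le_comap_frattini_of_surjective (φ := e.toMonoidHom) e.surjective
    · intro x hx
      have := frattini_le_comap_frattini_of_surjective (φ := e.symm.toMonoidHom) e.symm.surjective hx
      exact ⟨e.symm x, this, by simp⟩
  have hco : (commutator A).map e.toMonoidHom = commutator B := by
    rw [commutator_def, Subgroup.map_commutator, Subgroup.map_top_of_surjective _ e.surjective,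
      ← commutator_def]
  refine ⟨⟨hP.of_equiv e, ?_, ?_⟩, ?_⟩
  · rw [← hfr, ← hcen, hF]
  · rw [← hco, ← hcen, hC]
  · rw [← hcen, Subgroup.card_map_of_injective e.injective, hZ]

/-- For every odd prime p and every n ≥ 1 there is an extraspecial p-group of order p^(1+2n) and exponent p; concretely, the general linear group of degree n + 2 over the field with p elements contains such a subgroup. -/
theorem result (p : ℕ) [Fact p.Prime] (hp : p ≠ 2) (n : ℕ) (hn : 1 ≤ n) : ∃ E : Subgroup (Matrix.GeneralLinearGroup (Fin (n + 2)) (ZMod p)), Cfsg.IsExtraspecial p ↥E ∧ Nat.card E = p ^ (1 + 2 * n) ∧ ∀ x ∈ E, x ^ p = 1 := by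
  classical
  let eι : Fin 1 ⊕ (Fin n ⊕ Fin 1) ≃ Fin (n + 2) :=
    ((Equiv.sumCongr (Equiv.refl _) finSumFinEquiv).trans finSumFinEquiv).trans
      (finCongr (by omega))
  let R : GL (Fin 1 ⊕ (Fin n ⊕ Fin 1)) (ZMod p) ≃* GL (Fin (n + 2)) (ZMod p) :=
    Units.mapEquiv (Matrix.reindexAlgEquiv (ZMod p) (ZMod p) eι).toMulEquiv
  let ψ : Heis n p →* GL (Fin (n + 2)) (ZMod p) := R.toMonoidHom.comp Heis.μ
  have hinj : Function.Injective ψ := R.injective.comp Heis.μ_inj
  let eE : Heis n p ≃* ψ.range := MonoidHom.ofInjective hinj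
  refine ⟨ψ.range, extraspecial_of_equiv eE (Heis.extraspecial hn), ?_, ?_⟩
  · rw [← Nat.card_congr eE.toEquiv, Heis.card_heis]
  · rintro _ ⟨x, rfl⟩
    rw [← map_pow, Heis.pow_p hp, map_one]

end Cfsg.Agent.S3799
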