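import Cfsg.Statements.S3074
import Mathlib
import Cfsg.Agent.S3799
-- import your own Cfsg.Agent.* helpers here

set_option autoImplicit false
open Cfsg

namespace Cfsg.Agent.S3074

open Matrix Cfsg.Agent.S3799

abbrev H1 (p : ℕ) := Cfsg.Agent.S3799.Heis 1 p

def M3 {p : ℕ} (x : H1 p) : Matrix (Fin 3) (Fin 3) (ZMod p) :=
  !![1, x.a 0, x.c; 0, 1, x.b 0; 0, 0, 1]

theorem M3_det {p : ℕ} (x : H1 p) : (M3 x).det = 1 := by
  simp [M3, Matrix.det_fin_three]

theorem M3_mul {p : ℕ} (x y : H1 p) : M3 (x * y) = M3 x * M3 y := by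
  ext i j
  fin_cases i <;> fin_cases j <;>
    simp [M3, Matrix.mul_apply, Fin.sum_univ_three, dotProduct] <;> ring

theorem M3_one {p : ℕ} : M3 (1 : H1 p) = 1 := by
  ext i j
  fin_cases i <;> fin_cases j <;> simp [M3, Matrix.one_apply]

def toSL {p : ℕ} : H1 p →* Matrix.SpecialLinearGroup (Fin 3) (ZMod p) where
  toFun x := ⟨M3 x, M3_det x⟩
  map_one' := Subtype.ext M3_one
  map_mul' x y := Subtype.ext (M3_mul x y)

theorem toSL_mem {p : ℕ} (x : H1 p) : toSL x ∈ Cfsg.qd p := by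
  refine Subgroup.subset_closure ⟨?_, ?_, ?_⟩
  · show (M3 x) 2 0 = 0
    simp [M3]
  · show (M3 x) 2 1 = 0
    simp [M3]
  · show (M3 x) 2 2 = 1
    simp [M3]

def toQd {p : ℕ} : H1 p →* Cfsg.qd p := toSL.codRestrict _ toSL_mem

theorem toQd_inj {p : ℕ} : Function.Injective (toQd : H1 p →* Cfsg.qd p) := by
  intro x y h
  have h0 : toSL x = toSL y := congrArg Subtype.val h
  have h1 : M3 x = M3 y := congrArg Subtype.val h0
  refine Cfsg.Agent.S3799.Heis.ext (funext fun j => ?_) (funext fun j => ?_) ?_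
  · have := congrFun (congrFun h1 0) 1
    rw [Subsingleton.elim j 0]
    simpa [M3] using this
  · have := congrFun (congrFun h1 1) 2
    rw [Subsingleton.elim j 0]
    simpa [M3] using this
  · have := congrFun (congrFun h1 0) 2
    simpa [M3] using this

theorem not_dvd_pow_sub_one {p : ℕ} (hpp : p.Prime) (j : ℕ) (hj : 1 ≤ j) : ¬ p ∣ p ^ j - 1 := by
  intro hd
  have h1 : p ∣ p ^ j := dvd_pow_self p (by omega)
  have h2 : p ∣ p ^ j - (p ^ j - 1) := Nat.dvd_sub h1 hd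
  have h3 : p ^ j - (p ^ j - 1) = 1 := by
    have := Nat.one_le_pow j p hpp.pos
    omega
  rw [h3] at h2
  exact hpp.one_lt.ne' (Nat.dvd_one.mp h2)

theorem card_qd_dvd (p : ℕ) [Fact p.Prime] :
    Nat.card (Cfsg.qd p) ∣ p ^ 3 * ((p ^ 3 - 1) * (p ^ 2 - 1) * (p - 1)) := by
  have h1 : Nat.card (Cfsg.qd p) ∣ Nat.card (SpecialLinearGroup (Fin 3) (ZMod p)) :=
    Subgroup.card_subgroup_dvd_card _
  have h2 := Subgroup.card_dvd_of_injective
    (Matrix.SpecialLinearGroup.toGL (n := Fin 3) (R := ZMod p))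
    Matrix.SpecialLinearGroup.toGL_injective
  have h3 : Nat.card (GL (Fin 3) (ZMod p)) = p ^ 3 * ((p ^ 3 - 1) * (p ^ 2 - 1) * (p - 1)) := by
    rw [Matrix.card_GL_field, ZMod.card, Fin.prod_univ_three]
    have hp1 : 1 ≤ p := (Fact.out : p.Prime).pos
    have e1 : p ^ 3 - p ^ ((1 : Fin 3) : ℕ) = p * (p ^ 2 - 1) := by
      rw [Nat.mul_sub]; simp; ring_nf
    have e2 : p ^ 3 - p ^ ((2 : Fin 3) : ℕ) = p ^ 2 * (p - 1) := by
      rw [Nat.mul_sub]; simp; ring_nf
    rw [e1, e2]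
    simp
    ring
  rw [← h3]
  exact h1.trans h2

/-- Let p be an odd prime. A Sylow p-subgroup of Qd(p), the split extension of an elementary abelian group of order p² by SL₂(p) acting naturally, is extraspecial of order p³ and exponent p. -/
theorem result (p : ℕ) [Fact p.Prime] (hp : p ≠ 2) (P : Sylow p ↥(Cfsg.qd p)) :
    Cfsg.IsExtraspecial p ↥P ∧ Nat.card P = p ^ 3 ∧ Monoid.exponent ↥P = p := by
  classical
  have hpp : p.Prime := Fact.out
  let U : Subgroup (Cfsg.qd p) := (toQd : H1 p →* Cfsg.qd p).range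
  let eU : H1 p ≃* U := MonoidHom.ofInjective toQd_inj
  have hcU : Nat.card U = p ^ 3 := by
    rw [← Nat.card_congr eU.toEquiv, Heis.card_heis]
  have hUp : IsPGroup p U := IsPGroup.of_card hcU
  obtain ⟨Q, hQ⟩ := hUp.exists_le_sylow
  have hcard : ∀ P' : Sylow p (Cfsg.qd p), Nat.card P' = p ^ 3 := by
    intro P'
    have h1 := P'.card_eq_multiplicity
    have h2 := Q.card_eq_multiplicity
    set e := (Nat.card (Cfsg.qd p)).factorization p with he
    have h3 : p ^ 3 ∣ p ^ e := by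
      rw [← hcU, ← h2]
      exact Subgroup.card_dvd_of_le hQ
    have h4 : 3 ≤ e := (Nat.pow_dvd_pow_iff_le_right hpp.one_lt).mp h3
    have h5 : p ^ e ∣ Nat.card (Cfsg.qd p) := by
      rw [← h2]; exact Subgroup.card_subgroup_dvd_card _
    have h6 := h5.trans (card_qd_dvd p)
    have hcop : Nat.Coprime (p ^ e) ((p ^ 3 - 1) * (p ^ 2 - 1) * (p - 1)) := by
      apply Nat.Coprime.pow_left
      rw [Nat.Prime.coprime_iff_not_dvd hpp]
      intro hd
      rcases (Nat.Prime.dvd_mul hpp).mp hd with hd | hd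
      · rcases (Nat.Prime.dvd_mul hpp).mp hd with hd | hd
        · exact not_dvd_pow_sub_one hpp 3 (by norm_num) hd
        · exact not_dvd_pow_sub_one hpp 2 (by norm_num) hd
      · exact not_dvd_pow_sub_one hpp 1 (by norm_num) (by rw [pow_one]; exact hd)
    have h7 : p ^ e ∣ p ^ 3 := hcop.dvd_of_dvd_mul_right h6
    have h8 : e ≤ 3 := (Nat.pow_dvd_pow_iff_le_right hpp.one_lt).mp h7
    have h9 : e = 3 := le_antisymm h8 h4
    rw [h1, h9]
  have hQU : (Q : Subgroup (Cfsg.qd p)) = U :=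
    (Subgroup.eq_of_le_of_card_ge hQ (by rw [hcU, hcard Q])).symm
  obtain ⟨g, hg⟩ := MulAction.exists_smul_eq (Cfsg.qd p) P Q
  let e1 : P ≃* (g • P : Sylow p (Cfsg.qd p)) := Sylow.equivSMul P g
  have e2 : (g • P : Sylow p (Cfsg.qd p)) ≃* U :=
    MulEquiv.subgroupCongr (by rw [hg, hQU])
  let eP : H1 p ≃* P := eU.trans (e1.trans e2).symm
  have hex : ∀ x : P, x ^ p = 1 := by
    intro x
    obtain ⟨y, rfl⟩ := eP.surjective x
    rw [← map_pow, Heis.pow_p hp, map_one]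
  refine ⟨extraspecial_of_equiv eP (Heis.extraspecial le_rfl), hcard P, ?_⟩
  have hdvd : Monoid.exponent P ∣ p := Monoid.exponent_dvd_of_forall_pow_eq_one hex
  rcases (Nat.dvd_prime hpp).mp hdvd with h1 | h1
  · exfalso
    have hsub : Subsingleton P := Monoid.exp_eq_one_iff.mp h1
    have hc1 : Nat.card P = 1 := Nat.card_eq_one_iff_unique.mpr ⟨hsub, ⟨1⟩⟩
    rw [hcard P] at hc1
    have := Nat.one_lt_pow (n := 3) (by norm_num) hpp.one_lt
    omega
  · exact h1

end Cfsg.Agent.S3074
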