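import Cfsg.Statements.S2763
import Mathlib
import Cfsg.Agent.S3799
import Cfsg.Agent.S3074
-- import your own Cfsg.Agent.* helpers here

set_option autoImplicit false
open Cfsg

namespace Cfsg.Agent.S2763

open Matrix Cfsg.Agent.S3799 Cfsg.Agent.S3074

variable {p : ℕ}

/-- The underlying matrix of an element of `Qd(p)`. -/
def mat (x : ↥(Cfsg.qd p)) : Matrix (Fin 3) (Fin 3) (ZMod p) :=
  ((x : Matrix.SpecialLinearGroup (Fin 3) (ZMod p)) : Matrix (Fin 3) (Fin 3) (ZMod p))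

theorem mat_mul (x y : ↥(Cfsg.qd p)) : mat (x * y) = mat x * mat y := rfl

theorem mat_inj : Function.Injective (mat : ↥(Cfsg.qd p) → _) :=
  fun _ _ h => Subtype.ext (Subtype.ext h)

theorem mat_mul_apply (x y : ↥(Cfsg.qd p)) (i j : Fin 3) :
    mat (x * y) i j = mat x i 0 * mat y 0 j + mat x i 1 * mat y 1 j + mat x i 2 * mat y 2 j := by
  rw [mat_mul, Matrix.mul_apply, Fin.sum_univ_three]

theorem mem_qd_iff (M : Matrix.SpecialLinearGroup (Fin 3) (ZMod p)) : M ∈ Cfsg.qd p ↔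
    (M : Matrix (Fin 3) (Fin 3) (ZMod p)) 2 0 = 0 ∧ (M : Matrix (Fin 3) (Fin 3) (ZMod p)) 2 1 = 0 ∧
      (M : Matrix (Fin 3) (Fin 3) (ZMod p)) 2 2 = 1 := by
  constructor
  · intro h
    unfold Cfsg.qd at h
    induction h using Subgroup.closure_induction with
    | mem x hx => exact hx
    | one => exact ⟨by simp, by simp, by simp⟩
    | mul x y _ _ hx hy =>
      obtain ⟨h0, h1, h2⟩ := hx
      obtain ⟨k0, k1, k2⟩ := hy
      refine ⟨?_, ?_, ?_⟩
      · simp [Matrix.mul_apply, Fin.sum_univ_three, h0, h1, h2, k0]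
      · simp [Matrix.mul_apply, Fin.sum_univ_three, h0, h1, h2, k1]
      · simp [Matrix.mul_apply, Fin.sum_univ_three, h0, h1, h2, k2]
    | inv x _ hx =>
      obtain ⟨h0, h1, h2⟩ := hx
      have hdet : (x : Matrix (Fin 3) (Fin 3) (ZMod p)).det = 1 := x.2
      rw [Matrix.det_fin_three, h0, h1, h2] at hdet
      refine ⟨?_, ?_, ?_⟩
      · rw [Matrix.SpecialLinearGroup.coe_inv, Matrix.adjugate_fin_three]
        simp [h0, h1]
      · rw [Matrix.SpecialLinearGroup.coe_inv, Matrix.adjugate_fin_three]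
        simp [h0, h1]
      · rw [Matrix.SpecialLinearGroup.coe_inv, Matrix.adjugate_fin_three]
        simp
        linear_combination hdet
  · intro h
    exact Subgroup.subset_closure h

theorem mat_row (x : ↥(Cfsg.qd p)) : mat x 2 0 = 0 ∧ mat x 2 1 = 0 ∧ mat x 2 2 = 1 :=
  (mem_qd_iff _).1 x.2

theorem mat_det2 (x : ↥(Cfsg.qd p)) : mat x 0 0 * mat x 1 1 - mat x 0 1 * mat x 1 0 = 1 := by
  obtain ⟨r0, r1, r2⟩ := mat_row x
  have hdet : (mat x).det = 1 := x.1.2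
  rw [Matrix.det_fin_three, r0, r1, r2] at hdet
  linear_combination hdet

theorem mat_toQd (x : H1 p) : mat (toQd x) = M3 x := rfl

theorem toQd_entries (x : H1 p) :
    mat (toQd x) 0 0 = 1 ∧ mat (toQd x) 0 1 = x.a 0 ∧ mat (toQd x) 0 2 = x.c ∧
    mat (toQd x) 1 0 = 0 ∧ mat (toQd x) 1 1 = 1 ∧ mat (toQd x) 1 2 = x.b 0 ∧
    mat (toQd x) 2 0 = 0 ∧ mat (toQd x) 2 1 = 0 ∧ mat (toQd x) 2 2 = 1 := by
  refine ⟨?_, ?_, ?_, ?_, ?_, ?_, ?_, ?_, ?_⟩ <;> simp [mat_toQd, M3]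

/-- The upper unitriangular subgroup. -/
def U (p : ℕ) : Subgroup ↥(Cfsg.qd p) := (toQd : H1 p →* ↥(Cfsg.qd p)).range

theorem mem_U_iff (w : ↥(Cfsg.qd p)) : w ∈ U p ↔ mat w 1 0 = 0 ∧ mat w 0 0 = 1 := by
  constructor
  · rintro ⟨x, rfl⟩
    obtain ⟨h00, h01, h02, h10, h11, h12, h20, h21, h22⟩ := toQd_entries x
    exact ⟨h10, h00⟩
  · rintro ⟨h10, h00⟩
    obtain ⟨r0, r1, r2⟩ := mat_row w
    have d := mat_det2 w
    have h11 : mat w 1 1 = 1 := by
      linear_combination d - mat w 1 1 * h00 + mat w 0 1 * h10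
    refine ⟨⟨fun _ => mat w 0 1, fun _ => mat w 1 2, mat w 0 2⟩, ?_⟩
    apply mat_inj
    rw [mat_toQd]
    ext i j
    fin_cases i <;> fin_cases j <;> simp [M3, h10, h00, h11, r0, r1, r2]

theorem ext1 {x y : H1 p} (ha : x.a 0 = y.a 0) (hb : x.b 0 = y.b 0) (hc : x.c = y.c) : x = y := by
  refine Cfsg.Agent.S3799.Heis.ext (funext fun j => ?_) (funext fun j => ?_) hc
  · rw [Subsingleton.elim j 0]; exact ha
  · rw [Subsingleton.elim j 0]; exact hb

theorem dot1 (u v : Fin 1 → ZMod p) : u ⬝ᵥ v = u 0 * v 0 := by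
  simp [dotProduct]

/-- The automorphism of the Heisenberg group exchanging the two coordinates. -/
def swapH : H1 p ≃* H1 p where
  toFun x := ⟨x.b, x.a, x.a 0 * x.b 0 - x.c⟩
  invFun x := ⟨x.b, x.a, x.a 0 * x.b 0 - x.c⟩
  left_inv x := by
    apply ext1
    · rfl
    · rfl
    · show x.b 0 * x.a 0 - (x.a 0 * x.b 0 - x.c) = x.c
      ring
  right_inv x := by
    apply ext1
    · rfl
    · rfl
    · show x.b 0 * x.a 0 - (x.a 0 * x.b 0 - x.c) = x.c
      ring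
  map_mul' x y := by
    apply ext1
    · rfl
    · rfl
    · show (x * y).a 0 * (x * y).b 0 - (x * y).c
        = (x.a 0 * x.b 0 - x.c) + (y.a 0 * y.b 0 - y.c) + x.b ⬝ᵥ y.a
      rw [Heis.mul_c, dot1, dot1, Heis.mul_a, Heis.mul_b]
      simp only [Pi.add_apply]
      ring

theorem pow_a0 (β γ : ZMod p) (k : ℕ) :
    ((⟨fun _ => 0, fun _ => β, γ⟩ : H1 p)) ^ k = ⟨fun _ => 0, fun _ => k * β, k * γ⟩ := by
  induction k with
  | zero =>
    apply ext1
    · simp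
    · simp
    · simp
  | succ k ih =>
    rw [pow_succ, ih]
    apply ext1
    · simp
    · simp only [Heis.mul_b, Pi.add_apply]
      push_cast
      ring
    · simp only [Heis.mul_c, dot1]
      push_cast
      ring

theorem exists_nat_mul [Fact p.Prime] (b c : ZMod p) (hb : b ≠ 0) :
    ∃ k : ℕ, (k : ZMod p) * b = c :=
  ⟨(c * b⁻¹).val, by rw [ZMod.natCast_zmod_val]; field_simp⟩

theorem heis_char [Fact p.Prime] (T' : Subgroup (H1 p)) (hne : T' ≠ ⊥) (hch : T'.Characteristic) :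
    (∀ c : ZMod p, (⟨fun _ => 0, fun _ => 0, c⟩ : H1 p) ∈ T') ∧
      (T' = ⊤ ∨ ∀ x ∈ T', x.a 0 = 0 → x.b 0 = 0) := by
  classical
  have hn : T'.Normal := Subgroup.normal_of_characteristic T'
  have hc0 : ∃ c₀ : ZMod p, c₀ ≠ 0 ∧ (⟨fun _ => 0, fun _ => 0, c₀⟩ : H1 p) ∈ T' := by
    rcases T'.bot_or_exists_ne_one with h | ⟨x, hx, hx1⟩
    · exact absurd h hne
    · by_cases ha : x.a 0 = 0
      · by_cases hb : x.b 0 = 0
        · refine ⟨x.c, ?_, ?_⟩
          · intro hc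
            apply hx1
            apply ext1
            · simpa using ha
            · simpa using hb
            · simpa using hc
          · have : x = ⟨fun _ => 0, fun _ => 0, x.c⟩ := by
              apply ext1
              · simpa using ha
              · simpa using hb
              · rfl
            rw [← this]; exact hx
        · refine ⟨-x.b 0, neg_ne_zero.mpr hb, ?_⟩
          let y : H1 p := ⟨fun _ => 1, fun _ => 0, 0⟩
          have h1 : y * x⁻¹ * y⁻¹ ∈ T' := hn.conj_mem _ (inv_mem hx) y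
          have h2 : x * (y * x⁻¹ * y⁻¹) ∈ T' := mul_mem hx h1
          have : x * (y * x⁻¹ * y⁻¹) = ⟨fun _ => 0, fun _ => 0, -x.b 0⟩ := by
            apply ext1
            · simp [y]
            · simp [y]
            · simp [y, dot1, ha]
          rw [← this]; exact h2
      · refine ⟨x.a 0, ha, ?_⟩
        let y : H1 p := ⟨fun _ => 0, fun _ => 1, 0⟩
        have h1 : y * x⁻¹ * y⁻¹ ∈ T' := hn.conj_mem _ (inv_mem hx) y
        have h2 : x * (y * x⁻¹ * y⁻¹) ∈ T' := mul_mem hx h1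
        have : x * (y * x⁻¹ * y⁻¹) = ⟨fun _ => 0, fun _ => 0, x.a 0⟩ := by
          apply ext1
          · simp [y]
          · simp [y]
          · simp [y, dot1]
            ring
        rw [← this]; exact h2
  obtain ⟨c₀, hc₀, hc₀T⟩ := hc0
  have hcen : ∀ c : ZMod p, (⟨fun _ => 0, fun _ => 0, c⟩ : H1 p) ∈ T' := by
    intro c
    obtain ⟨k, hk⟩ := exists_nat_mul c₀ c hc₀
    have h1 := T'.pow_mem hc₀T k
    rw [pow_a0] at h1
    have : (⟨fun _ => 0, fun _ => (k : ZMod p) * 0, (k : ZMod p) * c₀⟩ : H1 p)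
        = ⟨fun _ => 0, fun _ => 0, c⟩ := by
      apply ext1
      · rfl
      · simp
      · exact hk
    rw [this] at h1; exact h1
  refine ⟨hcen, ?_⟩
  by_contra hcon
  rw [not_or] at hcon
  obtain ⟨htop, hcon2⟩ := hcon
  rw [not_forall] at hcon2
  obtain ⟨x, hcon3⟩ := hcon2
  rw [Classical.not_imp] at hcon3
  obtain ⟨hx, hcon4⟩ := hcon3
  rw [Classical.not_imp] at hcon4
  obtain ⟨hxa, hxb⟩ := hcon4
  apply htop
  rw [eq_top_iff]
  intro w _
  have hi : ∀ β γ : ZMod p, (⟨fun _ => 0, fun _ => β, γ⟩ : H1 p) ∈ T' := by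
    intro β γ
    obtain ⟨k, hk⟩ := exists_nat_mul (x.b 0) β hxb
    have hxe : x = ⟨fun _ => 0, fun _ => x.b 0, x.c⟩ := by
      apply ext1
      · simpa using hxa
      · rfl
      · rfl
    have h1 : (⟨fun _ => 0, fun _ => x.b 0, x.c⟩ : H1 p) ^ k ∈ T' := by
      rw [← hxe]; exact T'.pow_mem hx k
    rw [pow_a0] at h1
    have h2 := hcen (γ - (k : ZMod p) * x.c)
    have h3 := mul_mem h1 h2
    have : (⟨fun _ => 0, fun _ => (k : ZMod p) * x.b 0, (k : ZMod p) * x.c⟩ : H1 p)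
        * ⟨fun _ => 0, fun _ => 0, γ - (k : ZMod p) * x.c⟩ = ⟨fun _ => 0, fun _ => β, γ⟩ := by
      apply ext1
      · simp
      · simp [hk]
      · simp [dot1]
    rw [this] at h3; exact h3
  have hii : ∀ α γ : ZMod p, (⟨fun _ => α, fun _ => 0, γ⟩ : H1 p) ∈ T' := by
    intro α γ
    have h1 : (⟨fun _ => 0, fun _ => α, -γ⟩ : H1 p) ∈ T'.comap swapH.toMonoidHom := by
      rw [hch.fixed]; exact hi α (-γ)
    have h2 : swapH (⟨fun _ => 0, fun _ => α, -γ⟩ : H1 p) ∈ T' := h1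
    have : swapH (⟨fun _ => 0, fun _ => α, -γ⟩ : H1 p) = ⟨fun _ => α, fun _ => 0, γ⟩ := by
      apply ext1
      · rfl
      · rfl
      · show (0 : ZMod p) * α - -γ = γ
        ring
    rw [this] at h2; exact h2
  have : w = (⟨fun _ => w.a 0, fun _ => 0, 0⟩ : H1 p)
      * ⟨fun _ => 0, fun _ => w.b 0, w.c - w.a 0 * w.b 0⟩ := by
    apply ext1
    · simp
    · simp
    · simp [dot1]
  rw [this]
  exact mul_mem (hii _ _) (hi _ _)

theorem z_entries :
    mat (toQd (⟨fun _ => 0, fun _ => 0, 1⟩ : H1 p)) 0 0 = 1 ∧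
    mat (toQd (⟨fun _ => 0, fun _ => 0, 1⟩ : H1 p)) 0 1 = 0 ∧
    mat (toQd (⟨fun _ => 0, fun _ => 0, 1⟩ : H1 p)) 0 2 = 1 ∧
    mat (toQd (⟨fun _ => 0, fun _ => 0, 1⟩ : H1 p)) 1 0 = 0 ∧
    mat (toQd (⟨fun _ => 0, fun _ => 0, 1⟩ : H1 p)) 1 1 = 1 ∧
    mat (toQd (⟨fun _ => 0, fun _ => 0, 1⟩ : H1 p)) 1 2 = 0 ∧
    mat (toQd (⟨fun _ => 0, fun _ => 0, 1⟩ : H1 p)) 2 0 = 0 ∧
    mat (toQd (⟨fun _ => 0, fun _ => 0, 1⟩ : H1 p)) 2 1 = 0 ∧
    mat (toQd (⟨fun _ => 0, fun _ => 0, 1⟩ : H1 p)) 2 2 = 1 :=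
  toQd_entries (⟨fun _ => 0, fun _ => 0, 1⟩ : H1 p)

theorem key_norm (m : ↥(Cfsg.qd p)) (x : H1 p) (hx : x.a 0 = 0 → x.b 0 = 0)
    (h : m * toQd (⟨fun _ => 0, fun _ => 0, 1⟩ : H1 p) = toQd x * m) : mat m 1 0 = 0 := by
  obtain ⟨r0, r1, r2⟩ := mat_row m
  have d := mat_det2 m
  obtain ⟨z00, z01, z02, z10, z11, z12, z20, z21, z22⟩ := z_entries (p := p)
  obtain ⟨w00, w01, w02, w10, w11, w12, w20, w21, w22⟩ := toQd_entries x
  have e00 := congrFun (congrFun (congrArg mat h) 0) 0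
  have e01 := congrFun (congrFun (congrArg mat h) 0) 1
  have e12 := congrFun (congrFun (congrArg mat h) 1) 2
  rw [mat_mul_apply, mat_mul_apply, z00, z10, z20, w00, w01, w02] at e00
  rw [mat_mul_apply, mat_mul_apply, z01, z11, z21, w00, w01, w02] at e01
  rw [mat_mul_apply, mat_mul_apply, z02, z12, z22, w10, w11, w12] at e12
  have h1 : x.a 0 * mat m 1 0 = 0 := by
    linear_combination (-1 : ZMod p) * e00 - x.c * r0
  have h2 : x.a 0 * mat m 1 1 = 0 := by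
    linear_combination (-1 : ZMod p) * e01 - x.c * r1
  have ha : x.a 0 = 0 := by
    linear_combination (-(x.a 0)) * d + mat m 0 0 * h2 - mat m 0 1 * h1
  have hb : x.b 0 = 0 := hx ha
  linear_combination e12 + x.b 0 * r2 + hb

theorem conj_mem_U (m w u : ↥(Cfsg.qd p)) (hm : mat m 1 0 = 0) (hu : u ∈ U p)
    (h : w * m = m * u) : w ∈ U p := by
  rw [mem_U_iff] at hu ⊢
  obtain ⟨u10, u00⟩ := hu
  obtain ⟨r0, r1, r2⟩ := mat_row m
  obtain ⟨u20, u21, u22⟩ := mat_row u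
  have d := mat_det2 m
  have e10 := congrFun (congrFun (congrArg mat h) 1) 0
  have e00 := congrFun (congrFun (congrArg mat h) 0) 0
  rw [mat_mul_apply, mat_mul_apply] at e10 e00
  have h1 : mat w 1 0 * mat m 0 0 = 0 := by
    linear_combination e10 - mat w 1 1 * hm - mat w 1 2 * r0 + mat u 0 0 * hm
      + mat m 1 1 * u10 + mat m 1 2 * u20
  have h2 : mat w 0 0 * mat m 0 0 = mat m 0 0 := by
    linear_combination e00 - mat w 0 1 * hm - mat w 0 2 * r0 + mat m 0 0 * u00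
      + mat m 0 1 * u10 + mat m 0 2 * u20
  refine ⟨?_, ?_⟩
  · linear_combination (-(mat w 1 0)) * d + mat m 1 1 * h1 - (mat w 1 0 * mat m 0 1) * hm
  · linear_combination (-(mat w 0 0 - 1)) * d + mat m 1 1 * h2
      - ((mat w 0 0 - 1) * mat m 0 1) * hm

/-- A Weyl element. -/
def w0 : Matrix.SpecialLinearGroup (Fin 3) (ZMod p) :=
  ⟨!![0, -1, 0; 1, 0, 0; 0, 0, 1], by simp [Matrix.det_fin_three]⟩

theorem w0_mem : (w0 : Matrix.SpecialLinearGroup (Fin 3) (ZMod p)) ∈ Cfsg.qd p := by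
  rw [mem_qd_iff]
  refine ⟨?_, ?_, ?_⟩ <;> simp [w0]

theorem not_normal_aux [Fact p.Prime] (w : ↥(Cfsg.qd p)) (hw : w ∈ U p)
    (h : w * (⟨w0, w0_mem⟩ : ↥(Cfsg.qd p))
      = (⟨w0, w0_mem⟩ : ↥(Cfsg.qd p)) * toQd (⟨fun _ => 1, fun _ => 0, 0⟩ : H1 p)) : False := by
  rw [mem_U_iff] at hw
  obtain ⟨h10, h00⟩ := hw
  have e := congrFun (congrFun (congrArg mat h) 1) 1
  rw [mat_mul_apply, mat_mul_apply] at e
  obtain ⟨u00, u01, u02, u10, u11, u12, u20, u21, u22⟩ :=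
    toQd_entries (⟨fun _ => 1, fun _ => 0, 0⟩ : H1 p)
  have n01 : mat (⟨w0, w0_mem⟩ : ↥(Cfsg.qd p)) 0 1 = -1 := by simp [mat, w0]
  have n11 : mat (⟨w0, w0_mem⟩ : ↥(Cfsg.qd p)) 1 1 = 0 := by simp [mat, w0]
  have n21 : mat (⟨w0, w0_mem⟩ : ↥(Cfsg.qd p)) 2 1 = 0 := by simp [mat, w0]
  have n10 : mat (⟨w0, w0_mem⟩ : ↥(Cfsg.qd p)) 1 0 = 1 := by simp [mat, w0]
  have n12 : mat (⟨w0, w0_mem⟩ : ↥(Cfsg.qd p)) 1 2 = 0 := by simp [mat, w0]
  rw [n01, n11, n21, n10, n12, u01, u11, u21, h10] at e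
  simp at e

theorem le_normalizer_of {G : Type*} [Group G] (H N : Subgroup G)
    (h : ∀ n ∈ N, ∀ x ∈ H, n * x * n⁻¹ ∈ H) : N ≤ Subgroup.normalizer (H : Set G) := by
  intro n hn
  rw [Subgroup.mem_normalizer_iff]
  intro x
  constructor
  · exact h n hn x
  · intro hx
    have := h n⁻¹ (inv_mem hn) _ hx
    have e : n⁻¹ * (n * x * n⁻¹) * n⁻¹⁻¹ = x := by group
    rwa [e] at this

theorem sylow_conj [Fact p.Prime] (S : Sylow p ↥(Cfsg.qd p)) :
    ∃ g : ↥(Cfsg.qd p), ∀ s, s ∈ (S : Subgroup ↥(Cfsg.qd p)) ↔ g⁻¹ * s * g ∈ U p := by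
  classical
  have hpp : p.Prime := Fact.out
  let eU : H1 p ≃* U p := MonoidHom.ofInjective toQd_inj
  have hcU : Nat.card (U p) = p ^ 3 := by
    rw [← Nat.card_congr eU.toEquiv, Heis.card_heis]
  have hUp : IsPGroup p (U p) := IsPGroup.of_card hcU
  obtain ⟨Q, hQ⟩ := hUp.exists_le_sylow
  have hcardQ : Nat.card Q = p ^ 3 := by
    have h2 := Q.card_eq_multiplicity
    set e := (Nat.card (Cfsg.qd p)).factorization p with he
    have h3 : p ^ 3 ∣ p ^ e := by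
      rw [← hcU, ← h2]
      exact Subgroup.card_dvd_of_le hQ
    have h4 : 3 ≤ e := (Nat.pow_dvd_pow_iff_le_right hpp.one_lt).mp h3
    have h5 : p ^ e ∣ Nat.card (Cfsg.qd p) := by
      rw [← h2]; exact Subgroup.card_subgroup_dvd_card _
    have h6 := h5.trans (card_qd_dvd p)
    have hcop : Nat.Coprime (p ^ e) ((p ^ 3 - 1) * (p ^ 2 - 1) * (p - 1)) := by
      apply Nat.Coprime.pow_left
      rw [Nat.Prime.coprime_iff_not_dvd hpp]
      intro hd
      rcases (Nat.Prime.dvd_mul hpp).mp hd with hd | hd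
      · rcases (Nat.Prime.dvd_mul hpp).mp hd with hd | hd
        · exact not_dvd_pow_sub_one hpp 3 (by norm_num) hd
        · exact not_dvd_pow_sub_one hpp 2 (by norm_num) hd
      · exact not_dvd_pow_sub_one hpp 1 (by norm_num) (by rw [pow_one]; exact hd)
    have h7 : p ^ e ∣ p ^ 3 := hcop.dvd_of_dvd_mul_right h6
    have h8 : e ≤ 3 := (Nat.pow_dvd_pow_iff_le_right hpp.one_lt).mp h7
    have h9 : e = 3 := le_antisymm h8 h4
    rw [h2, h9]
  have hQU : (Q : Subgroup (Cfsg.qd p)) = U p :=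
    (Subgroup.eq_of_le_of_card_ge hQ (by rw [hcU, hcardQ])).symm
  obtain ⟨g, hg⟩ := MulAction.exists_smul_eq (Cfsg.qd p) Q S
  refine ⟨g, fun s => ?_⟩
  rw [← hQU, ← hg, Sylow.coe_subgroup_smul, Subgroup.mem_pointwise_smul_iff_inv_smul_mem]
  simp [MulAut.smul_def]

/-- In the group Qd(p) (p prime; the natural semidirect product of an elementary abelian group of order p² by SL₂(p)), the normalizer of every nontrivial characteristic subgroup of a Sylow p-subgroup S equals the normalizer of S, which is a proper subgroup; in particular no such characteristic subgroup is normal. -/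
theorem result {p : ℕ} [Fact p.Prime] (S : Sylow p ↥(Cfsg.qd p)) (T : Subgroup ↥(S : Subgroup ↥(Cfsg.qd p))) (hT : T ≠ ⊥) (hTc : T.Characteristic) : Subgroup.normalizer ((T.map (S : Subgroup ↥(Cfsg.qd p)).subtype : Subgroup ↥(Cfsg.qd p)) : Set ↥(Cfsg.qd p)) = Subgroup.normalizer ((S : Subgroup ↥(Cfsg.qd p)) : Set ↥(Cfsg.qd p)) ∧ Subgroup.normalizer ((S : Subgroup ↥(Cfsg.qd p)) : Set ↥(Cfsg.qd p)) ≠ ⊤ := by
  classical
  obtain ⟨g, hg⟩ := sylow_conj S
  have hψmem : ∀ x : H1 p, g * toQd x * g⁻¹ ∈ (S : Subgroup ↥(Cfsg.qd p)) := by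
    intro x
    rw [hg]
    have : g⁻¹ * (g * toQd x * g⁻¹) * g = toQd x := by group
    rw [this]
    exact ⟨x, rfl⟩
  have hψsurj : ∀ s ∈ (S : Subgroup ↥(Cfsg.qd p)), ∃ x : H1 p, g * toQd x * g⁻¹ = s := by
    intro s hs
    obtain ⟨x, hx⟩ := (hg s).1 hs
    refine ⟨x, ?_⟩
    rw [hx]; group
  let ψ : H1 p →* ↥(S : Subgroup ↥(Cfsg.qd p)) :=
    { toFun := fun x => ⟨g * toQd x * g⁻¹, hψmem x⟩
      map_one' := by
        apply Subtype.ext
        show g * toQd 1 * g⁻¹ = 1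
        rw [map_one]; group
      map_mul' := fun x y => by
        apply Subtype.ext
        show g * toQd (x * y) * g⁻¹ = (g * toQd x * g⁻¹) * (g * toQd y * g⁻¹)
        rw [map_mul]; group }
  have hψinj : Function.Injective ψ := by
    intro x y h
    have h1 : g * toQd x * g⁻¹ = g * toQd y * g⁻¹ := congrArg Subtype.val h
    have h2 : toQd x = toQd y := by simpa using h1
    exact toQd_inj h2
  have hψsur : Function.Surjective ψ := by
    intro s
    obtain ⟨x, hx⟩ := hψsurj s.1 s.2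
    exact ⟨x, Subtype.ext hx⟩
  let e : H1 p ≃* ↥(S : Subgroup ↥(Cfsg.qd p)) := MulEquiv.ofBijective ψ ⟨hψinj, hψsur⟩
  have heψ : ∀ x, e x = ψ x := fun x => rfl
  let T' : Subgroup (H1 p) := T.comap e.toMonoidHom
  have hT'mem : ∀ x, x ∈ T' ↔ e x ∈ T := fun x => Iff.rfl
  have hT'ne : T' ≠ ⊥ := by
    rcases T.bot_or_exists_ne_one with h | ⟨t, ht, ht1⟩
    · exact absurd h hT
    · intro hbot
      have h1 : e.symm t ∈ T' := by
        rw [hT'mem, MulEquiv.apply_symm_apply]; exact ht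
      rw [hbot, Subgroup.mem_bot] at h1
      apply ht1
      have := congrArg e h1
      rwa [MulEquiv.apply_symm_apply, map_one] at this
  have hT'ch : T'.Characteristic := by
    refine ⟨fun φ => ?_⟩
    ext x
    have h1 := hTc.fixed (e.symm.trans (φ.trans e))
    have h2 : e x ∈ T.comap (e.symm.trans (φ.trans e)).toMonoidHom ↔ e x ∈ T := by rw [h1]
    rw [Subgroup.mem_comap] at h2
    have h3 : (e.symm.trans (φ.trans e)).toMonoidHom (e x) = e (φ x) := by simp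
    rw [h3] at h2
    exact h2
  obtain ⟨hcen, hcase⟩ := heis_char T' hT'ne hT'ch
  have hTG : ∀ x : ↥(Cfsg.qd p), x ∈ T.map (S : Subgroup ↥(Cfsg.qd p)).subtype ↔
      ∃ h : x ∈ (S : Subgroup ↥(Cfsg.qd p)), (⟨x, h⟩ : ↥(S : Subgroup ↥(Cfsg.qd p))) ∈ T := by
    intro x
    constructor
    · rintro ⟨t, ht, rfl⟩
      exact ⟨t.2, ht⟩
    · rintro ⟨h, ht⟩
      exact ⟨⟨x, h⟩, ht, rfl⟩
  have hne : Subgroup.normalizer ((S : Subgroup ↥(Cfsg.qd p)) : Set ↥(Cfsg.qd p)) ≠ ⊤ := by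
    intro htop
    let n₀ : ↥(Cfsg.qd p) := ⟨w0, w0_mem⟩
    let u₀ : ↥(Cfsg.qd p) := toQd (⟨fun _ => 1, fun _ => 0, 0⟩ : H1 p)
    have h1 : g * n₀ * g⁻¹ ∈ Subgroup.normalizer ((S : Subgroup ↥(Cfsg.qd p)) : Set ↥(Cfsg.qd p)) := by
      rw [htop]; exact Subgroup.mem_top _
    rw [Subgroup.mem_normalizer_iff] at h1
    have h2 := (h1 (g * u₀ * g⁻¹)).1 (hψmem _)
    rw [hg] at h2
    have h3 : g⁻¹ * (g * n₀ * g⁻¹ * (g * u₀ * g⁻¹) * (g * n₀ * g⁻¹)⁻¹) * g = n₀ * u₀ * n₀⁻¹ := by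
      group
    rw [h3] at h2
    refine not_normal_aux _ h2 ?_
    show n₀ * u₀ * n₀⁻¹ * n₀ = n₀ * u₀
    group
  have hle1 : Subgroup.normalizer ((S : Subgroup ↥(Cfsg.qd p)) : Set ↥(Cfsg.qd p))
      ≤ Subgroup.normalizer ((T.map (S : Subgroup ↥(Cfsg.qd p)).subtype : Subgroup ↥(Cfsg.qd p)) : Set ↥(Cfsg.qd p)) := by
    apply le_normalizer_of
    intro n hn x hx
    rw [hTG] at hx ⊢
    obtain ⟨hxS, hxT⟩ := hx
    rw [Subgroup.mem_normalizer_iff] at hn
    let φ : ↥(S : Subgroup ↥(Cfsg.qd p)) ≃* ↥(S : Subgroup ↥(Cfsg.qd p)) :=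
      { toFun := fun s => ⟨n * s * n⁻¹, (hn s).1 s.2⟩
        invFun := fun s => ⟨n⁻¹ * s * n, by
          apply (hn (n⁻¹ * s * n)).2
          have e : n * (n⁻¹ * (s : ↥(Cfsg.qd p)) * n) * n⁻¹ = s := by group
          rw [e]; exact s.2⟩
        left_inv := fun s => by
          apply Subtype.ext
          show n⁻¹ * (n * (s : ↥(Cfsg.qd p)) * n⁻¹) * n = s
          group
        right_inv := fun s => by
          apply Subtype.ext
          show n * (n⁻¹ * (s : ↥(Cfsg.qd p)) * n) * n⁻¹ = s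
          group
        map_mul' := fun s t => by
          apply Subtype.ext
          show n * ((s : ↥(Cfsg.qd p)) * t) * n⁻¹ = (n * s * n⁻¹) * (n * t * n⁻¹)
          group }
    have h1 := hTc.fixed φ
    have h2 : (⟨x, hxS⟩ : ↥(S : Subgroup ↥(Cfsg.qd p))) ∈ T.comap φ.toMonoidHom := by
      rw [h1]; exact hxT
    exact ⟨(hn x).1 hxS, h2⟩
  refine ⟨?_, hne⟩
  rcases hcase with htop | hcase2
  · have hTS : T.map (S : Subgroup ↥(Cfsg.qd p)).subtype = (S : Subgroup ↥(Cfsg.qd p)) := by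
      ext x
      rw [hTG]
      constructor
      · rintro ⟨h, _⟩; exact h
      · intro h
        refine ⟨h, ?_⟩
        obtain ⟨y, hy⟩ := hψsur ⟨x, h⟩
        have hy' : y ∈ T' := by rw [htop]; exact Subgroup.mem_top _
        rw [hT'mem, heψ, hy] at hy'
        exact hy'
    rw [hTS]
  · refine le_antisymm ?_ hle1
    have hz0 : ∀ n ∈ Subgroup.normalizer ((T.map (S : Subgroup ↥(Cfsg.qd p)).subtype : Subgroup ↥(Cfsg.qd p)) : Set ↥(Cfsg.qd p)),
        mat (g⁻¹ * n * g) 1 0 = 0 := by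
      intro n hn
      rw [Subgroup.mem_normalizer_iff] at hn
      obtain ⟨z, hz⟩ : ∃ z : H1 p, z = ⟨fun _ => 0, fun _ => 0, 1⟩ := ⟨_, rfl⟩
      have hzT : z ∈ T' := by rw [hz]; exact hcen 1
      have h1 : g * toQd z * g⁻¹ ∈ T.map (S : Subgroup ↥(Cfsg.qd p)).subtype :=
        (hTG _).2 ⟨hψmem z, hzT⟩
      have h2 := (hn _).1 h1
      rw [hTG] at h2
      obtain ⟨h2S, h2T⟩ := h2
      obtain ⟨x, hx⟩ := hψsur ⟨_, h2S⟩
      have hxT' : x ∈ T' := by
        rw [hT'mem, heψ, hx]; exact h2T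
      have hxeq : g * toQd x * g⁻¹ = n * (g * toQd z * g⁻¹) * n⁻¹ := congrArg Subtype.val hx
      have hx2 : toQd x = g⁻¹ * (n * (g * toQd z * g⁻¹) * n⁻¹) * g := by
        rw [← hxeq]; group
      apply key_norm (g⁻¹ * n * g) x (hcase2 x hxT')
      rw [← hz, hx2]
      group
    apply le_normalizer_of
    intro n hn s hs
    rw [hg] at hs ⊢
    refine conj_mem_U (g⁻¹ * n * g) _ (g⁻¹ * s * g) (hz0 n hn) hs ?_
    group

end Cfsg.Agent.S2763
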