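import Cfsg.Statements.S3835
import Mathlib
import Cfsg.Agent.S3799
import Cfsg.Agent.S3074
import Cfsg.Agent.S2762
import Cfsg.Agent.S2763
-- import your own Cfsg.Agent.* helpers here

set_option autoImplicit false
open Cfsg

namespace Cfsg.Agent.S3835

open Matrix Cfsg.Agent.S2762

theorem perm_pgroup_comm {n p : ℕ} [Fact p.Prime] (hn : n < p ^ 2)
    (P : Subgroup (Equiv.Perm (Fin n))) (hP : IsPGroup p P) (x y : Equiv.Perm (Fin n))
    (hx : x ∈ P) (hy : y ∈ P) : x * y = y * x := by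
  classical
  have hpp : p.Prime := Fact.out
  refine Equiv.ext (fun a => ?_)
  obtain ⟨k, hk⟩ := hP.card_orbit a
  have hle : Nat.card (MulAction.orbit P a) ≤ n := by
    have := Nat.card_le_card_of_injective (Subtype.val : MulAction.orbit P a → Fin n)
      Subtype.val_injective
    simpa using this
  have hk1 : k ≤ 1 := by
    by_contra hcon
    have h2 : 2 ≤ k := by omega
    have : p ^ 2 ≤ p ^ k := Nat.pow_le_pow_right hpp.pos h2
    omega
  let φ : P →* Equiv.Perm (MulAction.orbit P a) := MulAction.toPermHom P (MulAction.orbit P a)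
  have hR : IsPGroup p φ.range := by
    rintro ⟨r, g, rfl⟩
    obtain ⟨j, hj⟩ := hP g
    refine ⟨j, ?_⟩
    apply Subtype.ext
    show (φ g) ^ p ^ j = 1
    rw [← map_pow, hj, map_one]
  obtain ⟨j, hj⟩ := IsPGroup.iff_card.mp hR
  have hdvd : Nat.card φ.range ∣ (Nat.card (MulAction.orbit P a)).factorial := by
    rw [← Nat.card_perm]; exact Subgroup.card_subgroup_dvd_card _
  rw [hj, hk] at hdvd
  have hj1 : j ≤ 1 := by
    by_contra hcon
    have h2 : 2 ≤ j := by omega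
    have h3 : p ^ 2 ∣ (p ^ k).factorial := (pow_dvd_pow p h2).trans hdvd
    have hp2 := hpp.two_le
    interval_cases k
    · rw [pow_zero, Nat.factorial_one] at h3
      have := Nat.le_of_dvd (by norm_num) h3
      nlinarith
    · rw [pow_one] at h3
      have hpos : 0 < p := hpp.pos
      have e : p.factorial = p * (p - 1).factorial := by
        obtain ⟨m, rfl⟩ : ∃ m, p = m + 1 := ⟨p - 1, by omega⟩
        rw [Nat.factorial_succ]; simp
      rw [e, sq] at h3
      have h4 : p ∣ (p - 1).factorial := Nat.dvd_of_mul_dvd_mul_left hpos h3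
      have h5 := (Nat.Prime.dvd_factorial hpp).1 h4
      omega
  have hcyc : IsCyclic φ.range :=
    isCyclic_of_card_dvd_prime (p := p) (by
      rw [hj]
      calc p ^ j ∣ p ^ 1 := pow_dvd_pow p hj1
        _ = p := pow_one p)
  have hcomm := hcyc.isMulCommutative.is_comm.comm
    (⟨φ ⟨x, hx⟩, ⟨_, rfl⟩⟩ : φ.range) ⟨φ ⟨y, hy⟩, ⟨_, rfl⟩⟩
  have h4 : φ ⟨x, hx⟩ * φ ⟨y, hy⟩ = φ ⟨y, hy⟩ * φ ⟨x, hx⟩ := congrArg Subtype.val hcomm
  have h5 := congrArg (fun σ : Equiv.Perm (MulAction.orbit P a) =>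
    ((σ ⟨a, MulAction.mem_orbit_self a⟩ : MulAction.orbit P a) : Fin n)) h4
  exact h5

theorem not_involves {p : ℕ} [Fact p.Prime] (n : ℕ) (hn : n < p ^ 2) :
    ¬ Cfsg.Involves ↥(Cfsg.qd p) ↥(alternatingGroup (Fin n)) := by
  classical
  rintro ⟨K, R, hN, ⟨e⟩⟩
  let f : ↥K →* ↥(Cfsg.qd p) := e.toMonoidHom.comp (QuotientGroup.mk' (R.subgroupOf K))
  have hf : Function.Surjective f := e.surjective.comp (QuotientGroup.mk'_surjective _)
  obtain ⟨S⟩ : Nonempty (Sylow p ↥K) := inferInstance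
  let T : Sylow p ↥(Cfsg.qd p) := S.mapSurjective hf
  have hT : (T : Subgroup ↥(Cfsg.qd p)) = (S : Subgroup ↥K).map f := Sylow.coe_mapSurjective hf S
  obtain ⟨g, hg⟩ := Cfsg.Agent.S2763.sylow_conj T
  obtain ⟨x₀, hx₀⟩ : ∃ x₀ : Cfsg.Agent.S3074.H1 p, x₀ = ⟨fun _ => 1, fun _ => 0, 0⟩ := ⟨_, rfl⟩
  obtain ⟨y₀, hy₀⟩ : ∃ y₀ : Cfsg.Agent.S3074.H1 p, y₀ = ⟨fun _ => 0, fun _ => 1, 0⟩ := ⟨_, rfl⟩
  have hmemT : ∀ w : Cfsg.Agent.S3074.H1 p,
      g * Cfsg.Agent.S3074.toQd w * g⁻¹ ∈ (T : Subgroup ↥(Cfsg.qd p)) := by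
    intro w
    rw [hg]
    have : g⁻¹ * (g * Cfsg.Agent.S3074.toQd w * g⁻¹) * g = Cfsg.Agent.S3074.toQd w := by group
    rw [this]
    exact ⟨w, rfl⟩
  have h1 := hmemT x₀
  have h2 := hmemT y₀
  rw [hT] at h1 h2
  obtain ⟨s₁, hs₁, e₁⟩ := h1
  obtain ⟨s₂, hs₂, e₂⟩ := h2
  let P' : Subgroup (Equiv.Perm (Fin n)) :=
    ((S : Subgroup ↥K).map K.subtype).map (alternatingGroup (Fin n)).subtype
  have hP' : IsPGroup p P' := (S.isPGroup'.map K.subtype).map _
  have hc := perm_pgroup_comm hn P' hP'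
    ((s₁ : ↥(alternatingGroup (Fin n))) : Equiv.Perm (Fin n))
    ((s₂ : ↥(alternatingGroup (Fin n))) : Equiv.Perm (Fin n))
    ⟨_, ⟨s₁, hs₁, rfl⟩, rfl⟩ ⟨_, ⟨s₂, hs₂, rfl⟩, rfl⟩
  have hc' : s₁ * s₂ = s₂ * s₁ := Subtype.ext (Subtype.ext hc)
  have h3 : f s₁ * f s₂ = f s₂ * f s₁ := by rw [← map_mul, ← map_mul, hc']
  rw [e₁, e₂] at h3
  have h4 : Cfsg.Agent.S3074.toQd x₀ * Cfsg.Agent.S3074.toQd y₀
      = Cfsg.Agent.S3074.toQd y₀ * Cfsg.Agent.S3074.toQd x₀ := by
    calc Cfsg.Agent.S3074.toQd x₀ * Cfsg.Agent.S3074.toQd y₀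
        = g⁻¹ * ((g * Cfsg.Agent.S3074.toQd x₀ * g⁻¹) * (g * Cfsg.Agent.S3074.toQd y₀ * g⁻¹)) * g := by
          group
      _ = g⁻¹ * ((g * Cfsg.Agent.S3074.toQd y₀ * g⁻¹) * (g * Cfsg.Agent.S3074.toQd x₀ * g⁻¹)) * g := by
          rw [h3]
      _ = Cfsg.Agent.S3074.toQd y₀ * Cfsg.Agent.S3074.toQd x₀ := by group
  rw [← map_mul, ← map_mul] at h4
  have h5 := Cfsg.Agent.S3074.toQd_inj h4
  have h6 := congrArg Cfsg.Agent.S3799.Heis.c h5
  rw [hx₀, hy₀] at h6
  simp [dotProduct] at h6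

variable {F : Type*} [Field F]

/-- Lower unipotent elements of `SL₂`. -/
def lS (t : F) : Matrix.SpecialLinearGroup (Fin 2) F := ⟨!![1, 0; t, 1], by simp [Matrix.det_fin_two]⟩

theorem uS_mul (s t : F) : uS s * uS t = uS (s + t) := by
  apply Subtype.ext
  show (!![1, s; 0, 1] * !![1, t; 0, 1] : Matrix (Fin 2) (Fin 2) F) = !![1, s + t; 0, 1]
  rw [Matrix.mul_fin_two]
  ext i j
  fin_cases i <;> fin_cases j <;> simp <;> ring

theorem lS_mul (s t : F) : lS s * lS t = lS (s + t) := by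
  apply Subtype.ext
  show (!![1, 0; s, 1] * !![1, 0; t, 1] : Matrix (Fin 2) (Fin 2) F) = !![1, 0; s + t, 1]
  rw [Matrix.mul_fin_two]
  ext i j
  fin_cases i <;> fin_cases j <;> simp <;> ring

theorem tau_mul (f g : Fin 2 → F) : tau f * tau g = tau (f + g) := by
  apply mat_inj
  rw [mat_mul, tau_mat, tau_mat, tau_mat]
  ext i j
  fin_cases i <;> fin_cases j <;> simp [Matrix.mul_apply, Fin.sum_univ_three] <;> ring

theorem uLu (x c y : F) :
    (!![1, x; 0, 1] * !![1, 0; c, 1] * !![1, y; 0, 1] : Matrix (Fin 2) (Fin 2) F)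
      = !![1 + x * c, (1 + x * c) * y + x; c, c * y + 1] := by
  rw [Matrix.mul_fin_two, Matrix.mul_fin_two]
  ext i j
  fin_cases i <;> fin_cases j <;> simp <;> ring

theorem sl2_gen (N : Subgroup (Matrix.SpecialLinearGroup (Fin 2) F)) (hu : ∀ t, uS t ∈ N)
    (hl : ∀ t, lS t ∈ N) : N = ⊤ := by
  rw [eq_top_iff]
  have key : ∀ A : Matrix.SpecialLinearGroup (Fin 2) F, A.1 1 0 ≠ 0 → A ∈ N := by
    intro A hc
    obtain ⟨a, ha⟩ : ∃ a : F, a = A.1 0 0 := ⟨_, rfl⟩
    obtain ⟨b, hb⟩ : ∃ b : F, b = A.1 0 1 := ⟨_, rfl⟩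
    obtain ⟨c, hc'⟩ : ∃ c : F, c = A.1 1 0 := ⟨_, rfl⟩
    obtain ⟨d, hd⟩ : ∃ d : F, d = A.1 1 1 := ⟨_, rfl⟩
    have hA : A.1 = !![a, b; c, d] := by rw [ha, hb, hc', hd]; exact Matrix.eta_fin_two A.1
    have hdet := A.2
    rw [Matrix.det_fin_two, ← ha, ← hb, ← hc', ← hd] at hdet
    rw [← hc'] at hc
    have e1 : 1 + (a - 1) / c * c = a := by field_simp; ring
    have e2 : (1 + (a - 1) / c * c) * ((d - 1) / c) + (a - 1) / c = b := by
      rw [e1]; field_simp; linear_combination hdet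
    have e3 : c * ((d - 1) / c) + 1 = d := by field_simp; ring
    have hAeq : A = uS ((a - 1) / c) * lS c * uS ((d - 1) / c) := by
      apply Subtype.ext
      show A.1 = (!![1, (a - 1) / c; 0, 1] * !![1, 0; c, 1] * !![1, (d - 1) / c; 0, 1] :
        Matrix (Fin 2) (Fin 2) F)
      rw [uLu, e2, e1, e3, hA]
    rw [hAeq]
    exact N.mul_mem (N.mul_mem (hu _) (hl _)) (hu _)
  intro A _
  by_cases hc : A.1 1 0 = 0
  · have hB : lS 1 * A ∈ N := by
      apply key
      have e : (lS (1 : F) * A).1 1 0 = A.1 0 0 + A.1 1 0 := by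
        show ((!![1, 0; 1, 1] : Matrix (Fin 2) (Fin 2) F) * A.1) 1 0 = _
        simp [Matrix.mul_apply, Fin.sum_univ_two]
      rw [e, hc, add_zero]
      intro ha
      have hdet := A.2
      rw [Matrix.det_fin_two, ha, hc] at hdet
      simp at hdet
    have e : A = (lS 1)⁻¹ * (lS 1 * A) := by group
    rw [e]
    exact N.mul_mem (N.inv_mem (hl 1)) hB
  · exact key A hc

theorem ker_eq_tau (X : ↥(Cfsg.qdOver F)) (h : rho X = 1) : X = tau ![mat X 0 2, mat X 1 2] := by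
  obtain ⟨a00, a01, a10, a11⟩ := (rho_eq_one_iff _).1 h
  obtain ⟨r0, r1, r2⟩ := mat_row X
  apply mat_inj
  rw [tau_mat]
  ext i j
  fin_cases i <;> fin_cases j <;> simp [a00, a01, a10, a11, r0, r1, r2]

theorem gen_lemma (N : Subgroup ↥(Cfsg.qdOver F)) (hτ : ∀ f, tau f ∈ N)
    (hu : ∀ t, Cfsg.Agent.S2762.sigma (uS t) ∈ N) (hl : ∀ t, Cfsg.Agent.S2762.sigma (lS t) ∈ N) : N = ⊤ := by
  have h2 : N.comap (Cfsg.Agent.S2762.sigma : Matrix.SpecialLinearGroup (Fin 2) F →* ↥(Cfsg.qdOver F)) = ⊤ :=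
    sl2_gen _ (fun t => hu t) (fun t => hl t)
  rw [eq_top_iff]
  intro M _
  have e : M = (M * (Cfsg.Agent.S2762.sigma (rho M))⁻¹) * Cfsg.Agent.S2762.sigma (rho M) := by group
  have hk : rho (M * (Cfsg.Agent.S2762.sigma (rho M))⁻¹) = 1 := by
    rw [map_mul, map_inv, rho_sigma, mul_inv_cancel]
  have h3 : rho M ∈ N.comap (Cfsg.Agent.S2762.sigma : Matrix.SpecialLinearGroup (Fin 2) F →* ↥(Cfsg.qdOver F)) := by
    rw [h2]; exact Subgroup.mem_top _
  have h4 : M * (Cfsg.Agent.S2762.sigma (rho M))⁻¹ ∈ N := by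
    rw [ker_eq_tau _ hk]; exact hτ _
  rw [e]
  exact N.mul_mem h4 h3

/-- The affine action. -/
def aff (M : ↥(Cfsg.qdOver F)) (v : F × F) : F × F :=
  (mat M 0 0 * v.1 + mat M 0 1 * v.2 + mat M 0 2, mat M 1 0 * v.1 + mat M 1 1 * v.2 + mat M 1 2)

theorem aff_one (v : F × F) : aff (1 : ↥(Cfsg.qdOver F)) v = v := by
  apply Prod.ext <;> simp [aff, mat_one]

theorem aff_mul (M N : ↥(Cfsg.qdOver F)) (v : F × F) : aff (M * N) v = aff M (aff N v) := by
  obtain ⟨r0, r1, r2⟩ := mat_row N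
  apply Prod.ext
  · show mat (M * N) 0 0 * v.1 + mat (M * N) 0 1 * v.2 + mat (M * N) 0 2
      = mat M 0 0 * (mat N 0 0 * v.1 + mat N 0 1 * v.2 + mat N 0 2)
        + mat M 0 1 * (mat N 1 0 * v.1 + mat N 1 1 * v.2 + mat N 1 2) + mat M 0 2
    rw [mat_mul_apply, mat_mul_apply, mat_mul_apply, r0, r1, r2]; ring
  · show mat (M * N) 1 0 * v.1 + mat (M * N) 1 1 * v.2 + mat (M * N) 1 2
      = mat M 1 0 * (mat N 0 0 * v.1 + mat N 0 1 * v.2 + mat N 0 2)
        + mat M 1 1 * (mat N 1 0 * v.1 + mat N 1 1 * v.2 + mat N 1 2) + mat M 1 2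
    rw [mat_mul_apply, mat_mul_apply, mat_mul_apply, r0, r1, r2]; ring

/-- The permutation of the plane induced by an element. -/
def permOf (M : ↥(Cfsg.qdOver F)) : Equiv.Perm (F × F) where
  toFun := aff M
  invFun := aff M⁻¹
  left_inv v := by rw [← aff_mul, inv_mul_cancel, aff_one]
  right_inv v := by rw [← aff_mul, mul_inv_cancel, aff_one]

/-- The affine permutation representation. -/
def actHom : ↥(Cfsg.qdOver F) →* Equiv.Perm (F × F) where
  toFun := permOf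
  map_one' := Equiv.ext (fun v => aff_one v)
  map_mul' M N := Equiv.ext (fun v => aff_mul M N v)

theorem actHom_inj : Function.Injective (actHom : ↥(Cfsg.qdOver F) →* Equiv.Perm (F × F)) := by
  rw [injective_iff_map_eq_one]
  intro M hM
  have h : ∀ v : F × F, aff M v = v := fun v => by
    have := congrArg (fun σ : Equiv.Perm (F × F) => σ v) hM
    exact this
  have h0 := h (0, 0)
  have h1 := h (1, 0)
  have h2 := h (0, 1)
  have a02 : mat M 0 2 = 0 := by have := congrArg Prod.fst h0; simpa [aff] using this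
  have a12 : mat M 1 2 = 0 := by have := congrArg Prod.snd h0; simpa [aff] using this
  have a00 : mat M 0 0 = 1 := by have := congrArg Prod.fst h1; simpa [aff, a02] using this
  have a10 : mat M 1 0 = 0 := by have := congrArg Prod.snd h1; simpa [aff, a12] using this
  have a01 : mat M 0 1 = 0 := by have := congrArg Prod.fst h2; simpa [aff, a02] using this
  have a11 : mat M 1 1 = 1 := by have := congrArg Prod.snd h2; simpa [aff, a12] using this
  obtain ⟨r0, r1, r2⟩ := mat_row M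
  apply mat_inj
  rw [mat_one]
  ext i j
  fin_cases i <;> fin_cases j <;> simp [a00, a01, a02, a10, a11, a12, r0, r1, r2]

theorem sign_act {p : ℕ} [Fact p.Prime] (hp : p ≠ 2) (M : ↥(Cfsg.qdOver (ZMod p))) :
    Equiv.Perm.sign (actHom M) = 1 := by
  classical
  have h2 : (2 : ZMod p) ≠ 0 := by
    intro h
    have h' : ((2 : ℕ) : ZMod p) = 0 := by exact_mod_cast h
    rw [ZMod.natCast_eq_zero_iff] at h'
    exact hp ((Nat.prime_dvd_prime_iff_eq (Fact.out : p.Prime) Nat.prime_two).1 h')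
  have half : ∀ t : ZMod p, t / 2 + t / 2 = t := fun t => by
    rw [← add_div, ← two_mul, mul_div_cancel_left₀ t h2]
  let ε : ↥(Cfsg.qdOver (ZMod p)) →* ℤˣ := Equiv.Perm.sign.comp actHom
  have hsq : ∀ x : ↥(Cfsg.qdOver (ZMod p)), x * x ∈ ε.ker := by
    intro x
    rw [MonoidHom.mem_ker, map_mul]
    exact Int.units_mul_self _
  have hker : ε.ker = ⊤ := by
    apply gen_lemma
    · intro f
      have : tau f = tau (fun i => f i / 2) * tau (fun i => f i / 2) := by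
        rw [tau_mul]
        congr 1
        ext i
        exact (half (f i)).symm
      rw [this]; exact hsq _
    · intro t
      have : Cfsg.Agent.S2762.sigma (uS t) = Cfsg.Agent.S2762.sigma (uS (t / 2)) * Cfsg.Agent.S2762.sigma (uS (t / 2)) := by
        rw [← map_mul, uS_mul, half]
      rw [this]; exact hsq _
    · intro t
      have : Cfsg.Agent.S2762.sigma (lS t) = Cfsg.Agent.S2762.sigma (lS (t / 2)) * Cfsg.Agent.S2762.sigma (lS (t / 2)) := by
        rw [← map_mul, lS_mul, half]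
      rw [this]; exact hsq _
  have : M ∈ ε.ker := by rw [hker]; exact Subgroup.mem_top _
  exact MonoidHom.mem_ker.1 this

theorem embed {p : ℕ} [Fact p.Prime] (hp : p ≠ 2) (n : ℕ) (hn : p ^ 2 ≤ n) :
    ∃ H : Subgroup (alternatingGroup (Fin n)), Nonempty (↥H ≃* ↥(Cfsg.qd p)) := by
  classical
  have hc : Fintype.card (ZMod p × ZMod p) = p ^ 2 := by rw [Fintype.card_prod, ZMod.card, sq]
  obtain ⟨ι⟩ : Nonempty ((ZMod p × ZMod p) ↪ Fin n) :=
    Function.Embedding.nonempty_of_card_le (by rw [hc, Fintype.card_fin]; exact hn)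
  let Ψ : ↥(Cfsg.qdOver (ZMod p)) →* Equiv.Perm (Fin n) :=
    (Equiv.Perm.extendDomainHom ι.toEquivRange).comp actHom
  have hΨinj : Function.Injective Ψ :=
    (Equiv.Perm.extendDomainHom_injective ι.toEquivRange).comp actHom_inj
  have hΨsign : ∀ M, Ψ M ∈ alternatingGroup (Fin n) := by
    intro M
    rw [Equiv.Perm.mem_alternatingGroup]
    show Equiv.Perm.sign ((actHom M).extendDomain ι.toEquivRange) = 1
    rw [Equiv.Perm.sign_extendDomain]
    exact sign_act hp M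
  let Φ : ↥(Cfsg.qdOver (ZMod p)) →* ↥(alternatingGroup (Fin n)) := Ψ.codRestrict _ hΨsign
  have hΦinj : Function.Injective Φ := by
    intro a b hab
    apply hΨinj
    exact congrArg Subtype.val hab
  let e₀ : ↥(Cfsg.qd p) ≃* ↥(Cfsg.qdOver (ZMod p)) := MulEquiv.subgroupCongr rfl
  exact ⟨Φ.range, ⟨(MonoidHom.ofInjective hΦinj).symm.trans e₀.symm⟩⟩

/-- Let p be an odd prime and n a natural number. The alternating group of degree n has a subgroup isomorphic to Qd(p) (the natural semidirect product of an elementary abelian group of order p² by SL₂(p)) if and only if n ≥ p²; and if n < p² then Qd(p) is not even involved in it. -/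
theorem result {p : ℕ} [Fact p.Prime] (hp : p ≠ 2) (n : ℕ) : ((∃ H : Subgroup (alternatingGroup (Fin n)), Nonempty (↥H ≃* ↥(Cfsg.qd p))) ↔ p ^ 2 ≤ n) ∧ (n < p ^ 2 → ¬ Cfsg.Involves ↥(Cfsg.qd p) ↥(alternatingGroup (Fin n))) := by
  classical
  refine ⟨⟨?_, embed hp n⟩, not_involves n⟩
  rintro ⟨H, ⟨e⟩⟩
  by_contra hcon
  have hlt : n < p ^ 2 := by omega
  apply not_involves n hlt
  have hbot : (⊥ : Subgroup ↥(alternatingGroup (Fin n))).subgroupOf H = ⊥ :=
    Subgroup.bot_subgroupOf H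
  haveI hnorm : ((⊥ : Subgroup ↥(alternatingGroup (Fin n))).subgroupOf H).Normal := by
    rw [hbot]; infer_instance
  refine ⟨H, ⊥, hnorm, ⟨?_⟩⟩
  exact ((QuotientGroup.quotientMulEquivOfEq hbot).trans QuotientGroup.quotientBot).trans e

end Cfsg.Agent.S3835
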