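import Cfsg.Statements.S2779
import Mathlib
import Cfsg.Agent.S3835
-- import your own Cfsg.Agent.* helpers here

set_option autoImplicit false
open Cfsg

namespace Cfsg.Agent.S2779

theorem mv_mv {F : Type*} [Field F] (a b : Matrix.SpecialLinearGroup (Fin 2) F) (w : Fin 2 → F) :
    a.1.mulVec (b.1.mulVec w) = (a * b).1.mulVec w := by
  rw [Matrix.SpecialLinearGroup.coe_mul, Matrix.mulVec_mulVec]

theorem uS_pow' {F : Type*} [Field F] (t : F) (k : ℕ) :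
    (Cfsg.Agent.S2762.uS t) ^ k = Cfsg.Agent.S2762.uS ((k : F) * t) := by
  induction k with
  | zero =>
    rw [pow_zero, Nat.cast_zero, zero_mul]
    apply Subtype.ext
    show (1 : Matrix (Fin 2) (Fin 2) F) = !![1, 0; 0, 1]
    exact Matrix.one_fin_two
  | succ k ih =>
    rw [pow_succ, ih, Cfsg.Agent.S3835.uS_mul]
    congr 1
    push_cast
    ring

theorem setup {G : Type*} [Group G] [Finite G] {p : ℕ} [Fact p.Prime] {F : Type*} [Field F]
    [Fintype F] (n : ℕ) (hF : Fintype.card F = p ^ n) (V L : Subgroup G)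
    (hnat : Cfsg.IsNaturalSL2Module F V L)
    (hf : L ⊓ Subgroup.centralizer (V : Set G) = ⊥) (S : Sylow p ↥L) :
    ∃ (ρ : L →* Matrix.SpecialLinearGroup (Fin 2) F) (c : V → (Fin 2 → F)),
      Function.Bijective ρ ∧ Function.Bijective c ∧ (∀ v w : V, c (v * w) = c v + c w) ∧
      (∀ (l : L) (v : V), ∃ w : V, (w : G) = (l : G) * (v : G) * (l : G)⁻¹ ∧
          c w = (ρ l).1.mulVec (c v)) ∧
      (∀ l : L, l ∈ S ↔ ∃ t : F, ρ l = Cfsg.Agent.S2762.uS t) := by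
  classical
  have hp : p.Prime := Fact.out
  obtain ⟨hLV, ρ₀, ψ₀, hsurj, hker, hact⟩ := hnat
  have hinj : Function.Injective ρ₀ := by
    rw [← MonoidHom.ker_eq_bot_iff, hker, Subgroup.subgroupOf_eq_bot, disjoint_iff, inf_comm]
    exact hf
  have hn : n ≠ 0 := by
    rintro rfl
    rw [pow_zero] at hF
    have := Fintype.one_lt_card (α := F)
    omega
  have hp0 : (p : F) = 0 := by
    have h := FiniteField.cast_card_eq_zero F
    rw [hF, Nat.cast_pow] at h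
    exact (pow_eq_zero_iff hn).1 h
  letI act : MulAction (S : Subgroup L) (Fin 2 → F) :=
    { smul := fun l w => (ρ₀ l.1).1.mulVec w
      one_smul := fun w => by
        show (ρ₀ (1 : L)).1.mulVec w = w
        rw [map_one, Matrix.SpecialLinearGroup.coe_one, Matrix.one_mulVec]
      mul_smul := fun l₁ l₂ w => by
        show (ρ₀ (l₁.1 * l₂.1)).1.mulVec w = (ρ₀ l₁.1).1.mulVec ((ρ₀ l₂.1).1.mulVec w)
        rw [map_mul, mv_mv] }
  have hsmul : ∀ (l : (S : Subgroup L)) (w : Fin 2 → F), l • w = (ρ₀ l.1).1.mulVec w :=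
    fun _ _ => rfl
  have hcardV : p ∣ Nat.card (Fin 2 → F) := by
    rw [Nat.card_eq_fintype_card, Fintype.card_fun, hF, Fintype.card_fin]
    exact dvd_pow (dvd_pow_self p hn) (by norm_num)
  have h0fix : (0 : Fin 2 → F) ∈ MulAction.fixedPoints (S : Subgroup L) (Fin 2 → F) := by
    intro l
    rw [hsmul, Matrix.mulVec_zero]
  have hSp : IsPGroup p (S : Subgroup L) := S.isPGroup'
  obtain ⟨w, hwfix, hw0⟩ := hSp.exists_fixed_point_of_prime_dvd_card_of_fixed_point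
    (Fin 2 → F) hcardV h0fix
  have hwfix' : ∀ l : L, l ∈ S → (ρ₀ l).1.mulVec w = w := fun l hl => hwfix ⟨l, hl⟩
  obtain ⟨g₀, hg₀0, hg₀1⟩ : ∃ g₀ : Matrix.SpecialLinearGroup (Fin 2) F,
      g₀.1 0 0 = w 0 ∧ g₀.1 1 0 = w 1 := by
    by_cases h0 : w 0 = 0
    · have h1 : w 1 ≠ 0 := by
        intro h1
        apply hw0
        funext i
        fin_cases i
        · show (0 : F) = w 0
          exact h0.symm
        · show (0 : F) = w 1
          exact h1.symm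
      refine ⟨⟨!![0, -(w 1)⁻¹; w 1, 0], ?_⟩, ?_, rfl⟩
      · rw [Matrix.det_fin_two_of]; simp [h1]
      · exact h0.symm
    · refine ⟨⟨!![w 0, 0; w 1, (w 0)⁻¹], ?_⟩, rfl, rfl⟩
      rw [Matrix.det_fin_two_of]; simp [h0]
  have hg₀w : g₀.1.mulVec ![1, 0] = w := by
    funext i
    have : ∀ i : Fin 2, g₀.1 i 0 = w i := by
      intro i; fin_cases i
      · exact hg₀0
      · exact hg₀1
    rw [← this i]
    simp [Matrix.mulVec, dotProduct, Fin.sum_univ_two]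
  let ρ : L →* Matrix.SpecialLinearGroup (Fin 2) F := (MulAut.conj g₀⁻¹).toMonoidHom.comp ρ₀
  have hρ : ∀ l, ρ l = g₀⁻¹ * ρ₀ l * g₀ := by
    intro l
    show MulAut.conj g₀⁻¹ (ρ₀ l) = _
    rw [MulAut.conj_apply, inv_inv]
  have hρbij : Function.Bijective ρ := (MulAut.conj g₀⁻¹).bijective.comp ⟨hinj, hsurj⟩
  let c : V → (Fin 2 → F) := fun v => (g₀⁻¹).1.mulVec (ψ₀ (Additive.ofMul v))
  have hcbij : Function.Bijective c := by
    constructor
    · intro v₁ v₂ h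
      have h' : (g₀⁻¹).1.mulVec (ψ₀ (Additive.ofMul v₁)) =
          (g₀⁻¹).1.mulVec (ψ₀ (Additive.ofMul v₂)) := h
      have h2 := congrArg (fun u => g₀.1.mulVec u) h'
      simp only [mv_mv, mul_inv_cancel, Matrix.SpecialLinearGroup.coe_one,
        Matrix.one_mulVec] at h2
      exact Additive.ofMul.injective (ψ₀.injective h2)
    · intro u
      refine ⟨Additive.toMul (ψ₀.symm (g₀.1.mulVec u)), ?_⟩
      show (g₀⁻¹).1.mulVec (ψ₀ (Additive.ofMul (Additive.toMul (ψ₀.symm (g₀.1.mulVec u))))) = u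
      rw [ofMul_toMul, AddEquiv.apply_symm_apply, mv_mv, inv_mul_cancel,
        Matrix.SpecialLinearGroup.coe_one, Matrix.one_mulVec]
  have hcmul : ∀ v₁ v₂ : V, c (v₁ * v₂) = c v₁ + c v₂ := by
    intro v₁ v₂
    show (g₀⁻¹).1.mulVec (ψ₀ (Additive.ofMul (v₁ * v₂))) = _
    rw [ofMul_mul, map_add, Matrix.mulVec_add]
  have hcact : ∀ (l : L) (v : V), ∃ w' : V, (w' : G) = (l : G) * (v : G) * (l : G)⁻¹ ∧
      c w' = (ρ l).1.mulVec (c v) := by
    intro l v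
    obtain ⟨w', hw', hψ⟩ := hact l v
    refine ⟨w', hw', ?_⟩
    show (g₀⁻¹).1.mulVec (ψ₀ (Additive.ofMul w')) =
      (ρ l).1.mulVec ((g₀⁻¹).1.mulVec (ψ₀ (Additive.ofMul v)))
    rw [hψ, mv_mv, mv_mv, hρ, mul_inv_cancel_right]
  have hfwd : ∀ l : L, l ∈ S → ∃ t : F, ρ l = Cfsg.Agent.S2762.uS t := by
    intro l hl
    have h1 : (ρ l).1.mulVec ![1, 0] = ![1, 0] := by
      rw [hρ, ← mv_mv, hg₀w, ← mv_mv, hwfix' l hl, ← hg₀w, mv_mv, inv_mul_cancel,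
        Matrix.SpecialLinearGroup.coe_one, Matrix.one_mulVec]
    have h00 : (ρ l).1 0 0 = 1 := by
      have := congrFun h1 0
      simpa [Matrix.mulVec, dotProduct, Fin.sum_univ_two] using this
    have h10 : (ρ l).1 1 0 = 0 := by
      have := congrFun h1 1
      simpa [Matrix.mulVec, dotProduct, Fin.sum_univ_two] using this
    have hdet := (ρ l).2
    rw [Matrix.det_fin_two, h00, h10] at hdet
    have h11 : (ρ l).1 1 1 = 1 := by simpa using hdet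
    refine ⟨(ρ l).1 0 1, ?_⟩
    apply Subtype.ext
    show (ρ l).1 = !![1, (ρ l).1 0 1; 0, 1]
    ext i j
    fin_cases i <;> fin_cases j
    · exact h00
    · rfl
    · exact h10
    · exact h11
  let U : Subgroup (Matrix.SpecialLinearGroup (Fin 2) F) :=
    { carrier := {M | ∃ t : F, M = Cfsg.Agent.S2762.uS t}
      mul_mem' := by
        rintro _ _ ⟨s, rfl⟩ ⟨t, rfl⟩
        exact ⟨s + t, Cfsg.Agent.S3835.uS_mul s t⟩
      one_mem' := ⟨0, by
        apply Subtype.ext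
        show (1 : Matrix (Fin 2) (Fin 2) F) = !![1, 0; 0, 1]
        exact Matrix.one_fin_two⟩
      inv_mem' := by
        rintro _ ⟨t, rfl⟩
        exact ⟨-t, Cfsg.Agent.S2762.uS_inv t⟩ }
  have hHp : IsPGroup p (U.comap ρ) := by
    rintro ⟨l, hl⟩
    obtain ⟨t, ht⟩ : ∃ t : F, ρ l = Cfsg.Agent.S2762.uS t := hl
    refine ⟨1, ?_⟩
    apply Subtype.ext
    show l ^ p ^ 1 = 1
    apply hρbij.1
    rw [map_pow, ht, map_one, pow_one, uS_pow', hp0, zero_mul]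
    apply Subtype.ext
    show (!![1, 0; 0, 1] : Matrix (Fin 2) (Fin 2) F) = 1
    exact Matrix.one_fin_two.symm
  have hle : (S : Subgroup L) ≤ U.comap ρ := fun l hl => hfwd l hl
  have hHS : U.comap ρ = (S : Subgroup L) := S.is_maximal' hHp hle
  refine ⟨ρ, c, hρbij, hcbij, hcmul, hcact, fun l => ⟨hfwd l, fun ht => ?_⟩⟩
  have : l ∈ U.comap ρ := ht
  rw [hHS] at this
  exact this

/-- Let L act on the elementary abelian p-group V (inside a finite group, by conjugation, faithfully) as SL₂(F) on its natural module, F a field with p^n elements, and let S be a Sylow p-subgroup of L. Then [V, S, S] = 1; |V| = p^(2n) and |C_V(S)| = p^n; and for every nonidentity s ∈ S and every v ∈ V outside C_V(S): C_V(s) = C_V(S) = [V, S] = [V, s] = the subgroup generated by the commutators [v, t], t ∈ S. -/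
theorem result {G : Type*} [Group G] [Finite G] {p : ℕ} [Fact p.Prime] {F : Type*} [Field F] [Fintype F] (n : ℕ) (hF : Fintype.card F = p ^ n) (V L : Subgroup G) (hnat : Cfsg.IsNaturalSL2Module F V L) (hf : L ⊓ Subgroup.centralizer (V : Set G) = ⊥) (S : Sylow p ↥L) (T : Subgroup G) (hT : T = ((S : Subgroup ↥L).map L.subtype)) : ⁅⁅V, T⁆, T⁆ = ⊥ ∧ Nat.card V = p ^ (2 * n) ∧ Nat.card ↥(V ⊓ Subgroup.centralizer ((T : Subgroup G) : Set G)) = p ^ n ∧ ∀ s ∈ T, s ≠ 1 → (V ⊓ Subgroup.centralizer ({s} : Set G)) = (V ⊓ Subgroup.centralizer ((T : Subgroup G) : Set G)) ∧ ⁅V, T⁆ = (V ⊓ Subgroup.centralizer ((T : Subgroup G) : Set G)) ∧ ⁅V, Subgroup.zpowers s⁆ = (V ⊓ Subgroup.centralizer ((T : Subgroup G) : Set G)) ∧ ∀ v ∈ V, v ∉ Subgroup.centralizer (T : Set G) → Subgroup.closure {x : G | ∃ t ∈ T, x = v * t * v⁻¹ * t⁻¹} = (V ⊓ Subgroup.centralizer ((T : Subgroup G) : Set G)) := by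
  classical
  have hp : p.Prime := Fact.out
  obtain ⟨ρ, c, hρbij, hcbij, hcmul, hcact, hS⟩ := setup n hF V L hnat hf S
  have hc1 : c 1 = 0 := by
    have h := hcmul 1 1
    rw [mul_one] at h
    have h' : c 1 + c 1 = c 1 + 0 := by rw [add_zero]; exact h.symm
    exact add_left_cancel h'
  have hcinv : ∀ v : V, c v⁻¹ = - c v := by
    intro v
    have h := hcmul v v⁻¹
    rw [mul_inv_cancel, hc1] at h
    exact (neg_eq_of_add_eq_zero_right h.symm).symm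
  have hTmem : ∀ g : G, g ∈ T ↔ ∃ l : L, l ∈ S ∧ (l : G) = g := by
    intro g
    rw [hT, Subgroup.mem_map]
    constructor
    · rintro ⟨l, hl, rfl⟩; exact ⟨l, hl, rfl⟩
    · rintro ⟨l, hl, rfl⟩; exact ⟨l, hl, rfl⟩
  have hB' : ∀ (l : L) (a : F), ρ l = Cfsg.Agent.S2762.uS a → ∀ (v : G) (hv : v ∈ V),
      ∃ hv' : (l : G) * v * (l : G)⁻¹ ∈ V, c ⟨(l : G) * v * (l : G)⁻¹, hv'⟩ =
        ![c ⟨v, hv⟩ 0 + a * c ⟨v, hv⟩ 1, c ⟨v, hv⟩ 1] := by
    intro l a ha v hv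
    obtain ⟨w, hw, hcw⟩ := hcact l ⟨v, hv⟩
    have hv' : (l : G) * v * (l : G)⁻¹ ∈ V := by rw [← hw]; exact w.2
    refine ⟨hv', ?_⟩
    have hweq : w = ⟨(l : G) * v * (l : G)⁻¹, hv'⟩ := Subtype.ext hw
    rw [← hweq, hcw, ha]
    show (!![1, a; 0, 1] : Matrix (Fin 2) (Fin 2) F).mulVec (c ⟨v, hv⟩) = _
    funext i
    fin_cases i
    · simp [Matrix.mulVec, dotProduct, Fin.sum_univ_two]
    · simp [Matrix.mulVec, dotProduct, Fin.sum_univ_two]
  have hB : ∀ g ∈ T, ∃ a : F, (a = 0 → g = 1) ∧ ∀ (v : G) (hv : v ∈ V),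
      ∃ hv' : g * v * g⁻¹ ∈ V, c ⟨g * v * g⁻¹, hv'⟩ =
        ![c ⟨v, hv⟩ 0 + a * c ⟨v, hv⟩ 1, c ⟨v, hv⟩ 1] := by
    intro g hg
    obtain ⟨l, hl, rfl⟩ := (hTmem g).1 hg
    obtain ⟨a, ha⟩ := (hS l).1 hl
    refine ⟨a, ?_, hB' l a ha⟩
    intro ha0
    have : ρ l = ρ 1 := by
      rw [ha, ha0, map_one]
      apply Subtype.ext
      show (!![1, 0; 0, 1] : Matrix (Fin 2) (Fin 2) F) = 1
      exact Matrix.one_fin_two.symm
    rw [hρbij.1 this]; rfl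
  have hCx : ∀ a : F, ∃ g ∈ T, ∀ (v : G) (hv : v ∈ V),
      ∃ hv' : g * v * g⁻¹ ∈ V, c ⟨g * v * g⁻¹, hv'⟩ =
        ![c ⟨v, hv⟩ 0 + a * c ⟨v, hv⟩ 1, c ⟨v, hv⟩ 1] := by
    intro a
    obtain ⟨l, hl⟩ := hρbij.2 (Cfsg.Agent.S2762.uS a)
    exact ⟨(l : G), (hTmem _).2 ⟨l, (hS l).2 ⟨a, hl⟩, rfl⟩, hB' l a hl⟩
  have hcomm : ∀ (g : G) (a : F), (∀ (v : G) (hv : v ∈ V),
      ∃ hv' : g * v * g⁻¹ ∈ V, c ⟨g * v * g⁻¹, hv'⟩ =
        ![c ⟨v, hv⟩ 0 + a * c ⟨v, hv⟩ 1, c ⟨v, hv⟩ 1]) →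
      ∀ (v : G) (hv : v ∈ V), (g * v = v * g ↔ a * c ⟨v, hv⟩ 1 = 0) := by
    intro g a hga v hv
    obtain ⟨hv', hcv'⟩ := hga v hv
    constructor
    · intro h
      have h1 : g * v * g⁻¹ = v := by rw [h]; group
      have h2 : c ⟨g * v * g⁻¹, hv'⟩ = c ⟨v, hv⟩ := by
        congr 1; exact Subtype.ext h1
      rw [hcv'] at h2
      have h3 : c ⟨v, hv⟩ 0 + a * c ⟨v, hv⟩ 1 = c ⟨v, hv⟩ 0 := congrFun h2 0
      exact add_left_cancel (a := c ⟨v, hv⟩ 0) (by rw [h3, add_zero])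
    · intro h
      have h2 : c ⟨g * v * g⁻¹, hv'⟩ = c ⟨v, hv⟩ := by
        rw [hcv', h, add_zero]
        funext i; fin_cases i <;> rfl
      have h1 : g * v * g⁻¹ = v := congrArg Subtype.val (hcbij.1 h2)
      calc g * v = (g * v * g⁻¹) * g := by group
        _ = v * g := by rw [h1]
  have hF1 : ∀ (v : G) (hv : v ∈ V),
      (v ∈ Subgroup.centralizer (T : Set G) ↔ c ⟨v, hv⟩ 1 = 0) := by
    intro v hv
    constructor
    · intro h
      obtain ⟨g, hgT, hga⟩ := hCx 1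
      have h1 : g * v = v * g := Subgroup.mem_centralizer_iff.1 h g hgT
      have h2 := (hcomm g 1 hga v hv).1 h1
      rwa [one_mul] at h2
    · intro h
      rw [Subgroup.mem_centralizer_iff]
      intro g hg
      obtain ⟨a, _, hga⟩ := hB g hg
      exact (hcomm g a hga v hv).2 (by rw [h, mul_zero])
  have hF3 : ∀ (g : G) (a : F), (∀ (v : G) (hv : v ∈ V),
      ∃ hv' : g * v * g⁻¹ ∈ V, c ⟨g * v * g⁻¹, hv'⟩ =
        ![c ⟨v, hv⟩ 0 + a * c ⟨v, hv⟩ 1, c ⟨v, hv⟩ 1]) →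
      ∀ (v : G) (hv : v ∈ V), ∃ hw : v * g * v⁻¹ * g⁻¹ ∈ V,
        c ⟨v * g * v⁻¹ * g⁻¹, hw⟩ = ![-(a * c ⟨v, hv⟩ 1), 0] := by
    intro g a hga v hv
    obtain ⟨hv', hcv'⟩ := hga v hv
    have e : v * g * v⁻¹ * g⁻¹ = v * (g * v * g⁻¹)⁻¹ := by group
    have hw : v * g * v⁻¹ * g⁻¹ ∈ V := by rw [e]; exact V.mul_mem hv (V.inv_mem hv')
    refine ⟨hw, ?_⟩
    have e2 : (⟨v * g * v⁻¹ * g⁻¹, hw⟩ : V) = ⟨v, hv⟩ * (⟨g * v * g⁻¹, hv'⟩ : V)⁻¹ :=
      Subtype.ext e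
    rw [e2, hcmul, hcinv, hcv']
    funext i
    fin_cases i
    · show c ⟨v, hv⟩ 0 + -(c ⟨v, hv⟩ 0 + a * c ⟨v, hv⟩ 1) = -(a * c ⟨v, hv⟩ 1)
      ring
    · show c ⟨v, hv⟩ 1 + -(c ⟨v, hv⟩ 1) = 0
      ring
  have hK : ∀ (g : G) (a : F), (∀ (v : G) (hv : v ∈ V),
      ∃ hv' : g * v * g⁻¹ ∈ V, c ⟨g * v * g⁻¹, hv'⟩ =
        ![c ⟨v, hv⟩ 0 + a * c ⟨v, hv⟩ 1, c ⟨v, hv⟩ 1]) →
      ∀ (v : G) (hv : v ∈ V) (w : G) (hw : w ∈ V), c ⟨w, hw⟩ 1 = 0 →
        -(a * c ⟨v, hv⟩ 1) = c ⟨w, hw⟩ 0 → v * g * v⁻¹ * g⁻¹ = w := by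
    intro g a hga v hv w hw hw1 hw0
    obtain ⟨hw', hcw'⟩ := hF3 g a hga v hv
    have h2 : c ⟨v * g * v⁻¹ * g⁻¹, hw'⟩ = c ⟨w, hw⟩ := by
      rw [hcw']
      funext i
      fin_cases i
      · exact hw0
      · exact hw1.symm
    exact congrArg Subtype.val (hcbij.1 h2)
  have hsurjc : ∀ x y : F, ∃ (v : G) (hv : v ∈ V), c ⟨v, hv⟩ = ![x, y] := by
    intro x y
    obtain ⟨⟨v, hv⟩, h⟩ := hcbij.2 ![x, y]
    exact ⟨v, hv, h⟩
  have hVT_le : ⁅V, T⁆ ≤ V ⊓ Subgroup.centralizer (T : Set G) := by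
    rw [Subgroup.commutator_le]
    intro g₁ hg₁ g₂ hg₂
    obtain ⟨a, _, hga⟩ := hB g₂ hg₂
    obtain ⟨hw, hcw⟩ := hF3 g₂ a hga g₁ hg₁
    rw [commutatorElement_def]
    refine ⟨hw, (hF1 _ hw).2 ?_⟩
    rw [hcw]; rfl
  have hVT_ge : V ⊓ Subgroup.centralizer (T : Set G) ≤ ⁅V, T⁆ := by
    rintro w ⟨hwV, hwC⟩
    have hw1 := (hF1 w hwV).1 hwC
    obtain ⟨g, hgT, hga⟩ := hCx 1
    obtain ⟨v, hv, hcv⟩ := hsurjc 0 (-(c ⟨w, hwV⟩ 0))
    have h1 := hK g 1 hga v hv w hwV hw1 (by rw [hcv]; simp)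
    rw [← h1, ← commutatorElement_def]
    exact Subgroup.commutator_mem_commutator hv hgT
  have hVTeq : ⁅V, T⁆ = V ⊓ Subgroup.centralizer (T : Set G) := le_antisymm hVT_le hVT_ge
  refine ⟨?_, ?_, ?_, ?_⟩
  · rw [Subgroup.commutator_eq_bot_iff_le_centralizer]
    exact hVT_le.trans inf_le_right
  · rw [Nat.card_congr (Equiv.ofBijective c hcbij), Nat.card_eq_fintype_card, Fintype.card_fun,
      hF, Fintype.card_fin, ← pow_mul, mul_comm]
  · let f : ↥(V ⊓ Subgroup.centralizer (T : Set G)) → F := fun w => c ⟨w.1, w.2.1⟩ 0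
    have hfbij : Function.Bijective f := by
      constructor
      · intro w₁ w₂ h
        have h' : c ⟨w₁.1, w₁.2.1⟩ 0 = c ⟨w₂.1, w₂.2.1⟩ 0 := h
        have h1 := (hF1 w₁.1 w₁.2.1).1 w₁.2.2
        have h2 := (hF1 w₂.1 w₂.2.1).1 w₂.2.2
        have h3 : c ⟨w₁.1, w₁.2.1⟩ = c ⟨w₂.1, w₂.2.1⟩ := by
          funext i
          fin_cases i
          · exact h'
          · show c ⟨w₁.1, w₁.2.1⟩ 1 = c ⟨w₂.1, w₂.2.1⟩ 1
            rw [h1, h2]
        have h4 : (⟨w₁.1, w₁.2.1⟩ : V) = ⟨w₂.1, w₂.2.1⟩ := hcbij.1 h3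
        have h5 : w₁.1 = w₂.1 := congrArg (fun z : V => (z : G)) h4
        exact Subtype.ext h5
      · intro x
        obtain ⟨v, hv, hcv⟩ := hsurjc x 0
        refine ⟨⟨v, hv, (hF1 v hv).2 (by rw [hcv]; rfl)⟩, ?_⟩
        show c ⟨v, hv⟩ 0 = x
        rw [hcv]; rfl
    rw [Nat.card_congr (Equiv.ofBijective f hfbij), Nat.card_eq_fintype_card, hF]
  · intro s hs hs1
    obtain ⟨a, ha0, hga⟩ := hB s hs
    have ha : a ≠ 0 := fun h => hs1 (ha0 h)
    refine ⟨?_, hVTeq, ?_, ?_⟩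
    · ext w
      rw [Subgroup.mem_inf, Subgroup.mem_inf]
      constructor
      · rintro ⟨hwV, hws⟩
        refine ⟨hwV, (hF1 w hwV).2 ?_⟩
        have h1 : s * w = w * s :=
          Subgroup.mem_centralizer_iff.1 hws s (Set.mem_singleton s)
        have h2 := (hcomm s a hga w hwV).1 h1
        exact (mul_eq_zero.1 h2).resolve_left ha
      · rintro ⟨hwV, hwT⟩
        refine ⟨hwV, ?_⟩
        rw [Subgroup.mem_centralizer_iff]
        intro h hh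
        rw [Set.mem_singleton_iff.1 hh]
        exact Subgroup.mem_centralizer_iff.1 hwT s hs
    · apply le_antisymm
      · exact (Subgroup.commutator_mono le_rfl (Subgroup.zpowers_le.2 hs)).trans hVT_le
      · rintro w ⟨hwV, hwC⟩
        have hw1 := (hF1 w hwV).1 hwC
        obtain ⟨v, hv, hcv⟩ := hsurjc 0 (-(c ⟨w, hwV⟩ 0) / a)
        have h1 := hK s a hga v hv w hwV hw1 (by rw [hcv]; simp; field_simp)
        rw [← h1, ← commutatorElement_def]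
        exact Subgroup.commutator_mem_commutator hv (Subgroup.mem_zpowers s)
    · intro v hv hvT
      have hy : c ⟨v, hv⟩ 1 ≠ 0 := fun h => hvT ((hF1 v hv).2 h)
      apply le_antisymm
      · rw [Subgroup.closure_le]
        rintro x ⟨t, ht, rfl⟩
        have := hVT_le (Subgroup.commutator_mem_commutator hv ht)
        rwa [commutatorElement_def] at this
      · rintro w ⟨hwV, hwC⟩
        have hw1 := (hF1 w hwV).1 hwC
        obtain ⟨g, hgT, hga'⟩ := hCx (-(c ⟨w, hwV⟩ 0) / c ⟨v, hv⟩ 1)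
        have h1 := hK g _ hga' v hv w hwV hw1 (by field_simp)
        exact Subgroup.subset_closure ⟨g, hgT, h1.symm⟩

end Cfsg.Agent.S2779
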