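import Cfsg.Statements.S2780
import Mathlib
import Cfsg.Agent.S2779
-- import your own Cfsg.Agent.* helpers here

set_option autoImplicit false
open Cfsg

namespace Cfsg.Agent.S2780

theorem mv_apply {F : Type*} [Field F] (M : Matrix (Fin 2) (Fin 2) F) (u : Fin 2 → F)
    (i : Fin 2) : M.mulVec u i = M i 0 * u 0 + M i 1 * u 1 := by
  simp [Matrix.mulVec, dotProduct, Fin.sum_univ_two]

theorem tri_conj {F : Type*} [Field F] (M : Matrix.SpecialLinearGroup (Fin 2) F) (a b d t : F)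
    (hM : M.1 = !![a, b; 0, d]) :
    M * Cfsg.Agent.S2762.uS t = Cfsg.Agent.S2762.uS (a ^ 2 * t) * M := by
  have hdet : a * d = 1 := by
    have := M.2
    rw [hM, Matrix.det_fin_two_of, mul_zero, sub_zero] at this
    exact this
  apply Subtype.ext
  show M.1 * !![1, t; 0, 1] = !![1, a ^ 2 * t; 0, 1] * M.1
  rw [hM, Matrix.mul_fin_two, Matrix.mul_fin_two]
  have e : a * t + b * 1 = 1 * b + a ^ 2 * t * d := by linear_combination (-(a * t)) * hdet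
  rw [e]
  simp

theorem exists_col {F : Type*} [Field F] (w : Fin 2 → F) (hw0 : w ≠ 0) :
    ∃ g₀ : Matrix.SpecialLinearGroup (Fin 2) F, g₀.1.mulVec ![1, 0] = w := by
  obtain ⟨g₀, hg₀0, hg₀1⟩ : ∃ g₀ : Matrix.SpecialLinearGroup (Fin 2) F,
      g₀.1 0 0 = w 0 ∧ g₀.1 1 0 = w 1 := by
    by_cases h0 : w 0 = 0
    · have h1 : w 1 ≠ 0 := by
        intro h1
        apply hw0
        funext i
        fin_cases i
        · show w 0 = 0
          exact h0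
        · show w 1 = 0
          exact h1
      refine ⟨⟨!![0, -(w 1)⁻¹; w 1, 0], ?_⟩, ?_, rfl⟩
      · rw [Matrix.det_fin_two_of]; simp [h1]
      · exact h0.symm
    · refine ⟨⟨!![w 0, 0; w 1, (w 0)⁻¹], ?_⟩, rfl, rfl⟩
      rw [Matrix.det_fin_two_of]; simp [h0]
  refine ⟨g₀, ?_⟩
  funext i
  have : ∀ i : Fin 2, g₀.1 i 0 = w i := by
    intro i; fin_cases i
    · exact hg₀0
    · exact hg₀1
  rw [← this i]
  simp [Matrix.mulVec, dotProduct, Fin.sum_univ_two]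

theorem fix_e1 {F : Type*} [Field F] (M : Matrix.SpecialLinearGroup (Fin 2) F)
    (h1 : M.1.mulVec ![1, 0] = ![1, 0]) : ∃ t : F, M = Cfsg.Agent.S2762.uS t := by
  have h00 : M.1 0 0 = 1 := by
    have := congrFun h1 0
    simpa [Matrix.mulVec, dotProduct, Fin.sum_univ_two] using this
  have h10 : M.1 1 0 = 0 := by
    have := congrFun h1 1
    simpa [Matrix.mulVec, dotProduct, Fin.sum_univ_two] using this
  have hdet := M.2
  rw [Matrix.det_fin_two, h00, h10] at hdet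
  have h11 : M.1 1 1 = 1 := by simpa using hdet
  refine ⟨M.1 0 1, ?_⟩
  apply Subtype.ext
  show M.1 = !![1, M.1 0 1; 0, 1]
  ext i j
  fin_cases i <;> fin_cases j
  · exact h00
  · rfl
  · exact h10
  · exact h11

theorem fix_pow {F : Type*} [Field F] (M : Matrix.SpecialLinearGroup (Fin 2) F) (u : Fin 2 → F)
    (hu : u ≠ 0) (hfix : M.1.mulVec u = u) (k : ℕ) (hk : (k : F) = 0) : M ^ k = 1 := by
  obtain ⟨h₀, hh₀⟩ := exists_col u hu
  have h1 : (h₀⁻¹ * M * h₀).1.mulVec ![1, 0] = ![1, 0] := by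
    rw [← Cfsg.Agent.S2779.mv_mv, hh₀, ← Cfsg.Agent.S2779.mv_mv, hfix, ← hh₀,
      Cfsg.Agent.S2779.mv_mv, inv_mul_cancel, Matrix.SpecialLinearGroup.coe_one,
      Matrix.one_mulVec]
  obtain ⟨t, ht⟩ := fix_e1 _ h1
  have hM : M = h₀ * Cfsg.Agent.S2762.uS t * h₀⁻¹ := by rw [← ht]; group
  rw [hM, conj_pow, Cfsg.Agent.S2779.uS_pow', hk, zero_mul]
  have h0 : Cfsg.Agent.S2762.uS (0 : F) = 1 := by
    apply Subtype.ext
    show (!![1, 0; 0, 1] : Matrix (Fin 2) (Fin 2) F) = 1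
    exact Matrix.one_fin_two.symm
  rw [h0, mul_one, mul_inv_cancel]

/-- Let L act on the elementary abelian p-group V (inside a finite group, faithfully) as SL₂(F) on its natural module, F a field with p^n elements, S a Sylow p-subgroup of L. Then: for every g ∈ L not normalizing S, V is the internal direct product of C_V(S) and C_V(gSg⁻¹); every nonidentity element of L of order prime to p acts on V without nonidentity fixed points; and C_V(S) and V/C_V(S) are irreducible for N_L(S): the only N_L(S)-invariant subgroups of C_V(S) are 1 and C_V(S), and the only N_L(S)-invariant subgroups between C_V(S) and V are those two. -/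
theorem result {G : Type*} [Group G] [Finite G] {p : ℕ} [Fact p.Prime] {F : Type*} [Field F] [Fintype F] (n : ℕ) (hF : Fintype.card F = p ^ n) (V L : Subgroup G) (hnat : Cfsg.IsNaturalSL2Module F V L) (hf : L ⊓ Subgroup.centralizer (V : Set G) = ⊥) (S : Sylow p ↥L) (T : Subgroup G) (hT : T = ((S : Subgroup ↥L).map L.subtype)) : (∀ g ∈ L, g ∉ Subgroup.normalizer (T : Set G) → Cfsg.IsInternalDirectProduct (V ⊓ Subgroup.centralizer ((T : Subgroup G) : Set G)) (V ⊓ Subgroup.centralizer ((T.map (MulAut.conj g).toMonoidHom : Subgroup G) : Set G)) V) ∧ (∀ x ∈ L, x ≠ 1 → (orderOf x).Coprime p → (V ⊓ Subgroup.centralizer ({x} : Set G)) = ⊥) ∧ (∀ U : Subgroup G, U ≤ (V ⊓ Subgroup.centralizer ((T : Subgroup G) : Set G)) → L ⊓ Subgroup.normalizer (T : Set G) ≤ Subgroup.normalizer (U : Set G) → U = ⊥ ∨ U = (V ⊓ Subgroup.centralizer ((T : Subgroup G) : Set G))) ∧ (∀ U : Subgroup G, (V ⊓ Subgroup.centralizer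 ((T : Subgroup G) : Set G)) ≤ U → U ≤ V → L ⊓ Subgroup.normalizer (T : Set G) ≤ Subgroup.normalizer (U : Set G) → U = (V ⊓ Subgroup.centralizer ((T : Subgroup G) : Set G)) ∨ U = V) := by
  classical
  have hp : p.Prime := Fact.out
  obtain ⟨ρ, c, hρbij, hcbij, hcmul, hcact, hS⟩ := Cfsg.Agent.S2779.setup n hF V L hnat hf S
  have hn : n ≠ 0 := by
    rintro rfl
    rw [pow_zero] at hF
    have := Fintype.one_lt_card (α := F)
    omega
  have hp0 : (p : F) = 0 := by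
    have h := FiniteField.cast_card_eq_zero F
    rw [hF, Nat.cast_pow] at h
    exact (pow_eq_zero_iff hn).1 h
  have hc1 : c 1 = 0 := by
    have h := hcmul 1 1
    rw [mul_one] at h
    have h' : c 1 + c 1 = c 1 + 0 := by rw [add_zero]; exact h.symm
    exact add_left_cancel h'
  have hTmem : ∀ g : G, g ∈ T ↔ ∃ l : L, l ∈ S ∧ (l : G) = g := by
    intro g
    rw [hT, Subgroup.mem_map]
    constructor
    · rintro ⟨l, hl, rfl⟩; exact ⟨l, hl, rfl⟩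
    · rintro ⟨l, hl, rfl⟩; exact ⟨l, hl, rfl⟩
  have hact' : ∀ (l : L) (v : G) (hv : v ∈ V), ∃ hv' : (l : G) * v * (l : G)⁻¹ ∈ V,
      c ⟨(l : G) * v * (l : G)⁻¹, hv'⟩ = (ρ l).1.mulVec (c ⟨v, hv⟩) := by
    intro l v hv
    obtain ⟨w, hw, hcw⟩ := hcact l ⟨v, hv⟩
    have hv' : (l : G) * v * (l : G)⁻¹ ∈ V := by rw [← hw]; exact w.2
    refine ⟨hv', ?_⟩
    have hweq : w = ⟨(l : G) * v * (l : G)⁻¹, hv'⟩ := Subtype.ext hw
    rw [← hweq, hcw]
  have hB' : ∀ (l : L) (a : F), ρ l = Cfsg.Agent.S2762.uS a → ∀ (v : G) (hv : v ∈ V),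
      ∃ hv' : (l : G) * v * (l : G)⁻¹ ∈ V, c ⟨(l : G) * v * (l : G)⁻¹, hv'⟩ =
        ![c ⟨v, hv⟩ 0 + a * c ⟨v, hv⟩ 1, c ⟨v, hv⟩ 1] := by
    intro l a ha v hv
    obtain ⟨hv', h⟩ := hact' l v hv
    refine ⟨hv', ?_⟩
    rw [h, ha]
    show (!![1, a; 0, 1] : Matrix (Fin 2) (Fin 2) F).mulVec (c ⟨v, hv⟩) = _
    funext i
    fin_cases i
    · simp [Matrix.mulVec, dotProduct, Fin.sum_univ_two]
    · simp [Matrix.mulVec, dotProduct, Fin.sum_univ_two]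
  have hB : ∀ g ∈ T, ∃ a : F, (a = 0 → g = 1) ∧ ∀ (v : G) (hv : v ∈ V),
      ∃ hv' : g * v * g⁻¹ ∈ V, c ⟨g * v * g⁻¹, hv'⟩ =
        ![c ⟨v, hv⟩ 0 + a * c ⟨v, hv⟩ 1, c ⟨v, hv⟩ 1] := by
    intro g hg
    obtain ⟨l, hl, rfl⟩ := (hTmem g).1 hg
    obtain ⟨a, ha⟩ := (hS l).1 hl
    refine ⟨a, ?_, hB' l a ha⟩
    intro ha0
    have : ρ l = ρ 1 := by
      rw [ha, ha0, map_one]
      apply Subtype.ext
      show (!![1, 0; 0, 1] : Matrix (Fin 2) (Fin 2) F) = 1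
      exact Matrix.one_fin_two.symm
    rw [hρbij.1 this]; rfl
  have hCx : ∀ a : F, ∃ g ∈ T, ∀ (v : G) (hv : v ∈ V),
      ∃ hv' : g * v * g⁻¹ ∈ V, c ⟨g * v * g⁻¹, hv'⟩ =
        ![c ⟨v, hv⟩ 0 + a * c ⟨v, hv⟩ 1, c ⟨v, hv⟩ 1] := by
    intro a
    obtain ⟨l, hl⟩ := hρbij.2 (Cfsg.Agent.S2762.uS a)
    exact ⟨(l : G), (hTmem _).2 ⟨l, (hS l).2 ⟨a, hl⟩, rfl⟩, hB' l a hl⟩
  have hcomm : ∀ (g : G) (a : F), (∀ (v : G) (hv : v ∈ V),
      ∃ hv' : g * v * g⁻¹ ∈ V, c ⟨g * v * g⁻¹, hv'⟩ =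
        ![c ⟨v, hv⟩ 0 + a * c ⟨v, hv⟩ 1, c ⟨v, hv⟩ 1]) →
      ∀ (v : G) (hv : v ∈ V), (g * v = v * g ↔ a * c ⟨v, hv⟩ 1 = 0) := by
    intro g a hga v hv
    obtain ⟨hv', hcv'⟩ := hga v hv
    constructor
    · intro h
      have h1 : g * v * g⁻¹ = v := by rw [h]; group
      have h2 : c ⟨g * v * g⁻¹, hv'⟩ = c ⟨v, hv⟩ := by
        congr 1; exact Subtype.ext h1
      rw [hcv'] at h2
      have h3 : c ⟨v, hv⟩ 0 + a * c ⟨v, hv⟩ 1 = c ⟨v, hv⟩ 0 := congrFun h2 0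
      exact add_left_cancel (a := c ⟨v, hv⟩ 0) (by rw [h3, add_zero])
    · intro h
      have h2 : c ⟨g * v * g⁻¹, hv'⟩ = c ⟨v, hv⟩ := by
        rw [hcv', h, add_zero]
        funext i; fin_cases i <;> rfl
      have h1 : g * v * g⁻¹ = v := congrArg Subtype.val (hcbij.1 h2)
      calc g * v = (g * v * g⁻¹) * g := by group
        _ = v * g := by rw [h1]
  have hF1 : ∀ (v : G) (hv : v ∈ V),
      (v ∈ Subgroup.centralizer (T : Set G) ↔ c ⟨v, hv⟩ 1 = 0) := by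
    intro v hv
    constructor
    · intro h
      obtain ⟨g, hgT, hga⟩ := hCx 1
      have h1 : g * v = v * g := Subgroup.mem_centralizer_iff.1 h g hgT
      have h2 := (hcomm g 1 hga v hv).1 h1
      rwa [one_mul] at h2
    · intro h
      rw [Subgroup.mem_centralizer_iff]
      intro g hg
      obtain ⟨a, _, hga⟩ := hB g hg
      exact (hcomm g a hga v hv).2 (by rw [h, mul_zero])
  have hsurjc : ∀ x y : F, ∃ (v : G) (hv : v ∈ V), c ⟨v, hv⟩ = ![x, y] := by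
    intro x y
    obtain ⟨⟨v, hv⟩, h⟩ := hcbij.2 ![x, y]
    exact ⟨v, hv, h⟩
  have hcext : ∀ (v w : G) (hv : v ∈ V) (hw : w ∈ V), c ⟨v, hv⟩ = c ⟨w, hw⟩ → v = w :=
    fun v w hv hw h => congrArg (fun z : V => (z : G)) (hcbij.1 h)
  have hVab : ∀ a ∈ V, ∀ b ∈ V, a * b = b * a := by
    intro a ha b hb
    have h : c (⟨a, ha⟩ * ⟨b, hb⟩) = c (⟨b, hb⟩ * ⟨a, ha⟩) := by rw [hcmul, hcmul, add_comm]
    exact congrArg (fun z : V => (z : G)) (hcbij.1 h)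
  have hN1 : ∀ l : L, (ρ l).1 1 0 = 0 → ∀ h ∈ T, (l : G) * h * (l : G)⁻¹ ∈ T := by
    intro l hl h hh
    obtain ⟨l', hl', rfl⟩ := (hTmem h).1 hh
    obtain ⟨t, ht⟩ := (hS l').1 hl'
    have hM : (ρ l).1 = !![(ρ l).1 0 0, (ρ l).1 0 1; 0, (ρ l).1 1 1] := by
      have := Matrix.eta_fin_two (ρ l).1
      rw [hl] at this
      exact this
    have h1 := tri_conj (ρ l) _ _ _ t hM
    refine (hTmem _).2 ⟨l * l' * l⁻¹, (hS _).2 ⟨(ρ l).1 0 0 ^ 2 * t, ?_⟩, rfl⟩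
    rw [map_mul, map_mul, map_inv, ht, h1, mul_inv_cancel_right]
  have hNorm : ∀ l : L, (ρ l).1 1 0 = 0 → (l : G) ∈ Subgroup.normalizer (T : Set G) := by
    intro l hl
    have hl' : (ρ l⁻¹).1 1 0 = 0 := by
      rw [map_inv, Matrix.SpecialLinearGroup.coe_inv, Matrix.adjugate_fin_two]
      show -((ρ l).1 1 0) = 0
      rw [hl, neg_zero]
    rw [Subgroup.mem_normalizer_iff]
    intro h
    constructor
    · exact hN1 l hl h
    · intro hh
      have := hN1 l⁻¹ hl' _ hh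
      have e : ((l⁻¹ : L) : G) * ((l : G) * h * (l : G)⁻¹) * ((l⁻¹ : L) : G)⁻¹ = h := by
        rw [Subgroup.coe_inv]; group
      rwa [e] at this
  have hD : ∀ μ : F, μ ≠ 0 → ∃ g : G, g ∈ L ⊓ Subgroup.normalizer (T : Set G) ∧
      ∀ (v : G) (hv : v ∈ V), ∃ hv' : g * v * g⁻¹ ∈ V,
        c ⟨g * v * g⁻¹, hv'⟩ = ![μ * c ⟨v, hv⟩ 0, μ⁻¹ * c ⟨v, hv⟩ 1] := by
    intro μ hμ
    obtain ⟨l, hl⟩ := hρbij.2 ⟨!![μ, 0; 0, μ⁻¹], by rw [Matrix.det_fin_two_of]; simp [hμ]⟩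
    refine ⟨(l : G), ⟨l.2, hNorm l (by rw [hl]; rfl)⟩, ?_⟩
    intro v hv
    obtain ⟨hv', h⟩ := hact' l v hv
    refine ⟨hv', ?_⟩
    rw [h, hl]
    show (!![μ, 0; 0, μ⁻¹] : Matrix (Fin 2) (Fin 2) F).mulVec (c ⟨v, hv⟩) = _
    funext i
    fin_cases i
    · simp [Matrix.mulVec, dotProduct, Fin.sum_univ_two]
    · simp [Matrix.mulVec, dotProduct, Fin.sum_univ_two]
  have hconjC : ∀ (g v : G),
      (v ∈ Subgroup.centralizer ((T.map (MulAut.conj g).toMonoidHom : Subgroup G) : Set G) ↔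
        g⁻¹ * v * g ∈ Subgroup.centralizer (T : Set G)) := by
    intro g v
    constructor
    · intro h
      rw [Subgroup.mem_centralizer_iff]
      intro t ht
      have h1 : (g * t * g⁻¹) * v = v * (g * t * g⁻¹) :=
        Subgroup.mem_centralizer_iff.1 h (g * t * g⁻¹) ⟨t, ht, rfl⟩
      calc t * (g⁻¹ * v * g) = g⁻¹ * ((g * t * g⁻¹) * v) * g := by group
        _ = g⁻¹ * (v * (g * t * g⁻¹)) * g := by rw [h1]
        _ = g⁻¹ * v * g * t := by group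
    · intro h
      rw [Subgroup.mem_centralizer_iff]
      rintro h' ⟨t, ht, rfl⟩
      show g * t * g⁻¹ * v = v * (g * t * g⁻¹)
      have h1 : t * (g⁻¹ * v * g) = g⁻¹ * v * g * t := Subgroup.mem_centralizer_iff.1 h t ht
      calc g * t * g⁻¹ * v = g * (t * (g⁻¹ * v * g)) * g⁻¹ := by group
        _ = g * (g⁻¹ * v * g * t) * g⁻¹ := by rw [h1]
        _ = v * (g * t * g⁻¹) := by group
  refine ⟨?_, ?_, ?_, ?_⟩
  · intro g hg hgN
    obtain ⟨l, rfl⟩ : ∃ l : L, (l : G) = g := ⟨⟨g, hg⟩, rfl⟩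
    have hγ' : (ρ l⁻¹).1 1 0 ≠ 0 := by
      intro h0
      apply hgN
      have hl0 : (ρ l).1 1 0 = 0 := by
        have e : ρ l = (ρ l⁻¹)⁻¹ := by rw [map_inv, inv_inv]
        rw [e, Matrix.SpecialLinearGroup.coe_inv, Matrix.adjugate_fin_two]
        show -((ρ l⁻¹).1 1 0) = 0
        rw [h0, neg_zero]
      exact hNorm l hl0
    have hmemC' : ∀ (v : G) (hv : v ∈ V),
        (v ∈ Subgroup.centralizer
            ((T.map (MulAut.conj (l : G)).toMonoidHom : Subgroup G) : Set G) ↔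
          (ρ l⁻¹).1 1 0 * c ⟨v, hv⟩ 0 + (ρ l⁻¹).1 1 1 * c ⟨v, hv⟩ 1 = 0) := by
      intro v hv
      rw [hconjC (l : G) v]
      obtain ⟨hv', h⟩ := hact' l⁻¹ v hv
      have e : ((l⁻¹ : L) : G) * v * ((l⁻¹ : L) : G)⁻¹ = (l : G)⁻¹ * v * (l : G) := by
        rw [Subgroup.coe_inv, inv_inv]
      have hv'' : (l : G)⁻¹ * v * (l : G) ∈ V := by rw [← e]; exact hv'
      have hceq : c ⟨(l : G)⁻¹ * v * (l : G), hv''⟩ = (ρ l⁻¹).1.mulVec (c ⟨v, hv⟩) := by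
        rw [← h]
        congr 1
        exact Subtype.ext e.symm
      rw [hF1 _ hv'', hceq, mv_apply]
    obtain ⟨γ, δ, hγ, hmemC⟩ : ∃ γ δ : F, γ ≠ 0 ∧ ∀ (v : G) (hv : v ∈ V),
        (v ∈ Subgroup.centralizer
            ((T.map (MulAut.conj (l : G)).toMonoidHom : Subgroup G) : Set G) ↔
          γ * c ⟨v, hv⟩ 0 + δ * c ⟨v, hv⟩ 1 = 0) :=
      ⟨(ρ l⁻¹).1 1 0, (ρ l⁻¹).1 1 1, hγ', hmemC'⟩
    have hdiv : ∀ z : F, γ * (z / γ) = z := fun z => by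
      first
        | rw [mul_div_assoc', mul_div_cancel_left₀ z hγ]
        | field_simp
    refine ⟨inf_le_left, inf_le_left, ?_, ?_, ?_⟩
    · intro a ha b hb
      exact hVab a ha.1 b hb.1
    · rw [eq_bot_iff]
      rintro v ⟨⟨hvV, hvT⟩, ⟨_, hvT'⟩⟩
      rw [Subgroup.mem_bot]
      have h1 := (hF1 v hvV).1 hvT
      have h2 := (hmemC v hvV).1 hvT'
      rw [h1, mul_zero, add_zero] at h2
      have h3 : c ⟨v, hvV⟩ 0 = 0 := (mul_eq_zero.1 h2).resolve_left hγ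
      have h4 : c ⟨v, hvV⟩ = c 1 := by
        rw [hc1]
        funext i
        fin_cases i
        · exact h3
        · exact h1
      exact congrArg (fun z : V => (z : G)) (hcbij.1 h4)
    · apply le_antisymm (sup_le inf_le_left inf_le_left)
      intro v hvV
      obtain ⟨v₁, hv₁, hcv₁⟩ := hsurjc (c ⟨v, hvV⟩ 0 + δ * c ⟨v, hvV⟩ 1 / γ) 0
      obtain ⟨v₂, hv₂, hcv₂⟩ := hsurjc (-(δ * c ⟨v, hvV⟩ 1 / γ)) (c ⟨v, hvV⟩ 1)
      have h1 : v₁ ∈ V ⊓ Subgroup.centralizer (T : Set G) :=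
        ⟨hv₁, (hF1 v₁ hv₁).2 (by rw [hcv₁]; rfl)⟩
      have h2 : v₂ ∈ V ⊓ Subgroup.centralizer
          ((T.map (MulAut.conj (l : G)).toMonoidHom : Subgroup G) : Set G) := by
        refine ⟨hv₂, (hmemC v₂ hv₂).2 ?_⟩
        rw [hcv₂]
        show γ * (-(δ * c ⟨v, hvV⟩ 1 / γ)) + δ * c ⟨v, hvV⟩ 1 = 0
        rw [mul_neg, hdiv, neg_add_cancel]
      have h3 : v = v₁ * v₂ := by
        apply hcext v (v₁ * v₂) hvV (V.mul_mem hv₁ hv₂)
        have e : (⟨v₁ * v₂, V.mul_mem hv₁ hv₂⟩ : V) = ⟨v₁, hv₁⟩ * ⟨v₂, hv₂⟩ := rfl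
        rw [e, hcmul, hcv₁, hcv₂]
        funext i
        fin_cases i
        · show c ⟨v, hvV⟩ 0 = (c ⟨v, hvV⟩ 0 + δ * c ⟨v, hvV⟩ 1 / γ) + -(δ * c ⟨v, hvV⟩ 1 / γ)
          ring
        · show c ⟨v, hvV⟩ 1 = 0 + c ⟨v, hvV⟩ 1
          ring
      rw [h3]
      exact Subgroup.mul_mem_sup h1 h2
  · intro x hx hx1 hcop
    rw [eq_bot_iff]
    rintro v ⟨hvV, hvx⟩
    rw [Subgroup.mem_bot]
    by_contra hv1
    obtain ⟨l, rfl⟩ : ∃ l : L, (l : G) = x := ⟨⟨x, hx⟩, rfl⟩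
    have hu : c ⟨v, hvV⟩ ≠ 0 := by
      intro h
      apply hv1
      have h4 : c ⟨v, hvV⟩ = c 1 := by rw [hc1]; exact h
      exact congrArg (fun z : V => (z : G)) (hcbij.1 h4)
    have hcomm1 : (l : G) * v = v * (l : G) :=
      Subgroup.mem_centralizer_iff.1 hvx (l : G) (Set.mem_singleton _)
    obtain ⟨hv', h⟩ := hact' l v hvV
    have hfix : (ρ l).1.mulVec (c ⟨v, hvV⟩) = c ⟨v, hvV⟩ := by
      rw [← h]
      congr 1
      apply Subtype.ext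
      show (l : G) * v * (l : G)⁻¹ = v
      rw [hcomm1]; group
    have hpow := fix_pow (ρ l) _ hu hfix p hp0
    have hlp : l ^ p = 1 := by
      apply hρbij.1
      rw [map_pow, hpow, map_one]
    have hxp : (l : G) ^ p = 1 := by
      have := congrArg (fun z : L => (z : G)) hlp
      simpa using this
    have hdvd := orderOf_dvd_of_pow_eq_one hxp
    have h1 := Nat.Coprime.eq_one_of_dvd hcop hdvd
    exact hx1 (orderOf_eq_one_iff.1 h1)
  · intro U hU hNU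
    by_cases hbot : U = ⊥
    · exact Or.inl hbot
    · right
      apply le_antisymm hU
      obtain ⟨u₀, hu₀U, hu₀1⟩ : ∃ u₀ ∈ U, u₀ ≠ 1 := by
        by_contra hcon
        push_neg at hcon
        apply hbot
        rw [eq_bot_iff]
        intro u hu
        rw [Subgroup.mem_bot]
        exact hcon u hu
      have hu₀C := hU hu₀U
      have hy₀ := (hF1 u₀ hu₀C.1).1 hu₀C.2
      have hx₀ : c ⟨u₀, hu₀C.1⟩ 0 ≠ 0 := by
        intro h
        apply hu₀1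
        have h4 : c ⟨u₀, hu₀C.1⟩ = c 1 := by
          rw [hc1]
          funext i
          fin_cases i
          · exact h
          · exact hy₀
        exact congrArg (fun z : V => (z : G)) (hcbij.1 h4)
      rintro w ⟨hwV, hwT⟩
      have hw1 := (hF1 w hwV).1 hwT
      by_cases hw0 : c ⟨w, hwV⟩ 0 = 0
      · have h4 : c ⟨w, hwV⟩ = c 1 := by
          rw [hc1]
          funext i
          fin_cases i
          · exact hw0
          · exact hw1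
        have : w = 1 := congrArg (fun z : V => (z : G)) (hcbij.1 h4)
        rw [this]; exact U.one_mem
      · have hμ : c ⟨w, hwV⟩ 0 / c ⟨u₀, hu₀C.1⟩ 0 ≠ 0 := div_ne_zero hw0 hx₀
        obtain ⟨g, hgLN, hgact⟩ := hD _ hμ
        obtain ⟨hv', h⟩ := hgact u₀ hu₀C.1
        have hmemU : g * u₀ * g⁻¹ ∈ U := (Subgroup.mem_normalizer_iff.1 (hNU hgLN) u₀).1 hu₀U
        have heq : g * u₀ * g⁻¹ = w := by
          apply hcext _ _ hv' hwV
          rw [h]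
          funext i
          fin_cases i
          · show c ⟨w, hwV⟩ 0 / c ⟨u₀, hu₀C.1⟩ 0 * c ⟨u₀, hu₀C.1⟩ 0 = c ⟨w, hwV⟩ 0
            first
              | exact div_mul_cancel₀ _ hx₀
              | field_simp
          · show (c ⟨w, hwV⟩ 0 / c ⟨u₀, hu₀C.1⟩ 0)⁻¹ * c ⟨u₀, hu₀C.1⟩ 1 = c ⟨w, hwV⟩ 1
            rw [hy₀, hw1, mul_zero]
        rw [← heq]; exact hmemU
  · intro U hCU hUV hNU
    by_cases heq : U = V ⊓ Subgroup.centralizer (T : Set G)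
    · exact Or.inl heq
    · right
      apply le_antisymm hUV
      obtain ⟨u₀, hu₀U, hu₀C⟩ : ∃ u₀ ∈ U, u₀ ∉ V ⊓ Subgroup.centralizer (T : Set G) := by
        by_contra hcon
        push_neg at hcon
        exact heq (le_antisymm (fun x hx => hcon x hx) hCU)
      have hu₀V := hUV hu₀U
      have hy₀ : c ⟨u₀, hu₀V⟩ 1 ≠ 0 := fun h => hu₀C ⟨hu₀V, (hF1 u₀ hu₀V).2 h⟩
      intro w hwV
      by_cases hw1 : c ⟨w, hwV⟩ 1 = 0
      · exact hCU ⟨hwV, (hF1 w hwV).2 hw1⟩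
      · have hμ : c ⟨u₀, hu₀V⟩ 1 / c ⟨w, hwV⟩ 1 ≠ 0 := div_ne_zero hy₀ hw1
        obtain ⟨g, hgLN, hgact⟩ := hD _ hμ
        obtain ⟨hv', h⟩ := hgact u₀ hu₀V
        have hmemU : g * u₀ * g⁻¹ ∈ U := (Subgroup.mem_normalizer_iff.1 (hNU hgLN) u₀).1 hu₀U
        obtain ⟨z, hz, hcz⟩ := hsurjc
          (c ⟨w, hwV⟩ 0 - c ⟨u₀, hu₀V⟩ 1 / c ⟨w, hwV⟩ 1 * c ⟨u₀, hu₀V⟩ 0) 0
        have hzU : z ∈ U := hCU ⟨hz, (hF1 z hz).2 (by rw [hcz]; rfl)⟩
        have heq' : w = (g * u₀ * g⁻¹) * z := by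
          apply hcext _ _ hwV (V.mul_mem hv' hz)
          have e : (⟨(g * u₀ * g⁻¹) * z, V.mul_mem hv' hz⟩ : V) =
              ⟨g * u₀ * g⁻¹, hv'⟩ * ⟨z, hz⟩ := rfl
          rw [e, hcmul, h, hcz]
          funext i
          fin_cases i
          · show c ⟨w, hwV⟩ 0 = c ⟨u₀, hu₀V⟩ 1 / c ⟨w, hwV⟩ 1 * c ⟨u₀, hu₀V⟩ 0 +
              (c ⟨w, hwV⟩ 0 - c ⟨u₀, hu₀V⟩ 1 / c ⟨w, hwV⟩ 1 * c ⟨u₀, hu₀V⟩ 0)
            ring
          · show c ⟨w, hwV⟩ 1 = (c ⟨u₀, hu₀V⟩ 1 / c ⟨w, hwV⟩ 1)⁻¹ * c ⟨u₀, hu₀V⟩ 1 + 0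
            first
              | rw [add_zero, inv_div, div_mul_cancel₀ _ hy₀]
              | field_simp
        rw [heq']; exact U.mul_mem hmemU hzU

end Cfsg.Agent.S2780
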