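import Cfsg.Statements.S2802
import Mathlib
import Cfsg.Agent.Lib.Helper4.PReduced
import Cfsg.Agent.Lib.Helper4.PClosed
import Cfsg.Agent.Lib.Helper4.Normalizer

set_option autoImplicit false
open Cfsg

namespace Cfsg.Agent.S2802

/-- Let L be a finite group and p a prime with C_L(O_p(L)) ≤ O_p(L), T a Sylow p-subgroup of L and R a subgroup with T ≤ R. If X is a p-reduced normal subgroup of R (normal in R, elementary abelian, O_p(R/C_R(X)) = 1), then the normal closure of X in L is a p-reduced normal subgroup of L. -/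
theorem result {L : Type*} [Group L] [Finite L] {p : ℕ} [Fact p.Prime] (hchar : Subgroup.centralizer (Cfsg.pCore p L : Set L) ≤ Cfsg.pCore p L) (T : Sylow p L) (R : Subgroup L) (hTR : (T : Subgroup L) ≤ R) (X : Subgroup ↥R) (hX : Cfsg.IsPReducedNormal p X) : Cfsg.IsPReducedNormal p (Subgroup.normalClosure ((X.map R.subtype : Subgroup L) : Set L)) := by
  classical
  have hOn := Cfsg.Agent.Lib.Helper4.pCore_normal p L
  have hOp := Cfsg.Agent.Lib.Helper4.pCore_isPGroup p L
  have hOT : Cfsg.pCore p L ≤ (T : Subgroup L) := Cfsg.Agent.Lib.Helper4.pCore_le_sylow T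
  have hXred := hX
  obtain ⟨hXn, hXe, hXCn, hXO⟩ := hX
  have hOX : Cfsg.pCore p L ≤ Subgroup.centralizer ((X.map R.subtype : Subgroup L) : Set L) := by
    have h1 : (Cfsg.pCore p L).subgroupOf R ≤ Cfsg.pCore p ↥R :=
      Cfsg.Agent.Lib.Helper4.le_pCore (hOn.subgroupOf R)
        (hOp.comap_of_injective R.subtype R.subtype_injective)
    have h2 := Cfsg.Agent.Lib.Helper4.IsPReducedNormal.pCore_le_centralizer hXred
    intro o ho
    rw [Subgroup.mem_centralizer_iff]
    rintro _ ⟨x, hx, rfl⟩
    have h3 := h2 (h1 (Subgroup.mem_subgroupOf.2 ho :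
      (⟨o, hTR (hOT ho)⟩ : ↥R) ∈ (Cfsg.pCore p L).subgroupOf R))
    rw [Subgroup.mem_centralizer_iff] at h3
    exact congrArg Subtype.val (h3 x hx)
  have hX'O : X.map R.subtype ≤
      Cfsg.pCore p L ⊓ Subgroup.centralizer (Cfsg.pCore p L : Set L) := by
    have h1 : X.map R.subtype ≤ Subgroup.centralizer (Cfsg.pCore p L : Set L) :=
      Subgroup.le_centralizer_iff.1 hOX
    exact le_inf (h1.trans hchar) h1
  have hX'pow : ∀ x ∈ X.map R.subtype, x ^ p = 1 := by
    rintro _ ⟨x, hx, rfl⟩
    have h1 := hXe.2 x hx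
    simpa using congrArg Subtype.val h1
  have hVO : Subgroup.normalClosure ((X.map R.subtype : Subgroup L) : Set L) ≤
      Cfsg.pCore p L ⊓ Subgroup.centralizer (Cfsg.pCore p L : Set L) :=
    Subgroup.normalClosure_le_normal hX'O
  have hVcomm : ∀ a ∈ Subgroup.normalClosure ((X.map R.subtype : Subgroup L) : Set L),
      ∀ b ∈ Subgroup.normalClosure ((X.map R.subtype : Subgroup L) : Set L), a * b = b * a := by
    intro a ha b hb
    have h1 := (Subgroup.mem_inf.1 (hVO ha)).2
    have h2 := (Subgroup.mem_inf.1 (hVO hb)).1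
    rw [Subgroup.mem_centralizer_iff] at h1
    exact (h1 b h2).symm
  have hVe : Cfsg.IsElementaryAbelian p
      (Subgroup.normalClosure ((X.map R.subtype : Subgroup L) : Set L)) := by
    apply Cfsg.Agent.Lib.Helper4.isElementaryAbelian_of_le_of_comm hVcomm
      (Group.conjugatesOfSet ((X.map R.subtype : Subgroup L) : Set L)) le_rfl
    intro a ha
    refine ⟨Subgroup.conjugatesOfSet_subset_normalClosure ha, ?_⟩
    rw [Group.mem_conjugatesOfSet_iff] at ha
    obtain ⟨x, hx, hconj⟩ := ha
    obtain ⟨c, hc⟩ := isConj_iff.1 hconj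
    rw [← hc, conj_pow, hX'pow x hx]
    group
  refine ⟨inferInstance, hVe, inferInstance, ?_⟩
  rw [Cfsg.Agent.Lib.Helper4.pCore_quotient_eq_bot_iff]
  intro D hD hpow
  have hDX : D ≤ Subgroup.centralizer ((X.map R.subtype : Subgroup L) : Set L) := by
    apply Cfsg.Agent.Lib.Helper4.le_of_pow_mem_of_sylow_inf_le T D
      (Subgroup.centralizer ((Subgroup.normalClosure
        ((X.map R.subtype : Subgroup L) : Set L) : Subgroup L) : Set L)) _ hpow
    · exact inf_le_left.trans (Subgroup.centralizer_le Subgroup.subset_normalClosure)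
    · have hDR : (D.subgroupOf R) ≤ Subgroup.centralizer (X : Set ↥R) := by
        apply Cfsg.Agent.Lib.Helper4.IsPReducedNormal.le_centralizer_of_pow hXred
          (hD.subgroupOf R)
        intro d hd
        obtain ⟨k, hk⟩ := hpow d hd
        refine ⟨k, ?_⟩
        rw [Subgroup.mem_centralizer_iff] at hk ⊢
        intro x hx
        have h5 := hk x (Subgroup.subset_normalClosure ⟨x, hx, rfl⟩)
        apply Subtype.ext
        simpa using h5
      intro d hd
      rw [Subgroup.mem_centralizer_iff]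
      rintro _ ⟨x, hx, rfl⟩
      have h3 := hDR (Subgroup.mem_subgroupOf.2 (Subgroup.mem_inf.1 hd).2 :
        (⟨d, hTR (Subgroup.mem_inf.1 hd).1⟩ : ↥R) ∈ D.subgroupOf R)
      rw [Subgroup.mem_centralizer_iff] at h3
      exact congrArg Subtype.val (h3 x hx)
  rw [Subgroup.le_centralizer_iff]
  exact Subgroup.normalClosure_le_normal (Subgroup.le_centralizer_iff.1 hDX)

end Cfsg.Agent.S2802
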