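import Cfsg.Statements.S2803
import Mathlib
import Cfsg.Agent.Lib.Helper4.PReduced
import Cfsg.Agent.Lib.Helper4.PClosed
import Cfsg.Agent.Lib.Helper4.Normalizer

set_option autoImplicit false
open Cfsg

namespace Cfsg.Agent.S2803

/-- Let L be a finite group and p a prime with C_L(O_p(L)) ≤ O_p(L), T a Sylow p-subgroup, and Y the largest p-reduced normal subgroup of L. Put T_L = C_T(Y) and L_T = N_L(T_L). Then L = L_T · C_L(Y) (elementwise), T_L = O_p(L_T), and Y = Ω₁(Z(T_L)). -/
theorem result {L : Type*} [Group L] [Finite L] {p : ℕ} [Fact p.Prime] (hchar : Subgroup.centralizer (Cfsg.pCore p L : Set L) ≤ Cfsg.pCore p L) (T : Sylow p L) (Y : Subgroup L) (hY : (Cfsg.IsPReducedNormal p Y ∧ ∀ V : Subgroup L, Cfsg.IsPReducedNormal p V → V ≤ Y)) (TL : Subgroup L) (hTL : TL = (T : Subgroup L) ⊓ Subgroup.centralizer (Y : Set L)) : (∀ g : L, ∃ a ∈ Subgroup.normalizer (TL : Set L), ∃ c ∈ Subgroup.centralizer (Y : Set L), g = a * c) ∧ (Cfsg.pCore p ↥(Subgroup.normalizer (TL : Set L))).map (Subgroup.normalizer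 (TL : Set L)).subtype = TL ∧ Y = Cfsg.omegaOne p (TL ⊓ Subgroup.centralizer (TL : Set L)) := by
  classical
  subst hTL
  obtain ⟨hYred, hYmax⟩ := hY
  have hYpc := Cfsg.Agent.Lib.Helper4.IsPReducedNormal.le_pCore hYred
  have hOY := Cfsg.Agent.Lib.Helper4.IsPReducedNormal.pCore_le_centralizer hYred
  have hYn : Y.Normal := hYred.1
  have hYe := hYred.2.1
  have hOn := Cfsg.Agent.Lib.Helper4.pCore_normal p L
  have hOp := Cfsg.Agent.Lib.Helper4.pCore_isPGroup p L
  have hOT : Cfsg.pCore p L ≤ (T : Subgroup L) := Cfsg.Agent.Lib.Helper4.pCore_le_sylow T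
  have hCn : (Subgroup.centralizer (Y : Set L)).Normal := inferInstance
  obtain ⟨S, hS⟩ := Cfsg.Agent.Lib.Helper4.sylow_inf_normal T (Subgroup.centralizer (Y : Set L))
  have hSmap : (S : Subgroup ↥(Subgroup.centralizer (Y : Set L))).map
      (Subgroup.centralizer (Y : Set L)).subtype
      = (T : Subgroup L) ⊓ Subgroup.centralizer (Y : Set L) := by
    rw [hS, Subgroup.subgroupOf_map_subtype]
  have hfr := Sylow.normalizer_sup_eq_top S
  rw [hSmap] at hfr
  have hYcomm : ∀ a ∈ Y, ∀ b ∈ Y, a * b = b * a := by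
    intro a ha b hb
    have hc := hYe.1
    have h1 := mul_comm' (⟨a, ha⟩ : ↥Y) ⟨b, hb⟩
    exact congrArg Subtype.val h1
  have hYC : Y ≤ Subgroup.centralizer (Y : Set L) := by
    intro y hy
    rw [Subgroup.mem_centralizer_iff]
    intro z hz
    exact hYcomm z hz y hy
  have hYTL : Y ≤ (T : Subgroup L) ⊓ Subgroup.centralizer (Y : Set L) :=
    le_inf (hYpc.trans hOT) hYC
  have hYle : Y ≤ Cfsg.omegaOne p (((T : Subgroup L) ⊓ Subgroup.centralizer (Y : Set L)) ⊓
      Subgroup.centralizer ((((T : Subgroup L) ⊓ Subgroup.centralizer (Y : Set L)) :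
        Subgroup L) : Set L)) := by
    intro y hy
    apply Subgroup.subset_closure
    refine ⟨Subgroup.mem_inf.2 ⟨hYTL hy, ?_⟩, hYe.2 y hy⟩
    have h1 : (T : Subgroup L) ⊓ Subgroup.centralizer (Y : Set L) ≤
        Subgroup.centralizer (Y : Set L) := inf_le_right
    exact (Subgroup.le_centralizer_iff.1 h1) hy
  refine ⟨?_, ?_, ?_⟩
  · intro g
    have hg : g ∈ ((Subgroup.normalizer ((((T : Subgroup L) ⊓ Subgroup.centralizer (Y : Set L)) :
        Subgroup L) : Set L) ⊔ Subgroup.centralizer (Y : Set L) : Subgroup L) : Set L) := by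
      rw [hfr]; trivial
    rw [Subgroup.mul_normal] at hg
    obtain ⟨a, ha, c, hc, rfl⟩ := hg
    exact ⟨a, ha, c, hc, rfl⟩
  · apply le_antisymm
    · -- O_p(N(TL)) ≤ TL
      have hQnorm : Subgroup.normalizer ((((T : Subgroup L) ⊓ Subgroup.centralizer (Y : Set L)) :
          Subgroup L) : Set L) ≤ Subgroup.normalizer
          ((((Cfsg.pCore p ↥(Subgroup.normalizer ((((T : Subgroup L) ⊓
            Subgroup.centralizer (Y : Set L)) : Subgroup L) : Set L))).map
            (Subgroup.normalizer ((((T : Subgroup L) ⊓ Subgroup.centralizer (Y : Set L)) :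
              Subgroup L) : Set L)).subtype : Subgroup L)) : Set L) := by
        apply Cfsg.Agent.Lib.Helper4.le_normalizer_of_conj_mem
        rintro n hn _ ⟨q, hq, rfl⟩
        have hQn := Cfsg.Agent.Lib.Helper4.pCore_normal p
          ↥(Subgroup.normalizer ((((T : Subgroup L) ⊓ Subgroup.centralizer (Y : Set L)) :
              Subgroup L) : Set L))
        exact ⟨⟨n, hn⟩ * q * ⟨n, hn⟩⁻¹, hQn.conj_mem q hq ⟨n, hn⟩, rfl⟩
      have hQp : IsPGroup p ↥((Cfsg.pCore p ↥(Subgroup.normalizer ((((T : Subgroup L) ⊓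
            Subgroup.centralizer (Y : Set L)) : Subgroup L) : Set L))).map
            (Subgroup.normalizer ((((T : Subgroup L) ⊓ Subgroup.centralizer (Y : Set L)) :
              Subgroup L) : Set L)).subtype) :=
        (Cfsg.Agent.Lib.Helper4.pCore_isPGroup p _).map _
      generalize hQ : (Cfsg.pCore p ↥(Subgroup.normalizer ((((T : Subgroup L) ⊓
            Subgroup.centralizer (Y : Set L)) : Subgroup L) : Set L))).map
            (Subgroup.normalizer ((((T : Subgroup L) ⊓ Subgroup.centralizer (Y : Set L)) :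
              Subgroup L) : Set L)).subtype = Q at hQnorm hQp ⊢
      have hDn : (Q ⊔ Subgroup.centralizer (Y : Set L)).Normal := by
        apply Cfsg.Agent.Lib.Helper4.normal_of_normalizer_eq_top
        rw [eq_top_iff, ← hfr]
        apply sup_le
        · exact Cfsg.Agent.Lib.Helper4.le_normalizer_sup hQnorm
            (Cfsg.Agent.Lib.Helper4.le_normalizer_of_normal hCn)
        · exact le_sup_right.trans Subgroup.le_normalizer
      have hQC : Q ≤ Subgroup.centralizer (Y : Set L) := by
        refine le_sup_left.trans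
          (Cfsg.Agent.Lib.Helper4.IsPReducedNormal.le_centralizer_of_pow hYred hDn ?_)
        intro d hd
        have hd' : d ∈ ((Subgroup.centralizer (Y : Set L) ⊔ Q : Subgroup L) : Set L) := by
          rw [sup_comm]; exact hd
        rw [Subgroup.normal_mul] at hd'
        obtain ⟨c, hc, q, hq, rfl⟩ := hd'
        obtain ⟨k, hk⟩ := hQp ⟨q, hq⟩
        have hqk : q ^ p ^ k = 1 := by simpa using congrArg Subtype.val hk
        refine ⟨k, ?_⟩
        rw [← QuotientGroup.eq_one_iff (N := Subgroup.centralizer (Y : Set L)), QuotientGroup.mk_pow,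
          QuotientGroup.mk_mul, (QuotientGroup.eq_one_iff c).2 hc, one_mul,
          ← QuotientGroup.mk_pow, hqk]
        rfl
      have hSQ : (S : Subgroup ↥(Subgroup.centralizer (Y : Set L))) ≤
          Q.subgroupOf (Subgroup.centralizer (Y : Set L)) := by
        rw [hS]
        intro x hx
        rw [Subgroup.mem_subgroupOf] at hx ⊢
        have hxTL : (x : L) ∈ (T : Subgroup L) ⊓ Subgroup.centralizer (Y : Set L) := ⟨hx, x.2⟩
        rw [← hQ]
        have hTLn : ((((T : Subgroup L) ⊓ Subgroup.centralizer (Y : Set L)) : Subgroup L).subgroupOf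
            (Subgroup.normalizer ((((T : Subgroup L) ⊓ Subgroup.centralizer (Y : Set L)) :
              Subgroup L) : Set L))).Normal := Subgroup.normal_in_normalizer
        have hTLp : IsPGroup p ↥((((T : Subgroup L) ⊓ Subgroup.centralizer (Y : Set L)) :
            Subgroup L).subgroupOf
            (Subgroup.normalizer ((((T : Subgroup L) ⊓ Subgroup.centralizer (Y : Set L)) :
              Subgroup L) : Set L))) :=
          (T.isPGroup'.to_le inf_le_left).comap_of_injective _ (Subgroup.subtype_injective _)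
        have h1 := Cfsg.Agent.Lib.Helper4.le_pCore hTLn hTLp
        exact ⟨⟨(x : L), Subgroup.le_normalizer hxTL⟩, h1 (Subgroup.mem_subgroupOf.2 hxTL), rfl⟩
      have hQp' : IsPGroup p ↥(Q.subgroupOf (Subgroup.centralizer (Y : Set L))) :=
        hQp.comap_of_injective _ (Subgroup.subtype_injective _)
      have hEq := S.is_maximal' hQp' hSQ
      intro q hq
      have h2 : (⟨q, hQC hq⟩ : ↥(Subgroup.centralizer (Y : Set L))) ∈
          Q.subgroupOf (Subgroup.centralizer (Y : Set L)) := Subgroup.mem_subgroupOf.2 hq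
      rw [hEq, hS, Subgroup.mem_subgroupOf] at h2
      exact ⟨h2, hQC hq⟩
    · intro x hx
      have hTLn : ((((T : Subgroup L) ⊓ Subgroup.centralizer (Y : Set L)) : Subgroup L).subgroupOf
          (Subgroup.normalizer ((((T : Subgroup L) ⊓ Subgroup.centralizer (Y : Set L)) :
            Subgroup L) : Set L))).Normal := Subgroup.normal_in_normalizer
      have hTLp : IsPGroup p ↥((((T : Subgroup L) ⊓ Subgroup.centralizer (Y : Set L)) :
          Subgroup L).subgroupOf
          (Subgroup.normalizer ((((T : Subgroup L) ⊓ Subgroup.centralizer (Y : Set L)) :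
            Subgroup L) : Set L))) :=
        (T.isPGroup'.to_le inf_le_left).comap_of_injective _ (Subgroup.subtype_injective _)
      have h1 := Cfsg.Agent.Lib.Helper4.le_pCore hTLn hTLp
      exact ⟨⟨x, Subgroup.le_normalizer hx⟩, h1 (Subgroup.mem_subgroupOf.2 hx), rfl⟩
  · apply le_antisymm hYle
    -- Ω ≤ Y
    have hOTL : Cfsg.pCore p L ≤ (T : Subgroup L) ⊓ Subgroup.centralizer (Y : Set L) :=
      le_inf hOT hOY
    have hGZ : ({x : L | x ∈ ((T : Subgroup L) ⊓ Subgroup.centralizer (Y : Set L)) ⊓ Subgroup.centralizer ((((T : Subgroup L) ⊓ Subgroup.centralizer (Y : Set L)) : Subgroup L) : Set L) ∧ x ^ p = 1}) ⊆ ((Cfsg.pCore p L ⊓ Subgroup.centralizer (Cfsg.pCore p L : Set L) :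
        Subgroup L) : Set L) := by
      rintro x ⟨hx, hxp⟩
      have hxc : x ∈ Subgroup.centralizer (Cfsg.pCore p L : Set L) :=
        Subgroup.centralizer_le hOTL (Subgroup.mem_inf.1 hx).2
      exact Subgroup.mem_inf.2 ⟨hchar hxc, hxc⟩
    have hVO : Subgroup.normalClosure ({x : L | x ∈ ((T : Subgroup L) ⊓ Subgroup.centralizer (Y : Set L)) ⊓ Subgroup.centralizer ((((T : Subgroup L) ⊓ Subgroup.centralizer (Y : Set L)) : Subgroup L) : Set L) ∧ x ^ p = 1}) ≤
        Cfsg.pCore p L ⊓ Subgroup.centralizer (Cfsg.pCore p L : Set L) :=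
      Subgroup.normalClosure_le_normal hGZ
    have hVcomm : ∀ a ∈ Subgroup.normalClosure ({x : L | x ∈ ((T : Subgroup L) ⊓ Subgroup.centralizer (Y : Set L)) ⊓ Subgroup.centralizer ((((T : Subgroup L) ⊓ Subgroup.centralizer (Y : Set L)) : Subgroup L) : Set L) ∧ x ^ p = 1}),
        ∀ b ∈ Subgroup.normalClosure ({x : L | x ∈ ((T : Subgroup L) ⊓ Subgroup.centralizer (Y : Set L)) ⊓ Subgroup.centralizer ((((T : Subgroup L) ⊓ Subgroup.centralizer (Y : Set L)) : Subgroup L) : Set L) ∧ x ^ p = 1}), a * b = b * a := by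
      intro a ha b hb
      have h1 := (Subgroup.mem_inf.1 (hVO ha)).2
      have h2 := (Subgroup.mem_inf.1 (hVO hb)).1
      rw [Subgroup.mem_centralizer_iff] at h1
      exact (h1 b h2).symm
    have hVe : Cfsg.IsElementaryAbelian p (Subgroup.normalClosure ({x : L | x ∈ ((T : Subgroup L) ⊓ Subgroup.centralizer (Y : Set L)) ⊓ Subgroup.centralizer ((((T : Subgroup L) ⊓ Subgroup.centralizer (Y : Set L)) : Subgroup L) : Set L) ∧ x ^ p = 1})) := by
      apply Cfsg.Agent.Lib.Helper4.isElementaryAbelian_of_le_of_comm hVcomm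
        (Group.conjugatesOfSet ({x : L | x ∈ ((T : Subgroup L) ⊓ Subgroup.centralizer (Y : Set L)) ⊓ Subgroup.centralizer ((((T : Subgroup L) ⊓ Subgroup.centralizer (Y : Set L)) : Subgroup L) : Set L) ∧ x ^ p = 1})) le_rfl
      intro a ha
      refine ⟨Subgroup.conjugatesOfSet_subset_normalClosure ha, ?_⟩
      rw [Group.mem_conjugatesOfSet_iff] at ha
      obtain ⟨x, hx, hconj⟩ := ha
      obtain ⟨c, hc⟩ := isConj_iff.1 hconj
      rw [← hc, conj_pow, hx.2]
      group
    have hYV : Y ≤ Subgroup.normalClosure ({x : L | x ∈ ((T : Subgroup L) ⊓ Subgroup.centralizer (Y : Set L)) ⊓ Subgroup.centralizer ((((T : Subgroup L) ⊓ Subgroup.centralizer (Y : Set L)) : Subgroup L) : Set L) ∧ x ^ p = 1}) := by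
      intro y hy
      apply Subgroup.subset_normalClosure
      refine ⟨Subgroup.mem_inf.2 ⟨hYTL hy, ?_⟩, hYe.2 y hy⟩
      have h1 : (T : Subgroup L) ⊓ Subgroup.centralizer (Y : Set L) ≤
          Subgroup.centralizer (Y : Set L) := inf_le_right
      exact (Subgroup.le_centralizer_iff.1 h1) hy
    have hVred : Cfsg.IsPReducedNormal p (Subgroup.normalClosure ({x : L | x ∈ ((T : Subgroup L) ⊓ Subgroup.centralizer (Y : Set L)) ⊓ Subgroup.centralizer ((((T : Subgroup L) ⊓ Subgroup.centralizer (Y : Set L)) : Subgroup L) : Set L) ∧ x ^ p = 1})) := by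
      refine ⟨inferInstance, hVe, inferInstance, ?_⟩
      rw [Cfsg.Agent.Lib.Helper4.pCore_quotient_eq_bot_iff]
      intro D hD hpow
      have hDC : D ≤ Subgroup.centralizer (Y : Set L) := by
        apply Cfsg.Agent.Lib.Helper4.IsPReducedNormal.le_centralizer_of_pow hYred hD
        intro d hd
        obtain ⟨k, hk⟩ := hpow d hd
        exact ⟨k, Subgroup.centralizer_le hYV hk⟩
      have hDG : D ≤ Subgroup.centralizer ({x : L | x ∈ ((T : Subgroup L) ⊓ Subgroup.centralizer (Y : Set L)) ⊓ Subgroup.centralizer ((((T : Subgroup L) ⊓ Subgroup.centralizer (Y : Set L)) : Subgroup L) : Set L) ∧ x ^ p = 1}) := by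
        apply Cfsg.Agent.Lib.Helper4.le_of_pow_mem_of_sylow_inf_le T D
          (Subgroup.centralizer ((Subgroup.normalClosure ({x : L | x ∈ ((T : Subgroup L) ⊓ Subgroup.centralizer (Y : Set L)) ⊓ Subgroup.centralizer ((((T : Subgroup L) ⊓ Subgroup.centralizer (Y : Set L)) : Subgroup L) : Set L) ∧ x ^ p = 1}) : Subgroup L) : Set L)) _ hpow
        · exact inf_le_left.trans (Subgroup.centralizer_le Subgroup.subset_normalClosure)
        · intro d hd
          have hdTL : d ∈ (T : Subgroup L) ⊓ Subgroup.centralizer (Y : Set L) :=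
            Subgroup.mem_inf.2 ⟨(Subgroup.mem_inf.1 hd).1, hDC (Subgroup.mem_inf.1 hd).2⟩
          rw [Subgroup.mem_centralizer_iff]
          rintro x ⟨hx, -⟩
          have h3 := (Subgroup.mem_inf.1 hx).2
          rw [Subgroup.mem_centralizer_iff] at h3
          exact (h3 d hdTL).symm
      rw [Subgroup.le_centralizer_iff]
      apply Subgroup.normalClosure_le_normal
      intro x hx
      rw [SetLike.mem_coe, Subgroup.mem_centralizer_iff]
      intro d hd
      have h4 := hDG hd
      rw [Subgroup.mem_centralizer_iff] at h4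
      exact (h4 x hx).symm
    have hVY := hYmax _ hVred
    unfold Cfsg.omegaOne
    rw [Subgroup.closure_le]
    intro x hx
    exact hVY (Subgroup.subset_normalClosure hx)

end Cfsg.Agent.S2803
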