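import Cfsg.Statements.S2805
import Mathlib
import Cfsg.Agent.Lib.Helper4.Kieler

set_option autoImplicit false
open Cfsg

namespace Cfsg.Agent.S2805

open Cfsg.Agent.Lib.Helper4

/-- transfer of centralizers of `Ω₁(Z(Q))` between a subgroup `K` and the ambient group -/
theorem mem_centralizer_omega_subtype {H : Type*} [Group H] {p : ℕ} (K Q : Subgroup H)
    (hQK : Q ≤ K) (y : ↥K) :
    y ∈ Subgroup.centralizer ((Cfsg.omegaOne p (Q.subgroupOf K ⊓
        Subgroup.centralizer ((Q.subgroupOf K : Subgroup ↥K) : Set ↥K)) : Subgroup ↥K) : Set ↥K) ↔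
    (y : H) ∈ Subgroup.centralizer ((Cfsg.omegaOne p (Q ⊓
        Subgroup.centralizer ((Q : Subgroup H) : Set H)) : Subgroup H) : Set H) := by
  rw [mem_centralizer_omegaOne_iff, mem_centralizer_omegaOne_iff]
  constructor
  · intro h x hx hxp
    have hxQ := (Subgroup.mem_inf.1 hx).1
    have hxc := (Subgroup.mem_inf.1 hx).2
    rw [Subgroup.mem_centralizer_iff] at hxc
    have h1 := h ⟨x, hQK hxQ⟩ (Subgroup.mem_inf.2 ⟨Subgroup.mem_subgroupOf.2 hxQ, by
      rw [Subgroup.mem_centralizer_iff]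
      intro q hq
      apply Subtype.ext
      exact hxc _ (Subgroup.mem_subgroupOf.1 hq)⟩) (Subtype.ext hxp)
    exact congrArg Subtype.val h1
  · intro h x hx hxp
    have hxQ := (Subgroup.mem_inf.1 hx).1
    have hxc := (Subgroup.mem_inf.1 hx).2
    rw [Subgroup.mem_centralizer_iff] at hxc
    apply Subtype.ext
    apply h (x : H) (Subgroup.mem_inf.2 ⟨Subgroup.mem_subgroupOf.1 hxQ, by
      rw [Subgroup.mem_centralizer_iff]
      intro q hq
      exact congrArg Subtype.val (hxc ⟨q, hQK hq⟩ (Subgroup.mem_subgroupOf.2 hq))⟩)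
    exact congrArg Subtype.val hxp

theorem key {H : Type*} [Group H] [Finite H] {p : ℕ} [Fact p.Prime]
    (hH : Subgroup.centralizer (Cfsg.pCore p H : Set H) ≤ Cfsg.pCore p H) (T : Sylow p H)
    (L : Subgroup H) (hL : L.IsSubnormal) :
    Subgroup.centralizer (Cfsg.pCore p ↥L : Set ↥L) ≤ Cfsg.pCore p ↥L ∧
    (∃ S : Sylow p ↥L, (S : Subgroup ↥L) = (T : Subgroup H).subgroupOf L) ∧
    L ⊓ Subgroup.centralizer ((Cfsg.omegaOne p ((T : Subgroup H) ⊓
        Subgroup.centralizer ((T : Subgroup H) : Set H))) : Set H) =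
    L ⊓ Subgroup.centralizer ((Cfsg.omegaOne p (((T : Subgroup H) ⊓ L) ⊓
        Subgroup.centralizer ((((T : Subgroup H) ⊓ L) : Subgroup H) : Set H))) : Set H) := by
  induction hL with
  | top =>
    refine ⟨charP_of_equiv Subgroup.topEquiv.symm hH, ⟨T.subtype le_top, Sylow.coe_subtype _ _⟩, ?_⟩
    rw [inf_top_eq]
  | step L K hLK hK hN ih =>
    obtain ⟨ihK, ⟨SK, hSK⟩, ihc⟩ := ih
    have hL' : Subgroup.centralizer (Cfsg.pCore p ↥(L.subgroupOf K) : Set ↥(L.subgroupOf K)) ≤
        Cfsg.pCore p ↥(L.subgroupOf K) := charP_of_normal ihK (L.subgroupOf K) hN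
    have hLchar : Subgroup.centralizer (Cfsg.pCore p ↥L : Set ↥L) ≤ Cfsg.pCore p ↥L :=
      charP_of_equiv (Subgroup.subgroupOfEquivOfLe hLK) hL'
    refine ⟨hLchar, ?_, ?_⟩
    · obtain ⟨S', hS'⟩ := sylow_inf_normal SK (L.subgroupOf K)
      refine ⟨S'.comapOfInjective (Subgroup.subgroupOfEquivOfLe hLK).symm.toMonoidHom
        (Subgroup.subgroupOfEquivOfLe hLK).symm.injective (by
          intro x _
          exact ⟨(Subgroup.subgroupOfEquivOfLe hLK) x, by simp⟩), ?_⟩
      ext x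
      show (Subgroup.subgroupOfEquivOfLe hLK).symm x ∈ (S' : Subgroup ↥(L.subgroupOf K)) ↔
        x ∈ (T : Subgroup H).subgroupOf L
      rw [hS', hSK]
      simp [Subgroup.mem_subgroupOf]
    · have hkn := kieler_normal ihK (L.subgroupOf K) hL' SK
      apply le_antisymm
      · intro y hy
        obtain ⟨hyL, hyc⟩ := Subgroup.mem_inf.1 hy
        refine Subgroup.mem_inf.2 ⟨hyL, ?_⟩
        have h1 : y ∈ K ⊓ Subgroup.centralizer ((Cfsg.omegaOne p (((T : Subgroup H) ⊓ K) ⊓
            Subgroup.centralizer ((((T : Subgroup H) ⊓ K) : Subgroup H) : Set H))) : Set H) := by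
          rw [← ihc]; exact Subgroup.mem_inf.2 ⟨hLK hyL, hyc⟩
        have h2 := (mem_centralizer_omega_subtype (p := p) K ((T : Subgroup H) ⊓ K) inf_le_right
          ⟨y, hLK hyL⟩).2 (Subgroup.mem_inf.1 h1).2
        rw [Subgroup.inf_subgroupOf_right, ← hSK] at h2
        have h3 : (⟨y, hLK hyL⟩ : ↥K) ∈ L.subgroupOf K ⊓ Subgroup.centralizer
            ((Cfsg.omegaOne p ((SK : Subgroup ↥K) ⊓
              Subgroup.centralizer ((SK : Subgroup ↥K) : Set ↥K)) : Subgroup ↥K) : Set ↥K) :=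
          Subgroup.mem_inf.2 ⟨Subgroup.mem_subgroupOf.2 hyL, h2⟩
        rw [hkn] at h3
        have h4 := (Subgroup.mem_inf.1 h3).2
        have e : (SK : Subgroup ↥K) ⊓ L.subgroupOf K = ((T : Subgroup H) ⊓ L).subgroupOf K := by
          rw [hSK]
          ext x
          simp [Subgroup.mem_subgroupOf]
        rw [e] at h4
        exact (mem_centralizer_omega_subtype (p := p) K ((T : Subgroup H) ⊓ L)
          (inf_le_right.trans hLK) ⟨y, hLK hyL⟩).1 h4
      · intro y hy
        obtain ⟨hyL, hyc⟩ := Subgroup.mem_inf.1 hy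
        refine Subgroup.mem_inf.2 ⟨hyL, ?_⟩
        have h4 := (mem_centralizer_omega_subtype (p := p) K ((T : Subgroup H) ⊓ L)
          (inf_le_right.trans hLK) ⟨y, hLK hyL⟩).2 hyc
        have e : (SK : Subgroup ↥K) ⊓ L.subgroupOf K = ((T : Subgroup H) ⊓ L).subgroupOf K := by
          rw [hSK]
          ext x
          simp [Subgroup.mem_subgroupOf]
        rw [← e] at h4
        have h3 : (⟨y, hLK hyL⟩ : ↥K) ∈ L.subgroupOf K ⊓ Subgroup.centralizer
            ((Cfsg.omegaOne p (((SK : Subgroup ↥K) ⊓ L.subgroupOf K) ⊓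
              Subgroup.centralizer ((((SK : Subgroup ↥K) ⊓ L.subgroupOf K : Subgroup ↥K)) :
                Set ↥K)) : Subgroup ↥K) : Set ↥K) :=
          Subgroup.mem_inf.2 ⟨Subgroup.mem_subgroupOf.2 hyL, h4⟩
        rw [← hkn] at h3
        have h2 := (Subgroup.mem_inf.1 h3).2
        rw [hSK, ← Subgroup.inf_subgroupOf_right] at h2
        have h1 := (mem_centralizer_omega_subtype (p := p) K ((T : Subgroup H) ⊓ K) inf_le_right
          ⟨y, hLK hyL⟩).1 h2
        have h0 : y ∈ K ⊓ Subgroup.centralizer ((Cfsg.omegaOne p ((T : Subgroup H) ⊓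
            Subgroup.centralizer ((T : Subgroup H) : Set H))) : Set H) := by
          rw [ihc]; exact Subgroup.mem_inf.2 ⟨hLK hyL, h1⟩
        exact (Subgroup.mem_inf.1 h0).2


/-- Kieler's Lemma: let H be a finite group of characteristic p (C_H(O_p(H)) ≤ O_p(H)), T a Sylow p-subgroup of H and L a subnormal subgroup of H. Then C_L(Ω₁(Z(T))) = C_L(Ω₁(Z(T ∩ L))), Ω₁(Z(·)) denoting the elements of order dividing p in the centre. -/
theorem result {H : Type*} [Group H] [Finite H] {p : ℕ} [Fact p.Prime] (hH : Subgroup.centralizer (Cfsg.pCore p H : Set H) ≤ Cfsg.pCore p H) (T : Sylow p H) (L : Subgroup H) (hL : L.IsSubnormal) : L ⊓ Subgroup.centralizer ((Cfsg.omegaOne p ((T : Subgroup H) ⊓ Subgroup.centralizer ((T : Subgroup H) : Set H))) : Set H) = L ⊓ Subgroup.centralizer ((Cfsg.omegaOne p (((T : Subgroup H) ⊓ L) ⊓ Subgroup.centralizer ((((T : Subgroup H) ⊓ L) : Subgroup H) : Set H))) : Set H) := by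
  exact (key hH T L hL).2.2

end Cfsg.Agent.S2805
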