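import Cfsg.Statements.S2809
import Mathlib
import Cfsg.Agent.Lib.Helper4.Coprime
import Cfsg.Agent.Lib.Helper4.PCore

set_option autoImplicit false
open Cfsg

namespace Cfsg.Agent.S2809

open scoped commutatorElement


/-- Let H be a finite group, p a prime, R a p-subgroup of H with C_H(R) ≤ R, and L a subgroup of N_H(R) acting nilpotently on R (some iterated commutator [R, L, …, L] is trivial). Then L is a p-group. -/
theorem result {H : Type*} [Group H] [Finite H] {p : ℕ} [Fact p.Prime] (R : Subgroup H) (hR : IsPGroup p ↥R) (hC : Subgroup.centralizer (R : Set H) ≤ R) (L : Subgroup H) (hL : L ≤ Subgroup.normalizer (R : Set H)) (hnil : ∃ n : ℕ, Cfsg.iterCommutator R L n = ⊥) : IsPGroup p ↥L := by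
  obtain ⟨n, hn⟩ := hnil
  have hle : ∀ i : ℕ, Cfsg.iterCommutator R L i ≤ R := by
    intro i
    induction i with
    | zero => exact le_refl _
    | succ i ih =>
      show ⁅Cfsg.iterCommutator R L i, L⁆ ≤ R
      exact (Subgroup.commutator_mono ih (le_refl L)).trans
        (Subgroup.le_normalizer_iff_commutator_le_left.mp hL)
  apply Lib.Helper4.isPGroup_of_coprime_trivial
  intro x hx hcop
  have hxm : x ^ orderOf x = 1 := pow_orderOf_eq_one x
  have key : ∀ d i : ℕ, i + d = n → ∀ r ∈ Cfsg.iterCommutator R L i, Commute x r := by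
    intro d
    induction d with
    | zero =>
      intro i hi r hr
      have : i = n := by omega
      subst this
      rw [hn, Subgroup.mem_bot] at hr
      subst hr
      exact Commute.one_right x
    | succ d ih =>
      intro i hi r hr
      have hnext := ih (i + 1) (by omega)
      have hz : x * r * x⁻¹ * r⁻¹ ∈ Cfsg.iterCommutator R L (i + 1) := by
        show x * r * x⁻¹ * r⁻¹ ∈ ⁅Cfsg.iterCommutator R L i, L⁆
        rw [Subgroup.commutator_comm]
        exact Subgroup.commutator_mem_commutator hx hr
      obtain ⟨k, hk⟩ := Lib.Helper4.pow_eq_one_of_isPGroup hR (hle _ hz)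
      have hz1 : x * r * x⁻¹ * r⁻¹ = 1 :=
        Lib.Helper4.coprime_stab_eq_one x r (x * r * x⁻¹ * r⁻¹) (by group) (hnext _ hz) hk hxm hcop
      show x * r = r * x
      have : x * r = (x * r * x⁻¹ * r⁻¹) * (r * x) := by group
      rw [this, hz1, one_mul]
  have hxc : x ∈ Subgroup.centralizer (R : Set H) := by
    rw [Subgroup.mem_centralizer_iff]
    intro r hr
    exact ((key n 0 (by omega) r hr).eq).symm
  obtain ⟨k, hk⟩ := Lib.Helper4.pow_eq_one_of_isPGroup hR (hC hxc)
  exact Lib.Helper4.eq_one_of_pow_of_coprime x hk hcop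

end Cfsg.Agent.S2809
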