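import Cfsg.Statements.S2810
import Mathlib
import Cfsg.Agent.Lib.Helper4.Coprime
import Cfsg.Agent.Lib.Helper4.PCore

set_option autoImplicit false
open Cfsg

namespace Cfsg.Agent.S2810

open scoped commutatorElement

/-- the elements `g` with `[g, b] ∈ A` for all `b ∈ B` (for `A` normal) -/
def chainStab {H : Type*} [Group H] (A B : Subgroup H) (hA : A.Normal) : Subgroup H where
  carrier := {g | ∀ b ∈ B, g * b * g⁻¹ * b⁻¹ ∈ A}
  one_mem' := by
    intro b _
    simp
  mul_mem' := by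
    intro g h hg hh b hb
    have h1 : g * (h * b * h⁻¹ * b⁻¹) * g⁻¹ ∈ A := hA.conj_mem _ (hh b hb) g
    have h2 := A.mul_mem h1 (hg b hb)
    have : g * h * b * (g * h)⁻¹ * b⁻¹ = g * (h * b * h⁻¹ * b⁻¹) * g⁻¹ * (g * b * g⁻¹ * b⁻¹) := by
      group
    rw [this]
    exact h2
  inv_mem' := by
    intro g hg b hb
    have h1 : g⁻¹ * (g * b * g⁻¹ * b⁻¹)⁻¹ * g⁻¹⁻¹ ∈ A := hA.conj_mem _ (A.inv_mem (hg b hb)) g⁻¹
    have : g⁻¹ * b * g⁻¹⁻¹ * b⁻¹ = g⁻¹ * (g * b * g⁻¹ * b⁻¹)⁻¹ * g⁻¹⁻¹ := by group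
    rw [this]
    exact h1

theorem chainStab_normal {H : Type*} [Group H] (A B : Subgroup H) (hA : A.Normal) (hB : B.Normal) :
    (chainStab A B hA).Normal := by
  constructor
  intro g hg h b hb
  have hb' : h⁻¹ * b * h⁻¹⁻¹ ∈ B := hB.conj_mem b hb h⁻¹
  have h1 := hg _ hb'
  have h2 := hA.conj_mem _ h1 h
  have : h * g * h⁻¹ * b * (h * g * h⁻¹)⁻¹ * b⁻¹ =
      h * (g * (h⁻¹ * b * h⁻¹⁻¹) * g⁻¹ * (h⁻¹ * b * h⁻¹⁻¹)⁻¹) * h⁻¹ := by group
  rw [this]
  exact h2


/-- Let H be a finite group of characteristic p and L a subgroup of H centralizing every factor of some H-invariant chain 1 = A₀ ≤ A₁ ≤ … ≤ Aₙ = O_p(H) of normal subgroups (that is, [A_{i+1}, L] ≤ Aᵢ for each i). Then L ≤ O_p(H). -/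
theorem result {H : Type*} [Group H] [Finite H] {p : ℕ} [Fact p.Prime] (hchar : Subgroup.centralizer (Cfsg.pCore p H : Set H) ≤ Cfsg.pCore p H) (L : Subgroup H) (n : ℕ) (A : Fin (n + 1) → Subgroup H) (h0 : A 0 = ⊥) (hn : A (Fin.last n) = Cfsg.pCore p H) (hmono : Monotone A) (hnorm : ∀ i, (A i).Normal) (hcent : ∀ i : Fin n, ⁅A i.succ, L⁆ ≤ A i.castSucc) : L ≤ Cfsg.pCore p H := by
  -- the subgroup of all elements stabilizing the chain
  let C : Subgroup H := ⨅ i : Fin n, chainStab (A i.castSucc) (A i.succ) (hnorm _)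
  have hCn : C.Normal := by
    have : ∀ i : Fin n, (chainStab (A i.castSucc) (A i.succ) (hnorm _)).Normal :=
      fun i => chainStab_normal _ _ (hnorm _) (hnorm _)
    exact Subgroup.normal_iInf_normal this
  have hLC : L ≤ C := by
    refine le_iInf ?_
    intro i l hl b hb
    have : l * b * l⁻¹ * b⁻¹ ∈ ⁅A i.succ, L⁆ := by
      rw [Subgroup.commutator_comm]
      exact Subgroup.commutator_mem_commutator hl hb
    exact hcent i this
  have hCp : IsPGroup p C := by
    apply Lib.Helper4.isPGroup_of_coprime_trivial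
    intro x hx hcop
    have hxm : x ^ orderOf x = 1 := pow_orderOf_eq_one x
    have hAle : ∀ i : Fin (n + 1), A i ≤ Cfsg.pCore p H := by
      intro i
      rw [← hn]
      exact hmono (Fin.le_last i)
    have key : ∀ i : Fin (n + 1), ∀ a ∈ A i, Commute x a := by
      intro i
      induction i using Fin.induction with
      | zero =>
        intro a ha
        rw [h0, Subgroup.mem_bot] at ha
        subst ha
        exact Commute.one_right x
      | succ i ih =>
        intro a ha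
        have hxi : x ∈ chainStab (A i.castSucc) (A i.succ) (hnorm _) :=
          (iInf_le (fun i : Fin n => chainStab (A i.castSucc) (A i.succ) (hnorm _)) i) hx
        have hz : x * a * x⁻¹ * a⁻¹ ∈ A i.castSucc := hxi a ha
        obtain ⟨k, hk⟩ := Lib.Helper4.pow_eq_one_of_isPGroup (Lib.Helper4.pCore_isPGroup p H)
          (hAle _ hz)
        have hz1 : x * a * x⁻¹ * a⁻¹ = 1 :=
          Lib.Helper4.coprime_stab_eq_one x a (x * a * x⁻¹ * a⁻¹) (by group) (ih _ hz) hk hxm hcop
        show x * a = a * x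
        have : x * a = (x * a * x⁻¹ * a⁻¹) * (a * x) := by group
        rw [this, hz1, one_mul]
    have hxc : x ∈ Subgroup.centralizer (Cfsg.pCore p H : Set H) := by
      rw [Subgroup.mem_centralizer_iff]
      intro r hr
      rw [← hn] at hr
      exact ((key _ r hr).eq).symm
    obtain ⟨k, hk⟩ := Lib.Helper4.pow_eq_one_of_isPGroup (Lib.Helper4.pCore_isPGroup p H)
      (hchar hxc)
    exact Lib.Helper4.eq_one_of_pow_of_coprime x hk hcop
  exact hLC.trans (Lib.Helper4.le_pCore hCn hCp)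

end Cfsg.Agent.S2810
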