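import Cfsg.Statements.S2812
import Mathlib
import Cfsg.Agent.Lib.Helper4.FStarAct

open Cfsg.Agent.Lib.Helper4

set_option autoImplicit false
open Cfsg

namespace Cfsg.Agent.S2812

/-- Let H be a subgroup of the finite group G with O_p(H) = 1, Y a p-subgroup of G normalizing H, and L a subgroup of the generalized Fitting subgroup F*(H) that is subnormal in H and normalized by Y. Then L = [L, Y]·C_L(Y) and [L, Y] = [L, Y, Y]. -/
theorem result {G : Type*} [Group G] [Finite G] {p : ℕ} [Fact p.Prime] (H : Subgroup G) (hO : Cfsg.pCore p ↥H = ⊥) (Y : Subgroup G) (hY : IsPGroup p ↥Y) (hYH : Y ≤ Subgroup.normalizer (H : Set G)) (L : Subgroup G) (hLF : L ≤ (Cfsg.generalizedFittingSubgroup ↥H).map H.subtype) (hLsn : (L.subgroupOf H).IsSubnormal) (hYL : Y ≤ Subgroup.normalizer (L : Set G)) : ⁅L, Y⁆ ⊔ (L ⊓ Subgroup.centralizer (Y : Set G)) = L ∧ ⁅L, Y⁆ = ⁅⁅L, Y⁆, Y⁆ := by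
  obtain ⟨D, hD⟩ : ∃ D, D = ⁅L, Y⁆ := ⟨_, rfl⟩
  rw [← hD]
  have hDL : D ≤ L := by rw [hD]; exact commutator_le_left_of_le_normalizer hYL
  have hLND : L ≤ Subgroup.normalizer (D : Set G) := by
    rw [hD]; exact left_le_normalizer_commutator L Y
  obtain ⟨CL, hCL⟩ : ∃ CL, CL = L ⊓ Subgroup.centralizer (Y : Set G) := ⟨_, rfl⟩
  rw [← hCL]
  have hCLL : CL ≤ L := hCL ▸ inf_le_left
  obtain ⟨FL, hFL⟩ : ∃ FL, FL = (Cfsg.fittingSubgroup ↥H).map H.subtype ⊓ L := ⟨_, rfl⟩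
  have hFLL : FL ≤ L := hFL ▸ inf_le_right
  have hFLle : FL ≤ D ⊔ CL := by
    have hYFL : Y ≤ Subgroup.normalizer (FL : Set G) := by
      rw [hFL]; exact le_normalizer_inf (hYH.trans (normalizer_le_normalizer_fittingOf H)) hYL
    have hcop : (Nat.card Y).Coprime (Nat.card FL) := by
      have h1 := fitting_coprime_of_pCore_eq_bot hO
      have h2 : Nat.card FL ∣ Nat.card (Cfsg.fittingSubgroup ↥H) := by
        have h3 : Nat.card FL ∣ Nat.card ((Cfsg.fittingSubgroup ↥H).map H.subtype) :=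
          Subgroup.card_dvd_of_le (hFL ▸ inf_le_left)
        rwa [Subgroup.card_map_of_injective H.subtype_injective] at h3
      obtain ⟨a, ha⟩ := IsPGroup.iff_card.1 hY
      rw [ha]
      exact Nat.Coprime.pow_left a (Nat.Coprime.coprime_dvd_right h2 h1.symm)
    have hsolv : Group.IsSolvable ↥Y := by
      have := hY.isNilpotent
      infer_instance
    intro f hf
    obtain ⟨x, hx, c, hc, rfl⟩ :=
      Cfsg.Agent.Lib.Lead.coprime_commutator_decomp Y FL hYFL hcop (Or.inl hsolv) f hf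
    apply Subgroup.mul_mem
    · apply Subgroup.mem_sup_left
      rw [hD]; exact Subgroup.commutator_mono hFLL le_rfl hx
    · apply Subgroup.mem_sup_right
      rw [hCL]; exact Subgroup.mem_inf.2 ⟨hFLL (Subgroup.mem_inf.1 hc).1, (Subgroup.mem_inf.1 hc).2⟩
  have hK : ∀ K ∈ compSet H L, K ≤ D ⊔ CL := by
    intro K hKc
    have hqs := compSet_quasisimple hKc
    have hKL := hKc.1
    by_cases hKD : K ≤ D
    · exact hKD.trans le_sup_left
    · apply le_trans _ le_sup_right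
      rw [hCL]
      apply le_inf hKL
      rw [Subgroup.le_centralizer_iff]
      intro y hy
      have hM : K ⊓ D ≤ Subgroup.centralizer (K : Set G) := by
        rcases qs_normal hqs (inf_le_left : K ⊓ D ≤ K)
          (le_normalizer_inf Subgroup.le_normalizer (hKL.trans hLND)) with h | h
        · exact absurd (h.symm.le.trans inf_le_right) hKD
        · exact h
      by_cases hyK : K.map (MulAut.conj y).toMonoidHom = K
      · obtain ⟨Z, hZ⟩ : ∃ Z, Z = Subgroup.zpowers y := ⟨_, rfl⟩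
        have hZY : Z ≤ Y := by rw [hZ, Subgroup.zpowers_le]; exact hy
        have hZK : Z ≤ Subgroup.normalizer (K : Set G) := by
          rw [hZ, Subgroup.zpowers_le]; exact mem_normalizer_of_map_conj_eq hyK
        have h1 : ⁅K, Z⁆ ≤ K ⊓ D :=
          le_inf (commutator_le_left_of_le_normalizer hZK)
            (by rw [hD]; exact Subgroup.commutator_mono hKL hZY)
        have h2 : ⁅⁅K, Z⁆, K⁆ = ⊥ :=
          Subgroup.commutator_eq_bot_iff_le_centralizer.2 (h1.trans hM)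
        have h3 : ⁅⁅Z, K⁆, K⁆ = ⊥ := by rw [Subgroup.commutator_comm Z K]; exact h2
        have h4 : ⁅⁅K, K⁆, Z⁆ = ⊥ := Subgroup.commutator_commutator_eq_bot_of_rotate h2 h3
        rw [qs_perfect hqs] at h4
        have h5 : K ≤ Subgroup.centralizer (Z : Set G) :=
          Subgroup.commutator_eq_bot_iff_le_centralizer.1 h4
        rw [Subgroup.mem_centralizer_iff]
        intro k hk
        have := Subgroup.mem_centralizer_iff.1 (h5 hk) y (hZ ▸ Subgroup.mem_zpowers y)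
        exact this.symm
      · exfalso
        apply hKD
        have hK2 := compSet_conj hKc (hYH hy) (hYL hy)
        have hcomm := compSet_commute hKc hK2 (Ne.symm hyK)
        rw [← qs_perfect hqs, Subgroup.commutator_le]
        intro k₁ hk₁ k₂ hk₂
        show k₁ * k₂ * k₁⁻¹ * k₂⁻¹ ∈ D
        have hc : k₁ * y * k₁⁻¹ * y⁻¹ ∈ D := by
          rw [hD]; exact Subgroup.commutator_mem_commutator (hKL hk₁) hy
        have hu : y * k₁⁻¹ * y⁻¹ ∈ K.map (MulAut.conj y).toMonoidHom :=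
          ⟨k₁⁻¹, K.inv_mem hk₁, rfl⟩
        have hcu : (y * k₁⁻¹ * y⁻¹) * k₂ = k₂ * (y * k₁⁻¹ * y⁻¹) :=
          Subgroup.mem_centralizer_iff.1 (hcomm hk₂) _ hu
        have h6 : (k₁ * y * k₁⁻¹ * y⁻¹) * k₂ * (k₁ * y * k₁⁻¹ * y⁻¹)⁻¹ * k₂⁻¹ ∈ D := by
          have h7 : k₂ * (k₁ * y * k₁⁻¹ * y⁻¹)⁻¹ * k₂⁻¹ ∈ D :=
            conj_mem_of_mem_normalizer (hLND (hKL hk₂)) (D.inv_mem hc)
          have e : (k₁ * y * k₁⁻¹ * y⁻¹) * k₂ * (k₁ * y * k₁⁻¹ * y⁻¹)⁻¹ * k₂⁻¹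
              = (k₁ * y * k₁⁻¹ * y⁻¹) * (k₂ * (k₁ * y * k₁⁻¹ * y⁻¹)⁻¹ * k₂⁻¹) := by group
          rw [e]; exact D.mul_mem hc h7
        have e2 : (k₁ * y * k₁⁻¹ * y⁻¹) * k₂ * (k₁ * y * k₁⁻¹ * y⁻¹)⁻¹ * k₂⁻¹
            = k₁ * k₂ * k₁⁻¹ * k₂⁻¹ := by
          calc (k₁ * y * k₁⁻¹ * y⁻¹) * k₂ * (k₁ * y * k₁⁻¹ * y⁻¹)⁻¹ * k₂⁻¹
              = k₁ * ((y * k₁⁻¹ * y⁻¹) * k₂) * (y * k₁⁻¹ * y⁻¹)⁻¹ * k₁⁻¹ * k₂⁻¹ := by group
            _ = k₁ * (k₂ * (y * k₁⁻¹ * y⁻¹)) * (y * k₁⁻¹ * y⁻¹)⁻¹ * k₁⁻¹ * k₂⁻¹ := by rw [hcu]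
            _ = k₁ * k₂ * k₁⁻¹ * k₂⁻¹ := by group
        rw [← e2]; exact h6
  have hsS : sSup (compSet H L) ≤ D ⊔ CL := sSup_le hK
  have hLle : L ≤ D ⊔ CL :=
    (le_sSup_compSet_sup hLF hLsn).trans (sup_le hsS (hFL ▸ hFLle))
  have h1 : D ⊔ CL = L := le_antisymm (sup_le hDL hCLL) hLle
  refine ⟨h1, ?_⟩
  have h2 : ⁅L, Y⁆ ≤ ⁅D, Y⁆ := by
    rw [Subgroup.commutator_le]
    intro l hl y hy
    obtain ⟨d, hd, c, hc, rfl⟩ :=
      exists_mul_of_mem_sup_of_le_normalizer (hCLL.trans hLND) (h1.symm.le hl)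
    have hcy : y * c = c * y := by
      have hc' : c ∈ L ⊓ Subgroup.centralizer (Y : Set G) := hCL ▸ hc
      exact Subgroup.mem_centralizer_iff.1 (Subgroup.mem_inf.1 hc').2 y hy
    show d * c * y * (d * c)⁻¹ * y⁻¹ ∈ _
    have e : d * c * y * (d * c)⁻¹ * y⁻¹ = d * y * d⁻¹ * y⁻¹ := by
      calc d * c * y * (d * c)⁻¹ * y⁻¹ = d * (c * y) * c⁻¹ * d⁻¹ * y⁻¹ := by group
        _ = d * (y * c) * c⁻¹ * d⁻¹ * y⁻¹ := by rw [hcy]
        _ = d * y * d⁻¹ * y⁻¹ := by group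
    rw [e]
    exact Subgroup.commutator_mem_commutator hd hy
  exact le_antisymm (hD.le.trans h2) ((Subgroup.commutator_mono hDL le_rfl).trans hD.symm.le)

end Cfsg.Agent.S2812
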