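import Cfsg.Statements.S2813
import Mathlib
import Cfsg.Agent.Lib.Helper4.PCore

set_option autoImplicit false
open Cfsg

namespace Cfsg.Agent.S2813

open scoped commutatorElement

/-- Let K be a subgroup of the finite group H with O_p(K) = 1 and Y a p-subgroup of N_H(K) with [K, Y, Y] = 1. Then [K, Y] = 1. -/
theorem result {H : Type*} [Group H] [Finite H] {p : ℕ} [Fact p.Prime] (K : Subgroup H) (hO : Cfsg.pCore p ↥K = ⊥) (Y : Subgroup H) (hY : IsPGroup p ↥Y) (hYK : Y ≤ Subgroup.normalizer (K : Set H)) (hq : ⁅⁅K, Y⁆, Y⁆ = ⊥) : ⁅K, Y⁆ = ⊥ := by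
  -- N = [K, Y]
  have hNK : ⁅K, Y⁆ ≤ K := by
    rw [Subgroup.commutator_le]
    intro k hk y hy
    have h1 : y * k⁻¹ * y⁻¹ ∈ K := by
      have := (Subgroup.mem_normalizer_iff.mp (hYK hy)) k⁻¹
      exact this.mp (K.inv_mem hk)
    have : ⁅k, y⁆ = k * (y * k⁻¹ * y⁻¹) := by rw [commutatorElement_def]; group
    rw [this]
    exact K.mul_mem hk h1
  have hNY : ⁅K, Y⁆ ≤ Subgroup.centralizer (Y : Set H) :=
    Subgroup.commutator_eq_bot_iff_le_centralizer.mp hq
  have hKnorm : K ≤ Subgroup.normalizer ((⁅K, Y⁆ : Subgroup H) : Set H) :=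
    Subgroup.normalizer_commutator_ge_left K Y
  -- generators of N commute with all of N
  have hgen : ∀ k ∈ K, ∀ y ∈ Y, ∀ n ∈ ⁅K, Y⁆, Commute (k * y * k⁻¹) n ∧ Commute y n := by
    intro k hk y hy n hn
    have hy_n : Commute y n := by
      have := (Subgroup.mem_centralizer_iff.mp (hNY hn)) y hy
      exact this
    refine ⟨?_, hy_n⟩
    have h2 : k⁻¹ * n * k⁻¹⁻¹ ∈ ⁅K, Y⁆ :=
      (Subgroup.mem_normalizer_iff.mp (hKnorm (K.inv_mem hk)) n).mp hn
    have h3 : Commute y (k⁻¹ * n * k⁻¹⁻¹) :=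
      (Subgroup.mem_centralizer_iff.mp (hNY h2)) y hy
    have h4 : y * (k⁻¹ * n * k) = (k⁻¹ * n * k) * y := by
      have := h3.eq
      simpa using this
    show k * y * k⁻¹ * n = n * (k * y * k⁻¹)
    calc k * y * k⁻¹ * n = k * (y * (k⁻¹ * n * k)) * k⁻¹ := by group
      _ = k * ((k⁻¹ * n * k) * y) * k⁻¹ := by rw [h4]
      _ = n * (k * y * k⁻¹) := by group
  have hNcomm : ∀ n ∈ ⁅K, Y⁆, ∀ m ∈ ⁅K, Y⁆, Commute m n := by
    intro n hn m hm
    rw [Subgroup.commutator_def] at hm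
    induction hm using Subgroup.closure_induction with
    | mem x hx =>
      obtain ⟨k, hk, y, hy, rfl⟩ := hx
      obtain ⟨c1, c2⟩ := hgen k hk y hy n hn
      have : ⁅k, y⁆ = (k * y * k⁻¹) * y⁻¹ := by rw [commutatorElement_def]
      rw [this]
      exact c1.mul_left c2.inv_left
    | one => exact Commute.one_left n
    | mul x y _ _ hx hy => exact hx.mul_left hy
    | inv x _ hx => exact hx.inv_left
  have hNp : ∀ n ∈ ⁅K, Y⁆, ∃ m : ℕ, n ^ (p ^ m) = 1 := by
    intro n hn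
    have hn' := hn
    rw [Subgroup.commutator_def] at hn'
    induction hn' using Subgroup.closure_induction with
    | mem x hx =>
      obtain ⟨k, hk, y, hy, rfl⟩ := hx
      obtain ⟨m, hm⟩ := hY ⟨y, hy⟩
      have hm' : y ^ (p ^ m) = 1 := by
        have := congrArg Subtype.val hm
        simpa using this
      refine ⟨m, ?_⟩
      have hcm : Commute (k * y * k⁻¹) y⁻¹ := by
        have h5 : k * y * k⁻¹ = ⁅k, y⁆ * y := by rw [commutatorElement_def]; group
        rw [h5]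
        have c2 : Commute y ⁅k, y⁆ := (hgen k hk y hy _ hn).2
        exact (c2.symm.mul_left (Commute.refl y)).inv_right
      have h6 : ⁅k, y⁆ = (k * y * k⁻¹) * y⁻¹ := by rw [commutatorElement_def]
      rw [h6, hcm.mul_pow]
      have h7 : (k * y * k⁻¹) ^ (p ^ m) = k * y ^ (p ^ m) * k⁻¹ := by
        rw [conj_pow]
      rw [h7, hm', inv_pow, hm']
      group
    | one => exact ⟨0, by simp⟩
    | mul x y hx hy ihx ihy =>
      have hxN : x ∈ ⁅K, Y⁆ := by rw [Subgroup.commutator_def]; exact hx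
      have hyN : y ∈ ⁅K, Y⁆ := by rw [Subgroup.commutator_def]; exact hy
      obtain ⟨a, ha⟩ := ihx hxN
      obtain ⟨b, hb⟩ := ihy hyN
      refine ⟨a + b, ?_⟩
      have hc : Commute x y := hNcomm y hyN x hxN
      rw [hc.mul_pow, pow_add, pow_mul, ha, one_pow, mul_comm (p ^ a), pow_mul, hb, one_pow, one_mul]
    | inv x hx ihx =>
      have hxN : x ∈ ⁅K, Y⁆ := by rw [Subgroup.commutator_def]; exact hx
      obtain ⟨a, ha⟩ := ihx hxN
      exact ⟨a, by rw [inv_pow, ha, inv_one]⟩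
  have hNpg : IsPGroup p ↥((⁅K, Y⁆ : Subgroup H).subgroupOf K) := by
    intro g
    obtain ⟨m, hm⟩ := hNp (g : K) (Subgroup.mem_subgroupOf.mp g.2)
    refine ⟨m, ?_⟩
    apply Subtype.ext
    apply Subtype.ext
    simpa using hm
  have hNnorm : ((⁅K, Y⁆ : Subgroup H).subgroupOf K).Normal := by
    constructor
    intro n hn g
    rw [Subgroup.mem_subgroupOf] at hn ⊢
    have := (Subgroup.mem_normalizer_iff.mp (hKnorm g.2) (n : H)).mp hn
    simpa using this
  have hbot : (⁅K, Y⁆ : Subgroup H).subgroupOf K = ⊥ :=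
    Lib.Helper4.eq_bot_of_pCore_eq_bot hO hNnorm hNpg
  rw [Subgroup.subgroupOf_eq_bot] at hbot
  exact (disjoint_of_le_iff_left_eq_bot hNK).mp hbot

end Cfsg.Agent.S2813
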