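import Cfsg.Statements.S2814
import Mathlib
import Cfsg.Agent.Lib.Helper4.Subnormal
import Cfsg.Agent.Lib.Helper4.PClosed
import Cfsg.Agent.Lib.Helper4.Normalizer

set_option autoImplicit false
open Cfsg

namespace Cfsg.Agent.S2814

/-- Let A be a subgroup of the finite group H and K the subnormal closure of A (intersection of the subnormal subgroups containing A). Then K is the normal closure of A inside K and N_H(A) ≤ N_H(K); K = A·O^p(K), O^p(K) being generated by the elements of K of order prime to p; and if A is a p-group, O^p(K) = [O^p(K), A]. -/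
theorem result {H : Type*} [Group H] [Finite H] {p : ℕ} [Fact p.Prime] (A : Subgroup H) (K : Subgroup H) (hK : K = Cfsg.subnormalClosure A) : (Subgroup.normalClosure ((A.subgroupOf K : Subgroup ↥K) : Set ↥K)).map K.subtype = K ∧ Subgroup.normalizer (A : Set H) ≤ Subgroup.normalizer (K : Set H) ∧ A ⊔ (Cfsg.pResidual p ↥K).map K.subtype = K ∧ (IsPGroup p ↥A → ⁅(Cfsg.pResidual p ↥K).map K.subtype, A⁆ = (Cfsg.pResidual p ↥K).map K.subtype) := by
  classical
  have hKsub : K.IsSubnormal := by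
    rw [hK]
    exact Cfsg.Agent.Lib.Helper4.isSubnormal_sInf _ (fun X hX => hX.2)
  have hAK : A ≤ K := by
    rw [hK]
    exact le_sInf (fun X hX => hX.1)
  have hmin : ∀ X : Subgroup H, A ≤ X → X.IsSubnormal → K ≤ X := by
    intro X hAX hX
    rw [hK]
    exact sInf_le ⟨hAX, hX⟩
  -- (1)
  have h1 : (Subgroup.normalClosure ((A.subgroupOf K : Subgroup ↥K) : Set ↥K)).map K.subtype = K := by
    apply le_antisymm (Subgroup.map_subtype_le _)
    apply hmin
    · intro a ha
      exact ⟨⟨a, hAK ha⟩, Subgroup.subset_normalClosure (Subgroup.mem_subgroupOf.2 ha), rfl⟩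
    · exact (Subgroup.Normal.isSubnormal inferInstance).trans' hKsub
  -- (2)
  have h2 : Subgroup.normalizer (A : Set H) ≤ Subgroup.normalizer (K : Set H) := by
    have hkey : ∀ g : H, g ∈ Subgroup.normalizer (A : Set H) →
        K ≤ K.map (MulAut.conj g).toMonoidHom := by
      intro g hg
      apply hmin
      · intro a ha
        refine ⟨g⁻¹ * a * g, hAK ?_, by simp [mul_assoc]⟩
        have := Cfsg.Agent.Lib.Helper4.conj_mem_of_mem_normalizer (Subgroup.inv_mem _ hg) ha
        simpa using this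
      · exact hKsub.map (MulAut.conj g).surjective
    intro g hg
    apply Cfsg.Agent.Lib.Helper4.mem_normalizer_of_map_conj_eq
    apply le_antisymm _ (hkey g hg)
    have h3 := hkey g⁻¹ (Subgroup.inv_mem _ hg)
    rintro _ ⟨k, hk, rfl⟩
    obtain ⟨k', hk', hkk⟩ := h3 hk
    simp only [MulEquiv.coe_toMonoidHom, MulAut.conj_apply, inv_inv] at hkk ⊢
    rw [← hkk]
    simpa [mul_assoc] using hk'
  have hRn : (Cfsg.pResidual p ↥K).Normal := Cfsg.Agent.Lib.Helper4.pResidual_normal p ↥K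
  have hRK : (Cfsg.pResidual p ↥K).map K.subtype ≤ K := Subgroup.map_subtype_le _
  -- (3)
  have h3 : A ⊔ (Cfsg.pResidual p ↥K).map K.subtype = K := by
    apply le_antisymm (sup_le hAK hRK)
    apply hmin _ le_sup_left
    have hX : (A.subgroupOf K ⊔ Cfsg.pResidual p ↥K).IsSubnormal := by
      apply Cfsg.Agent.Lib.Helper4.isSubnormal_of_le_of_isNilpotent_quotient (Cfsg.pResidual p ↥K)
        _ _ le_sup_right
      exact (Cfsg.Agent.Lib.Helper4.isPGroup_quotient_pResidual (G := ↥K) (p := p)).isNilpotent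
    have hX' := hX.trans' hKsub
    rw [Subgroup.map_sup, Subgroup.subgroupOf_map_subtype, inf_eq_left.2 hAK] at hX'
    exact hX'
  refine ⟨h1, h2, h3, ?_⟩
  intro hAp
  have hCR : ⁅(Cfsg.pResidual p ↥K).map K.subtype, A⁆ ≤ (Cfsg.pResidual p ↥K).map K.subtype := by
    rw [Subgroup.commutator_le]
    rintro _ ⟨r, hr, rfl⟩ a ha
    refine ⟨r * (⟨a, hAK ha⟩ * r⁻¹ * ⟨a, hAK ha⟩⁻¹), ?_, ?_⟩
    · exact Subgroup.mul_mem _ hr (hRn.conj_mem _ (Subgroup.inv_mem _ hr) _)
    · simp [commutatorElement_def, mul_assoc]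
  apply le_antisymm hCR
  have hKR : K ≤ Subgroup.normalizer (((Cfsg.pResidual p ↥K).map K.subtype : Subgroup H) : Set H) := by
    apply Cfsg.Agent.Lib.Helper4.le_normalizer_of_conj_mem
    rintro k hk _ ⟨r, hr, rfl⟩
    exact ⟨⟨k, hk⟩ * r * ⟨k, hk⟩⁻¹, hRn.conj_mem r hr ⟨k, hk⟩, rfl⟩
  have hKC : K ≤ Subgroup.normalizer
      ((⁅(Cfsg.pResidual p ↥K).map K.subtype, A⁆ : Subgroup H) : Set H) := by
    refine h3.symm.le.trans (sup_le ?_ ?_)
    · exact Cfsg.Agent.Lib.Helper4.le_normalizer_commutator (hAK.trans hKR) Subgroup.le_normalizer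
    · exact Subgroup.normalizer_commutator_ge_left _ _
  have hKD : K ≤ Subgroup.normalizer
      ((⁅(Cfsg.pResidual p ↥K).map K.subtype, A⁆ ⊔ A : Subgroup H) : Set H) := by
    refine h3.symm.le.trans (sup_le ?_ ?_)
    · exact Cfsg.Agent.Lib.Helper4.le_normalizer_sup (hAK.trans hKC) Subgroup.le_normalizer
    · apply Cfsg.Agent.Lib.Helper4.le_normalizer_of_conj_mem
      intro r hr d hd
      have hmap : (⁅(Cfsg.pResidual p ↥K).map K.subtype, A⁆ ⊔ A).map (MulAut.conj r).toMonoidHom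
          ≤ ⁅(Cfsg.pResidual p ↥K).map K.subtype, A⁆ ⊔ A := by
        rw [Subgroup.map_sup]
        apply sup_le
        · rintro _ ⟨c, hc, rfl⟩
          exact Subgroup.mem_sup_left
            (Cfsg.Agent.Lib.Helper4.conj_mem_of_mem_normalizer (hKC (hRK hr)) hc)
        · rintro _ ⟨y, hy, rfl⟩
          have e : (MulAut.conj r).toMonoidHom y = (r * y * r⁻¹ * y⁻¹) * y := by
            simp
          rw [e]
          have hcm : r * y * r⁻¹ * y⁻¹ ∈ ⁅(Cfsg.pResidual p ↥K).map K.subtype, A⁆ :=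
            Subgroup.commutator_mem_commutator hr hy
          exact Subgroup.mul_mem _ (Subgroup.mem_sup_left hcm) (Subgroup.mem_sup_right hy)
      exact hmap ⟨d, hd, rfl⟩
  have hCDK : ⁅(Cfsg.pResidual p ↥K).map K.subtype, A⁆ ⊔ A ≤ K := sup_le (hCR.trans hRK) hAK
  -- K ≤ C ⊔ A
  have hKle : K ≤ ⁅(Cfsg.pResidual p ↥K).map K.subtype, A⁆ ⊔ A := by
    have hDn : ((⁅(Cfsg.pResidual p ↥K).map K.subtype, A⁆ ⊔ A).subgroupOf K).Normal := by
      refine ⟨fun v hv l => ?_⟩
      rw [Subgroup.mem_subgroupOf] at hv ⊢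
      exact Cfsg.Agent.Lib.Helper4.conj_mem_of_mem_normalizer (hKD l.2) hv
    have hle : Subgroup.normalClosure ((A.subgroupOf K : Subgroup ↥K) : Set ↥K) ≤
        (⁅(Cfsg.pResidual p ↥K).map K.subtype, A⁆ ⊔ A).subgroupOf K := by
      apply Subgroup.normalClosure_le_normal
      intro a ha
      exact Subgroup.mem_subgroupOf.2 (Subgroup.mem_sup_right (Subgroup.mem_subgroupOf.1 ha))
    intro k hk
    rw [← h1] at hk
    obtain ⟨k', hk', rfl⟩ := hk
    exact Subgroup.mem_subgroupOf.1 (hle hk')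
  have hCn : (⁅(Cfsg.pResidual p ↥K).map K.subtype, A⁆.subgroupOf K).Normal := by
    refine ⟨fun v hv l => ?_⟩
    rw [Subgroup.mem_subgroupOf] at hv ⊢
    exact Cfsg.Agent.Lib.Helper4.conj_mem_of_mem_normalizer (hKC l.2) hv
  have hres : Cfsg.pResidual p ↥K ≤ ⁅(Cfsg.pResidual p ↥K).map K.subtype, A⁆.subgroupOf K := by
    apply Cfsg.Agent.Lib.Helper4.pResidual_le_of_le_sup (Y := A.subgroupOf K)
      (hAp.comap_of_injective K.subtype K.subtype_injective)
    rw [← Subgroup.subgroupOf_sup (hCR.trans hRK) hAK]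
    intro x _
    exact Subgroup.mem_subgroupOf.2 (hKle x.2)
  rintro _ ⟨r, hr, rfl⟩
  exact Subgroup.mem_subgroupOf.1 (hres hr)

end Cfsg.Agent.S2814
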