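import Cfsg.Statements.S2815
import Mathlib
import Cfsg.Agent.Lib.Helper4.PClosed
import Cfsg.Agent.Lib.Helper4.Normalizer
import Cfsg.Agent.Lib.Helper2.Comp

set_option autoImplicit false
open Cfsg

namespace Cfsg.Agent.S2815

/-- Let H be a finite group and p a prime dividing its order with O_p(H) = 1, and suppose K = O^p(H) (generated by the elements of order prime to p) is quasisimple. Then K = F*(H); for every nontrivial p-subgroup Y of H, K = [K, Y] and K lies in the subgroup generated by the K-conjugates of Y; every normal subgroup of H not containing K has order prime to p; and H is p-irreducible. -/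
theorem result {H : Type*} [Group H] [Finite H] {p : ℕ} [Fact p.Prime] (hp : p ∣ Nat.card H) (hO : Cfsg.pCore p H = ⊥) (hq : Cfsg.IsQuasisimple ↥(Cfsg.pResidual p H)) : Cfsg.pResidual p H = Cfsg.generalizedFittingSubgroup H ∧ (∀ Y : Subgroup H, IsPGroup p ↥Y → Y ≠ ⊥ → ⁅Cfsg.pResidual p H, Y⁆ = Cfsg.pResidual p H ∧ Cfsg.pResidual p H ≤ ⨆ k : ↥(Cfsg.pResidual p H), Y.map (MulAut.conj (k : H)).toMonoidHom) ∧ (∀ C : Subgroup H, C.Normal → ¬ Cfsg.pResidual p H ≤ C → (Nat.card ↥C).Coprime p) ∧ Cfsg.IsPIrreducible p H := by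
  classical
  have hpp := (Fact.out : p.Prime)
  have hKn : (Cfsg.pResidual p H).Normal := Cfsg.Agent.Lib.Helper4.pResidual_normal p H
  have hperf : ⁅Cfsg.pResidual p H, Cfsg.pResidual p H⁆ = Cfsg.pResidual p H :=
    Subgroup.isPerfect_iff.mp hq.1
  have hCn : (Subgroup.centralizer ((Cfsg.pResidual p H : Subgroup H) : Set H)).Normal :=
    inferInstance
  -- p'-elements lie in K
  have hmemK : ∀ g : H, Nat.Coprime (orderOf g) p → g ∈ Cfsg.pResidual p H :=
    fun g hg => Cfsg.Agent.Lib.Helper4.mem_pResidual_of_coprime hg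
  -- a subgroup of order prime to p lies in K
  have hcopK : ∀ N : Subgroup H, (Nat.card ↥N).Coprime p → N ≤ Cfsg.pResidual p H := by
    intro N hN g hg
    apply hmemK
    have h1 : orderOf (⟨g, hg⟩ : ↥N) ∣ Nat.card ↥N := orderOf_dvd_natCard _
    have h2 : orderOf (⟨g, hg⟩ : ↥N) = orderOf g := by
      rw [← Subgroup.orderOf_coe]
    rw [h2] at h1
    exact Nat.Coprime.coprime_dvd_left h1 hN
  -- (A) the centralizer of K has order prime to p
  have hA : (Nat.card ↥(Subgroup.centralizer ((Cfsg.pResidual p H : Subgroup H) : Set H))).Coprime p := by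
    obtain ⟨P⟩ : Nonempty (Sylow p ↥(Subgroup.centralizer ((Cfsg.pResidual p H : Subgroup H) : Set H))) :=
      inferInstance
    have hRC : Cfsg.pResidual p ↥(Subgroup.centralizer ((Cfsg.pResidual p H : Subgroup H) : Set H))
        ≤ Subgroup.center ↥(Subgroup.centralizer ((Cfsg.pResidual p H : Subgroup H) : Set H)) := by
      unfold Cfsg.pResidual
      rw [Subgroup.closure_le]
      intro g hg
      have hg' : Nat.Coprime (orderOf g) p := hg
      have hgK : (g : H) ∈ Cfsg.pResidual p H := by
        apply hmemK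
        rw [Subgroup.orderOf_coe]
        exact hg'
      rw [SetLike.mem_coe, Subgroup.mem_center_iff]
      intro c
      have hc := c.2
      rw [Subgroup.mem_centralizer_iff] at hc
      apply Subtype.ext
      simp only [Subgroup.coe_mul]
      exact (hc _ hgK).symm
    have hPn : (P : Subgroup ↥(Subgroup.centralizer ((Cfsg.pResidual p H : Subgroup H) : Set H))).Normal := by
      apply Cfsg.Agent.Lib.Helper4.normal_of_normalizer_eq_top
      rw [eq_top_iff, ← Cfsg.Agent.Lib.Helper4.pResidual_sup_sylow P]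
      apply sup_le _ Subgroup.le_normalizer
      refine hRC.trans ?_
      intro z hz
      rw [Subgroup.mem_center_iff] at hz
      rw [Subgroup.mem_normalizer_iff]
      intro x
      have e : z * x * z⁻¹ = x := by rw [← hz x]; group
      rw [e]
    have hcl := Cfsg.Agent.Lib.Helper4.isPClosed_of_normal_sylow P hPn
    have hPO := Cfsg.Agent.Lib.Helper4.le_pCore_of_le_isPClosed_normal
      (Subgroup.centralizer ((Cfsg.pResidual p H : Subgroup H) : Set H)) hcl
      (Subgroup.map_subtype_le (P : Subgroup ↥(Subgroup.centralizer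
        ((Cfsg.pResidual p H : Subgroup H) : Set H)))) (P.isPGroup'.map _)
    rw [hO] at hPO
    have hPbot : (P : Subgroup ↥(Subgroup.centralizer ((Cfsg.pResidual p H : Subgroup H) : Set H))) = ⊥ := by
      rw [eq_bot_iff]
      intro x hx
      have h1 : (x : H) ∈ (⊥ : Subgroup H) := hPO ⟨x, hx, rfl⟩
      rw [Subgroup.mem_bot] at h1 ⊢
      exact Subtype.ext h1
    apply Nat.Coprime.symm
    rw [hpp.coprime_iff_not_dvd]
    intro hdvd
    exact P.ne_bot_of_dvd_card hdvd hPbot
  -- (B) a normal subgroup not containing K centralizes K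
  have hB : ∀ N : Subgroup H, N.Normal → ¬ Cfsg.pResidual p H ≤ N →
      N ≤ Subgroup.centralizer ((Cfsg.pResidual p H : Subgroup H) : Set H) := by
    intro N hN hKN
    have hNKn : ((N ⊓ Cfsg.pResidual p H).subgroupOf (Cfsg.pResidual p H)).Normal :=
      Subgroup.Normal.subgroupOf (Subgroup.normal_inf_normal N (Cfsg.pResidual p H)) _
    rcases Cfsg.Agent.Lib.Helper2.quasisimple_normal hq
      ((N ⊓ Cfsg.pResidual p H).subgroupOf (Cfsg.pResidual p H)) with h | h
    · exfalso
      apply hKN
      intro k hk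
      have h1 : (⟨k, hk⟩ : ↥(Cfsg.pResidual p H)) ∈
          (N ⊓ Cfsg.pResidual p H).subgroupOf (Cfsg.pResidual p H) := by rw [h]; trivial
      exact (Subgroup.mem_inf.1 (Subgroup.mem_subgroupOf.1 h1)).1
    · have hNK : N ⊓ Cfsg.pResidual p H ≤
          Subgroup.centralizer ((Cfsg.pResidual p H : Subgroup H) : Set H) := by
        intro x hx
        have h1 := h (Subgroup.mem_subgroupOf.2 hx :
          (⟨x, (Subgroup.mem_inf.1 hx).2⟩ : ↥(Cfsg.pResidual p H)) ∈ _)
        rw [Subgroup.mem_center_iff] at h1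
        rw [Subgroup.mem_centralizer_iff]
        intro k hk
        exact congrArg Subtype.val (h1 ⟨k, hk⟩)
      have h1 : ⁅⁅N, Cfsg.pResidual p H⁆, Cfsg.pResidual p H⁆ = ⊥ := by
        rw [Subgroup.commutator_eq_bot_iff_le_centralizer]
        exact (Subgroup.commutator_le_inf N (Cfsg.pResidual p H)).trans hNK
      have h2 : ⁅⁅Cfsg.pResidual p H, N⁆, Cfsg.pResidual p H⁆ = ⊥ := by
        rw [Subgroup.commutator_comm (Cfsg.pResidual p H) N]; exact h1
      have h3 := Subgroup.commutator_commutator_eq_bot_of_rotate h2 h1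
      rw [hperf, Subgroup.commutator_comm] at h3
      exact Subgroup.commutator_eq_bot_iff_le_centralizer.1 h3
  have hcomp : Cfsg.IsComponent (Cfsg.pResidual p H) := ⟨hKn.isSubnormal, hq⟩
  refine ⟨?_, ?_, ?_, ?_⟩
  · -- (1)
    have hKl : Cfsg.pResidual p H ≤ Cfsg.layer H := le_sSup hcomp
    unfold Cfsg.generalizedFittingSubgroup
    apply le_antisymm
    · exact hKl.trans le_sup_left
    · apply sup_le
      · unfold Cfsg.layer
        apply sSup_le
        intro L' hL'
        rcases Cfsg.Agent.Lib.Helper2.component_le_or_centralizes L' (Cfsg.pResidual p H) hL'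
          hKn.isSubnormal with h | h
        · exact h
        · apply hcopK
          exact Nat.Coprime.coprime_dvd_left (Subgroup.card_dvd_of_le h) hA
      · unfold Cfsg.fittingSubgroup
        apply sSup_le
        rintro N ⟨hN, hNnil⟩
        by_cases hKN : Cfsg.pResidual p H ≤ N
        · exfalso
          have hsol : Group.IsSolvable ↥N := inferInstance
          have hsolK : Group.IsSolvable ↥(Cfsg.pResidual p H) :=
            Group.isSolvable_of_isSolvable_injective (Subgroup.inclusion_injective hKN)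
          exact Cfsg.Agent.Lib.Helper2.quasisimple_not_solvable hq hsolK
        · apply hcopK
          exact Nat.Coprime.coprime_dvd_left (Subgroup.card_dvd_of_le (hB N hN hKN)) hA
  · -- (2)
    intro Y hY hYne
    have hCK : ⁅Cfsg.pResidual p H, Y⁆ ≤ Cfsg.pResidual p H := Subgroup.commutator_le_left _ _
    have hKC : Cfsg.pResidual p H ≤ ⁅Cfsg.pResidual p H, Y⁆ := by
      have hCn' : ((⁅Cfsg.pResidual p H, Y⁆).subgroupOf (Cfsg.pResidual p H)).Normal := by
        refine ⟨fun v hv l => ?_⟩
        rw [Subgroup.mem_subgroupOf] at hv ⊢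
        exact Cfsg.Agent.Lib.Helper4.conj_mem_of_mem_normalizer
          (Subgroup.normalizer_commutator_ge_left _ _ l.2) hv
      rcases Cfsg.Agent.Lib.Helper2.quasisimple_normal hq
        ((⁅Cfsg.pResidual p H, Y⁆).subgroupOf (Cfsg.pResidual p H)) with h | h
      · intro k hk
        have h1 : (⟨k, hk⟩ : ↥(Cfsg.pResidual p H)) ∈
            (⁅Cfsg.pResidual p H, Y⁆).subgroupOf (Cfsg.pResidual p H) := by rw [h]; trivial
        exact Subgroup.mem_subgroupOf.1 h1
      · exfalso
        have hC0 : ⁅Cfsg.pResidual p H, Y⁆ ≤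
            Subgroup.centralizer ((Cfsg.pResidual p H : Subgroup H) : Set H) := by
          intro x hx
          have h1 := h (Subgroup.mem_subgroupOf.2 hx :
            (⟨x, hCK hx⟩ : ↥(Cfsg.pResidual p H)) ∈ _)
          rw [Subgroup.mem_center_iff] at h1
          rw [Subgroup.mem_centralizer_iff]
          intro k hk
          exact congrArg Subtype.val (h1 ⟨k, hk⟩)
        have h1 : ⁅⁅Cfsg.pResidual p H, Y⁆, Cfsg.pResidual p H⁆ = ⊥ :=
          Subgroup.commutator_eq_bot_iff_le_centralizer.2 hC0
        have h2 : ⁅⁅Y, Cfsg.pResidual p H⁆, Cfsg.pResidual p H⁆ = ⊥ := by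
          rw [Subgroup.commutator_comm Y]; exact h1
        have h3 := Subgroup.commutator_commutator_eq_bot_of_rotate h1 h2
        rw [hperf, Subgroup.commutator_comm] at h3
        have hYC := Subgroup.commutator_eq_bot_iff_le_centralizer.1 h3
        have hcop : (Nat.card ↥Y).Coprime p :=
          Nat.Coprime.coprime_dvd_left (Subgroup.card_dvd_of_le hYC) hA
        obtain ⟨k, hk⟩ := hY.exists_card_eq
        rw [hk] at hcop
        have hk0 : k = 0 := by
          by_contra hk0
          have : p ∣ p ^ k := dvd_pow_self p hk0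
          exact hpp.one_lt.ne' (Nat.Coprime.eq_one_of_dvd hcop.symm this |>.symm ▸ rfl)
        rw [hk0, pow_zero] at hk
        exact hYne (Subgroup.card_eq_one.1 hk)
    refine ⟨le_antisymm hCK hKC, ?_⟩
    refine hKC.trans ?_
    rw [Subgroup.commutator_le]
    intro k hk y hy
    show (k * y * k⁻¹) * y⁻¹ ∈ _
    apply Subgroup.mul_mem
    · exact Subgroup.mem_iSup_of_mem (⟨k, hk⟩ : ↥(Cfsg.pResidual p H)) ⟨y, hy, rfl⟩
    · exact Subgroup.mem_iSup_of_mem (1 : ↥(Cfsg.pResidual p H)) ⟨y⁻¹, Y.inv_mem hy, by simp⟩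
  · -- (3)
    intro C hC hKC
    exact Nat.Coprime.coprime_dvd_left (Subgroup.card_dvd_of_le (hB C hC hKC)) hA
  · -- (4)
    refine ⟨?_, ?_⟩
    · intro hcl
      obtain ⟨P⟩ : Nonempty (Sylow p H) := inferInstance
      have hPn := hcl P
      have h1 : (P : Subgroup H) ≤ Cfsg.pCore p H :=
        Cfsg.Agent.Lib.Helper4.le_pCore hPn P.isPGroup'
      rw [hO] at h1
      exact P.ne_bot_of_dvd_card hp (le_bot_iff.1 h1)
    · intro N hN hNcl
      by_contra hKN
      apply hNcl
      have hcop : (Nat.card ↥N).Coprime p :=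
        Nat.Coprime.coprime_dvd_left (Subgroup.card_dvd_of_le (hB N hN hKN)) hA
      intro P
      have hPbot : (P : Subgroup ↥N) = ⊥ := by
        by_contra hne
        have hdvd : p ∣ Nat.card ↥N := by
          obtain ⟨k, hk⟩ := P.isPGroup'.exists_card_eq
          have hk0 : k ≠ 0 := by
            rintro rfl
            rw [pow_zero] at hk
            exact hne (Subgroup.card_eq_one.1 hk)
          have h1 : p ∣ Nat.card ↥(P : Subgroup ↥N) := by rw [hk]; exact dvd_pow_self p hk0
          exact h1.trans (Subgroup.card_subgroup_dvd_card _)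
        exact (hpp.coprime_iff_not_dvd.1 hcop.symm) hdvd
      rw [hPbot]
      infer_instance

end Cfsg.Agent.S2815
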