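import Cfsg.Statements.S2816
import Mathlib
import Cfsg.Agent.Lib.Helper4.FStarAct
import Cfsg.Agent.Lib.Helper4.PCore
import Cfsg.Agent.Lib.Helper2.FStar
import Cfsg.Agent.S2812

set_option autoImplicit false
open Cfsg

namespace Cfsg.Agent.S2816

open Cfsg.Agent.Lib.Helper4 Cfsg.Agent.Lib.Helper2

universe u

theorem pCore_top_eq_bot {H : Type*} [Group H] {p : ℕ} (hO : Cfsg.pCore p H = ⊥) :
    Cfsg.pCore p ↥(⊤ : Subgroup H) = ⊥ := by
  have h1 := pCore_map_equiv (p := p) (Subgroup.topEquiv : ↥(⊤ : Subgroup H) ≃* H)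
  rw [hO] at h1
  exact (Subgroup.map_eq_bot_iff_of_injective _ (Subgroup.topEquiv : ↥(⊤ : Subgroup H) ≃* H).injective).1 h1

/-- S2812 for the whole group -/
theorem fstar_whole {H : Type*} [Group H] [Finite H] {p : ℕ} [Fact p.Prime]
    (hO : Cfsg.pCore p H = ⊥) (Y : Subgroup H) (hY : IsPGroup p ↥Y) :
    ⁅Cfsg.generalizedFittingSubgroup H, Y⁆ ⊔
      (Cfsg.generalizedFittingSubgroup H ⊓ Subgroup.centralizer (Y : Set H))
        = Cfsg.generalizedFittingSubgroup H ∧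
    ⁅Cfsg.generalizedFittingSubgroup H, Y⁆ = ⁅⁅Cfsg.generalizedFittingSubgroup H, Y⁆, Y⁆ := by
  have hn := genFitting_normal H
  apply Cfsg.Agent.S2812.result (⊤ : Subgroup H) (pCore_top_eq_bot hO) Y hY
  · exact le_normalizer_of_normal Subgroup.normal_top
  · rw [genFitting_top]
  · exact hn.isSubnormal.subgroupOf
  · exact le_normalizer_of_normal hn

theorem le_of_le_commutator_of_subnormal {H : Type*} [Group H] {D Y K : Subgroup H}
    (hD : D ≤ ⁅D, Y⁆) (hYK : Y ≤ K) (hK : K.IsSubnormal) : D ≤ K := by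
  induction hK with
  | top => exact le_top
  | step K K₁ hKK₁ hK₁ hN ih =>
    have h1 : D ≤ K₁ := ih (hYK.trans hKK₁)
    have hN' : K₁ ≤ Subgroup.normalizer (K : Set H) :=
      (Subgroup.normal_subgroupOf_iff_le_normalizer hKK₁).1 hN
    refine hD.trans ?_
    rw [Subgroup.commutator_le]
    intro d hd y hy
    show d * y * d⁻¹ * y⁻¹ ∈ K
    have h2 : d * y * d⁻¹ ∈ K := conj_mem_of_mem_normalizer (hN' (h1 hd)) (hYK hy)
    exact K.mul_mem h2 (K.inv_mem (hYK hy))

theorem genFittingOf_le {H : Type u} [Group H] [Finite H] (K : Subgroup H) (hK : K.IsSubnormal) :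
    (Cfsg.generalizedFittingSubgroup ↥K).map K.subtype ≤ Cfsg.generalizedFittingSubgroup H := by
  unfold Cfsg.generalizedFittingSubgroup
  rw [Subgroup.map_sup]
  exact sup_le_sup (layer_map_subtype_le K hK) (fitting_map_subtype_le K hK)

theorem inf_genFitting_le {H : Type u} [Group H] [Finite H] (K : Subgroup H) (hK : K.IsSubnormal) :
    K ⊓ Cfsg.generalizedFittingSubgroup H ≤ (Cfsg.generalizedFittingSubgroup ↥K).map K.subtype := by
  have hn := genFitting_normal H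
  have hXsn : (K ⊓ Cfsg.generalizedFittingSubgroup H).IsSubnormal := hK.inf hn.isSubnormal
  intro x hx
  obtain ⟨e, he, g, hg, rfl⟩ := subnormal_genFitting_decomp
    (K ⊓ Cfsg.generalizedFittingSubgroup H) inf_le_right hXsn x hx
  have h1 : sSup {L : Subgroup H | Cfsg.IsComponent L ∧
      L ≤ K ⊓ Cfsg.generalizedFittingSubgroup H}
      ≤ (Cfsg.generalizedFittingSubgroup ↥K).map K.subtype := by
    apply sSup_le
    rintro L ⟨hL, hLX⟩
    have hLK : L ≤ K := hLX.trans inf_le_left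
    have hc := isComponent_subgroupOf L K hLK hL
    have h2 : L.subgroupOf K ≤ Cfsg.generalizedFittingSubgroup ↥K :=
      (component_le_layer _ hc).trans le_sup_left
    have h3 := Subgroup.map_mono (f := K.subtype) h2
    rwa [Subgroup.map_subgroupOf_eq_of_le hLK] at h3
  have h4 : g ∈ (Cfsg.generalizedFittingSubgroup ↥K).map K.subtype := by
    obtain ⟨hg1, hg2⟩ := Subgroup.mem_inf.1 hg
    have hgK : g ∈ K := (Subgroup.mem_inf.1 hg2).1
    have h5 : (⟨g, hgK⟩ : ↥K) ∈ (Cfsg.fittingSubgroup H).subgroupOf K :=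
      Subgroup.mem_subgroupOf.2 hg1
    exact ⟨⟨g, hgK⟩, le_sup_right (a := Cfsg.layer ↥K) (fitting_subgroupOf_le K h5), rfl⟩
  exact Subgroup.mul_mem _ (h1 he) h4

theorem pgroup_centralizing_fstar {H : Type u} [Group H] [Finite H] {p : ℕ} [Fact p.Prime]
    (hO : Cfsg.pCore p H = ⊥) (Y₀ : Subgroup H) (hY₀ : IsPGroup p ↥Y₀)
    (hc : Y₀ ≤ Subgroup.centralizer (Cfsg.generalizedFittingSubgroup H : Set H)) : Y₀ = ⊥ := by
  have hn := genFitting_normal H
  obtain ⟨Z, hZ⟩ : ∃ Z, Z = Cfsg.generalizedFittingSubgroup H ⊓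
      Subgroup.centralizer (Cfsg.generalizedFittingSubgroup H : Set H) := ⟨_, rfl⟩
  have hZn : Z.Normal := by
    rw [hZ]
    have : (Subgroup.centralizer (Cfsg.generalizedFittingSubgroup H : Set H)).Normal :=
      inferInstance
    infer_instance
  have hYZ : Y₀ ≤ Z := by
    rw [hZ]; exact le_inf (hc.trans (centralizer_genFitting_le H)) hc
  have hsn : Y₀.IsSubnormal := by
    refine Subgroup.IsSubnormal.step Y₀ Z hYZ hZn.isSubnormal ?_
    rw [Subgroup.normal_subgroupOf_iff_le_normalizer hYZ]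
    apply le_normalizer_of_conj_mem
    intro z hz y hy
    have hz' : z ∈ Cfsg.generalizedFittingSubgroup H ⊓
        Subgroup.centralizer (Cfsg.generalizedFittingSubgroup H : Set H) := hZ ▸ hz
    have hy' : y ∈ Cfsg.generalizedFittingSubgroup H ⊓
        Subgroup.centralizer (Cfsg.generalizedFittingSubgroup H : Set H) := hZ ▸ hYZ hy
    have hcomm : z * y = y * z :=
      Subgroup.mem_centralizer_iff.1 (Subgroup.mem_inf.1 hy').2 z (Subgroup.mem_inf.1 hz').1
    rw [hcomm, mul_inv_cancel_right]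
    exact hy
  have hle := subnormal_pgroup_le_pCore p Y₀ hsn hY₀
  rw [hO] at hle
  exact le_bot_iff.1 hle


/-- Let H be a finite group and p a prime with O_p(H) = 1, and Y a p-subgroup of H. Then for every subnormal subgroup K of H containing Y, [F*(H), Y] = [F*(K), Y] = [F*(K), Y, Y]; and if Y₀ ≤ Y with [F*(H), Y, Y₀] = 1 then Y₀ = 1 (in particular [F*(H), Y] = 1 forces Y = 1). -/
theorem result {H : Type*} [Group H] [Finite H] {p : ℕ} [Fact p.Prime] (hO : Cfsg.pCore p H = ⊥) (Y : Subgroup H) (hY : IsPGroup p ↥Y) : (∀ K : Subgroup H, K.IsSubnormal → Y ≤ K → ⁅Cfsg.generalizedFittingSubgroup H, Y⁆ = ⁅(Cfsg.generalizedFittingSubgroup ↥K).map K.subtype, Y⁆ ∧ ⁅(Cfsg.generalizedFittingSubgroup ↥K).map K.subtype, Y⁆ = ⁅⁅(Cfsg.generalizedFittingSubgroup ↥K).map K.subtype, Y⁆, Y⁆) ∧ (∀ Y₀ : Subgroup H, Y₀ ≤ Y → ⁅⁅Cfsg.generalizedFittingSubgroup H, Y⁆, Y₀⁆ = ⊥ → Y₀ = ⊥) := by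
  obtain ⟨hW1, hW2⟩ := fstar_whole hO Y hY
  constructor
  · intro K hK hYK
    have h1 : ⁅(Cfsg.generalizedFittingSubgroup ↥K).map K.subtype, Y⁆
        ≤ ⁅Cfsg.generalizedFittingSubgroup H, Y⁆ :=
      Subgroup.commutator_mono (genFittingOf_le K hK) le_rfl
    have h2 : ⁅Cfsg.generalizedFittingSubgroup H, Y⁆ ≤ K :=
      le_of_le_commutator_of_subnormal hW2.le hYK hK
    have h3 : ⁅Cfsg.generalizedFittingSubgroup H, Y⁆ ≤ Cfsg.generalizedFittingSubgroup H :=
      commutator_le_left_of_le_normalizer (le_normalizer_of_normal (genFitting_normal H))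
    have h4 : ⁅Cfsg.generalizedFittingSubgroup H, Y⁆
        ≤ (Cfsg.generalizedFittingSubgroup ↥K).map K.subtype :=
      (le_inf h2 h3).trans (inf_genFitting_le K hK)
    have h5 : ⁅Cfsg.generalizedFittingSubgroup H, Y⁆
        ≤ ⁅(Cfsg.generalizedFittingSubgroup ↥K).map K.subtype, Y⁆ := by
      calc ⁅Cfsg.generalizedFittingSubgroup H, Y⁆
          = ⁅⁅Cfsg.generalizedFittingSubgroup H, Y⁆, Y⁆ := hW2
        _ ≤ ⁅(Cfsg.generalizedFittingSubgroup ↥K).map K.subtype, Y⁆ :=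
          Subgroup.commutator_mono h4 le_rfl
    have h6 : ⁅Cfsg.generalizedFittingSubgroup H, Y⁆
        = ⁅(Cfsg.generalizedFittingSubgroup ↥K).map K.subtype, Y⁆ := le_antisymm h5 h1
    refine ⟨h6, ?_⟩
    rw [← h6]
    exact hW2
  · intro Y₀ hY₀ hc
    have hY₀p : IsPGroup p ↥Y₀ := hY.to_le hY₀
    obtain ⟨-, hV2⟩ := fstar_whole hO Y₀ hY₀p
    have h1 : ⁅⁅Cfsg.generalizedFittingSubgroup H, Y₀⁆, Y₀⁆ ≤ ⊥ := by
      rw [← hc]
      exact Subgroup.commutator_mono (Subgroup.commutator_mono le_rfl hY₀) le_rfl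
    have h2 : ⁅Cfsg.generalizedFittingSubgroup H, Y₀⁆ = ⊥ := by
      rw [hV2]; exact le_bot_iff.1 h1
    have h3 : Y₀ ≤ Subgroup.centralizer (Cfsg.generalizedFittingSubgroup H : Set H) := by
      rw [Subgroup.le_centralizer_iff]
      exact Subgroup.commutator_eq_bot_iff_le_centralizer.1 h2
    exact pgroup_centralizing_fstar hO Y₀ hY₀p h3

end Cfsg.Agent.S2816
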