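import Cfsg.Statements.S2817
import Mathlib
import Cfsg.Agent.Lib.Helper4.FStarAct
import Cfsg.Agent.Lib.Helper4.PCore
import Cfsg.Agent.Lib.Helper4.NormMap
import Cfsg.Agent.Lib.Helper2.FStar
import Cfsg.Agent.S2812
import Cfsg.Agent.S2816

set_option autoImplicit false
open Cfsg

namespace Cfsg.Agent.S2817


open Cfsg.Agent.Lib.Helper4 Cfsg.Agent.Lib.Helper2 Cfsg.Agent.S2816

universe u

/-- S2812 for the whole group, for a subnormal subgroup of `F*` -/
theorem fstar_sub {H : Type*} [Group H] [Finite H] {p : ℕ} [Fact p.Prime]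
    (hO : Cfsg.pCore p H = ⊥) (Y : Subgroup H) (hY : IsPGroup p ↥Y) (N : Subgroup H)
    (hNX : N ≤ Cfsg.generalizedFittingSubgroup H) (hNsn : N.IsSubnormal)
    (hYN : Y ≤ Subgroup.normalizer (N : Set H)) :
    ⁅N, Y⁆ ⊔ (N ⊓ Subgroup.centralizer (Y : Set H)) = N ∧ ⁅N, Y⁆ = ⁅⁅N, Y⁆, Y⁆ := by
  apply Cfsg.Agent.S2812.result (⊤ : Subgroup H) (pCore_top_eq_bot hO) Y hY
  · exact le_normalizer_of_normal Subgroup.normal_top
  · rw [genFitting_top]; exact hNX
  · exact hNsn.subgroupOf
  · exact hYN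

theorem coprime_orderOf_of_subnormal_comm {H : Type u} [Group H] [Finite H] {p : ℕ}
    [Fact p.Prime] (hO : Cfsg.pCore p H = ⊥) (Z : Subgroup H) (hZsn : Z.IsSubnormal)
    (hZc : ∀ a ∈ Z, ∀ b ∈ Z, a * b = b * a) {z : H} (hz : z ∈ Z) :
    (orderOf z).Coprime p := by
  have hp : p.Prime := Fact.out
  by_contra hcon
  have hdvd : p ∣ orderOf z := by
    rcases Nat.coprime_or_dvd_of_prime hp (orderOf z) with h | h
    · exact absurd h.symm hcon
    · exact h
  obtain ⟨m, hm⟩ := hdvd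
  have hpos : 0 < orderOf z := orderOf_pos z
  have hm0 : m ≠ 0 := by
    rintro rfl
    rw [mul_zero] at hm
    omega
  have hw : orderOf (z ^ m) = p := by
    rw [orderOf_pow_of_dvd hm0 ⟨p, by rw [hm, mul_comm]⟩, hm]
    exact Nat.mul_div_cancel _ (Nat.pos_of_ne_zero hm0)
  obtain ⟨T, hT⟩ : ∃ T, T = Subgroup.zpowers (z ^ m) := ⟨_, rfl⟩
  have hTZ : T ≤ Z := by
    rw [hT, Subgroup.zpowers_le]; exact Z.pow_mem hz m
  have hTp : IsPGroup p ↥T := by
    apply IsPGroup.of_card (n := 1)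
    rw [hT, Nat.card_zpowers, hw, pow_one]
  have hTsn : T.IsSubnormal := by
    refine Subgroup.IsSubnormal.step T Z hTZ hZsn ?_
    rw [Subgroup.normal_subgroupOf_iff_le_normalizer hTZ]
    apply le_normalizer_of_conj_mem
    intro s hs d hd
    rw [hZc s hs d (hTZ hd), mul_inv_cancel_right]
    exact hd
  have hle := subnormal_pgroup_le_pCore p T hTsn hTp
  rw [hO] at hle
  have h1 : z ^ m = 1 := by
    have : z ^ m ∈ T := hT ▸ Subgroup.mem_zpowers _
    exact Subgroup.mem_bot.1 (hle this)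
  rw [h1, orderOf_one] at hw
  exact hp.one_lt.ne hw

theorem conj_mul_central {G : Type*} [Group G] {u : G} (hu : ∀ g : G, g * u = u * g)
    (m x : G) : (m * u) * x * (m * u)⁻¹ = m * x * m⁻¹ := by
  have h : u * x * u⁻¹ = x := by rw [← hu x, mul_inv_cancel_right]
  calc (m * u) * x * (m * u)⁻¹ = m * (u * x * u⁻¹) * m⁻¹ := by group
    _ = m * x * m⁻¹ := by rw [h]

/-- a central element lying in the commutator subgroup lies in the Frattini subgroup -/
theorem mem_frattini_of_central_of_mem_commutator {G : Type*} [Group G] {z : G}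
    (hzc : ∀ g : G, g * z = z * g) (hz : z ∈ commutator G) : z ∈ frattini G := by
  by_contra hzF
  have hex : ∃ M : Subgroup G, IsCoatom M ∧ z ∉ M := by
    by_contra hcon
    push Not at hcon
    apply hzF
    simp only [frattini, Order.radical, Subgroup.mem_iInf]
    intro M hM; exact hcon M hM
  obtain ⟨M, hM, hzM⟩ := hex
  have hsup : M ⊔ Subgroup.zpowers z = ⊤ :=
    hM.2 _ (lt_of_le_of_ne le_sup_left
      (fun h => hzM (h ▸ Subgroup.mem_sup_right (Subgroup.mem_zpowers z))))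
  have hzi : ∀ (k : ℤ) (g : G), g * z ^ k = z ^ k * g :=
    fun k g => (Commute.zpow_right (hzc g) k).eq
  have hzn : (Subgroup.zpowers z).Normal := ⟨fun n hn g => by
    obtain ⟨k, rfl⟩ := Subgroup.mem_zpowers_iff.1 hn
    rw [hzi k g, mul_inv_cancel_right]
    exact Subgroup.zpow_mem _ (Subgroup.mem_zpowers z) k⟩
  have hdecomp : ∀ g : G, ∃ m ∈ M, ∃ k : ℤ, g = m * z ^ k := by
    intro g
    have hg : g ∈ M ⊔ Subgroup.zpowers z := hsup ▸ Subgroup.mem_top g
    rw [Subgroup.mem_sup_of_normal_right] at hg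
    obtain ⟨m, hm, w, hw, rfl⟩ := hg
    obtain ⟨k, rfl⟩ := Subgroup.mem_zpowers_iff.1 hw
    exact ⟨m, hm, k, rfl⟩
  have hcomm : commutator G ≤ M := by
    rw [commutator_def, Subgroup.commutator_le]
    intro a _ b _
    show a * b * a⁻¹ * b⁻¹ ∈ M
    obtain ⟨m₁, hm₁, i, rfl⟩ := hdecomp a
    obtain ⟨m₂, hm₂, j, rfl⟩ := hdecomp b
    have e1 : (m₁ * z ^ i) * (m₂ * z ^ j) * (m₁ * z ^ i)⁻¹ * (m₂ * z ^ j)⁻¹
        = m₁ * (m₂ * m₁⁻¹ * m₂⁻¹) := by
      calc (m₁ * z ^ i) * (m₂ * z ^ j) * (m₁ * z ^ i)⁻¹ * (m₂ * z ^ j)⁻¹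
          = (m₁ * (m₂ * z ^ j) * m₁⁻¹) * (m₂ * z ^ j)⁻¹ := by
            rw [conj_mul_central (hzi i)]
        _ = m₁ * ((m₂ * z ^ j) * m₁⁻¹ * (m₂ * z ^ j)⁻¹) := by group
        _ = m₁ * (m₂ * m₁⁻¹ * m₂⁻¹) := by rw [conj_mul_central (hzi j)]
    rw [e1]
    exact M.mul_mem hm₁ (M.mul_mem (M.mul_mem hm₂ (M.inv_mem hm₁)) (M.inv_mem hm₂))
  exact hzM (hcomm hz)


/-- Let H be a finite group and p a prime with O_p(H) = 1, Q a p-subgroup of H, L = [F*(H), Q], and F the largest normal subgroup of F*(H) centralized by Q (a normal subgroup of F*(H) centralized by Q and containing every such). Then F = C_{F*(H)}(LQ); L = [L, Q]; L ∩ F ≤ Φ(L); every p-subgroup B of N_H(Q) with [L, B] ≤ F satisfies [L, B] = 1; and C_H(FL) has order prime to p. -/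
theorem result {H : Type*} [Group H] [Finite H] {p : ℕ} [Fact p.Prime] (hO : Cfsg.pCore p H = ⊥) (Q : Subgroup H) (hQ : IsPGroup p ↥Q) (L : Subgroup H) (hL : L = ⁅Cfsg.generalizedFittingSubgroup H, Q⁆) (F : Subgroup H) (hF : F ≤ Cfsg.generalizedFittingSubgroup H ∧ Cfsg.generalizedFittingSubgroup H ≤ Subgroup.normalizer (F : Set H) ∧ Q ≤ Subgroup.centralizer (F : Set H) ∧ ∀ N : Subgroup H, N ≤ Cfsg.generalizedFittingSubgroup H → Cfsg.generalizedFittingSubgroup H ≤ Subgroup.normalizer (N : Set H) → Q ≤ Subgroup.centralizer (N : Set H) → N ≤ F) : F = Cfsg.generalizedFittingSubgroup H ⊓ Subgroup.centralizer ((L ⊔ Q : Subgroup H) : Set H) ∧ ⁅L, Q⁆ = L ∧ L ⊓ F ≤ (frattini ↥L).map L.subtype ∧ (∀ B : Subgroup H, IsPGroup p ↥B → B ≤ Subgroup.normalizer (Q : Set H) → ⁅L, B⁆ ≤ F → ⁅L, B⁆ = ⊥) ∧ (Nat.card ↥(Subgroup.centralizer ((F ⊔ L : Subgroup H) : Set H))).Coprime p := by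
  have hp : p.Prime := Fact.out
  obtain ⟨X, hX⟩ : ∃ X, X = Cfsg.generalizedFittingSubgroup H := ⟨_, rfl⟩
  rw [← hX] at hL hF ⊢
  have hXn : X.Normal := hX ▸ genFitting_normal H
  obtain ⟨hF1, hF2, hF3, hF4⟩ := hF
  obtain ⟨hW1, hW2⟩ := fstar_whole hO Q hQ
  rw [← hX, ← hL] at hW1 hW2
  have hQX : Q ≤ Subgroup.normalizer (X : Set H) := le_normalizer_of_normal hXn
  have hLX : L ≤ X := by rw [hL]; exact commutator_le_left_of_le_normalizer hQX
  have hXL : X ≤ Subgroup.normalizer (L : Set H) := by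
    rw [hL]; exact left_le_normalizer_commutator X Q
  have hQL : Q ≤ Subgroup.normalizer (L : Set H) := by
    rw [hL]; exact le_normalizer_commutator hQX Subgroup.le_normalizer
  have hLQ : ⁅L, Q⁆ = L := hW2.symm
  have hFL : L ≤ Subgroup.centralizer (F : Set H) := by
    rw [hL, ← Subgroup.commutator_eq_bot_iff_le_centralizer]
    apply Subgroup.commutator_commutator_eq_bot_of_rotate
    · rw [Subgroup.commutator_eq_bot_iff_le_centralizer.2 hF3]
      exact Subgroup.commutator_bot_left X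
    · have h1 : ⁅F, X⁆ ≤ F := commutator_le_left_of_le_normalizer hF2
      have h2 : ⁅F, Q⁆ = ⊥ := by
        rw [Subgroup.commutator_comm]
        exact Subgroup.commutator_eq_bot_iff_le_centralizer.2 hF3
      exact le_bot_iff.1 (h2 ▸ Subgroup.commutator_mono h1 le_rfl)
  have hLF' : F ≤ Subgroup.centralizer (L : Set H) := Subgroup.le_centralizer_iff.1 hFL
  have hQF' : F ≤ Subgroup.centralizer (Q : Set H) := Subgroup.le_centralizer_iff.1 hF3
  have hcLQ : Subgroup.centralizer (L : Set H) ⊓ Subgroup.centralizer (Q : Set H)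
      = Subgroup.centralizer ((L ⊔ Q : Subgroup H) : Set H) := by
    apply le_antisymm
    · rw [Subgroup.le_centralizer_iff]
      apply sup_le
      · rw [Subgroup.le_centralizer_iff]; exact inf_le_left
      · rw [Subgroup.le_centralizer_iff]; exact inf_le_right
    · exact le_inf (Subgroup.centralizer_le (SetLike.coe_subset_coe.2 le_sup_left))
        (Subgroup.centralizer_le (SetLike.coe_subset_coe.2 le_sup_right))
  have h1 : F = X ⊓ Subgroup.centralizer ((L ⊔ Q : Subgroup H) : Set H) := by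
    rw [← hcLQ]
    apply le_antisymm
    · exact le_inf hF1 (le_inf hLF' hQF')
    · apply hF4
      · exact inf_le_left
      · have hLN : L ≤ Subgroup.normalizer ((X ⊓ (Subgroup.centralizer (L : Set H) ⊓
            Subgroup.centralizer (Q : Set H)) : Subgroup H) : Set H) := by
          apply le_normalizer_of_conj_mem
          intro l hl d hd
          have hdl : l * d = d * l := Subgroup.mem_centralizer_iff.1 hd.2.1 l hl
          rw [hdl, mul_inv_cancel_right]
          exact hd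
        have hCN : X ⊓ Subgroup.centralizer (Q : Set H) ≤ Subgroup.normalizer ((X ⊓
            (Subgroup.centralizer (L : Set H) ⊓
            Subgroup.centralizer (Q : Set H)) : Subgroup H) : Set H) := by
          apply le_normalizer_inf (le_normalizer_of_normal hXn)
          apply le_normalizer_inf
          · exact le_normalizer_centralizer (inf_le_left.trans hXL)
          · exact le_normalizer_centralizer
              (inf_le_right.trans (Subgroup.centralizer_le_normalizer _))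
        exact hW1.ge.trans (sup_le hLN hCN)
      · rw [Subgroup.le_centralizer_iff]; exact inf_le_right.trans inf_le_right
  have hZsn : (L ⊓ F).IsSubnormal := by
    have hle : L ⊓ F ≤ X := inf_le_left.trans hLX
    refine Subgroup.IsSubnormal.step (L ⊓ F) X hle hXn.isSubnormal ?_
    rw [Subgroup.normal_subgroupOf_iff_le_normalizer hle]
    exact le_normalizer_inf hXL hF2
  have hZc : ∀ a ∈ L ⊓ F, ∀ b ∈ L ⊓ F, a * b = b * a := by
    intro a ha b hb
    exact Subgroup.mem_centralizer_iff.1 (hLF' hb.2) a ha.1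
  have hZcop : ∀ z ∈ L ⊓ F, (orderOf z).Coprime p :=
    fun z hz => coprime_orderOf_of_subnormal_comm hO _ hZsn hZc hz
  have hZL' : ∀ z ∈ L ⊓ F, z ∈ ⁅L, L⁆ := by
    intro z hz
    have h1 := pow_card_mem_commutator_of_centralized L Q hQL hLQ.ge hz.1
      (fun q hq => (Subgroup.mem_centralizer_iff.1 (hQF' hz.2) q hq))
    obtain ⟨k, hk⟩ := IsPGroup.iff_card.1 hQ
    rw [hk] at h1
    have hc : (p ^ k).Coprime (orderOf z) := Nat.Coprime.pow_left k (hZcop z hz).symm
    obtain ⟨m, hm⟩ := exists_pow_eq_self_of_coprime hc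
    rw [← hm]; exact Subgroup.pow_mem _ h1 m
  have h3 : L ⊓ F ≤ (frattini ↥L).map L.subtype := by
    intro z hz
    refine ⟨⟨z, hz.1⟩, ?_, rfl⟩
    apply mem_frattini_of_central_of_mem_commutator
    · intro g
      apply Subtype.ext
      exact Subgroup.mem_centralizer_iff.1 (hLF' hz.2) g g.2
    · have h := hZL' z hz
      rw [← Subgroup.map_subtype_commutator] at h
      obtain ⟨w, hw, hwz⟩ := h
      have : w = ⟨z, hz.1⟩ := Subtype.ext hwz
      rw [← this]; exact hw
  have h4 : ∀ B : Subgroup H, IsPGroup p ↥B → B ≤ Subgroup.normalizer (Q : Set H) →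
      ⁅L, B⁆ ≤ F → ⁅L, B⁆ = ⊥ := by
    intro B hB hBQ hLBF
    have hBL : B ≤ Subgroup.normalizer (L : Set H) := by
      rw [hL]; exact le_normalizer_commutator (le_normalizer_of_normal hXn) hBQ
    have hLB : ⁅L, B⁆ ≤ L ⊓ F := le_inf (commutator_le_left_of_le_normalizer hBL) hLBF
    have hBc : ⁅⁅L, L⁆, B⁆ = ⊥ := by
      apply Subgroup.commutator_commutator_eq_bot_of_rotate
      · rw [Subgroup.commutator_eq_bot_iff_le_centralizer]; exact hLBF.trans hLF'
      · rw [Subgroup.commutator_comm B L, Subgroup.commutator_eq_bot_iff_le_centralizer]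
        exact hLBF.trans hLF'
    have hBc' : ⁅L, L⁆ ≤ Subgroup.centralizer (B : Set H) :=
      Subgroup.commutator_eq_bot_iff_le_centralizer.1 hBc
    rw [eq_bot_iff, Subgroup.commutator_le]
    intro l hl b hb
    rw [Subgroup.mem_bot]
    show l * b * l⁻¹ * b⁻¹ = 1
    obtain ⟨c, hc⟩ : ∃ c, c = l * b * l⁻¹ * b⁻¹ := ⟨_, rfl⟩
    have hcmem : c ∈ L ⊓ F := by
      rw [hc]; exact hLB (Subgroup.commutator_mem_commutator hl hb)
    have hcb : b * c = c * b := Subgroup.mem_centralizer_iff.1 (hBc' (hZL' c hcmem)) b hb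
    have hpow : ∀ n : ℕ, l * b ^ n * l⁻¹ * (b ^ n)⁻¹ = c ^ n := by
      intro n
      induction n with
      | zero => simp
      | succ n ih =>
        have hcbn : b ^ n * c = c * b ^ n := (Commute.pow_left hcb n).eq
        calc l * b ^ (n + 1) * l⁻¹ * (b ^ (n + 1))⁻¹
            = (l * b ^ n * l⁻¹ * (b ^ n)⁻¹) * (b ^ n * (l * b * l⁻¹ * b⁻¹) * (b ^ n)⁻¹) := by
              rw [pow_succ]; group
          _ = c ^ n * (b ^ n * c * (b ^ n)⁻¹) := by rw [ih, ← hc]
          _ = c ^ n * c := by rw [hcbn, mul_inv_cancel_right]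
          _ = c ^ (n + 1) := (pow_succ c n).symm
    obtain ⟨k, hk⟩ := hB ⟨b, hb⟩
    have hbk : b ^ p ^ k = 1 := by
      have := congrArg Subtype.val hk
      simpa using this
    have hck : c ^ p ^ k = 1 := by
      rw [← hpow (p ^ k), hbk]; simp
    have hord : orderOf c = 1 :=
      Nat.Coprime.eq_one_of_dvd (Nat.Coprime.pow_right k (hZcop c hcmem))
        (orderOf_dvd_of_pow_eq_one hck)
    rw [← hc]
    exact orderOf_eq_one_iff.1 hord
  have h5 : (Nat.card ↥(Subgroup.centralizer ((F ⊔ L : Subgroup H) : Set H))).Coprime p := by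
    obtain ⟨C, hC⟩ : ∃ C, C = Subgroup.centralizer ((F ⊔ L : Subgroup H) : Set H) := ⟨_, rfl⟩
    rw [← hC]
    by_contra hcon
    have hdvd : p ∣ Nat.card ↥C := by
      rcases Nat.coprime_or_dvd_of_prime hp (Nat.card ↥C) with h | h
      · exact absurd h.symm hcon
      · exact h
    obtain ⟨c, hc⟩ := exists_prime_orderOf_dvd_card' p hdvd
    obtain ⟨T, hT⟩ : ∃ T, T = Subgroup.zpowers (c : H) := ⟨_, rfl⟩
    have hcH : orderOf (c : H) = p := by rw [Subgroup.orderOf_coe]; exact hc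
    have hTp : IsPGroup p ↥T := by
      apply IsPGroup.of_card (n := 1)
      rw [hT, Nat.card_zpowers, hcH, pow_one]
    have hTC : T ≤ C := by rw [hT, Subgroup.zpowers_le]; exact c.2
    have hCL : C ≤ Subgroup.centralizer (L : Set H) := by
      rw [hC]; exact Subgroup.centralizer_le (SetLike.coe_subset_coe.2 le_sup_right)
    have hTL : T ≤ Subgroup.centralizer (L : Set H) := hTC.trans hCL
    obtain ⟨Y_, hY_⟩ : ∃ Y_, Y_ = X ⊓ Subgroup.centralizer (L : Set H) := ⟨_, rfl⟩
    have hYX : Y_ ≤ X := hY_ ▸ inf_le_left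
    have hXY : X ≤ Subgroup.normalizer (Y_ : Set H) := by
      rw [hY_]
      exact le_normalizer_inf (le_normalizer_of_normal hXn) (le_normalizer_centralizer hXL)
    have hYsn : Y_.IsSubnormal := by
      refine Subgroup.IsSubnormal.step Y_ X hYX hXn.isSubnormal ?_
      rw [Subgroup.normal_subgroupOf_iff_le_normalizer hYX]; exact hXY
    have hQY : Q ≤ Subgroup.normalizer (Y_ : Set H) := by
      rw [hY_]; exact le_normalizer_inf hQX (le_normalizer_centralizer hQL)
    obtain ⟨hY1, -⟩ := fstar_sub hO Q hQ Y_ (by rw [← hX]; exact hYX) hYsn hQY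
    have hYle : Y_ ≤ L ⊔ F := by
      rw [← hY1]
      apply sup_le
      · exact le_sup_of_le_left ((Subgroup.commutator_mono hYX le_rfl).trans hL.ge)
      · refine le_sup_of_le_right ?_
        rw [h1, ← hcLQ, hY_, inf_assoc]
    have hTY : Y_ ≤ Subgroup.centralizer (T : Set H) := by
      rw [Subgroup.le_centralizer_iff]
      refine hTC.trans ?_
      rw [hC, sup_comm]
      exact Subgroup.centralizer_le (SetLike.coe_subset_coe.2 hYle)
    obtain ⟨hT1, hT2⟩ := fstar_whole hO T hTp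
    rw [← hX] at hT1 hT2
    have hXT : ⁅X, T⁆ ≤ Y_ := by
      rw [hY_]
      refine le_inf (commutator_le_left_of_le_normalizer (le_normalizer_of_normal hXn)) ?_
      rw [← Subgroup.commutator_eq_bot_iff_le_centralizer]
      apply Subgroup.commutator_commutator_eq_bot_of_rotate
      · rw [Subgroup.commutator_eq_bot_iff_le_centralizer.2 hTL]
        exact Subgroup.commutator_bot_left X
      · have h1 : ⁅L, X⁆ ≤ L := commutator_le_left_of_le_normalizer hXL
        have h2 : ⁅L, T⁆ = ⊥ := by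
          rw [Subgroup.commutator_comm]
          exact Subgroup.commutator_eq_bot_iff_le_centralizer.2 hTL
        exact le_bot_iff.1 (h2 ▸ Subgroup.commutator_mono h1 le_rfl)
    have hXT0 : ⁅X, T⁆ = ⊥ := by
      rw [hT2, eq_bot_iff]
      calc ⁅⁅X, T⁆, T⁆ ≤ ⁅Y_, T⁆ := Subgroup.commutator_mono hXT le_rfl
        _ = ⊥ := Subgroup.commutator_eq_bot_iff_le_centralizer.2 hTY
    have hTX : T ≤ Subgroup.centralizer (X : Set H) := by
      rw [Subgroup.le_centralizer_iff]
      exact Subgroup.commutator_eq_bot_iff_le_centralizer.1 hXT0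
    have hTbot := pgroup_centralizing_fstar hO T hTp (by rw [← hX]; exact hTX)
    have hc1 : (c : H) = 1 := by
      have hmem : (c : H) ∈ T := hT ▸ Subgroup.mem_zpowers _
      rwa [hTbot, Subgroup.mem_bot] at hmem
    rw [hc1, orderOf_one] at hcH
    exact hp.one_lt.ne hcH
  exact ⟨h1, hLQ, h3, h4, h5⟩

end Cfsg.Agent.S2817
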