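import Cfsg.Statements.S2818
import Mathlib
import Cfsg.Agent.Lib.Helper4.Frattini
import Cfsg.Agent.Lib.Helper4.PReduced

set_option autoImplicit false
open Cfsg

namespace Cfsg.Agent.S2818

/-- Let P be a finite p-subgroup of a group G and H a subgroup of N_G(P) with [P, H] ≤ Ω₁(Z(P)) (the elements of order dividing p in the centre of P). Then H centralizes the Frattini subgroup of P. -/
theorem result {G : Type*} [Group G] [Finite G] {p : ℕ} [Fact p.Prime] (P : Subgroup G) (hP : IsPGroup p ↥P) (H : Subgroup G) (hH : H ≤ Subgroup.normalizer (P : Set G)) (h : ⁅P, H⁆ ≤ Cfsg.omegaOne p (P ⊓ Subgroup.centralizer (P : Set G))) : ⁅(frattini ↥P).map P.subtype, H⁆ = ⊥ := by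
  classical
  have hp := (Fact.out : p.Prime)
  have hZle : Cfsg.omegaOne p (P ⊓ Subgroup.centralizer (P : Set G)) ≤
      P ⊓ Subgroup.centralizer (P : Set G) := by
    unfold Cfsg.omegaOne
    rw [Subgroup.closure_le]
    rintro x ⟨hx, -⟩
    exact hx
  have hZcomm : ∀ a ∈ Cfsg.omegaOne p (P ⊓ Subgroup.centralizer (P : Set G)),
      ∀ b ∈ Cfsg.omegaOne p (P ⊓ Subgroup.centralizer (P : Set G)), a * b = b * a := by
    intro a ha b hb
    have h1 := (Subgroup.mem_inf.1 (hZle ha)).2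
    have h2 := (Subgroup.mem_inf.1 (hZle hb)).1
    rw [Subgroup.mem_centralizer_iff] at h1
    exact (h1 b h2).symm
  have hZe := Cfsg.Agent.Lib.Helper4.isElementaryAbelian_of_le_of_comm (p := p) hZcomm
    {x : G | x ∈ P ⊓ Subgroup.centralizer (P : Set G) ∧ x ^ p = 1} le_rfl
    (fun a ha => ⟨Subgroup.subset_closure ha, ha.2⟩)
  rw [Subgroup.commutator_eq_bot_iff_le_centralizer]
  rintro _ ⟨x, hx, rfl⟩
  rw [Subgroup.mem_centralizer_iff]
  intro g hg
  have hmem : ∀ y : ↥P, (y : G) * g * (y : G)⁻¹ * g⁻¹ ∈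
      Cfsg.omegaOne p (P ⊓ Subgroup.centralizer (P : Set G)) :=
    fun y => h (Subgroup.commutator_mem_commutator y.2 hg)
  let θ : ↥P →* G :=
    { toFun := fun y => (y : G) * g * (y : G)⁻¹ * g⁻¹
      map_one' := by simp
      map_mul' := by
        intro a b
        have hb := hmem b
        have hbc := (Subgroup.mem_inf.1 (hZle hb)).2
        rw [Subgroup.mem_centralizer_iff] at hbc
        have h1 := hbc (a : G) a.2
        have h2 := hZcomm _ hb _ (hmem a)
        simp only [Subgroup.coe_mul]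
        calc (a : G) * (b : G) * g * ((a : G) * (b : G))⁻¹ * g⁻¹
            = ((a : G) * ((b : G) * g * (b : G)⁻¹ * g⁻¹)) * (a : G)⁻¹
                * ((a : G) * g * (a : G)⁻¹ * g⁻¹) := by group
          _ = (((b : G) * g * (b : G)⁻¹ * g⁻¹) * (a : G)) * (a : G)⁻¹
                * ((a : G) * g * (a : G)⁻¹ * g⁻¹) := by rw [h1]
          _ = ((b : G) * g * (b : G)⁻¹ * g⁻¹) * ((a : G) * g * (a : G)⁻¹ * g⁻¹) := by group
          _ = ((a : G) * g * (a : G)⁻¹ * g⁻¹) * ((b : G) * g * (b : G)⁻¹ * g⁻¹) := h2 }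
  have hker := Cfsg.Agent.Lib.Helper4.frattini_le_ker_of_elementary hp θ
    (fun a b => hZcomm _ (hmem a) _ (hmem b)) (fun a => hZe.2 _ (hmem a))
  have h3 := hker hx
  rw [MonoidHom.mem_ker] at h3
  have h4 : (x : G) * g * (x : G)⁻¹ * g⁻¹ = 1 := h3
  have h5 : (x : G) * g = g * (x : G) := by
    have := congrArg (fun z => z * g * (x : G)) h4
    simpa [mul_assoc] using this
  exact h5.symm

end Cfsg.Agent.S2818
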