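import Cfsg.Statements.S2819
import Mathlib
import Cfsg.Agent.Lib.Helper4.Frattini
import Cfsg.Agent.Lib.Helper4.PReduced
import Cfsg.Agent.Lib.Helper4.Normalizer

set_option autoImplicit false
open Cfsg

namespace Cfsg.Agent.S2819

/-- Let P be a finite p-subgroup of a group G, H a subgroup of N_G(P), and Y a subgroup of H centralizing the derived subgroup P' such that [P, Y] is elementary abelian. Then O^p(⟨Y^H⟩), the subgroup of the normal closure of Y in H generated by its elements of order prime to p, centralizes the Frattini subgroup of P. -/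
theorem result {G : Type*} [Group G] [Finite G] {p : ℕ} [Fact p.Prime] (P : Subgroup G) (hP : IsPGroup p ↥P) (H : Subgroup G) (hH : H ≤ Subgroup.normalizer (P : Set G)) (Y : Subgroup G) (hYH : Y ≤ H) (hYc : Y ≤ Subgroup.centralizer ((⁅P, P⁆ : Subgroup G) : Set G)) (hel : Cfsg.IsElementaryAbelian p ⁅P, Y⁆) (NY : Subgroup G) (hNY : NY = (Subgroup.normalClosure ((Y.subgroupOf H : Subgroup ↥H) : Set ↥H)).map H.subtype) : (Cfsg.pResidual p ↥NY).map NY.subtype ≤ Subgroup.centralizer (((frattini ↥P).map P.subtype : Subgroup G) : Set G) := by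
  classical
  have hp := (Fact.out : p.Prime)
  have hDP : ⁅P, P⁆ ≤ P := by
    rw [Subgroup.commutator_le]
    intro a ha b hb
    exact P.mul_mem (P.mul_mem (P.mul_mem ha hb) (P.inv_mem ha)) (P.inv_mem hb)
  have hDeq : ⁅P, P⁆ = (commutator ↥P).map P.subtype := by
    rw [commutator_def, Subgroup.map_commutator, ← MonoidHom.range_eq_map, Subgroup.range_subtype]
  have hND : Subgroup.normalizer (P : Set G) ≤ Subgroup.normalizer ((⁅P, P⁆ : Subgroup G) : Set G) :=
    Cfsg.Agent.Lib.Helper4.le_normalizer_commutator le_rfl le_rfl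
  have hNΦ : Subgroup.normalizer (P : Set G) ≤
      Subgroup.normalizer (((frattini ↥P).map P.subtype : Subgroup G) : Set G) := by
    apply Cfsg.Agent.Lib.Helper4.le_normalizer_of_conj_mem
    rintro n hn _ ⟨x, hx, rfl⟩
    have hchar : (frattini ↥P).Characteristic := inferInstance
    have h1 := (Subgroup.characteristic_iff_map_eq.1 hchar) (P.normalizerMonoidHom ⟨n, hn⟩)
    have h2 : (P.normalizerMonoidHom ⟨n, hn⟩) x ∈ frattini ↥P := by
      rw [← h1]
      exact ⟨x, hx, rfl⟩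
    refine ⟨_, h2, ?_⟩
    simp
  let K : Subgroup G :=
    { carrier := {g | g ∈ Subgroup.centralizer ((⁅P, P⁆ : Subgroup G) : Set G) ∧
        ∀ x ∈ (frattini ↥P).map P.subtype, x * g * x⁻¹ * g⁻¹ ∈ ⁅P, P⁆}
      mul_mem' := by
        rintro a b ⟨ha1, ha2⟩ ⟨hb1, hb2⟩
        refine ⟨Subgroup.mul_mem _ ha1 hb1, ?_⟩
        intro x hx
        have h1 := ha2 x hx
        have h2 := hb2 x hx
        rw [Subgroup.mem_centralizer_iff] at ha1
        have h3 := ha1 _ h2
        have e : x * (a * b) * x⁻¹ * (a * b)⁻¹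
            = (x * a * x⁻¹ * a⁻¹) * ((a * (x * b * x⁻¹ * b⁻¹)) * a⁻¹) := by group
        rw [e, ← h3]
        have e2 : x * b * x⁻¹ * b⁻¹ * a * a⁻¹ = x * b * x⁻¹ * b⁻¹ := by group
        rw [e2]
        exact Subgroup.mul_mem _ h1 h2
      one_mem' := by
        refine ⟨Subgroup.one_mem _, ?_⟩
        intro x _
        simp
      inv_mem' := by
        rintro a ⟨ha1, ha2⟩
        refine ⟨Subgroup.inv_mem _ ha1, ?_⟩
        intro x hx
        have h1 := ha2 x hx
        rw [Subgroup.mem_centralizer_iff] at ha1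
        have h3 := ha1 _ (Subgroup.inv_mem _ h1)
        have e : x * a⁻¹ * x⁻¹ * a⁻¹⁻¹ = a⁻¹ * ((x * a * x⁻¹ * a⁻¹)⁻¹ * a) := by group
        rw [e, h3]
        have e2 : a⁻¹ * (a * (x * a * x⁻¹ * a⁻¹)⁻¹) = (x * a * x⁻¹ * a⁻¹)⁻¹ := by group
        rw [e2]
        exact Subgroup.inv_mem _ h1 }
  have hKmem : ∀ g : G, g ∈ K ↔ (g ∈ Subgroup.centralizer ((⁅P, P⁆ : Subgroup G) : Set G) ∧
        ∀ x ∈ (frattini ↥P).map P.subtype, x * g * x⁻¹ * g⁻¹ ∈ ⁅P, P⁆) := fun g => Iff.rfl
  -- Claim 1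
  have hYK : Y ≤ K := by
    intro y hy
    rw [hKmem]
    refine ⟨hYc hy, ?_⟩
    have hyN : y ∈ Subgroup.normalizer (P : Set G) := hH (hYH hy)
    have hmemP : ∀ x : ↥P, (x : G) * y * (x : G)⁻¹ * y⁻¹ ∈ P := by
      intro x
      have h1 := Cfsg.Agent.Lib.Helper4.conj_mem_of_mem_normalizer hyN (P.inv_mem x.2)
      have e : (x : G) * y * (x : G)⁻¹ * y⁻¹ = (x : G) * (y * (x : G)⁻¹ * y⁻¹) := by group
      rw [e]
      exact P.mul_mem x.2 h1
    let θ : ↥P →* Abelianization ↥P :=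
      { toFun := fun x => Abelianization.of ⟨(x : G) * y * (x : G)⁻¹ * y⁻¹, hmemP x⟩
        map_one' := by
          have e : (⟨((1 : ↥P) : G) * y * ((1 : ↥P) : G)⁻¹ * y⁻¹, hmemP 1⟩ : ↥P) = 1 := by
            apply Subtype.ext
            simp
          rw [e, map_one]
        map_mul' := by
          intro a b
          have e : (⟨((a * b : ↥P) : G) * y * ((a * b : ↥P) : G)⁻¹ * y⁻¹, hmemP (a * b)⟩ : ↥P)
              = a * ⟨(b : G) * y * (b : G)⁻¹ * y⁻¹, hmemP b⟩ * a⁻¹
                * ⟨(a : G) * y * (a : G)⁻¹ * y⁻¹, hmemP a⟩ := by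
            apply Subtype.ext
            simp only [Subgroup.coe_mul, Subgroup.coe_inv]
            group
          rw [e, map_mul, map_mul, map_mul, map_inv]
          rw [mul_comm (Abelianization.of a), mul_inv_cancel_right, mul_comm] }
    have hker := Cfsg.Agent.Lib.Helper4.frattini_le_ker_of_elementary hp θ
      (fun a b => mul_comm _ _) (by
        intro a
        show (Abelianization.of (⟨(a : G) * y * (a : G)⁻¹ * y⁻¹, hmemP a⟩ : ↥P)) ^ p = 1
        rw [← map_pow]
        have e : (⟨(a : G) * y * (a : G)⁻¹ * y⁻¹, hmemP a⟩ : ↥P) ^ p = 1 := by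
          apply Subtype.ext
          simp only [SubmonoidClass.mk_pow, Subgroup.coe_one]
          exact hel.2 _ (Subgroup.commutator_mem_commutator a.2 hy)
        rw [e, map_one])
    rintro _ ⟨x, hx, rfl⟩
    have h3 := hker hx
    rw [MonoidHom.mem_ker] at h3
    have h4 : (⟨(x : G) * y * (x : G)⁻¹ * y⁻¹, hmemP x⟩ : ↥P) ∈ (Abelianization.of (G := ↥P)).ker :=
      h3
    rw [Abelianization.ker_of] at h4
    rw [hDeq]
    exact ⟨_, h4, rfl⟩
  -- Claim 2
  have hHK : H ≤ Subgroup.normalizer (K : Set G) := by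
    apply Cfsg.Agent.Lib.Helper4.le_normalizer_of_conj_mem
    intro h hh g hg
    rw [hKmem] at hg ⊢
    have hhN := hH hh
    refine ⟨Cfsg.Agent.Lib.Helper4.conj_mem_of_mem_normalizer
      (Cfsg.Agent.Lib.Helper4.le_normalizer_centralizer hND hhN) hg.1, ?_⟩
    intro x hx
    have hx' : h⁻¹ * x * h ∈ (frattini ↥P).map P.subtype := by
      have := Cfsg.Agent.Lib.Helper4.conj_mem_of_mem_normalizer
        (Subgroup.inv_mem _ (hNΦ hhN)) hx
      simpa using this
    have h1 := hg.2 _ hx'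
    have h2 := Cfsg.Agent.Lib.Helper4.conj_mem_of_mem_normalizer (hND hhN) h1
    have e : x * (h * g * h⁻¹) * x⁻¹ * (h * g * h⁻¹)⁻¹
        = h * (h⁻¹ * x * h * g * (h⁻¹ * x * h)⁻¹ * g⁻¹) * h⁻¹ := by group
    rw [e]
    exact h2
  -- Claim 3
  have hNYK : NY ≤ K := by
    rw [hNY]
    have hKn : (K.subgroupOf H).Normal := by
      refine ⟨fun v hv l => ?_⟩
      rw [Subgroup.mem_subgroupOf] at hv ⊢
      exact Cfsg.Agent.Lib.Helper4.conj_mem_of_mem_normalizer (hHK l.2) hv
    have hle : Subgroup.normalClosure ((Y.subgroupOf H : Subgroup ↥H) : Set ↥H) ≤ K.subgroupOf H := by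
      apply Subgroup.normalClosure_le_normal
      intro a ha
      exact Subgroup.mem_subgroupOf.2 (hYK (Subgroup.mem_subgroupOf.1 ha))
    rintro _ ⟨k', hk', rfl⟩
    exact Subgroup.mem_subgroupOf.1 (hle hk')
  -- Claim 4
  obtain ⟨k, hk⟩ := (hP.to_le hDP).exists_card_eq
  have hDk : ∀ d ∈ ⁅P, P⁆, d ^ p ^ k = 1 := by
    intro d hd
    have h1 : (⟨d, hd⟩ : ↥(⁅P, P⁆ : Subgroup G)) ^ Nat.card ↥(⁅P, P⁆ : Subgroup G) = 1 :=
      pow_card_eq_one'
    rw [hk] at h1
    simpa using congrArg Subtype.val h1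
  -- Claim 5
  have hKcent : ∀ g ∈ K, g ^ p ^ k ∈
      Subgroup.centralizer (((frattini ↥P).map P.subtype : Subgroup G) : Set G) := by
    intro g hg
    rw [hKmem] at hg
    rw [Subgroup.mem_centralizer_iff]
    intro x hx
    have hd := hg.2 x hx
    have hgc := hg.1
    rw [Subgroup.mem_centralizer_iff] at hgc
    have hcomm : Commute (x * g * x⁻¹ * g⁻¹) g := hgc _ hd
    have e1 : x * g * x⁻¹ = (x * g * x⁻¹ * g⁻¹) * g := by group
    have e2 : x * g ^ p ^ k * x⁻¹ = g ^ p ^ k := by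
      rw [← conj_pow, e1, hcomm.mul_pow, hDk _ hd, one_mul]
    calc x * g ^ p ^ k = (x * g ^ p ^ k * x⁻¹) * x := by group
      _ = g ^ p ^ k * x := by rw [e2]
  -- Claim 6
  have hres : Cfsg.pResidual p ↥NY ≤
      (Subgroup.centralizer (((frattini ↥P).map P.subtype : Subgroup G) : Set G)).subgroupOf NY := by
    unfold Cfsg.pResidual
    rw [Subgroup.closure_le]
    intro g hg
    have hg' : Nat.Coprime (orderOf g) p := hg
    rw [SetLike.mem_coe, Subgroup.mem_subgroupOf]
    have h1 := hKcent _ (hNYK g.2)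
    have hord : orderOf (g : G) = orderOf g := Subgroup.orderOf_coe g
    obtain ⟨m, hm⟩ := exists_pow_eq_self_of_coprime (x := (g : G)) (n := p ^ k)
      (by rw [hord]; exact Nat.Coprime.pow_left k hg'.symm)
    rw [← hm]
    exact Subgroup.pow_mem _ h1 m
  rintro _ ⟨r, hr, rfl⟩
  exact Subgroup.mem_subgroupOf.1 (hres hr)

end Cfsg.Agent.S2819
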