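import Cfsg.Statements.S2820
import Mathlib
import Cfsg.Agent.Lib.Helper4.PRedIn
import Cfsg.Agent.Lib.Helper4.Normalizer
import Cfsg.Agent.Lib.Helper4.PClosed
import Cfsg.Agent.Lib.Helper4.PCore
import Cfsg.Agent.Lib.Helper2.Fit

open Cfsg.Agent.Lib.Helper4

set_option autoImplicit false
open Cfsg

namespace Cfsg.Agent.S2820

/-- Let A and B be subnormal subgroups of the finite group H with A a p-group and B = O^p(B) (B generated by its elements of order prime to p). Then A normalizes B and B = O^p(AB), the subgroup of ⟨A, B⟩ generated by its elements of order prime to p. -/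
theorem result {H : Type*} [Group H] [Finite H] {p : ℕ} [Fact p.Prime] (A B : Subgroup H) (hA : A.IsSubnormal) (hB : B.IsSubnormal) (hAp : IsPGroup p ↥A) (hBres : (Cfsg.pResidual p ↥B).map B.subtype = B) : A ≤ Subgroup.normalizer (B : Set H) ∧ (Cfsg.pResidual p ↥(A ⊔ B)).map (A ⊔ B).subtype = B := by
  have hAO : A ≤ Cfsg.pCore p H := Lib.Helper2.subnormal_pgroup_le_pCore p A hA hAp
  have hOn := pCore_normal p H
  have hOp := pCore_isPGroup p H
  have hconj : ∀ v ∈ Cfsg.pCore p H, ∀ b ∈ B, v * b * v⁻¹ ∈ B := by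
    intro v hv b hb
    have h1 : (Cfsg.pResidual p ↥B).map B.subtype ≤ B.comap (MulAut.conj v).toMonoidHom := by
      apply map_pResidual_le
      intro x hx hxo
      rw [Subgroup.mem_comap]
      exact conj_mem_of_subnormal_of_coprime hB hOn hOp x hx hxo v hv
    have h2 : B ≤ B.comap (MulAut.conj v).toMonoidHom := hBres.symm.le.trans h1
    exact h2 hb
  have hAN : A ≤ Subgroup.normalizer (B : Set H) := by
    apply le_normalizer_of_conj_mem
    intro a ha b hb; exact hconj a (hAO ha) b hb
  refine ⟨hAN, ?_⟩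
  apply le_antisymm
  · apply map_pResidual_le
    intro x hx hxo
    haveI : (B.subgroupOf (A ⊔ B)).Normal := by
      rw [Subgroup.normal_subgroupOf_iff_le_normalizer le_sup_right]
      exact sup_le hAN Subgroup.le_normalizer
    have hYp : IsPGroup p ↥(A.subgroupOf (A ⊔ B)) :=
      hAp.comap_of_injective (A ⊔ B).subtype (A ⊔ B).subtype_injective
    have hg : (⟨x, hx⟩ : ↥(A ⊔ B)) ∈ B.subgroupOf (A ⊔ B) ⊔ A.subgroupOf (A ⊔ B) := by
      rw [← Subgroup.subgroupOf_sup le_sup_right le_sup_left, Subgroup.mem_subgroupOf, sup_comm]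
      exact hx
    have hord : (orderOf (⟨x, hx⟩ : ↥(A ⊔ B))).Coprime p := by
      rw [← Subgroup.orderOf_coe]; exact hxo
    have h2 := mem_of_coprime_of_mem_sup hYp hord hg
    exact Subgroup.mem_subgroupOf.1 h2
  · calc B = (Cfsg.pResidual p ↥B).map B.subtype := hBres.symm
      _ ≤ _ := by
        apply map_pResidual_le
        intro x hx hxo
        exact mem_map_pResidual_of_coprime (le_sup_right (a := A) hx) hxo

end Cfsg.Agent.S2820
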