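import Cfsg.Statements.S2821
import Mathlib
import Cfsg.Agent.Lib.Helper4.PReduced
import Cfsg.Agent.Lib.Helper4.PClosed
import Cfsg.Agent.Lib.Helper4.Normalizer

set_option autoImplicit false
open Cfsg

namespace Cfsg.Agent.S2821

/-- Let H be a finite group, p a prime, T a Sylow p-subgroup and L a subgroup of characteristic p containing T; let Y_L be the largest p-reduced normal subgroup of L (the join of the normal elementary abelian p-subgroups V of L with O_p(L/C_L(V)) = 1). Then T₀ := C_T(Y_L) is a Sylow p-subgroup of C_H(Y_L); moreover O_p(L) ≤ T₀ ≤ C_L(Y_L) and Ω₁(Z(T)) ≤ Z_L ≤ Y_L ≤ Ω₁(Z(O_p(L))), where Z_L is generated by the Ω₁(Z(S)) over the Sylow p-subgroups S of L. -/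
theorem result {H : Type*} [Group H] [Finite H] {p : ℕ} [Fact p.Prime] (T : Sylow p H) (L : Subgroup H) (hTL : (T : Subgroup H) ≤ L) (hL : Subgroup.centralizer (Cfsg.pCore p ↥L : Set ↥L) ≤ Cfsg.pCore p ↥L) (T₀ : Subgroup H) (hT₀ : T₀ = (T : Subgroup H) ⊓ Subgroup.centralizer (((Cfsg.largestPReducedOf p L) : Subgroup H) : Set H)) : (∃ P : Sylow p ↥(Subgroup.centralizer (((Cfsg.largestPReducedOf p L) : Subgroup H) : Set H)), (P : Subgroup ↥(Subgroup.centralizer (((Cfsg.largestPReducedOf p L) : Subgroup H) : Set H))) = T₀.subgroupOf (Subgroup.centralizer (((Cfsg.largestPReducedOf p L) : Subgroup H) : Set H))) ∧ (Cfsg.pCoreOf p L) ≤ T₀ ∧ T₀ ≤ L ⊓ Subgroup.centralizer (((Cfsg.largestPReducedOf p L) : Subgroup H) : Set H) ∧ (Cfsg.omegaOne p ((T : Subgroup H) ⊓ Subgroup.centralizer (((T : Subgroup H) : Subgroup H) : Set H))) ≤ Cfsg.sylowCenterClosure p L ∧ Cfsg.sylowCenterClosure p L ≤ (Cfsg.largestPReducedOf p L) ∧ (Cfsg.largestPReducedOf p L) ≤ (Cfsg.omegaOne p ((Cfsg.pCoreOf p L) ⊓ Subgroup.centralizer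 (((Cfsg.pCoreOf p L) : Subgroup H) : Set H))) := by
  classical
  subst hT₀
  have hY'red := Cfsg.Agent.Lib.Helper4.isPReducedNormal_largestPReduced p ↥L
  have hY'pc := Cfsg.Agent.Lib.Helper4.IsPReducedNormal.le_pCore hY'red
  have hOY' := Cfsg.Agent.Lib.Helper4.IsPReducedNormal.pCore_le_centralizer hY'red
  obtain ⟨hY'n, hY'e, hCn, hO⟩ := hY'red
  have hLN : L ≤ Subgroup.normalizer (((Cfsg.largestPReducedOf p L) : Subgroup H) : Set H) := by
    apply Cfsg.Agent.Lib.Helper4.le_normalizer_of_conj_mem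
    intro m hm y hy
    obtain ⟨y', hy', rfl⟩ := hy
    exact ⟨⟨m, hm⟩ * y' * ⟨m, hm⟩⁻¹, hY'n.conj_mem y' hy' ⟨m, hm⟩, rfl⟩
  have hOT : (Cfsg.pCoreOf p L) ≤ (T : Subgroup H) := by
    have h2 : Cfsg.pCore p ↥L ≤ ((T.subtype hTL : Sylow p L) : Subgroup L) :=
      Cfsg.Agent.Lib.Helper4.pCore_le_sylow _
    rintro _ ⟨y', hy', rfl⟩
    have h3 := h2 hy'
    rw [Sylow.coe_subtype] at h3
    exact Subgroup.mem_subgroupOf.1 h3
  have hOC : (Cfsg.pCoreOf p L) ≤ Subgroup.centralizer (((Cfsg.largestPReducedOf p L) : Subgroup H) : Set H) := by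
    rintro _ ⟨o, ho, rfl⟩
    rw [Subgroup.mem_centralizer_iff]
    rintro _ ⟨y, hy, rfl⟩
    have h2 := hOY' ho
    rw [Subgroup.mem_centralizer_iff] at h2
    exact congrArg Subtype.val (h2 y hy)
  refine ⟨?_, le_inf hOT hOC, inf_le_inf hTL le_rfl, ?_, ?_, ?_⟩
  · have hTN : (T : Subgroup H) ≤ Subgroup.normalizer
        ((Subgroup.centralizer (((Cfsg.largestPReducedOf p L) : Subgroup H) : Set H) : Subgroup H) : Set H) :=
      Cfsg.Agent.Lib.Helper4.le_normalizer_centralizer (hTL.trans hLN)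
    obtain ⟨S, hS⟩ := Cfsg.Agent.Lib.Helper4.sylow_inf_of_le_normalizer T _ hTN
    refine ⟨S, ?_⟩
    rw [hS, Subgroup.inf_subgroupOf_right]
  · have e : ((T.subtype hTL : Sylow p L) : Subgroup L).map L.subtype = (T : Subgroup H) := by
      rw [Sylow.coe_subtype, Subgroup.subgroupOf_map_subtype, inf_eq_left.2 hTL]
    unfold Cfsg.sylowCenterClosure
    refine le_iSup_of_le (T.subtype hTL) ?_
    rw [e]
  · have hgen : ∀ (S : Sylow p ↥L) (x : H), x ∈ ((S : Subgroup ↥L).map L.subtype ⊓ Subgroup.centralizer (((S : Subgroup ↥L).map L.subtype : Subgroup H) : Set H)) → x ^ p = 1 →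
        x ∈ (Cfsg.pCoreOf p L) ∧ x ∈ Subgroup.centralizer (((Cfsg.pCoreOf p L) : Subgroup H) : Set H) := by
      intro S x hx hxp
      have hOS : (Cfsg.pCoreOf p L) ≤ (S : Subgroup ↥L).map L.subtype :=
        Subgroup.map_mono (Cfsg.Agent.Lib.Helper4.pCore_le_sylow S)
      have hxcO : x ∈ Subgroup.centralizer (((Cfsg.pCoreOf p L) : Subgroup H) : Set H) :=
        Subgroup.centralizer_le hOS hx.2
      refine ⟨?_, hxcO⟩
      obtain ⟨s, hs, rfl⟩ := hx.1
      have hsc : s ∈ Subgroup.centralizer (Cfsg.pCore p ↥L : Set ↥L) := by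
        rw [Subgroup.mem_centralizer_iff]
        intro o ho
        apply Subtype.ext
        rw [Subgroup.mem_centralizer_iff] at hxcO
        exact hxcO _ ⟨o, ho, rfl⟩
      exact ⟨s, hL hsc, rfl⟩
    have hZO : (Cfsg.sylowCenterClosure p L) ≤ (Cfsg.pCoreOf p L) ⊓ Subgroup.centralizer (((Cfsg.pCoreOf p L) : Subgroup H) : Set H) := by
      unfold Cfsg.sylowCenterClosure
      apply iSup_le
      intro S
      unfold Cfsg.omegaOne
      rw [Subgroup.closure_le]
      rintro x ⟨hx, hxp⟩
      exact Subgroup.mem_inf.2 (hgen S x hx hxp)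
    have hZL : (Cfsg.sylowCenterClosure p L) ≤ L := hZO.trans (inf_le_left.trans (Subgroup.map_subtype_le _))
    have hZcomm : ∀ a ∈ (Cfsg.sylowCenterClosure p L), ∀ b ∈ (Cfsg.sylowCenterClosure p L), a * b = b * a := by
      intro a ha b hb
      have h1 := (Subgroup.mem_inf.1 (hZO ha)).2
      have h2 := (Subgroup.mem_inf.1 (hZO hb)).1
      rw [Subgroup.mem_centralizer_iff] at h1
      exact (h1 b h2).symm
    have hmemZ : ∀ (S : Sylow p ↥L) (x : H), x ∈ ((S : Subgroup ↥L).map L.subtype ⊓ Subgroup.centralizer (((S : Subgroup ↥L).map L.subtype : Subgroup H) : Set H)) → x ^ p = 1 → x ∈ (Cfsg.sylowCenterClosure p L) := by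
      intro S x hx hxp
      unfold Cfsg.sylowCenterClosure
      exact le_iSup (fun S : Sylow p ↥L => Cfsg.omegaOne p ((S : Subgroup ↥L).map L.subtype ⊓ Subgroup.centralizer (((S : Subgroup ↥L).map L.subtype : Subgroup H) : Set H))) S
        (Subgroup.subset_closure ⟨hx, hxp⟩)
    have hZpow : ∀ a ∈ (Cfsg.sylowCenterClosure p L), a ^ p = 1 := by
      have h1 := Cfsg.Agent.Lib.Helper4.isElementaryAbelian_of_le_of_comm (p := p) hZcomm
        {x : H | ∃ S : Sylow p ↥L, x ∈ ((S : Subgroup ↥L).map L.subtype ⊓ Subgroup.centralizer (((S : Subgroup ↥L).map L.subtype : Subgroup H) : Set H)) ∧ x ^ p = 1} (by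
          unfold Cfsg.sylowCenterClosure
          apply iSup_le
          intro S
          unfold Cfsg.omegaOne
          apply Subgroup.closure_mono
          rintro x ⟨hx, hxp⟩
          exact ⟨S, hx, hxp⟩) (by
          rintro a ⟨S, hx, hxp⟩
          exact ⟨hmemZ S a hx hxp, hxp⟩)
      exact h1.2
    have hLZ : L ≤ Subgroup.normalizer (((Cfsg.sylowCenterClosure p L) : Subgroup H) : Set H) := by
      apply Cfsg.Agent.Lib.Helper4.le_normalizer_of_conj_mem
      intro l hl z hz
      have hmap : (Cfsg.sylowCenterClosure p L).map (MulAut.conj l).toMonoidHom ≤ (Cfsg.sylowCenterClosure p L) := by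
        unfold Cfsg.sylowCenterClosure
        rw [Subgroup.map_iSup]
        apply iSup_le
        intro S
        unfold Cfsg.omegaOne
        rw [MonoidHom.map_closure, Subgroup.closure_le]
        rintro _ ⟨x, ⟨hx, hxp⟩, rfl⟩
        have hgoal : (MulAut.conj l).toMonoidHom x ∈ (Cfsg.sylowCenterClosure p L) := by
          apply hmemZ ((⟨l, hl⟩ : ↥L) • S)
          · obtain ⟨s, hs, rfl⟩ := hx.1
            refine Subgroup.mem_inf.2 ⟨⟨⟨l, hl⟩ * s * ⟨l, hl⟩⁻¹, ?_, rfl⟩, ?_⟩
            · have : (⟨l, hl⟩ : ↥L)⁻¹ * (⟨l, hl⟩ * s * ⟨l, hl⟩⁻¹) * ⟨l, hl⟩ ∈ S := by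
                have e : (⟨l, hl⟩ : ↥L)⁻¹ * (⟨l, hl⟩ * s * ⟨l, hl⟩⁻¹) * ⟨l, hl⟩ = s := by group
                rw [e]; exact hs
              exact Cfsg.Agent.Lib.Helper4.mem_sylow_smul_iff.2 this
            · rw [Subgroup.mem_centralizer_iff]
              rintro _ ⟨w, hw, rfl⟩
              have hw' := Cfsg.Agent.Lib.Helper4.mem_sylow_smul_iff.1 hw
              have hc := (Subgroup.mem_inf.1 hx).2
              rw [Subgroup.mem_centralizer_iff] at hc
              have h1 := hc _ ⟨_, hw', rfl⟩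
              simp only [Subgroup.coe_subtype, Subgroup.coe_mul, Subgroup.coe_inv,
                MulEquiv.coe_toMonoidHom, MulAut.conj_apply] at h1 ⊢
              calc (w : H) * (l * (s : H) * l⁻¹)
                  = l * ((l⁻¹ * (w : H) * l) * (s : H)) * l⁻¹ := by group
                _ = l * ((s : H) * (l⁻¹ * (w : H) * l)) * l⁻¹ := by rw [h1]
                _ = l * (s : H) * l⁻¹ * (w : H) := by group
          · simp only [MulEquiv.coe_toMonoidHom, MulAut.conj_apply]
            rw [conj_pow, hxp]; group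
        exact hgoal
      exact hmap ⟨z, hz, rfl⟩
    have hVn : ((Cfsg.sylowCenterClosure p L).subgroupOf L).Normal := by
      refine ⟨fun v hv l => ?_⟩
      rw [Subgroup.mem_subgroupOf] at hv ⊢
      exact Cfsg.Agent.Lib.Helper4.conj_mem_of_mem_normalizer (hLZ l.2) hv
    have hVe : Cfsg.IsElementaryAbelian p ((Cfsg.sylowCenterClosure p L).subgroupOf L) := by
      refine ⟨⟨⟨fun a b => ?_⟩⟩, ?_⟩
      · apply Subtype.ext
        apply Subtype.ext
        exact hZcomm _ (Subgroup.mem_subgroupOf.1 a.2) _ (Subgroup.mem_subgroupOf.1 b.2)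
      · intro a ha
        apply Subtype.ext
        simpa using hZpow _ (Subgroup.mem_subgroupOf.1 ha)
    have hred : Cfsg.IsPReducedNormal p ((Cfsg.sylowCenterClosure p L).subgroupOf L) := by
      refine ⟨hVn, hVe, inferInstance, ?_⟩
      rw [Cfsg.Agent.Lib.Helper4.pCore_quotient_eq_bot_iff]
      intro D hD hpow
      have hgenD : ∀ (S : Sylow p ↥L) (x : ↥L), (x : H) ∈ ((S : Subgroup ↥L).map L.subtype ⊓ Subgroup.centralizer (((S : Subgroup ↥L).map L.subtype : Subgroup H) : Set H)) → (x : H) ^ p = 1 →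
          D ≤ Subgroup.centralizer ({x} : Set ↥L) := by
        intro S x hx hxp
        have hxV : x ∈ (Cfsg.sylowCenterClosure p L).subgroupOf L := Subgroup.mem_subgroupOf.2 (hmemZ S _ hx hxp)
        obtain ⟨SD, hSD⟩ := Cfsg.Agent.Lib.Helper4.sylow_inf_normal S D
        have hCDn : ((Subgroup.centralizer (((Cfsg.sylowCenterClosure p L).subgroupOf L : Subgroup ↥L) : Set ↥L)).subgroupOf
            D).Normal := Subgroup.Normal.subgroupOf inferInstance D
        have hquot : IsPGroup p (↥D ⧸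
            (Subgroup.centralizer (((Cfsg.sylowCenterClosure p L).subgroupOf L : Subgroup ↥L) : Set ↥L)).subgroupOf D) := by
          intro y
          induction y using QuotientGroup.induction_on with
          | H d =>
            obtain ⟨k, hk⟩ := hpow d d.2
            refine ⟨k, ?_⟩
            rw [← QuotientGroup.mk_pow, QuotientGroup.eq_one_iff, Subgroup.mem_subgroupOf]
            simpa using hk
        have h1 := Cfsg.Agent.Lib.Helper4.pResidual_le_of_isPGroup_quotient hquot
        have h2 := Cfsg.Agent.Lib.Helper4.pResidual_sup_sylow SD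
        have htop : (Subgroup.centralizer ({x} : Set ↥L)).subgroupOf D = ⊤ := by
          rw [eq_top_iff, ← h2]
          apply sup_le
          · refine h1.trans ?_
            intro d hd
            rw [Subgroup.mem_subgroupOf] at hd ⊢
            exact Subgroup.centralizer_le (Set.singleton_subset_iff.2 hxV) hd
          · rw [hSD]
            intro d hd
            rw [Subgroup.mem_subgroupOf] at hd ⊢
            rw [Subgroup.mem_centralizer_iff]
            intro h hh
            rw [Set.mem_singleton_iff] at hh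
            subst hh
            have hc := (Subgroup.mem_inf.1 hx).2
            rw [Subgroup.mem_centralizer_iff] at hc
            have h3 := hc _ ⟨(d : ↥L), hd, rfl⟩
            apply Subtype.ext
            exact h3.symm
        intro d hd
        have h4 : (⟨d, hd⟩ : ↥D) ∈ (Subgroup.centralizer ({x} : Set ↥L)).subgroupOf D := by
          rw [htop]; trivial
        exact Subgroup.mem_subgroupOf.1 h4
      have hZD : (Cfsg.sylowCenterClosure p L) ≤ Subgroup.centralizer (((D.map L.subtype : Subgroup H)) : Set H) := by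
        unfold Cfsg.sylowCenterClosure
        apply iSup_le
        intro S
        unfold Cfsg.omegaOne
        rw [Subgroup.closure_le]
        rintro x ⟨hx, hxp⟩
        have hxL : x ∈ L := (Subgroup.map_subtype_le _) hx.1
        have h3 := hgenD S ⟨x, hxL⟩ hx hxp
        rw [SetLike.mem_coe, Subgroup.mem_centralizer_iff]
        rintro _ ⟨d, hd, rfl⟩
        have h4 := h3 hd
        rw [Subgroup.mem_centralizer_iff] at h4
        have h5 := h4 ⟨x, hxL⟩ rfl
        exact (congrArg Subtype.val h5).symm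
      intro d hd
      rw [Subgroup.mem_centralizer_iff]
      intro v hv
      have hvZ : (v : H) ∈ (Cfsg.sylowCenterClosure p L) := Subgroup.mem_subgroupOf.1 hv
      have h6 := hZD hvZ
      rw [Subgroup.mem_centralizer_iff] at h6
      have h7 := h6 _ ⟨d, hd, rfl⟩
      apply Subtype.ext
      exact h7.symm
    have hVle : (Cfsg.sylowCenterClosure p L).subgroupOf L ≤ Cfsg.largestPReduced p ↥L := le_sSup hred
    intro z hz
    exact ⟨⟨z, hZL hz⟩, hVle (Subgroup.mem_subgroupOf.2 hz), rfl⟩
  · rintro _ ⟨y, hy, rfl⟩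
    apply Subgroup.subset_closure
    refine ⟨Subgroup.mem_inf.2 ⟨⟨y, hY'pc hy, rfl⟩, ?_⟩, ?_⟩
    · rw [Subgroup.mem_centralizer_iff]
      rintro _ ⟨o, ho, rfl⟩
      have h2 := hOY' ho
      rw [Subgroup.mem_centralizer_iff] at h2
      exact (congrArg Subtype.val (h2 y hy)).symm
    · have h3 := hY'e.2 y hy
      simpa using congrArg Subtype.val h3

end Cfsg.Agent.S2821
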