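import Cfsg.Statements.S2822
import Mathlib
import Cfsg.Agent.Lib.Helper4.PReduced
import Cfsg.Agent.Lib.Helper4.Normalizer

set_option autoImplicit false
open Cfsg

namespace Cfsg.Agent.S2822

/-- Let H be a finite group, p a prime, T a Sylow p-subgroup, and L, M subgroups of characteristic p containing T, with largest p-reduced normal subgroups Y_L, Y_M. If L·C_H(Y_M) = M·C_H(Y_M), then Y_M ≤ Y_L. -/
theorem result {H : Type*} [Group H] [Finite H] {p : ℕ} [Fact p.Prime] (T : Sylow p H) (L M : Subgroup H) (hTL : (T : Subgroup H) ≤ L) (hTM : (T : Subgroup H) ≤ M) (hL : Subgroup.centralizer (Cfsg.pCore p ↥L : Set ↥L) ≤ Cfsg.pCore p ↥L) (hM : Subgroup.centralizer (Cfsg.pCore p ↥M : Set ↥M) ≤ Cfsg.pCore p ↥M) : L ⊔ Subgroup.centralizer (((Cfsg.largestPReducedOf p M) : Subgroup H) : Set H) = M ⊔ Subgroup.centralizer (((Cfsg.largestPReducedOf p M) : Subgroup H) : Set H) → (Cfsg.largestPReducedOf p M) ≤ (Cfsg.largestPReducedOf p L) := by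
  classical
  intro heq
  have hY'red := Cfsg.Agent.Lib.Helper4.isPReducedNormal_largestPReduced p ↥M
  have hYdef : Cfsg.largestPReducedOf p M = (Cfsg.largestPReduced p ↥M).map M.subtype := rfl
  have hYM : Cfsg.largestPReducedOf p M ≤ M := Subgroup.map_subtype_le _
  have hY'pc := Cfsg.Agent.Lib.Helper4.IsPReducedNormal.le_pCore hY'red
  obtain ⟨hY'n, hY'e, hCn, hO⟩ := hY'red
  have hMN : M ≤ Subgroup.normalizer ((Cfsg.largestPReducedOf p M : Subgroup H) : Set H) := by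
    apply Cfsg.Agent.Lib.Helper4.le_normalizer_of_conj_mem
    intro m hm y hy
    obtain ⟨y', hy', rfl⟩ := hy
    exact ⟨⟨m, hm⟩ * y' * ⟨m, hm⟩⁻¹, hY'n.conj_mem y' hy' ⟨m, hm⟩, rfl⟩
  have hYT : Cfsg.largestPReducedOf p M ≤ (T : Subgroup H) := by
    have h2 : Cfsg.pCore p ↥M ≤ ((T.subtype hTM : Sylow p M) : Subgroup M) :=
      Cfsg.Agent.Lib.Helper4.pCore_le_sylow _
    rintro _ ⟨y', hy', rfl⟩
    have h3 := h2 (hY'pc hy')
    rw [Sylow.coe_subtype] at h3
    exact Subgroup.mem_subgroupOf.1 h3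
  have hYL : Cfsg.largestPReducedOf p M ≤ L := hYT.trans hTL
  have hLN : L ≤ Subgroup.normalizer ((Cfsg.largestPReducedOf p M : Subgroup H) : Set H) := by
    have h1 : L ≤ M ⊔ Subgroup.centralizer ((Cfsg.largestPReducedOf p M : Subgroup H) : Set H) := by
      rw [← heq]; exact le_sup_left
    exact h1.trans (sup_le hMN (Subgroup.centralizer_le_normalizer _))
  have hVmap : ((Cfsg.largestPReducedOf p M).subgroupOf L).map L.subtype
      = Cfsg.largestPReducedOf p M := by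
    rw [Subgroup.subgroupOf_map_subtype, inf_eq_left.2 hYL]
  have hVn : ((Cfsg.largestPReducedOf p M).subgroupOf L).Normal := by
    refine ⟨fun v hv l => ?_⟩
    rw [Subgroup.mem_subgroupOf] at hv ⊢
    exact Cfsg.Agent.Lib.Helper4.conj_mem_of_mem_normalizer (hLN l.2) hv
  have hYcomm : ∀ a ∈ Cfsg.largestPReducedOf p M, ∀ b ∈ Cfsg.largestPReducedOf p M,
      a * b = b * a := by
    rintro _ ⟨a', ha', rfl⟩ _ ⟨b', hb', rfl⟩
    have hc := hY'e.1
    have h1 := mul_comm' (⟨a', ha'⟩ : ↥(Cfsg.largestPReduced p ↥M)) ⟨b', hb'⟩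
    have h2 := congrArg (fun z : ↥(Cfsg.largestPReduced p ↥M) => ((z : ↥M) : H)) h1
    simpa using h2
  have hYpow : ∀ a ∈ Cfsg.largestPReducedOf p M, a ^ p = 1 := by
    rintro _ ⟨a', ha', rfl⟩
    have h1 := hY'e.2 a' ha'
    have h2 := congrArg (fun z : ↥M => (z : H)) h1
    simpa using h2
  have hVe : Cfsg.IsElementaryAbelian p ((Cfsg.largestPReducedOf p M).subgroupOf L) := by
    refine ⟨⟨⟨fun a b => ?_⟩⟩, ?_⟩
    · apply Subtype.ext
      apply Subtype.ext
      exact hYcomm _ (Subgroup.mem_subgroupOf.1 a.2) _ (Subgroup.mem_subgroupOf.1 b.2)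
    · intro a ha
      apply Subtype.ext
      simpa using hYpow _ (Subgroup.mem_subgroupOf.1 ha)
  have hred : Cfsg.IsPReducedNormal p ((Cfsg.largestPReducedOf p M).subgroupOf L) := by
    refine ⟨hVn, hVe, inferInstance, ?_⟩
    rw [Cfsg.Agent.Lib.Helper4.pCore_quotient_ker_eq_bot_iff
      ((Cfsg.largestPReducedOf p M).normalizerMonoidHom.comp (Subgroup.inclusion hLN)) _
      (Cfsg.Agent.Lib.Helper4.ker_normalizerMonoidHom_comp_inclusion _ L hLN _ hVmap).symm]
    have hM' := (Cfsg.Agent.Lib.Helper4.pCore_quotient_ker_eq_bot_iff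
      ((Cfsg.largestPReducedOf p M).normalizerMonoidHom.comp (Subgroup.inclusion hMN)) _
      (Cfsg.Agent.Lib.Helper4.ker_normalizerMonoidHom_comp_inclusion _ M hMN
        (Cfsg.largestPReduced p ↥M) rfl).symm).1 hO
    rw [Cfsg.Agent.Lib.Helper4.range_normalizerMonoidHom_comp_inclusion _ L hLN, heq,
      ← Cfsg.Agent.Lib.Helper4.range_normalizerMonoidHom_comp_inclusion _ M hMN]
    exact hM'
  have hVle : (Cfsg.largestPReducedOf p M).subgroupOf L ≤ Cfsg.largestPReduced p ↥L :=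
    le_sSup hred
  intro y hy
  exact ⟨⟨y, hYL hy⟩, hVle (Subgroup.mem_subgroupOf.2 hy), rfl⟩

end Cfsg.Agent.S2822
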