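import Cfsg.Statements.S2823
import Mathlib
import Cfsg.Agent.Lib.Helper4.SylowCenter

set_option autoImplicit false
open Cfsg

namespace Cfsg.Agent.S2823

open Cfsg.Agent.Lib.Helper4


/-- Let H be a finite group, p a prime, T a Sylow p-subgroup and L a subgroup of characteristic p containing T; let Z_L be the subgroup generated by the Ω₁(Z(S)) over the Sylow p-subgroups S of L and O^p(L) the subgroup generated by the elements of L of order prime to p. Then Z_L = Ω₁(Z(L))·[Z_L, O^p(L)] and [Z_L, L] = [Z_L, O^p(L)]. -/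
theorem result {H : Type*} [Group H] [Finite H] {p : ℕ} [Fact p.Prime] (T : Sylow p H) (L : Subgroup H) (hTL : (T : Subgroup H) ≤ L) (hL : Subgroup.centralizer (Cfsg.pCore p ↥L : Set ↥L) ≤ Cfsg.pCore p ↥L) : Cfsg.sylowCenterClosure p L = (Cfsg.omegaOne p (L ⊓ Subgroup.centralizer ((L : Subgroup H) : Set H))) ⊔ ⁅Cfsg.sylowCenterClosure p L, (Cfsg.pResidual p ↥L).map L.subtype⁆ ∧ ⁅Cfsg.sylowCenterClosure p L, L⁆ = ⁅Cfsg.sylowCenterClosure p L, (Cfsg.pResidual p ↥L).map L.subtype⁆ := by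
  classical
  have hZL : Cfsg.sylowCenterClosure p L ≤ L := scc_le_self L
  have hLNZ : L ≤ Subgroup.normalizer ((Cfsg.sylowCenterClosure p L : Subgroup H) : Set H) :=
    le_normalizer_scc L
  have hRn : (Cfsg.pResidual p ↥L).Normal := pResidual_normal p ↥L
  have hRL : (Cfsg.pResidual p ↥L).map L.subtype ≤ L := Subgroup.map_subtype_le _
  have hLNR : L ≤ Subgroup.normalizer
      (((Cfsg.pResidual p ↥L).map L.subtype : Subgroup H) : Set H) := by
    apply le_normalizer_of_conj_mem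
    rintro l hl _ ⟨r, hr, rfl⟩
    exact ⟨⟨l, hl⟩ * r * ⟨l, hl⟩⁻¹, hRn.conj_mem r hr ⟨l, hl⟩, rfl⟩
  have hLNW : L ≤ Subgroup.normalizer
      ((⁅Cfsg.sylowCenterClosure p L, (Cfsg.pResidual p ↥L).map L.subtype⁆ : Subgroup H) : Set H) :=
    le_normalizer_commutator hLNZ hLNR
  have hcomm := scc_comm L hL
  -- W ≤ Z
  have hWZ : ⁅Cfsg.sylowCenterClosure p L, (Cfsg.pResidual p ↥L).map L.subtype⁆ ≤
      Cfsg.sylowCenterClosure p L := by
    rw [Subgroup.commutator_le]
    intro z hz r hr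
    have h1 : r * z⁻¹ * r⁻¹ ∈ Cfsg.sylowCenterClosure p L :=
      conj_mem_of_mem_normalizer (hLNZ (hRL hr)) (Subgroup.inv_mem _ hz)
    have e : z * r * z⁻¹ * r⁻¹ = z * (r * z⁻¹ * r⁻¹) := by group
    show z * r * z⁻¹ * r⁻¹ ∈ _
    rw [e]
    exact Subgroup.mul_mem _ hz h1
  -- generators: commutators with L land in W
  have hgen : ∀ (S : Sylow p ↥L) (x : H), x ∈ (S : Subgroup ↥L).map L.subtype ⊓
      Subgroup.centralizer (((S : Subgroup ↥L).map L.subtype : Subgroup H) : Set H) →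
      x ^ p = 1 → ∀ l ∈ L, x * l * x⁻¹ * l⁻¹ ∈
        ⁅Cfsg.sylowCenterClosure p L, (Cfsg.pResidual p ↥L).map L.subtype⁆ := by
    intro S x hx hxp l hl
    have hg : (⟨l, hl⟩ : ↥L) ∈ ((Cfsg.pResidual p ↥L ⊔ (S : Subgroup ↥L) : Subgroup ↥L) : Set ↥L) := by
      rw [pResidual_sup_sylow]; trivial
    rw [Subgroup.normal_mul] at hg
    obtain ⟨r, hr, s, hs, hrs⟩ := Set.mem_mul.1 hg
    have hl' : l = (r : H) * (s : H) := by
      have := congrArg Subtype.val hrs
      simpa using this.symm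
    have hsx : (s : H) * x = x * (s : H) := by
      have hc := (Subgroup.mem_inf.1 hx).2
      rw [Subgroup.mem_centralizer_iff] at hc
      exact hc _ ⟨s, hs, rfl⟩
    have h2 : (s : H) * x⁻¹ * (s : H)⁻¹ = x⁻¹ := by
      have h3 : (s : H) * x⁻¹ = x⁻¹ * (s : H) := by
        calc (s : H) * x⁻¹ = x⁻¹ * (x * (s : H)) * x⁻¹ := by group
          _ = x⁻¹ * ((s : H) * x) * x⁻¹ := by rw [hsx]
          _ = x⁻¹ * (s : H) := by group
      rw [h3]; group
    have e : x * l * x⁻¹ * l⁻¹ = x * (r : H) * x⁻¹ * (r : H)⁻¹ := by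
      rw [hl']
      calc x * ((r : H) * (s : H)) * x⁻¹ * ((r : H) * (s : H))⁻¹
          = x * (r : H) * ((s : H) * x⁻¹ * (s : H)⁻¹) * (r : H)⁻¹ := by group
        _ = x * (r : H) * x⁻¹ * (r : H)⁻¹ := by rw [h2]
    rw [e]
    exact Subgroup.commutator_mem_commutator (scc_mem L S x hx hxp) ⟨r, hr, rfl⟩
  let U : Subgroup H :=
    { carrier := {z | z ∈ Cfsg.sylowCenterClosure p L ∧ ∀ l ∈ L, z * l * z⁻¹ * l⁻¹ ∈
        ⁅Cfsg.sylowCenterClosure p L, (Cfsg.pResidual p ↥L).map L.subtype⁆}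
      one_mem' := ⟨Subgroup.one_mem _, fun l hl => by simp⟩
      mul_mem' := by
        rintro a b ⟨ha, ha'⟩ ⟨hb, hb'⟩
        refine ⟨Subgroup.mul_mem _ ha hb, fun l hl => ?_⟩
        have e : a * b * l * (a * b)⁻¹ * l⁻¹ =
            a * (b * l * b⁻¹ * l⁻¹) * a⁻¹ * (a * l * a⁻¹ * l⁻¹) := by group
        rw [e]
        exact Subgroup.mul_mem _ (conj_mem_of_mem_normalizer (hLNW (hZL ha)) (hb' l hl)) (ha' l hl)
      inv_mem' := by
        rintro a ⟨ha, ha'⟩
        refine ⟨Subgroup.inv_mem _ ha, fun l hl => ?_⟩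
        have e : a⁻¹ * l * a⁻¹⁻¹ * l⁻¹ = a⁻¹ * (a * l * a⁻¹ * l⁻¹)⁻¹ * a⁻¹⁻¹ := by group
        rw [e]
        exact conj_mem_of_mem_normalizer (hLNW (hZL (Subgroup.inv_mem _ ha)))
          (Subgroup.inv_mem _ (ha' l hl)) }
  have hZU : Cfsg.sylowCenterClosure p L ≤ U :=
    scc_le L U (fun S x hx hxp => ⟨scc_mem L S x hx hxp, hgen S x hx hxp⟩)
  have hA : ⁅Cfsg.sylowCenterClosure p L, L⁆ ≤
      ⁅Cfsg.sylowCenterClosure p L, (Cfsg.pResidual p ↥L).map L.subtype⁆ := by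
    rw [Subgroup.commutator_le]
    intro z hz l hl
    exact (hZU hz).2 l hl
  refine ⟨le_antisymm ?_ (sup_le ?_ hWZ), le_antisymm hA (Subgroup.commutator_mono le_rfl hRL)⟩
  · apply scc_le
    intro S x hx hxp
    have hxL : x ∈ L := (Subgroup.map_subtype_le _) (Subgroup.mem_inf.1 hx).1
    have hVn : ((Cfsg.sylowCenterClosure p L).subgroupOf L).Normal :=
      Subgroup.normal_subgroupOf_of_le_normalizer hLNZ
    obtain ⟨c, w, hcV, hcc, hcp, hw, hxz, -⟩ := exists_central_mul_commutator (G := ↥L) S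
      ((Cfsg.sylowCenterClosure p L).subgroupOf L)
      (by
        intro a ha b hb
        apply Subtype.ext
        exact hcomm _ (Subgroup.mem_subgroupOf.1 ha) _ (Subgroup.mem_subgroupOf.1 hb))
      ⟨x, hxL⟩ (Subgroup.mem_subgroupOf.2 (scc_mem L S x hx hxp)) (Subtype.ext hxp) (by
        rw [Subgroup.mem_centralizer_iff]
        intro s hs
        apply Subtype.ext
        have hc := (Subgroup.mem_inf.1 hx).2
        rw [Subgroup.mem_centralizer_iff] at hc
        exact hc _ ⟨s, hs, rfl⟩)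
    have hc1 : (c : H) ∈ Cfsg.omegaOne p (L ⊓ Subgroup.centralizer ((L : Subgroup H) : Set H)) := by
      apply Subgroup.subset_closure
      refine ⟨Subgroup.mem_inf.2 ⟨c.2, ?_⟩, ?_⟩
      · rw [Subgroup.mem_centralizer_iff]
        intro l hl
        rw [Subgroup.mem_center_iff] at hcc
        exact congrArg Subtype.val (hcc ⟨l, hl⟩)
      · exact congrArg Subtype.val hcp
    have hw1 : (w : H) ∈ ⁅Cfsg.sylowCenterClosure p L, (Cfsg.pResidual p ↥L).map L.subtype⁆ := by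
      have h1 : (w : H) ∈ (⁅(Cfsg.sylowCenterClosure p L).subgroupOf L,
          Cfsg.pResidual p ↥L⁆).map L.subtype := ⟨w, hw, rfl⟩
      rw [Subgroup.map_commutator] at h1
      exact Subgroup.commutator_mono (by
        rw [Subgroup.subgroupOf_map_subtype]; exact inf_le_left) le_rfl h1
    have hK : Subgroup.zpowers (c * w) ≤
        ((Cfsg.omegaOne p (L ⊓ Subgroup.centralizer ((L : Subgroup H) : Set H))) ⊔
          ⁅Cfsg.sylowCenterClosure p L, (Cfsg.pResidual p ↥L).map L.subtype⁆).comap L.subtype := by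
      rw [Subgroup.zpowers_le, Subgroup.mem_comap]
      exact Subgroup.mul_mem _ (Subgroup.mem_sup_left hc1) (Subgroup.mem_sup_right hw1)
    exact hK hxz
  · unfold Cfsg.omegaOne
    rw [Subgroup.closure_le]
    rintro x ⟨hx, hxp⟩
    have hxL : x ∈ L := (Subgroup.mem_inf.1 hx).1
    have hxc := (Subgroup.mem_inf.1 hx).2
    rw [Subgroup.mem_centralizer_iff] at hxc
    have S : Sylow p ↥L := default
    have hxO : (⟨x, hxL⟩ : ↥L) ∈ Cfsg.pCore p ↥L := by
      apply hL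
      rw [Subgroup.mem_centralizer_iff]
      intro o _
      apply Subtype.ext
      exact hxc _ o.2
    apply scc_mem L S x _ hxp
    refine Subgroup.mem_inf.2 ⟨⟨⟨x, hxL⟩, pCore_le_sylow S hxO, rfl⟩, ?_⟩
    rw [Subgroup.mem_centralizer_iff]
    rintro _ ⟨s, _, rfl⟩
    exact hxc _ s.2

end Cfsg.Agent.S2823
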