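import Cfsg.Statements.S2824
import Mathlib
import Cfsg.Agent.Lib.Helper4.PReduced2
import Cfsg.Agent.Lib.Helper4.PClosed
import Cfsg.Agent.Lib.Helper4.Normalizer
import Cfsg.Agent.S2803

set_option autoImplicit false
open Cfsg

namespace Cfsg.Agent.S2824

/-- Let H be a finite group, p a prime, T a Sylow p-subgroup, L and M subgroups of characteristic p containing T, Y_L the largest p-reduced normal subgroup of L and T₀ = C_T(Y_L). If M·C_H(Y_L) = L·C_H(Y_L), then L* := N_M(T₀) has Y_{L*} = Y_L and L·C_H(Y_L) = L*·C_H(Y_L). -/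
theorem result {H : Type*} [Group H] [Finite H] {p : ℕ} [Fact p.Prime] (T : Sylow p H) (L M : Subgroup H) (hTL : (T : Subgroup H) ≤ L) (hTM : (T : Subgroup H) ≤ M) (hL : Subgroup.centralizer (Cfsg.pCore p ↥L : Set ↥L) ≤ Cfsg.pCore p ↥L) (hM : Subgroup.centralizer (Cfsg.pCore p ↥M : Set ↥M) ≤ Cfsg.pCore p ↥M) (T₀ : Subgroup H) (hT₀ : T₀ = (T : Subgroup H) ⊓ Subgroup.centralizer (((Cfsg.largestPReducedOf p L) : Subgroup H) : Set H)) (hfac : M ⊔ Subgroup.centralizer (((Cfsg.largestPReducedOf p L) : Subgroup H) : Set H) = L ⊔ Subgroup.centralizer (((Cfsg.largestPReducedOf p L) : Subgroup H) : Set H)) (Ls : Subgroup H) (hLs : Ls = M ⊓ Subgroup.normalizer ((T₀ : Subgroup H) : Set H)) : (Cfsg.largestPReducedOf p Ls) = (Cfsg.largestPReducedOf p L) ∧ L ⊔ Subgroup.centralizer (((Cfsg.largestPReducedOf p L) : Subgroup H) : Set H) = Ls ⊔ Subgroup.centralizer (((Cfsg.largestPReducedOf p L) : Subgroup H) : Set H) := by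
  classical
  have hLN : L ≤ Subgroup.normalizer ((Cfsg.largestPReducedOf p L : Subgroup H) : Set H) :=
    Cfsg.Agent.Lib.Helper4.le_normalizer_largestPReducedOf L
  have hCN : Subgroup.centralizer ((Cfsg.largestPReducedOf p L : Subgroup H) : Set H) ≤
      Subgroup.normalizer ((Cfsg.largestPReducedOf p L : Subgroup H) : Set H) :=
    Subgroup.centralizer_le_normalizer _
  have hYT : Cfsg.largestPReducedOf p L ≤ (T : Subgroup H) :=
    (Cfsg.Agent.Lib.Helper4.largestPReducedOf_le_pCoreOf L).trans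
      (Cfsg.Agent.Lib.Helper4.pCoreOf_le_sylow T L hTL)
  have hYC := Cfsg.Agent.Lib.Helper4.largestPReducedOf_le_centralizer (p := p) L
  have hMN : M ≤ Subgroup.normalizer ((Cfsg.largestPReducedOf p L : Subgroup H) : Set H) := by
    have h1 : M ≤ L ⊔ Subgroup.centralizer ((Cfsg.largestPReducedOf p L : Subgroup H) : Set H) := by
      rw [← hfac]; exact le_sup_left
    exact h1.trans (sup_le hLN hCN)
  have hTNC : (T : Subgroup H) ≤ Subgroup.normalizer
      ((Subgroup.centralizer ((Cfsg.largestPReducedOf p L : Subgroup H) : Set H) : Subgroup H) : Set H) :=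
    Cfsg.Agent.Lib.Helper4.le_normalizer_centralizer (hTL.trans hLN)
  have hTN₀ : (T : Subgroup H) ≤ Subgroup.normalizer (T₀ : Set H) := by
    rw [hT₀]
    exact Cfsg.Agent.Lib.Helper4.le_normalizer_inf Subgroup.le_normalizer hTNC
  have hT₀T : T₀ ≤ (T : Subgroup H) := by rw [hT₀]; exact inf_le_left
  have hT₀C : T₀ ≤ Subgroup.centralizer ((Cfsg.largestPReducedOf p L : Subgroup H) : Set H) := by
    rw [hT₀]; exact inf_le_right
  have hTLs : (T : Subgroup H) ≤ Ls := by rw [hLs]; exact le_inf hTM hTN₀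
  have hLsM : Ls ≤ M := by rw [hLs]; exact inf_le_left
  have hLsN : Ls ≤ Subgroup.normalizer (T₀ : Set H) := by rw [hLs]; exact inf_le_right
  have hT₀M : T₀ ≤ M := hT₀T.trans hTM
  -- (b)
  have hb : L ⊔ Subgroup.centralizer ((Cfsg.largestPReducedOf p L : Subgroup H) : Set H)
      = Ls ⊔ Subgroup.centralizer ((Cfsg.largestPReducedOf p L : Subgroup H) : Set H) := by
    apply le_antisymm
    · rw [← hfac]
      apply sup_le _ le_sup_right
      have hCMn : ((Subgroup.centralizer ((Cfsg.largestPReducedOf p L : Subgroup H) : Set H)).subgroupOf M).Normal := by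
        refine ⟨fun v hv l => ?_⟩
        rw [Subgroup.mem_subgroupOf] at hv ⊢
        exact Cfsg.Agent.Lib.Helper4.conj_mem_of_mem_normalizer
          (Cfsg.Agent.Lib.Helper4.le_normalizer_centralizer hMN l.2) hv
      obtain ⟨S, hS⟩ := Cfsg.Agent.Lib.Helper4.sylow_inf_normal (T.subtype hTM)
        ((Subgroup.centralizer ((Cfsg.largestPReducedOf p L : Subgroup H) : Set H)).subgroupOf M)
      have hfr := Sylow.normalizer_sup_eq_top S
      have hSmap : (S : Subgroup _).map
          ((Subgroup.centralizer ((Cfsg.largestPReducedOf p L : Subgroup H) : Set H)).subgroupOf M).subtype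
          = T₀.subgroupOf M := by
        rw [hS, Subgroup.subgroupOf_map_subtype, Sylow.coe_subtype, hT₀]
        ext x
        simp [Subgroup.mem_subgroupOf, Subgroup.mem_inf]
      rw [hSmap] at hfr
      intro m hm
      have hm' : (⟨m, hm⟩ : ↥M) ∈ ((Subgroup.normalizer ((T₀.subgroupOf M : Subgroup ↥M) : Set ↥M) ⊔
          (Subgroup.centralizer ((Cfsg.largestPReducedOf p L : Subgroup H) : Set H)).subgroupOf M :
            Subgroup ↥M) : Set ↥M) := by
        rw [hfr]; trivial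
      rw [Subgroup.mul_normal] at hm'
      obtain ⟨a, ha, c, hc, hac⟩ := hm'
      have hmac : m = (a : H) * (c : H) := by
        have := congrArg Subtype.val hac
        simpa using this.symm
      rw [hmac]
      apply Subgroup.mul_mem
      · apply Subgroup.mem_sup_left
        rw [hLs]
        refine Subgroup.mem_inf.2 ⟨a.2, ?_⟩
        have ha' : a ∈ Subgroup.normalizer ((T₀.subgroupOf M : Subgroup ↥M) : Set ↥M) := ha
        rw [Subgroup.mem_normalizer_iff] at ha' ⊢
        intro t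
        constructor
        · intro ht
          have h1 := (ha' ⟨t, hT₀M ht⟩).1 (Subgroup.mem_subgroupOf.2 ht)
          exact Subgroup.mem_subgroupOf.1 h1
        · intro ht
          have htM : t ∈ M := by
            have h1 := M.mul_mem (M.mul_mem (M.inv_mem a.2) (hT₀M ht)) a.2
            simpa [mul_assoc] using h1
          have h1 := (ha' ⟨t, htM⟩).2 (Subgroup.mem_subgroupOf.2 ht)
          exact Subgroup.mem_subgroupOf.1 h1
      · exact Subgroup.mem_sup_right (Subgroup.mem_subgroupOf.1 hc)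
    · apply sup_le _ le_sup_right
      refine hLsM.trans ?_
      rw [← hfac]
      exact le_sup_left
  have hYV : Cfsg.largestPReducedOf p L ≤ Cfsg.largestPReducedOf p Ls :=
    Cfsg.Agent.Lib.Helper4.largestPReducedOf_le_of_sup_eq T Ls L hTLs hTL hb.symm
  refine ⟨?_, hb⟩
  apply le_antisymm _ hYV
  have hV'red := Cfsg.Agent.Lib.Helper4.isPReducedNormal_largestPReduced p ↥Ls
  have hV'O := Cfsg.Agent.Lib.Helper4.IsPReducedNormal.le_pCore hV'red
  have hO'V := Cfsg.Agent.Lib.Helper4.IsPReducedNormal.pCore_le_centralizer hV'red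
  have hO'T₀ : Cfsg.pCoreOf p Ls ≤ T₀ := by
    rw [hT₀]
    apply le_inf (Cfsg.Agent.Lib.Helper4.pCoreOf_le_sylow T Ls hTLs)
    exact (Cfsg.Agent.Lib.Helper4.pCoreOf_le_centralizer_largestPReducedOf Ls).trans
      (Subgroup.centralizer_le hYV)
  have hT₀O' : T₀.subgroupOf Ls ≤ Cfsg.pCore p ↥Ls := by
    apply Cfsg.Agent.Lib.Helper4.le_pCore
    · refine ⟨fun v hv l => ?_⟩
      rw [Subgroup.mem_subgroupOf] at hv ⊢
      exact Cfsg.Agent.Lib.Helper4.conj_mem_of_mem_normalizer (hLsN l.2) hv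
    · exact (T.isPGroup'.to_le hT₀T).comap_of_injective _ (Subgroup.subtype_injective _)
  have h03 := (Cfsg.Agent.S2803.result (L := ↥L) hL (T.subtype hTL) (Cfsg.largestPReduced p ↥L)
    ⟨Cfsg.Agent.Lib.Helper4.isPReducedNormal_largestPReduced p ↥L, fun V hV => le_sSup hV⟩ _ rfl).2.2
  rintro _ ⟨v, hv, rfl⟩
  have hvT₀ : (v : H) ∈ T₀ := hO'T₀ ⟨v, hV'O hv, rfl⟩
  have hvL : (v : H) ∈ L := hTL (hT₀T hvT₀)
  refine ⟨⟨(v : H), hvL⟩, ?_, rfl⟩
  rw [h03]
  apply Subgroup.subset_closure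
  refine ⟨Subgroup.mem_inf.2 ⟨Subgroup.mem_inf.2 ⟨?_, ?_⟩, ?_⟩, ?_⟩
  · rw [Sylow.coe_subtype]
    exact Subgroup.mem_subgroupOf.2 (hT₀T hvT₀)
  · rw [Subgroup.mem_centralizer_iff]
    intro y hy
    apply Subtype.ext
    have h1 := hT₀C hvT₀
    rw [Subgroup.mem_centralizer_iff] at h1
    exact h1 _ ⟨y, hy, rfl⟩
  · rw [Subgroup.mem_centralizer_iff]
    intro t ht
    have htT₀ : (t : H) ∈ T₀ := by
      rw [hT₀]
      obtain ⟨ht1, ht2⟩ := Subgroup.mem_inf.1 ht
      rw [Sylow.coe_subtype] at ht1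
      refine Subgroup.mem_inf.2 ⟨Subgroup.mem_subgroupOf.1 ht1, ?_⟩
      rw [Subgroup.mem_centralizer_iff]
      rintro _ ⟨y, hy, rfl⟩
      rw [Subgroup.mem_centralizer_iff] at ht2
      exact congrArg Subtype.val (ht2 y hy)
    have h1 := hO'V (hT₀O' (Subgroup.mem_subgroupOf.2 htT₀ :
      (⟨(t : H), hTLs (hT₀T htT₀)⟩ : ↥Ls) ∈ T₀.subgroupOf Ls))
    rw [Subgroup.mem_centralizer_iff] at h1
    have h2 := h1 v hv
    apply Subtype.ext
    exact (congrArg Subtype.val h2).symm
  · apply Subtype.ext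
    have h1 := hV'red.2.1.2 v hv
    simpa using congrArg Subtype.val h1

end Cfsg.Agent.S2824
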