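import Cfsg.Statements.S2825
import Mathlib
import Cfsg.Agent.Lib.Helper4.PRedIn
import Cfsg.Agent.Lib.Helper4.PClosed

set_option autoImplicit false
open Cfsg

namespace Cfsg.Agent.S2825

open Cfsg.Agent.Lib.Helper4

theorem key {H : Type*} [Group H] [Finite H] {p : ℕ} [Fact p.Prime] (L : Subgroup H)
    (hL : L.IsSubnormal) :
    PRedIn p L (Cfsg.largestPReduced p H ⊓ L) ∧
    L ⊓ Subgroup.centralizer ((Cfsg.largestPReduced p H ⊓ L : Subgroup H) : Set H) ≤
      Subgroup.centralizer (Cfsg.largestPReduced p H : Set H) ∧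
    L ⊓ Subgroup.centralizer (Cfsg.largestPReduced p H : Set H) ≤
      Subgroup.centralizer ((Cfsg.largestPReducedOf p L : Subgroup H) : Set H) := by
  induction hL with
  | top =>
    refine ⟨?_, ?_, ?_⟩
    · rw [inf_top_eq]; exact pRedIn_largestPReduced p H
    · rw [inf_top_eq]; exact inf_le_right
    · have h1 : Cfsg.largestPReducedOf p (⊤ : Subgroup H) ≤ Cfsg.largestPReduced p H :=
        (pRedIn_largestPReducedOf (p := p) (⊤ : Subgroup H)).le_largestPReduced
      exact inf_le_right.trans (Subgroup.centralizer_le h1)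
  | step L K hLK hK hN ih =>
    obtain ⟨ih1, ih2, ih3⟩ := ih
    have hKL : K ≤ Subgroup.normalizer (L : Set H) :=
      (Subgroup.normal_subgroupOf_iff_le_normalizer hLK).1 hN
    have e : Cfsg.largestPReduced p H ⊓ K ⊓ L = Cfsg.largestPReduced p H ⊓ L := by
      rw [inf_assoc, inf_eq_right.2 hLK]
    have hA := ih1.inf_normal hLK hKL
    have hB := ih1.inf_centralizer_le hLK hKL
    rw [e] at hA hB
    refine ⟨hA, ?_, ?_⟩
    · intro x hx
      have hxL := (Subgroup.mem_inf.1 hx).1
      exact ih2 (Subgroup.mem_inf.2 ⟨hLK hxL, hB hx⟩)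
    · -- (X)
      have hKY : K ≤ Subgroup.normalizer ((Cfsg.largestPReducedOf p L : Subgroup H) : Set H) :=
        le_normalizer_largestPReducedOf_of_le_normalizer hKL
      obtain ⟨U, hUV, hUred, hUc⟩ := exists_pRedIn_le (p := p) hLK hKL _
        (Cfsg.largestPReducedOf p L) rfl (pRedIn_largestPReducedOf L) hKY
      have hUK : U ≤ Cfsg.largestPReducedOf p K := hUred.le_largestPReducedOf
      intro x hx
      have hxL := (Subgroup.mem_inf.1 hx).1
      have h1 : x ∈ Subgroup.centralizer ((Cfsg.largestPReducedOf p K : Subgroup H) : Set H) :=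
        ih3 (Subgroup.mem_inf.2 ⟨hLK hxL, (Subgroup.mem_inf.1 hx).2⟩)
      exact hUc (Subgroup.mem_inf.2 ⟨hxL, Subgroup.centralizer_le hUK h1⟩)


/-- Let L be a subnormal subgroup of the finite group H, p a prime, Y_H and Y_L the largest p-reduced normal subgroups. Then Y_H ∩ L = Y_H ∩ Y_L and this subgroup is a p-reduced normal subgroup of L; C_L(Y_L) = C_L(Y_H) = C_L(Y_H ∩ L); and if O^p(H) ≤ L, then [Y_L, L] = 1 if and only if [Y_H, H] = 1. -/
theorem result {H : Type*} [Group H] [Finite H] {p : ℕ} [Fact p.Prime] (L : Subgroup H) (hL : L.IsSubnormal) : Cfsg.largestPReduced p H ⊓ L = Cfsg.largestPReduced p H ⊓ (Cfsg.largestPReducedOf p L) ∧ Cfsg.IsPReducedNormal p ((Cfsg.largestPReduced p H ⊓ L).subgroupOf L) ∧ L ⊓ Subgroup.centralizer ((Cfsg.largestPReducedOf p L : Subgroup H) : Set H) = L ⊓ Subgroup.centralizer (Cfsg.largestPReduced p H : Set H) ∧ L ⊓ Subgroup.centralizer (Cfsg.largestPReduced p H : Set H) = L ⊓ Subgroup.centralizer ((Cfsg.largestPReduced p H ⊓ L : Subgroup H)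 : Set H) ∧ (Cfsg.pResidual p H ≤ L → (⁅(Cfsg.largestPReducedOf p L), L⁆ = ⊥ ↔ ⁅Cfsg.largestPReduced p H, (⊤ : Subgroup H)⁆ = ⊥)) := by
  classical
  obtain ⟨h1, h2, h3⟩ := key (p := p) L hL
  have hYL : Cfsg.largestPReducedOf p L ≤ L := largestPReducedOf_le L
  have hle : Cfsg.largestPReduced p H ⊓ L ≤ Cfsg.largestPReducedOf p L := h1.le_largestPReducedOf
  have h4 : L ⊓ Subgroup.centralizer ((Cfsg.largestPReducedOf p L : Subgroup H) : Set H) =
      L ⊓ Subgroup.centralizer (Cfsg.largestPReduced p H : Set H) := by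
    apply le_antisymm
    · intro x hx
      have hxL := (Subgroup.mem_inf.1 hx).1
      refine Subgroup.mem_inf.2 ⟨hxL, h2 (Subgroup.mem_inf.2 ⟨hxL, ?_⟩)⟩
      exact Subgroup.centralizer_le hle (Subgroup.mem_inf.1 hx).2
    · exact le_inf inf_le_left h3
  refine ⟨?_, ?_, h4, ?_, ?_⟩
  · apply le_antisymm
    · exact le_inf inf_le_left hle
    · exact inf_le_inf_left _ hYL
  · exact (pRedIn_iff_subgroupOf L _ inf_le_right).1 h1
  · apply le_antisymm
    · exact inf_le_inf_left _ (Subgroup.centralizer_le (fun y hy => (Subgroup.mem_inf.1 hy).1))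
    · exact le_inf inf_le_left h2
  · intro hRL
    rw [Subgroup.commutator_eq_bot_iff_le_centralizer,
      Subgroup.commutator_eq_bot_iff_le_centralizer, Subgroup.le_centralizer_iff,
      Subgroup.le_centralizer_iff (H := Cfsg.largestPReduced p H)]
    constructor
    · intro hLc
      have hLY : L ≤ Subgroup.centralizer (Cfsg.largestPReduced p H : Set H) := by
        intro x hx
        have : x ∈ L ⊓ Subgroup.centralizer ((Cfsg.largestPReducedOf p L : Subgroup H) : Set H) :=
          Subgroup.mem_inf.2 ⟨hx, hLc hx⟩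
        rw [h4] at this
        exact (Subgroup.mem_inf.1 this).2
      have hY := pRedIn_largestPReduced p H
      apply hY.2.2.2.2 ⊤ le_rfl (le_normalizer_of_normal inferInstance)
      intro d _
      have hRn : (Cfsg.pResidual p H).Normal := pResidual_normal p H
      obtain ⟨k, hk⟩ := (isPGroup_quotient_pResidual (G := H) (p := p))
        (QuotientGroup.mk d : H ⧸ Cfsg.pResidual p H)
      refine ⟨k, hLY (hRL ?_)⟩
      rw [← QuotientGroup.mk_pow, QuotientGroup.eq_one_iff] at hk
      exact hk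
    · intro hTc x hx
      have : x ∈ L ⊓ Subgroup.centralizer (Cfsg.largestPReduced p H : Set H) :=
        Subgroup.mem_inf.2 ⟨hx, hTc (Subgroup.mem_top x)⟩
      rw [← h4] at this
      exact (Subgroup.mem_inf.1 this).2

end Cfsg.Agent.S2825
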