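import Cfsg.Statements.S2826
import Mathlib
import Cfsg.Agent.Lib.Helper4.SylowCenter

set_option autoImplicit false
open Cfsg

namespace Cfsg.Agent.S2826

open Cfsg.Agent.Lib.Helper4


/-- Let H be a finite group of characteristic p, T a Sylow p-subgroup, and V a normal elementary abelian p-subgroup of H containing Ω₁(Z(T)). Then C_H(Ω₁(Z(T))) = C_H([V, O^p(H)] ∩ Ω₁(Z(T))), O^p(H) being generated by the elements of order prime to p. -/
theorem result {H : Type*} [Group H] [Finite H] {p : ℕ} [Fact p.Prime] (hH : Subgroup.centralizer (Cfsg.pCore p H : Set H) ≤ Cfsg.pCore p H) (T : Sylow p H) (V : Subgroup H) [V.Normal] (hV : Cfsg.IsElementaryAbelian p V) (hZV : (Cfsg.omegaOne p ((T : Subgroup H) ⊓ Subgroup.centralizer (((T : Subgroup H) : Subgroup H) : Set H))) ≤ V) : Subgroup.centralizer ((Cfsg.omegaOne p ((T : Subgroup H) ⊓ Subgroup.centralizer (((T : Subgroup H) : Subgroup H) : Set H))) : Set H) = Subgroup.centralizer (((⁅V, Cfsg.pResidual p H⁆ ⊓ (Cfsg.omegaOne p ((T : Subgroup H) ⊓ Subgroup.centralizer (((T : Subgroup H) : Subgroup H) : Set H))))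 : Subgroup H) : Set H) := by
  classical
  apply le_antisymm
  · exact Subgroup.centralizer_le (fun y hy => (Subgroup.mem_inf.1 hy).2)
  · intro g hg
    rw [Subgroup.mem_centralizer_iff] at hg
    have hcommV : ∀ a ∈ V, ∀ b ∈ V, a * b = b * a := by
      intro a ha b hb
      have hV1 := hV.1
      exact congrArg Subtype.val (mul_comm' (⟨a, ha⟩ : ↥V) ⟨b, hb⟩)
    have hle : Cfsg.omegaOne p ((T : Subgroup H) ⊓
        Subgroup.centralizer (((T : Subgroup H) : Subgroup H) : Set H)) ≤
        Subgroup.centralizer ({g} : Set H) := by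
      unfold Cfsg.omegaOne
      rw [Subgroup.closure_le]
      rintro x ⟨hx, hxp⟩
      have hxZ : x ∈ Cfsg.omegaOne p ((T : Subgroup H) ⊓
          Subgroup.centralizer (((T : Subgroup H) : Subgroup H) : Set H)) :=
        Subgroup.subset_closure ⟨hx, hxp⟩
      obtain ⟨c, w, hcV, hcc, hcp, hw, hxz, hcw⟩ := exists_central_mul_commutator T V hcommV x
        (hZV hxZ) hxp (Subgroup.mem_inf.1 hx).2
      have hcZ : c ∈ Cfsg.omegaOne p ((T : Subgroup H) ⊓
          Subgroup.centralizer (((T : Subgroup H) : Subgroup H) : Set H)) := by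
        apply Subgroup.subset_closure
        refine ⟨Subgroup.mem_inf.2 ⟨?_, ?_⟩, hcp⟩
        · apply pCore_le_sylow T
          apply hH
          rw [Subgroup.mem_centralizer_iff]
          intro o _
          rw [Subgroup.mem_center_iff] at hcc
          exact hcc o
        · rw [Subgroup.mem_centralizer_iff]
          intro t _
          rw [Subgroup.mem_center_iff] at hcc
          exact hcc t
      have hwZ : w ∈ Cfsg.omegaOne p ((T : Subgroup H) ⊓
          Subgroup.centralizer (((T : Subgroup H) : Subgroup H) : Set H)) := by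
        have e : w = c⁻¹ * (c * w) := by group
        rw [e]
        exact Subgroup.mul_mem _ (Subgroup.inv_mem _ hcZ)
          ((Subgroup.zpowers_le.2 hxZ) hcw)
      have hgw : w * g = g * w := hg w (Subgroup.mem_inf.2 ⟨hw, hwZ⟩)
      have hgc : g * c = c * g := by
        rw [Subgroup.mem_center_iff] at hcc
        exact hcc g
      have hcwg : c * w ∈ Subgroup.centralizer ({g} : Set H) := by
        rw [Subgroup.mem_centralizer_iff]
        intro h hh
        rw [Set.mem_singleton_iff] at hh
        subst hh
        calc h * (c * w) = (h * c) * w := by group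
          _ = c * (h * w) := by rw [hgc]; group
          _ = c * w * h := by rw [← hgw]; group
      exact (Subgroup.zpowers_le.2 hcwg) hxz
    rw [Subgroup.mem_centralizer_iff]
    intro z hz
    have := hle hz
    rw [Subgroup.mem_centralizer_iff] at this
    exact (this g rfl).symm

end Cfsg.Agent.S2826
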