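import Cfsg.Statements.S2827
import Mathlib
import Cfsg.Agent.Lib.Helper4.PClosed
import Cfsg.Agent.Lib.Helper4.Normalizer

set_option autoImplicit false
open Cfsg

namespace Cfsg.Agent.S2827

/-- Let H be a finite p-irreducible group (not p-closed, and O^p(H) lies in every normal subgroup that is not p-closed) and T a Sylow p-subgroup. Then H is generated by the conjugates of T and H = H'·T; O^p(H) ≤ H'; and for every normal subgroup Y of T not contained in O_p(H), O^p(H) = [O^p(H), Y] and O^p(H) is contained in the normal closure of Y in H. -/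
theorem result {H : Type*} [Group H] [Finite H] {p : ℕ} [Fact p.Prime] (hH : Cfsg.IsPIrreducible p H) (T : Sylow p H) : Subgroup.normalClosure ((T : Subgroup H) : Set H) = ⊤ ∧ commutator H ⊔ (T : Subgroup H) = ⊤ ∧ Cfsg.pResidual p H ≤ commutator H ∧ ∀ Y : Subgroup H, Y ≤ (T : Subgroup H) → (T : Subgroup H) ≤ Subgroup.normalizer (Y : Set H) → ¬ Y ≤ Cfsg.pCore p H → ⁅Cfsg.pResidual p H, Y⁆ = Cfsg.pResidual p H ∧ Cfsg.pResidual p H ≤ Subgroup.normalClosure (Y : Set H) := by
  classical
  obtain ⟨hncl, hirr⟩ := hH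
  have hRn : (Cfsg.pResidual p H).Normal := Cfsg.Agent.Lib.Helper4.pResidual_normal p H
  have hRT : Cfsg.pResidual p H ⊔ (T : Subgroup H) = ⊤ :=
    Cfsg.Agent.Lib.Helper4.pResidual_sup_sylow T
  -- (1)
  have h1 : Subgroup.normalClosure ((T : Subgroup H) : Set H) = ⊤ := by
    have hN : (Subgroup.normalClosure ((T : Subgroup H) : Set H)).Normal := inferInstance
    have hncN : ¬ Cfsg.IsPClosed p ↥(Subgroup.normalClosure ((T : Subgroup H) : Set H)) := by
      intro hcl
      have hT := Cfsg.Agent.Lib.Helper4.le_pCore_of_le_isPClosed_normal _ hcl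
        (Subgroup.le_normalClosure (H := (T : Subgroup H))) T.isPGroup'
      have hTeq : (T : Subgroup H) = Cfsg.pCore p H :=
        le_antisymm hT (Cfsg.Agent.Lib.Helper4.pCore_le_sylow T)
      apply hncl
      apply Cfsg.Agent.Lib.Helper4.isPClosed_of_normal_sylow T
      rw [hTeq]
      exact Cfsg.Agent.Lib.Helper4.pCore_normal p H
    have hR := hirr _ hN hncN
    rw [eq_top_iff, ← hRT]
    exact sup_le hR Subgroup.le_normalClosure
  -- (2)
  have h2 : commutator H ⊔ (T : Subgroup H) = ⊤ := by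
    have hnorm : (commutator H ⊔ (T : Subgroup H)).Normal := by
      have e : commutator H ⊔ (T : Subgroup H)
          = ((T : Subgroup H).map (Abelianization.of (G := H))).comap Abelianization.of := by
        rw [Subgroup.comap_map_eq, Abelianization.ker_of, sup_comm]
      rw [e]
      exact Subgroup.Normal.comap (Subgroup.normal_of_isMulCommutative _) _
    rw [eq_top_iff, ← h1]
    exact Subgroup.normalClosure_le_normal (le_sup_right (a := commutator H))
  -- (3)
  have h3 : Cfsg.pResidual p H ≤ commutator H :=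
    Cfsg.Agent.Lib.Helper4.pResidual_le_of_isPGroup_quotient
      (Cfsg.Agent.Lib.Helper4.isPGroup_quotient_of_sup_eq_top T.isPGroup' h2)
  refine ⟨h1, h2, h3, ?_⟩
  intro Y hYT hTY hYO
  have hYp : IsPGroup p Y := T.isPGroup'.to_le hYT
  -- second claim
  have hK : Cfsg.pResidual p H ≤ Subgroup.normalClosure (Y : Set H) := by
    have hN : (Subgroup.normalClosure (Y : Set H)).Normal := inferInstance
    apply hirr _ hN
    intro hcl
    exact hYO (Cfsg.Agent.Lib.Helper4.le_pCore_of_le_isPClosed_normal _ hcl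
      (Subgroup.le_normalClosure (H := Y)) hYp)
  refine ⟨?_, hK⟩
  set R := Cfsg.pResidual p H with hR
  set C : Subgroup H := ⁅R, Y⁆ with hC
  have hCR : C ≤ R := Subgroup.commutator_le_left R Y
  have hTR : (T : Subgroup H) ≤ Subgroup.normalizer (R : Set H) :=
    Cfsg.Agent.Lib.Helper4.le_normalizer_of_normal hRn
  have hCn : C.Normal := by
    apply Cfsg.Agent.Lib.Helper4.normal_of_normalizer_eq_top
    rw [eq_top_iff, ← hRT]
    exact sup_le (Subgroup.normalizer_commutator_ge_left R Y)
      (Cfsg.Agent.Lib.Helper4.le_normalizer_commutator hTR hTY)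
  have hDn : (C ⊔ Y).Normal := by
    apply Cfsg.Agent.Lib.Helper4.normal_of_normalizer_eq_top
    rw [eq_top_iff, ← hRT]
    refine sup_le ?_ (Cfsg.Agent.Lib.Helper4.le_normalizer_sup
      (Cfsg.Agent.Lib.Helper4.le_normalizer_of_normal hCn) hTY)
    apply Cfsg.Agent.Lib.Helper4.le_normalizer_of_conj_mem
    intro r hr d hd
    have hmap : (C ⊔ Y).map (MulAut.conj r).toMonoidHom ≤ C ⊔ Y := by
      rw [Subgroup.map_sup]
      apply sup_le
      · rintro _ ⟨c, hc, rfl⟩
        exact Subgroup.mem_sup_left (hCn.conj_mem c hc r)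
      · rintro _ ⟨y, hy, rfl⟩
        have e : (MulAut.conj r).toMonoidHom y = (r * y * r⁻¹ * y⁻¹) * y := by
          simp
        rw [e]
        have hcm : r * y * r⁻¹ * y⁻¹ ∈ C := Subgroup.commutator_mem_commutator hr hy
        exact Subgroup.mul_mem _ (Subgroup.mem_sup_left hcm)
          (Subgroup.mem_sup_right hy)
    exact hmap ⟨d, hd, rfl⟩
  have hRD : R ≤ C ⊔ Y :=
    hK.trans (Subgroup.normalClosure_le_normal (le_sup_right (a := C)))
  apply le_antisymm hCR
  rw [hR]
  unfold Cfsg.pResidual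
  rw [Subgroup.closure_le]
  intro g hg
  have hg' : Nat.Coprime (orderOf g) p := hg
  have hgD : g ∈ ((C ⊔ Y : Subgroup H) : Set H) :=
    hRD (Cfsg.Agent.Lib.Helper4.mem_pResidual_of_coprime hg')
  rw [Subgroup.normal_mul] at hgD
  obtain ⟨c, hc, y, hy, rfl⟩ := hgD
  obtain ⟨k, hk⟩ := hYp ⟨y, hy⟩
  have hyk : y ^ p ^ k = 1 := by
    have := congrArg Subtype.val hk
    simpa using this
  have e1 : (QuotientGroup.mk (c * y) : H ⧸ C) = QuotientGroup.mk y := by
    rw [QuotientGroup.mk_mul, (QuotientGroup.eq_one_iff c).2 hc, one_mul]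
  have e2 : orderOf (QuotientGroup.mk (c * y) : H ⧸ C) ∣ p ^ k := by
    apply orderOf_dvd_of_pow_eq_one
    rw [e1, ← QuotientGroup.mk_pow, hyk]; rfl
  have e3 : orderOf (QuotientGroup.mk (c * y) : H ⧸ C) ∣ orderOf (c * y) :=
    orderOf_map_dvd (QuotientGroup.mk' C) (c * y)
  have e4 : orderOf (QuotientGroup.mk (c * y) : H ⧸ C) = 1 :=
    Nat.eq_one_of_dvd_coprimes (Nat.Coprime.pow_right k hg') e3 e2
  rw [orderOf_eq_one_iff] at e4
  exact (QuotientGroup.eq_one_iff _).1 e4

end Cfsg.Agent.S2827
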