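import Cfsg.Statements.S2828
import Mathlib
import Cfsg.Agent.Lib.Helper4.PClosed
import Cfsg.Agent.Lib.Helper4.Normalizer

set_option autoImplicit false
open Cfsg

namespace Cfsg.Agent.S2828

/-- Let H be a finite group, p a prime and D a normal p-subgroup of H. Then H is p-irreducible if and only if H/D is p-irreducible, and H is strongly p-irreducible if and only if H/D is strongly p-irreducible. -/
theorem result {H : Type*} [Group H] [Finite H] {p : ℕ} [Fact p.Prime] (D : Subgroup H) [D.Normal] (hD : IsPGroup p ↥D) : (Cfsg.IsPIrreducible p H ↔ Cfsg.IsPIrreducible p (H ⧸ D)) ∧ (Cfsg.IsStronglyPIrreducible p H ↔ Cfsg.IsStronglyPIrreducible p (H ⧸ D)) := by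
  classical
  have hsurj := QuotientGroup.mk'_surjective D
  have hker : (QuotientGroup.mk' D).ker = D := QuotientGroup.ker_mk' D
  have hcl := Cfsg.Agent.Lib.Helper4.isPClosed_quotient_iff D hD
  have hres1 : ∀ N : Subgroup H, N.Normal → Cfsg.pResidual p H ≤ N →
      Cfsg.pResidual p (H ⧸ D) ≤ N.map (QuotientGroup.mk' D) := fun N _ h =>
    (Cfsg.Agent.Lib.Helper4.pResidual_quotient_le D).trans (Subgroup.map_mono h)
  have hres2 : ∀ N : Subgroup H, N.Normal →
      Cfsg.pResidual p (H ⧸ D) ≤ N.map (QuotientGroup.mk' D) → Cfsg.pResidual p H ≤ N := by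
    intro N hN h
    have := hN
    apply Cfsg.Agent.Lib.Helper4.pResidual_le_of_le_sup hD
    unfold Cfsg.pResidual
    rw [Subgroup.closure_le]
    intro g hg
    have hg' : Nat.Coprime (orderOf g) p := hg
    have h1 : (QuotientGroup.mk' D) g ∈ Cfsg.pResidual p (H ⧸ D) := by
      apply Cfsg.Agent.Lib.Helper4.mem_pResidual_of_coprime
      exact Nat.Coprime.coprime_dvd_left (orderOf_map_dvd (QuotientGroup.mk' D) g) hg'
    have h2 : g ∈ (N.map (QuotientGroup.mk' D)).comap (QuotientGroup.mk' D) := h h1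
    rw [Subgroup.comap_map_eq, hker] at h2
    exact h2
  refine ⟨⟨?_, ?_⟩, ⟨?_, ?_⟩⟩
  · rintro ⟨h1, h2⟩
    refine ⟨fun h => h1 (hcl.2 h), ?_⟩
    intro Nb hNb hNbcl
    have hNn : (Nb.comap (QuotientGroup.mk' D)).Normal := hNb.comap _
    have hmap : (Nb.comap (QuotientGroup.mk' D)).map (QuotientGroup.mk' D) = Nb :=
      Subgroup.map_comap_eq_self_of_surjective hsurj Nb
    have hDle : D ≤ Nb.comap (QuotientGroup.mk' D) := by
      have h0 := Subgroup.ker_le_comap (QuotientGroup.mk' D) Nb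
      rw [hker] at h0
      exact h0
    have hnot : ¬ Cfsg.IsPClosed p ↥(Nb.comap (QuotientGroup.mk' D)) := by
      intro hc
      apply hNbcl
      have h3 := (Cfsg.Agent.Lib.Helper4.isPClosed_map_iff D hD (Nb.comap (QuotientGroup.mk' D))).2
        (by rw [sup_eq_left.2 hDle]; exact hc)
      rw [hmap] at h3
      exact h3
    have h4 := hres1 _ hNn (h2 _ hNn hnot)
    rw [hmap] at h4
    exact h4
  · rintro ⟨h1, h2⟩
    refine ⟨fun h => h1 (hcl.1 h), ?_⟩
    intro N hN hNcl
    have := hN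
    apply hres2 N hN
    apply h2 _ (hN.map _ hsurj)
    intro hc
    have h3 := (Cfsg.Agent.Lib.Helper4.isPClosed_map_iff D hD N).1 hc
    obtain ⟨T⟩ : Nonempty (Sylow p H) := inferInstance
    have h4 := (Cfsg.Agent.Lib.Helper4.isPClosed_normal_iff T (N ⊔ D)).1 h3
    apply hNcl
    rw [Cfsg.Agent.Lib.Helper4.isPClosed_normal_iff T N]
    have e : (T : Subgroup H) ⊓ N = ((T : Subgroup H) ⊓ (N ⊔ D)) ⊓ N := by
      rw [inf_assoc, inf_eq_right.2 (le_sup_left : N ≤ N ⊔ D)]
    rw [e]
    infer_instance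
  · rintro ⟨h1, h2⟩
    refine ⟨fun h => h1 (hcl.2 h), ?_⟩
    intro Nb hNb hNbc
    have hNn : (Nb.comap (QuotientGroup.mk' D)).Normal := hNb.comap _
    have hmap : (Nb.comap (QuotientGroup.mk' D)).map (QuotientGroup.mk' D) = Nb :=
      Subgroup.map_comap_eq_self_of_surjective hsurj Nb
    have hnot : ¬ ⁅Nb.comap (QuotientGroup.mk' D), (⊤ : Subgroup H)⁆ ≤ Cfsg.pCore p H := by
      intro hc
      apply hNbc
      have h3 := Subgroup.map_mono (f := QuotientGroup.mk' D) hc
      rw [Subgroup.map_commutator, hmap, Subgroup.map_top_of_surjective _ hsurj,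
        Cfsg.Agent.Lib.Helper4.pCore_map_quotient D hD] at h3
      exact h3
    have h4 := hres1 _ hNn (h2 _ hNn hnot)
    rw [hmap] at h4
    exact h4
  · rintro ⟨h1, h2⟩
    refine ⟨fun h => h1 (hcl.1 h), ?_⟩
    intro N hN hNc
    apply hres2 N hN
    apply h2 _ (hN.map _ hsurj)
    intro hc
    apply hNc
    rw [← Cfsg.Agent.Lib.Helper4.pCore_comap_quotient D hD, ← Subgroup.map_le_iff_le_comap,
      Subgroup.map_commutator, Subgroup.map_top_of_surjective _ hsurj]
    exact hc

end Cfsg.Agent.S2828
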