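import Cfsg.Statements.S2829
import Mathlib
import Cfsg.Agent.Lib.Helper4.PCore

set_option autoImplicit false
open Cfsg

namespace Cfsg.Agent.S2829

open scoped commutatorElement

/-- Every strongly p-irreducible finite group is p-irreducible. -/
theorem result {H : Type*} [Group H] [Finite H] {p : ℕ} [Fact p.Prime] (hH : Cfsg.IsStronglyPIrreducible p H) : Cfsg.IsPIrreducible p H := by
  obtain ⟨h1, h2⟩ := hH
  refine ⟨h1, ?_⟩
  intro N hN hNc
  apply h2 N hN
  intro hle
  apply hNc
  intro P
  have hcore : (Cfsg.pCore p H).subgroupOf N ≤ (P : Subgroup N) := by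
    have hn : ((Cfsg.pCore p H).subgroupOf N).Normal := by
      have := Lib.Helper4.pCore_normal p H
      infer_instance
    exact (Lib.Helper4.pCore_isPGroup p H).comap_subtype.le_sylow_of_normal P
  constructor
  intro x hx n
  have hc : ⁅(n : H), (x : H)⁆ ∈ Cfsg.pCore p H :=
    hle (Subgroup.commutator_mem_commutator n.2 (Subgroup.mem_top _))
  have hc' : ⁅n, x⁆ ∈ (P : Subgroup N) := by
    apply hcore
    rw [Subgroup.mem_subgroupOf]
    exact hc
  have : n * x * n⁻¹ = ⁅n, x⁆ * x := by
    rw [commutatorElement_def]; group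
  rw [this]
  exact (P : Subgroup N).mul_mem hc' hx

end Cfsg.Agent.S2829
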