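import Cfsg.Statements.S2830
import Mathlib
import Cfsg.Agent.Lib.Helper4.PClosed
import Cfsg.Agent.Lib.Helper4.Normalizer

set_option autoImplicit false
open Cfsg

namespace Cfsg.Agent.S2830

/-- Let H act by conjugation on the elementary abelian p-subgroup V of a finite group G (H ≤ N(V)), with H p-irreducible and O^p(H) not centralizing V. Then C_H(V) is p-closed and C_T(V) ≤ O_p(H) for every p-subgroup T of H. If in addition O_p(H) centralizes V, then C_T(V) = T ∩ O_p(H) for every p-subgroup T of H, and V is p-reduced for H: O_p(H/C_H(V)) = 1. -/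
theorem result {G : Type*} [Group G] [Finite G] {p : ℕ} [Fact p.Prime] (V H : Subgroup G) (hV : Cfsg.IsElementaryAbelian p V) (hHV : H ≤ Subgroup.normalizer (V : Set G)) (hH : Cfsg.IsPIrreducible p ↥H) (hnc : ¬ (Cfsg.pResidual p ↥H).map H.subtype ≤ Subgroup.centralizer (V : Set G)) [hn : ((Subgroup.centralizer (V : Set G)).subgroupOf H).Normal] : Cfsg.IsPClosed p ↥(H ⊓ Subgroup.centralizer (V : Set G)) ∧ (∀ T : Subgroup G, T ≤ H → IsPGroup p ↥T → T ⊓ Subgroup.centralizer (V : Set G) ≤ Cfsg.pCoreOf p H) ∧ (Cfsg.pCoreOf p H ≤ Subgroup.centralizer (V : Set G) → (∀ T : Subgroup G, T ≤ H → IsPGroup p ↥T → T ⊓ Subgroup.centralizer (V : Set G) = T ⊓ Cfsg.pCoreOf p H) ∧ Cfsg.pCore p (↥H ⧸ (Subgroup.centralizer (V : Set G)).subgroupOf H) = ⊥) := by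
  classical
  obtain ⟨hncl, hirr⟩ := hH
  have hRC : ¬ Cfsg.pResidual p ↥H ≤ (Subgroup.centralizer (V : Set G)).subgroupOf H := by
    intro h
    apply hnc
    rintro _ ⟨x, hx, rfl⟩
    exact Subgroup.mem_subgroupOf.1 (h hx)
  have hCcl : Cfsg.IsPClosed p ↥((Subgroup.centralizer (V : Set G)).subgroupOf H) := by
    by_contra h
    exact hRC (hirr _ hn h)
  have h1 : Cfsg.IsPClosed p ↥(H ⊓ Subgroup.centralizer (V : Set G)) := by
    have e : (H ⊓ Subgroup.centralizer (V : Set G)).subgroupOf H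
        = (Subgroup.centralizer (V : Set G)).subgroupOf H :=
      Subgroup.inf_subgroupOf_left _ H
    have hcl' : Cfsg.IsPClosed p ↥((H ⊓ Subgroup.centralizer (V : Set G)).subgroupOf H) := by
      rw [e]; exact hCcl
    exact Cfsg.Agent.Lib.Helper4.isPClosed_of_equiv
      (Subgroup.subgroupOfEquivOfLe (inf_le_left : H ⊓ Subgroup.centralizer (V : Set G) ≤ H)) hcl'
  have h2 : ∀ T : Subgroup G, T ≤ H → IsPGroup p ↥T →
      T ⊓ Subgroup.centralizer (V : Set G) ≤ Cfsg.pCoreOf p H := by
    intro T hTH hTp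
    have hY : (T ⊓ Subgroup.centralizer (V : Set G)).subgroupOf H ≤ Cfsg.pCore p ↥H := by
      apply Cfsg.Agent.Lib.Helper4.le_pCore_of_le_isPClosed_normal
        ((Subgroup.centralizer (V : Set G)).subgroupOf H) hCcl
      · intro x hx
        exact Subgroup.mem_subgroupOf.2 (Subgroup.mem_subgroupOf.1 hx).2
      · exact (hTp.to_le inf_le_left).comap_of_injective H.subtype H.subtype_injective
    intro x hx
    exact ⟨⟨x, hTH hx.1⟩, hY (Subgroup.mem_subgroupOf.2 hx), rfl⟩
  refine ⟨h1, h2, ?_⟩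
  intro hO
  refine ⟨?_, ?_⟩
  · intro T hTH hTp
    apply le_antisymm
    · exact le_inf inf_le_left (h2 T hTH hTp)
    · exact inf_le_inf le_rfl hO
  · rw [eq_bot_iff]
    have hOn := Cfsg.Agent.Lib.Helper4.pCore_normal p
      (↥H ⧸ (Subgroup.centralizer (V : Set G)).subgroupOf H)
    have hQn : ((Cfsg.pCore p (↥H ⧸ (Subgroup.centralizer (V : Set G)).subgroupOf H)).comap
        (QuotientGroup.mk' ((Subgroup.centralizer (V : Set G)).subgroupOf H))).Normal :=
      hOn.comap _
    have hOC : Cfsg.pCore p ↥H ≤ (Subgroup.centralizer (V : Set G)).subgroupOf H := by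
      intro x hx
      exact Subgroup.mem_subgroupOf.2 (hO ⟨x, hx, rfl⟩)
    have hpow : ∀ x ∈ (Cfsg.pCore p (↥H ⧸ (Subgroup.centralizer (V : Set G)).subgroupOf H)).comap
        (QuotientGroup.mk' ((Subgroup.centralizer (V : Set G)).subgroupOf H)),
        ∃ k : ℕ, x ^ p ^ k ∈ (Subgroup.centralizer (V : Set G)).subgroupOf H := by
      intro x hx
      obtain ⟨k, hk⟩ := (Cfsg.Agent.Lib.Helper4.pCore_isPGroup p
        (↥H ⧸ (Subgroup.centralizer (V : Set G)).subgroupOf H))
        ⟨QuotientGroup.mk' ((Subgroup.centralizer (V : Set G)).subgroupOf H) x, hx⟩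
      refine ⟨k, ?_⟩
      have h3 : (QuotientGroup.mk' ((Subgroup.centralizer (V : Set G)).subgroupOf H) x) ^ p ^ k
          = 1 := by
        simpa using congrArg Subtype.val hk
      rw [← map_pow] at h3
      exact (QuotientGroup.eq_one_iff _).1 h3
    have hQcl : Cfsg.IsPClosed p ↥((Cfsg.pCore p
        (↥H ⧸ (Subgroup.centralizer (V : Set G)).subgroupOf H)).comap
        (QuotientGroup.mk' ((Subgroup.centralizer (V : Set G)).subgroupOf H))) := by
      by_contra h
      have hRQ := hirr _ hQn h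
      apply hRC
      unfold Cfsg.pResidual
      rw [Subgroup.closure_le]
      intro g hg
      have hg' : Nat.Coprime (orderOf g) p := hg
      obtain ⟨k, hk⟩ := hpow g (hRQ (Cfsg.Agent.Lib.Helper4.mem_pResidual_of_coprime hg'))
      obtain ⟨m, hm⟩ := exists_pow_eq_self_of_coprime (x := g) (n := p ^ k)
        (Nat.Coprime.pow_left k hg'.symm)
      rw [← hm]
      exact Subgroup.pow_mem _ hk m
    have hle := Cfsg.Agent.Lib.Helper4.le_of_isPClosed_of_pow_mem _ _ hpow hQcl hOC
    intro x hx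
    induction x using QuotientGroup.induction_on with
    | H y =>
      have hy : y ∈ (Subgroup.centralizer (V : Set G)).subgroupOf H := hle hx
      rw [Subgroup.mem_bot]
      exact (QuotientGroup.eq_one_iff y).2 hy

end Cfsg.Agent.S2830
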