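import Cfsg.Statements.S2831
import Mathlib
import Cfsg.Agent.Lib.Helper4.PClosed

set_option autoImplicit false
open Cfsg

namespace Cfsg.Agent.S2831

/-- Let H be a finite group with Sylow p-subgroup T such that H is T-minimal (H is generated by the conjugates of T and T lies in exactly one maximal subgroup of H). Then H is p-irreducible: H is not p-closed and O^p(H) lies in every normal subgroup of H that is not p-closed. -/
theorem result {H : Type*} [Group H] [Finite H] {p : ℕ} [Fact p.Prime] (T : Sylow p H) (hmin : Cfsg.IsMinimalOver (T : Subgroup H)) : Cfsg.IsPIrreducible p H := by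
  classical
  obtain ⟨hnc, M, ⟨hMco, hTM⟩, hMuniq⟩ := hmin
  -- every proper subgroup containing T lies in M
  have hle : ∀ K : Subgroup H, (T : Subgroup H) ≤ K → K ≠ ⊤ → K ≤ M := by
    intro K hTK hK
    obtain ⟨M', hM', hKM'⟩ := (eq_top_or_exists_le_coatom K).resolve_left hK
    have := hMuniq M' ⟨hM', hTK.trans hKM'⟩
    rw [← this]; exact hKM'
  refine ⟨?_, ?_⟩
  · intro hcl
    have hTn : (T : Subgroup H).Normal := hcl T
    rw [Subgroup.normalClosure_eq_self] at hnc
    exact hMco.1 (top_le_iff.1 (hnc ▸ hTM))
  · intro N hN hNcl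
    have hsup : N ⊔ (T : Subgroup H) = ⊤ := by
      by_contra hne
      have hNM : N ⊔ (T : Subgroup H) ≤ M := hle _ le_sup_right hne
      obtain ⟨S, hS⟩ := Cfsg.Agent.Lib.Helper4.sylow_inf_normal T N
      have hfr := Sylow.normalizer_sup_eq_top S
      have hSmap : (S : Subgroup N).map N.subtype = (T : Subgroup H) ⊓ N := by
        rw [hS, Subgroup.subgroupOf_map_subtype]
      rw [hSmap] at hfr
      have hTnorm : (T : Subgroup H) ≤ Subgroup.normalizer (((T : Subgroup H) ⊓ N : Subgroup H) : Set H) := by
        intro t ht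
        rw [Subgroup.mem_normalizer_iff]
        intro x
        simp only [Subgroup.mem_inf]
        constructor
        · rintro ⟨h1, h2⟩
          exact ⟨(T : Subgroup H).mul_mem ((T : Subgroup H).mul_mem ht h1) ((T : Subgroup H).inv_mem ht),
            hN.conj_mem x h2 t⟩
        · rintro ⟨h1, h2⟩
          refine ⟨?_, ?_⟩
          · have := (T : Subgroup H).mul_mem ((T : Subgroup H).mul_mem ((T : Subgroup H).inv_mem ht) h1) ht
            simpa [mul_assoc] using this
          · have := hN.conj_mem _ h2 t⁻¹
            simpa [mul_assoc] using this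
      by_cases hnt : Subgroup.normalizer (((T : Subgroup H) ⊓ N : Subgroup H) : Set H) = ⊤
      · apply hNcl
        apply Cfsg.Agent.Lib.Helper4.isPClosed_of_normal_inf T N
        exact Subgroup.normalizer_eq_top_iff.1 hnt
      · have h1 := hle _ hTnorm hnt
        have h2 : (⊤ : Subgroup H) ≤ M := by
          rw [← hfr]
          exact sup_le h1 (le_sup_left.trans hNM)
        exact hMco.1 (top_le_iff.1 h2)
    exact Cfsg.Agent.Lib.Helper4.pResidual_le_of_isPGroup_quotient
      (Cfsg.Agent.Lib.Helper4.isPGroup_quotient_of_sup_eq_top T.isPGroup' hsup)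

end Cfsg.Agent.S2831
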