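import Cfsg.Statements.S2832
import Mathlib
import Cfsg.Agent.Lib.Helper4.PClosed
import Cfsg.Agent.Lib.Helper4.Coatom

set_option autoImplicit false
open Cfsg

namespace Cfsg.Agent.S2832

/-- Let H be a finite group with Sylow p-subgroup T such that H is T-minimal (generated by the conjugates of T, with T in exactly one maximal subgroup), and let N be a normal subgroup of H. Then either H/N is a p-group or H/N is minimal over the image of T in the same sense. -/
theorem result {H : Type*} [Group H] [Finite H] {p : ℕ} [Fact p.Prime] (T : Sylow p H) (hmin : Cfsg.IsMinimalOver (T : Subgroup H)) (N : Subgroup H) [N.Normal] : IsPGroup p (H ⧸ N) ∨ Cfsg.IsMinimalOver ((T : Subgroup H).map (QuotientGroup.mk' N)) := by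
  classical
  obtain ⟨hnc, M, ⟨hMco, hTM⟩, hMuniq⟩ := hmin
  have hle : ∀ K : Subgroup H, (T : Subgroup H) ≤ K → K ≠ ⊤ → K ≤ M := by
    intro K hTK hK
    obtain ⟨M', hM', hKM'⟩ := (eq_top_or_exists_le_coatom K).resolve_left hK
    have := hMuniq M' ⟨hM', hTK.trans hKM'⟩
    rw [← this]; exact hKM'
  have hsurj : Function.Surjective (QuotientGroup.mk' N) := QuotientGroup.mk'_surjective N
  have hker : (QuotientGroup.mk' N).ker = N := QuotientGroup.ker_mk' N
  by_cases hNM : N ≤ M
  · right
    refine ⟨?_, M.map (QuotientGroup.mk' N), ⟨?_, Subgroup.map_mono hTM⟩, ?_⟩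
    · rw [Subgroup.coe_map, ← Subgroup.map_normalClosure _ _ hsurj, hnc,
        Subgroup.map_top_of_surjective _ hsurj]
    · exact Cfsg.Agent.Lib.Helper4.isCoatom_map_of_surjective hsurj hMco (by rw [hker]; exact hNM)
    · rintro K ⟨hKco, hTK⟩
      have h1 := Cfsg.Agent.Lib.Helper4.isCoatom_comap_of_surjective hsurj hKco
      have h2 : (T : Subgroup H) ≤ K.comap (QuotientGroup.mk' N) :=
        Subgroup.map_le_iff_le_comap.1 hTK
      have h3 := hMuniq _ ⟨h1, h2⟩
      rw [← h3, Subgroup.map_comap_eq_self_of_surjective hsurj]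
  · left
    have hsup : N ⊔ (T : Subgroup H) = ⊤ := by
      by_contra hne
      exact hNM (le_sup_left.trans (hle _ le_sup_right hne))
    exact Cfsg.Agent.Lib.Helper4.isPGroup_quotient_of_sup_eq_top T.isPGroup' hsup

end Cfsg.Agent.S2832
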