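import Cfsg.Statements.S2833
import Mathlib
import Cfsg.Agent.Lib.Helper4.Normalizer

set_option autoImplicit false
open Cfsg

namespace Cfsg.Agent.S2833

open Cfsg.Agent.Lib.Helper4

theorem exists_mul_of_mem_sup {G : Type*} [Group G] {A B : Subgroup G}
    (h : B ≤ Subgroup.normalizer (A : Set G)) {w : G} (hw : w ∈ A ⊔ B) :
    ∃ a ∈ A, ∃ b ∈ B, w = a * b := by
  let S : Subgroup G :=
    { carrier := {w | ∃ a ∈ A, ∃ b ∈ B, w = a * b}
      one_mem' := ⟨1, A.one_mem, 1, B.one_mem, by simp⟩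
      mul_mem' := by
        rintro _ _ ⟨a, ha, b, hb, rfl⟩ ⟨a', ha', b', hb', rfl⟩
        refine ⟨a * (b * a' * b⁻¹), A.mul_mem ha (conj_mem_of_mem_normalizer (h hb) ha'),
          b * b', B.mul_mem hb hb', by group⟩
      inv_mem' := by
        rintro _ ⟨a, ha, b, hb, rfl⟩
        refine ⟨b⁻¹ * a⁻¹ * b⁻¹⁻¹,
          conj_mem_of_mem_normalizer (h (B.inv_mem hb)) (A.inv_mem ha), b⁻¹, B.inv_mem hb,
          by group⟩ }
  have hA : A ≤ S := fun a ha => ⟨a, ha, 1, B.one_mem, by simp⟩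
  have hB : B ≤ S := fun b hb => ⟨1, A.one_mem, b, hb, by simp⟩
  exact (sup_le hA hB) hw

theorem commutator_le_left_of_le_normalizer {G : Type*} [Group G] {V K : Subgroup G}
    (hK : K ≤ Subgroup.normalizer (V : Set G)) : ⁅V, K⁆ ≤ V := by
  rw [Subgroup.commutator_le]
  intro v hv k hk
  show v * k * v⁻¹ * k⁻¹ ∈ V
  have h1 : k * v⁻¹ * k⁻¹ ∈ V := conj_mem_of_mem_normalizer (hK hk) (V.inv_mem hv)
  have e : v * k * v⁻¹ * k⁻¹ = v * (k * v⁻¹ * k⁻¹) := by group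
  rw [e]; exact V.mul_mem hv h1

theorem left_le_normalizer_commutator {G : Type*} [Group G] (V K : Subgroup G) :
    V ≤ Subgroup.normalizer ((⁅V, K⁆ : Subgroup G) : Set G) := by
  apply le_normalizer_of_conj_mem
  intro u hu w hw
  have h1 : ⁅V, K⁆ ≤ (⁅V, K⁆ : Subgroup G).comap (MulAut.conj u).toMonoidHom := by
    rw [Subgroup.commutator_le]
    intro v hv k hk
    rw [Subgroup.mem_comap]
    show u * (v * k * v⁻¹ * k⁻¹) * u⁻¹ ∈ _
    have e : u * (v * k * v⁻¹ * k⁻¹) * u⁻¹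
        = ((u * v) * k * (u * v)⁻¹ * k⁻¹) * (u * k * u⁻¹ * k⁻¹)⁻¹ := by group
    rw [e]
    exact Subgroup.mul_mem _ (Subgroup.commutator_mem_commutator (V.mul_mem hu hv) hk)
      (Subgroup.inv_mem _ (Subgroup.commutator_mem_commutator hu hk))
  exact h1 hw

theorem mem_centralizer_of_sup {G : Type*} [Group G] {X Y L : Subgroup G} (hgen : X ⊔ Y = L)
    {b : G} (hX : b ∈ Subgroup.centralizer (X : Set G))
    (hY : b ∈ Subgroup.centralizer (Y : Set G)) : b ∈ Subgroup.centralizer (L : Set G) := by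
  have h1 : X ≤ Subgroup.centralizer ({b} : Set G) := by
    intro x hx
    rw [Subgroup.mem_centralizer_iff]
    intro c hc
    rw [Set.mem_singleton_iff] at hc
    subst hc
    exact (Subgroup.mem_centralizer_iff.1 hX x hx).symm
  have h2 : Y ≤ Subgroup.centralizer ({b} : Set G) := by
    intro x hx
    rw [Subgroup.mem_centralizer_iff]
    intro c hc
    rw [Set.mem_singleton_iff] at hc
    subst hc
    exact (Subgroup.mem_centralizer_iff.1 hY x hx).symm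
  have h3 : L ≤ Subgroup.centralizer ({b} : Set G) := hgen ▸ sup_le h1 h2
  rw [Subgroup.mem_centralizer_iff]
  intro l hl
  exact (Subgroup.mem_centralizer_iff.1 (h3 hl) b rfl).symm

theorem core {G : Type*} [Group G] (V L X Y : Subgroup G)
    (hLV : L ≤ Subgroup.normalizer (V : Set G)) (hX : X ≤ L) (hY : Y ≤ L)
    (hgen : X ⊔ Y = L) (hqX : ⁅⁅V, X⁆, X⁆ = ⊥) (hqY : ⁅⁅V, Y⁆, Y⁆ = ⊥)
    (hconj : ∀ b ∈ ⁅V, Y⁆, ∃ h ∈ L, h * b * h⁻¹ ∈ ⁅V, X⁆) :
    ⁅V, X⁆ ⊔ ⁅V, Y⁆ = ⁅V, L⁆ ∧ ⁅V, L⁆ ⊓ Subgroup.centralizer (X : Set G) = ⁅V, X⁆ := by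
  have hVXV : ⁅V, X⁆ ≤ V := commutator_le_left_of_le_normalizer (hX.trans hLV)
  have hVYV : ⁅V, Y⁆ ≤ V := commutator_le_left_of_le_normalizer (hY.trans hLV)
  have hcX : ⁅V, X⁆ ≤ Subgroup.centralizer (X : Set G) :=
    Subgroup.commutator_eq_bot_iff_le_centralizer.1 hqX
  have hcY : ⁅V, Y⁆ ≤ Subgroup.centralizer (Y : Set G) :=
    Subgroup.commutator_eq_bot_iff_le_centralizer.1 hqY
  obtain ⟨W₀, hW₀⟩ : ∃ W₀, W₀ = ⁅V, X⁆ ⊔ ⁅V, Y⁆ := ⟨_, rfl⟩
  have hXle : ⁅V, X⁆ ≤ W₀ := hW₀ ▸ le_sup_left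
  have hYle : ⁅V, Y⁆ ≤ W₀ := hW₀ ▸ le_sup_right
  -- X normalizes W₀
  have hXN : X ≤ Subgroup.normalizer (W₀ : Set G) := by
    apply le_normalizer_of_conj_mem
    intro x hx w hw
    have h1 : W₀ ≤ W₀.comap (MulAut.conj x).toMonoidHom := by
      rw [hW₀]
      apply sup_le
      · intro c hc
        rw [Subgroup.mem_comap]
        show x * c * x⁻¹ ∈ _
        have h2 : x * c = c * x := Subgroup.mem_centralizer_iff.1 (hcX hc) x hx
        rw [h2, mul_inv_cancel_right]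
        exact le_sup_left (a := ⁅V, X⁆) hc
      · intro c hc
        rw [Subgroup.mem_comap]
        show x * c * x⁻¹ ∈ _
        have h2 : x * c * x⁻¹ * c⁻¹ ∈ ⁅V, X⁆ := by
          rw [Subgroup.commutator_comm]
          exact Subgroup.commutator_mem_commutator hx (hVYV hc)
        have e : x * c * x⁻¹ = (x * c * x⁻¹ * c⁻¹) * c := by group
        rw [e]
        exact Subgroup.mul_mem _ (le_sup_left (a := ⁅V, X⁆) h2) (le_sup_right (a := ⁅V, X⁆) hc)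
    exact h1 hw
  have hYN : Y ≤ Subgroup.normalizer (W₀ : Set G) := by
    apply le_normalizer_of_conj_mem
    intro x hx w hw
    have h1 : W₀ ≤ W₀.comap (MulAut.conj x).toMonoidHom := by
      rw [hW₀]
      apply sup_le
      · intro c hc
        rw [Subgroup.mem_comap]
        show x * c * x⁻¹ ∈ _
        have h2 : x * c * x⁻¹ * c⁻¹ ∈ ⁅V, Y⁆ := by
          rw [Subgroup.commutator_comm]
          exact Subgroup.commutator_mem_commutator hx (hVXV hc)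
        have e : x * c * x⁻¹ = (x * c * x⁻¹ * c⁻¹) * c := by group
        rw [e]
        exact Subgroup.mul_mem _ (le_sup_right (a := ⁅V, X⁆) h2) (le_sup_left (a := ⁅V, X⁆) hc)
      · intro c hc
        rw [Subgroup.mem_comap]
        show x * c * x⁻¹ ∈ _
        have h2 : x * c = c * x := Subgroup.mem_centralizer_iff.1 (hcY hc) x hx
        rw [h2, mul_inv_cancel_right]
        exact le_sup_right (a := ⁅V, X⁆) hc
    exact h1 hw
  let T : Subgroup G :=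
    { carrier := {l | l ∈ Subgroup.normalizer (W₀ : Set G) ∧ ∀ v ∈ V, v * l * v⁻¹ * l⁻¹ ∈ W₀}
      one_mem' := ⟨Subgroup.one_mem _, fun v _ => by simp⟩
      mul_mem' := by
        rintro l₁ l₂ ⟨h1, h1'⟩ ⟨h2, h2'⟩
        refine ⟨Subgroup.mul_mem _ h1 h2, fun v hv => ?_⟩
        have e : v * (l₁ * l₂) * v⁻¹ * (l₁ * l₂)⁻¹
            = (v * l₁ * v⁻¹ * l₁⁻¹) * (l₁ * (v * l₂ * v⁻¹ * l₂⁻¹) * l₁⁻¹) := by group
        rw [e]
        exact W₀.mul_mem (h1' v hv) (conj_mem_of_mem_normalizer h1 (h2' v hv))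
      inv_mem' := by
        rintro l ⟨h1, h1'⟩
        refine ⟨Subgroup.inv_mem _ h1, fun v hv => ?_⟩
        have e : v * l⁻¹ * v⁻¹ * l⁻¹⁻¹ = l⁻¹ * (v * l * v⁻¹ * l⁻¹)⁻¹ * l⁻¹⁻¹ := by group
        rw [e]
        exact conj_mem_of_mem_normalizer (Subgroup.inv_mem _ h1) (W₀.inv_mem (h1' v hv)) }
  have hXT : X ≤ T := fun x hx =>
    ⟨hXN hx, fun v hv => hXle (Subgroup.commutator_mem_commutator hv hx)⟩
  have hYT : Y ≤ T := fun x hx =>
    ⟨hYN hx, fun v hv => hYle (Subgroup.commutator_mem_commutator hv hx)⟩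
  have hLT : L ≤ T := hgen ▸ sup_le hXT hYT
  have hWle : ⁅V, L⁆ ≤ W₀ := by
    rw [Subgroup.commutator_le]
    intro v hv l hl
    exact (hLT hl).2 v hv
  have h1 : ⁅V, X⁆ ⊔ ⁅V, Y⁆ = ⁅V, L⁆ := by
    rw [← hW₀]
    exact le_antisymm (hW₀ ▸ sup_le (Subgroup.commutator_mono le_rfl hX)
      (Subgroup.commutator_mono le_rfl hY)) hWle
  refine ⟨h1, ?_⟩
  apply le_antisymm
  · intro w hw
    obtain ⟨hwW, hwC⟩ := Subgroup.mem_inf.1 hw
    rw [← h1] at hwW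
    obtain ⟨a, ha, b, hb, rfl⟩ := exists_mul_of_mem_sup
      (hVYV.trans (left_le_normalizer_commutator V X)) hwW
    have hbX : b ∈ Subgroup.centralizer (X : Set G) := by
      have e : b = a⁻¹ * (a * b) := by group
      rw [e]
      exact Subgroup.mul_mem _ (Subgroup.inv_mem _ (hcX ha)) hwC
    have hbL : b ∈ Subgroup.centralizer (L : Set G) := mem_centralizer_of_sup hgen hbX (hcY hb)
    obtain ⟨h, hh, hhb⟩ := hconj b hb
    have e2 : h * b = b * h := Subgroup.mem_centralizer_iff.1 hbL h hh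
    rw [e2, mul_inv_cancel_right] at hhb
    exact Subgroup.mul_mem _ ha hhb
  · exact le_inf (Subgroup.commutator_mono le_rfl hX) hcX


/-- Let V be a subgroup of a finite group G normalized by the subgroup L, let X ≤ L and g ∈ L with [V, X, X] = 1 and L generated by X and gXg⁻¹. Put W = [V, L]. Then W = [V, X]·[V, gXg⁻¹], C_W(X) = [V, X], and C_W(L) = [V, X] ∩ [V, gXg⁻¹]. -/
theorem result {G : Type*} [Group G] [Finite G] (V L : Subgroup G) (hLV : L ≤ Subgroup.normalizer (V : Set G)) (X : Subgroup G) (hX : X ≤ L) (g : G) (hg : g ∈ L) (hq : ⁅⁅V, X⁆, X⁆ = ⊥) (hgen : X ⊔ X.map (MulAut.conj g).toMonoidHom = L) (W : Subgroup G) (hW : W = ⁅V, L⁆) : ⁅V, X⁆ ⊔ ⁅V, X.map (MulAut.conj g).toMonoidHom⁆ = W ∧ W ⊓ Subgroup.centralizer (X : Set G) = ⁅V, X⁆ ∧ W ⊓ Subgroup.centralizer (L : Set G) = ⁅V, X⁆ ⊓ ⁅V, X.map (MulAut.conj g).toMonoidHom⁆ := by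
  subst hW
  obtain ⟨Y, hYdef⟩ : ∃ Y, Y = X.map (MulAut.conj g).toMonoidHom := ⟨_, rfl⟩
  rw [← hYdef] at hgen ⊢
  have hY : Y ≤ L := by
    rw [hYdef]
    rintro _ ⟨x, hx, rfl⟩
    exact L.mul_mem (L.mul_mem hg (hX hx)) (L.inv_mem hg)
  have hVg : V.map (MulAut.conj g).toMonoidHom = V := map_conj_eq_of_mem_normalizer (hLV hg)
  have hVY : ⁅V, Y⁆ = (⁅V, X⁆ : Subgroup G).map (MulAut.conj g).toMonoidHom := by
    rw [Subgroup.map_commutator, hVg, hYdef]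
  have hqY : ⁅⁅V, Y⁆, Y⁆ = ⊥ := by
    have : ⁅⁅V, Y⁆, Y⁆ = (⁅⁅V, X⁆, X⁆ : Subgroup G).map (MulAut.conj g).toMonoidHom := by
      rw [Subgroup.map_commutator, ← hVY, hYdef]
    rw [this, hq, Subgroup.map_bot]
  have hc1 : ∀ b ∈ ⁅V, Y⁆, ∃ h ∈ L, h * b * h⁻¹ ∈ ⁅V, X⁆ := by
    intro b hb
    rw [hVY] at hb
    obtain ⟨a, ha, rfl⟩ := hb
    refine ⟨g⁻¹, L.inv_mem hg, ?_⟩
    have e : g⁻¹ * (MulAut.conj g).toMonoidHom a * g⁻¹⁻¹ = a := by
      simp only [MulEquiv.coe_toMonoidHom, MulAut.conj_apply, inv_inv]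
      group
    rw [e]; exact ha
  have hc2 : ∀ b ∈ ⁅V, X⁆, ∃ h ∈ L, h * b * h⁻¹ ∈ ⁅V, Y⁆ := by
    intro b hb
    refine ⟨g, hg, ?_⟩
    rw [hVY]
    exact ⟨b, hb, rfl⟩
  obtain ⟨h1, h2⟩ := core V L X Y hLV hX hY hgen hq hqY hc1
  obtain ⟨-, h4⟩ := core V L Y X hLV hY hX (sup_comm X Y ▸ hgen) hqY hq hc2
  refine ⟨h1, h2, ?_⟩
  have hcX : ⁅V, X⁆ ≤ Subgroup.centralizer (X : Set G) :=
    Subgroup.commutator_eq_bot_iff_le_centralizer.1 hq
  have hcY : ⁅V, Y⁆ ≤ Subgroup.centralizer (Y : Set G) :=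
    Subgroup.commutator_eq_bot_iff_le_centralizer.1 hqY
  apply le_antisymm
  · intro w hw
    obtain ⟨hwW, hwC⟩ := Subgroup.mem_inf.1 hw
    refine Subgroup.mem_inf.2 ⟨?_, ?_⟩
    · exact h2.le (Subgroup.mem_inf.2 ⟨hwW, Subgroup.centralizer_le hX hwC⟩)
    · exact h4.le (Subgroup.mem_inf.2 ⟨hwW, Subgroup.centralizer_le hY hwC⟩)
  · intro w hw
    obtain ⟨hwX, hwY⟩ := Subgroup.mem_inf.1 hw
    exact Subgroup.mem_inf.2 ⟨Subgroup.commutator_mono le_rfl hX hwX,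
      mem_centralizer_of_sup hgen (hcX hwX) (hcY hwY)⟩

end Cfsg.Agent.S2833
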