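import Cfsg.Statements.S2835
import Mathlib
import Cfsg.Agent.Lib.Helper4.PClosed
import Cfsg.Agent.Lib.Helper4.Coatom
import Cfsg.Agent.Lib.Helper4.Normalizer

set_option autoImplicit false
open Cfsg

namespace Cfsg.Agent.S2835

/-- Let L be a finite group, L₀ a maximal subgroup, T a Sylow p-subgroup of L₀ and Y ≤ T, and suppose L is Y-minimal (generated by the conjugates of Y, with Y in exactly one maximal subgroup, necessarily L₀). Then N_L(T) ≤ L₀, O_p(L) ≤ L₀ and T is a Sylow p-subgroup of L; N_L(L₀) = L₀; L = ⟨Y, gYg⁻¹⟩ for each g ∈ L outside L₀; and if Y is abelian then Y ∩ gYg⁻¹ = C_Y(L) for each such g. -/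
theorem result {L : Type*} [Group L] [Finite L] {p : ℕ} [Fact p.Prime] (L₀ : Subgroup L) (hL₀ : IsCoatom L₀) (T : Sylow p ↥L₀) (Y : Subgroup L) (hYT : Y ≤ (T : Subgroup ↥L₀).map L₀.subtype) (hmin : Cfsg.IsMinimalOver Y) : Subgroup.normalizer (((T : Subgroup ↥L₀).map L₀.subtype : Subgroup L) : Set L) ≤ L₀ ∧ Cfsg.pCore p L ≤ L₀ ∧ (∃ P : Sylow p L, (P : Subgroup L) = (T : Subgroup ↥L₀).map L₀.subtype) ∧ Subgroup.normalizer (L₀ : Set L) = L₀ ∧ (∀ g : L, g ∉ L₀ → Y ⊔ Y.map (MulAut.conj g).toMonoidHom = ⊤) ∧ (IsMulCommutative ↥Y → ∀ g : L, g ∉ L₀ → Y ⊓ Y.map (MulAut.conj g).toMonoidHom = Y ⊓ Subgroup.center L) := by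
  classical
  obtain ⟨hnc, M, ⟨hMco, hYM⟩, hMuniq⟩ := hmin
  set T' : Subgroup L := (T : Subgroup ↥L₀).map L₀.subtype with hT'
  have hT'L₀ : T' ≤ L₀ := Subgroup.map_subtype_le _
  have hYL₀ : Y ≤ L₀ := hYT.trans hT'L₀
  have hML₀ : L₀ = M := hMuniq L₀ ⟨hL₀, hYL₀⟩
  subst hML₀
  have hT'p : IsPGroup p T' := T.isPGroup'.map _
  have hYp : IsPGroup p Y := hT'p.to_le hYT
  have hle : ∀ K : Subgroup L, Y ≤ K → K ≠ ⊤ → K ≤ L₀ := by
    intro K hYK hK
    obtain ⟨M', hM', hKM'⟩ := (eq_top_or_exists_le_coatom K).resolve_left hK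
    have := hMuniq M' ⟨hM', hYK.trans hKM'⟩
    rw [← this]; exact hKM'
  have hnotnormal : ∀ K : Subgroup L, K.Normal → Y ≤ K → K ≤ L₀ → False := by
    intro K hK hYK hKL
    have : Subgroup.normalClosure (Y : Set L) ≤ K := Subgroup.normalClosure_le_normal hYK
    rw [hnc] at this
    exact hL₀.1 (top_le_iff.1 (this.trans hKL))
  -- (4)
  have h4 : Subgroup.normalizer (L₀ : Set L) = L₀ := by
    by_contra hne
    have hlt : L₀ < Subgroup.normalizer (L₀ : Set L) :=
      lt_of_le_of_ne Subgroup.le_normalizer (Ne.symm hne)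
    have htop := hL₀.2 _ hlt
    exact hnotnormal L₀ (Subgroup.normalizer_eq_top_iff.1 htop) hYL₀ le_rfl
  -- (1)
  have h1 : Subgroup.normalizer (T' : Set L) ≤ L₀ := by
    apply hle _ (hYT.trans Subgroup.le_normalizer)
    intro htop
    exact hnotnormal T' (Subgroup.normalizer_eq_top_iff.1 htop) hYT hT'L₀
  -- (2)
  have h2 : Cfsg.pCore p L ≤ L₀ := by
    have hOn := Cfsg.Agent.Lib.Helper4.pCore_normal p L
    have hOp := Cfsg.Agent.Lib.Helper4.pCore_isPGroup p L
    by_cases htop : Y ⊔ Cfsg.pCore p L = ⊤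
    · exfalso
      have hLp : IsPGroup p (Y ⊔ Cfsg.pCore p L : Subgroup L) := hYp.to_sup_of_normal_right hOp
      have hLp' : IsPGroup p L := by
        intro x
        obtain ⟨k, hk⟩ := hLp ⟨x, by rw [htop]; trivial⟩
        exact ⟨k, by simpa using congrArg Subtype.val hk⟩
      have hnil : Group.IsNilpotent L := hLp'.isNilpotent
      have hlt := Group.normalizerCondition_of_isNilpotent (G := L) L₀ (lt_top_iff_ne_top.2 hL₀.1)
      rw [h4] at hlt
      exact lt_irrefl _ hlt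
    · exact le_sup_right.trans (hle _ le_sup_left htop)
  -- (3)
  have h3 : ∃ P : Sylow p L, (P : Subgroup L) = T' := by
    obtain ⟨P, hP⟩ := hT'p.exists_le_sylow
    refine ⟨P, le_antisymm ?_ hP⟩
    by_contra hPT
    have hnil : Group.IsNilpotent ↥(P : Subgroup L) := P.isPGroup'.isNilpotent
    have hne : T'.subgroupOf (P : Subgroup L) < ⊤ := by
      rw [lt_top_iff_ne_top]
      intro htop
      apply hPT
      intro x hx
      have : (⟨x, hx⟩ : ↥(P : Subgroup L)) ∈ T'.subgroupOf (P : Subgroup L) := by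
        rw [htop]; trivial
      exact Subgroup.mem_subgroupOf.1 this
    have hlt := Group.normalizerCondition_of_isNilpotent (G := ↥(P : Subgroup L)) _ hne
    obtain ⟨x, hxN, hxT⟩ := SetLike.exists_of_lt hlt
    have hxT' : (x : L) ∉ T' := fun h => hxT (Subgroup.mem_subgroupOf.2 h)
    have hxnorm : (x : L) ∈ Subgroup.normalizer (T' : Set L) := by
      rw [Subgroup.mem_normalizer_iff] at hxN ⊢
      intro t
      constructor
      · intro ht
        have := (hxN ⟨t, hP ht⟩).1 (Subgroup.mem_subgroupOf.2 ht)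
        exact Subgroup.mem_subgroupOf.1 this
      · intro ht
        have htP : t ∈ (P : Subgroup L) := by
          have h1 := (P : Subgroup L).mul_mem ((P : Subgroup L).mul_mem
            ((P : Subgroup L).inv_mem x.2) (hP ht)) x.2
          simpa [mul_assoc] using h1
        have := (hxN ⟨t, htP⟩).2 (Subgroup.mem_subgroupOf.2 ht)
        exact Subgroup.mem_subgroupOf.1 this
    have hxL₀ : (x : L) ∈ L₀ := h1 hxnorm
    set Q : Subgroup L := T' ⊔ Subgroup.zpowers (x : L) with hQ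
    have hQP : Q ≤ (P : Subgroup L) := sup_le hP (by
      rw [Subgroup.zpowers_le]; exact x.2)
    have hQp : IsPGroup p Q := P.isPGroup'.to_le hQP
    have hQL₀ : Q ≤ L₀ := sup_le hT'L₀ (by rw [Subgroup.zpowers_le]; exact hxL₀)
    have hTQ : (T : Subgroup ↥L₀) ≤ Q.subgroupOf L₀ := by
      intro t ht
      rw [Subgroup.mem_subgroupOf]
      exact Subgroup.mem_sup_left ⟨t, ht, rfl⟩
    have hQp' : IsPGroup p (Q.subgroupOf L₀) :=
      hQp.comap_of_injective L₀.subtype L₀.subtype_injective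
    have hEq := T.is_maximal' hQp' hTQ
    apply hxT'
    have hxQ : (⟨(x : L), hxL₀⟩ : ↥L₀) ∈ Q.subgroupOf L₀ := by
      rw [Subgroup.mem_subgroupOf]
      exact Subgroup.mem_sup_right (Subgroup.mem_zpowers _)
    rw [hEq] at hxQ
    exact ⟨⟨(x : L), hxL₀⟩, hxQ, rfl⟩
  -- (5)
  have h5 : ∀ g : L, g ∉ L₀ → Y ⊔ Y.map (MulAut.conj g).toMonoidHom = ⊤ := by
    intro g hg
    by_contra hne
    have hle' := hle _ le_sup_left hne
    have hYg : Y.map (MulAut.conj g).toMonoidHom ≤ L₀ := le_sup_right.trans hle'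
    have hco : IsCoatom (L₀.map (MulAut.conj g⁻¹).toMonoidHom) := by
      apply Cfsg.Agent.Lib.Helper4.isCoatom_map_of_surjective (MulAut.conj g⁻¹).surjective hL₀
      intro x hx
      have hx1 : (MulAut.conj g⁻¹) x = 1 := hx
      have : x = 1 := by
        have := (MulAut.conj g⁻¹).injective (hx1.trans (map_one _).symm)
        exact this
      rw [this]; exact L₀.one_mem
    have hY' : Y ≤ L₀.map (MulAut.conj g⁻¹).toMonoidHom := by
      intro y hy
      refine ⟨g * y * g⁻¹, hYg ⟨y, hy, rfl⟩, ?_⟩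
      simp [mul_assoc]
    have heq := hMuniq _ ⟨hco, hY'⟩
    have hmem : g⁻¹ ∈ Subgroup.normalizer (L₀ : Set L) :=
      Cfsg.Agent.Lib.Helper4.mem_normalizer_of_map_conj_eq heq
    rw [h4] at hmem
    exact hg (by simpa using L₀.inv_mem hmem)
  refine ⟨h1, h2, h3, h4, h5, ?_⟩
  intro hcomm g hg
  have hYcomm : ∀ a ∈ Y, ∀ b ∈ Y, a * b = b * a := by
    intro a ha b hb
    have := mul_comm' (⟨a, ha⟩ : ↥Y) ⟨b, hb⟩
    exact congrArg Subtype.val this
  apply le_antisymm
  · intro x hx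
    obtain ⟨hxY, hx2⟩ := Subgroup.mem_inf.1 hx
    obtain ⟨y₀, hy₀, hxy₀⟩ := hx2
    refine Subgroup.mem_inf.2 ⟨hxY, ?_⟩
    rw [Subgroup.mem_center_iff]
    have hcent : (⊤ : Subgroup L) ≤ Subgroup.centralizer ({x} : Set L) := by
      rw [← h5 g hg]
      apply sup_le
      · intro y hy
        rw [Subgroup.mem_centralizer_iff]
        intro z hz
        rw [Set.mem_singleton_iff] at hz
        subst hz
        exact hYcomm _ hxY _ hy
      · rintro _ ⟨y, hy, rfl⟩
        rw [Subgroup.mem_centralizer_iff]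
        intro z hz
        rw [Set.mem_singleton_iff] at hz
        subst hz
        have e := hYcomm _ hy₀ _ hy
        simp only [MulEquiv.coe_toMonoidHom, MulAut.conj_apply] at hxy₀ ⊢
        rw [← hxy₀]
        calc g * y₀ * g⁻¹ * (g * y * g⁻¹) = g * (y₀ * y) * g⁻¹ := by group
          _ = g * (y * y₀) * g⁻¹ := by rw [e]
          _ = g * y * g⁻¹ * (g * y₀ * g⁻¹) := by group
    intro z
    have := hcent (Subgroup.mem_top z)
    rw [Subgroup.mem_centralizer_iff] at this
    exact (this x rfl).symm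
  · intro x hx
    obtain ⟨hxY, hxZ⟩ := Subgroup.mem_inf.1 hx
    refine Subgroup.mem_inf.2 ⟨hxY, x, hxY, ?_⟩
    rw [Subgroup.mem_center_iff] at hxZ
    simp only [MulEquiv.coe_toMonoidHom, MulAut.conj_apply]
    rw [hxZ g]; group

end Cfsg.Agent.S2835
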