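import Cfsg.Statements.S2836
import Mathlib
import Cfsg.Agent.S2835
import Cfsg.Agent.Lib.Helper4.PCore
import Cfsg.Agent.Lib.Helper4.PClosed
import Cfsg.Agent.Lib.Helper4.Coatom
import Cfsg.Agent.Lib.Helper4.Normalizer
import Cfsg.Agent.Lib.Helper4.Index

set_option autoImplicit false
open Cfsg

namespace Cfsg.Agent.S2836

open Cfsg.Agent.Lib.Helper4


/-- Let L be a finite group, L₀ a maximal subgroup, T a Sylow p-subgroup of L₀, Y ≤ T, and suppose L is Y-minimal. Let D be the intersection of the conjugates of L₀ (the core of L₀). Then D contains O_p(L) and D/O_p(L) is the Frattini subgroup of L/O_p(L), so D is p-closed; and every normal subgroup N of L contained in L₀ is p-closed with N/O_p(N) a nilpotent group of order prime to p. -/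
theorem result {L : Type*} [Group L] [Finite L] {p : ℕ} [Fact p.Prime] (L₀ : Subgroup L) (hL₀ : IsCoatom L₀) (T : Sylow p ↥L₀) (Y : Subgroup L) (hYT : Y ≤ (T : Subgroup ↥L₀).map L₀.subtype) (hmin : Cfsg.IsMinimalOver Y) : (Cfsg.pCore p L ≤ L₀.normalCore ∧ (L₀.normalCore).map (QuotientGroup.mk' (Cfsg.pCore p L)) = frattini (L ⧸ Cfsg.pCore p L) ∧ Cfsg.IsPClosed p ↥(L₀.normalCore)) ∧ ∀ (N : Subgroup L) [N.Normal], N ≤ L₀ → Cfsg.IsPClosed p ↥N ∧ Group.IsNilpotent (↥N ⧸ Cfsg.pCore p ↥N) ∧ (Nat.card (↥N ⧸ Cfsg.pCore p ↥N)).Coprime p := by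
  classical
  obtain ⟨h1, h2, ⟨P, hP⟩, h4, -, -⟩ := Cfsg.Agent.S2835.result L₀ hL₀ T Y hYT hmin
  obtain ⟨hnc, M₀, ⟨hMco, hYM⟩, hMuniq⟩ := hmin
  have hYP : Y ≤ (P : Subgroup L) := by rw [hP]; exact hYT
  have hYL₀ : Y ≤ L₀ := hYT.trans (Subgroup.map_subtype_le _)
  have huniq : ∀ M : Subgroup L, IsCoatom M → Y ≤ M → M = L₀ := by
    intro M hM hYM'
    rw [hMuniq M ⟨hM, hYM'⟩, hMuniq L₀ ⟨hL₀, hYL₀⟩]
  have hle : ∀ K : Subgroup L, Y ≤ K → K ≠ ⊤ → K ≤ L₀ := by
    intro K hYK hK
    obtain ⟨M', hM', hKM'⟩ := (eq_top_or_exists_le_coatom K).resolve_left hK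
    rw [← huniq M' hM' (hYK.trans hKM')]; exact hKM'
  have hQn : (Cfsg.pCore p L).Normal := Cfsg.Agent.Lib.Helper4.pCore_normal p L
  have hQp := Cfsg.Agent.Lib.Helper4.pCore_isPGroup p L
  have hQP : Cfsg.pCore p L ≤ (P : Subgroup L) := pCore_le_sylow P
  -- K1
  have hK1 : ∀ (N : Subgroup L) [N.Normal], N ≤ L₀ → ((P : Subgroup L) ⊓ N).Normal := by
    intro N hN hNL
    obtain ⟨S, hS⟩ := sylow_inf_normal P N
    have hfr := Sylow.normalizer_sup_eq_top S
    have hmap : (S : Subgroup ↥N).map N.subtype = (P : Subgroup L) ⊓ N := by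
      rw [hS, Subgroup.subgroupOf_map_subtype]
    rw [hmap] at hfr
    apply normal_of_normalizer_eq_top
    by_contra hne
    have hPle : (P : Subgroup L) ≤
        Subgroup.normalizer (((P : Subgroup L) ⊓ N : Subgroup L) : Set L) :=
      le_normalizer_inf Subgroup.le_normalizer (le_normalizer_of_normal hN)
    have h5 := hle _ (hYP.trans hPle) hne
    have htop : (⊤ : Subgroup L) ≤ L₀ := by
      rw [← hfr]; exact sup_le h5 hNL
    exact hL₀.1 (top_le_iff.1 htop)
  -- K1 consequences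
  have hK2 : ∀ (N : Subgroup L) [N.Normal], N ≤ L₀ →
      Cfsg.IsPClosed p ↥N ∧ Cfsg.pCore p ↥N = (Cfsg.pCore p L).subgroupOf N ∧
      ¬ p ∣ (Cfsg.pCore p L).relIndex N := by
    intro N hN hNL
    have hPN := hK1 N hNL
    have hcl : Cfsg.IsPClosed p ↥N := isPClosed_of_normal_inf P N hPN
    obtain ⟨S, hS⟩ := sylow_inf_normal P N
    have hSn : (S : Subgroup ↥N).Normal := hcl S
    have hpc : Cfsg.pCore p ↥N = (S : Subgroup ↥N) :=
      le_antisymm (pCore_le_sylow S) (le_pCore hSn S.isPGroup')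
    have hPQ : (P : Subgroup L) ⊓ N ≤ Cfsg.pCore p L :=
      le_pCore hPN (P.isPGroup'.to_le inf_le_left)
    have hSQ : (S : Subgroup ↥N) = (Cfsg.pCore p L).subgroupOf N := by
      rw [hS]
      apply le_antisymm
      · intro x hx
        rw [Subgroup.mem_subgroupOf] at hx ⊢
        exact hPQ (Subgroup.mem_inf.2 ⟨hx, x.2⟩)
      · intro x hx
        rw [Subgroup.mem_subgroupOf] at hx ⊢
        exact hQP hx
    refine ⟨hcl, hpc.trans hSQ, ?_⟩
    have h6 : ¬ p ∣ (S : Subgroup ↥N).index := S.not_dvd_index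
    rw [hSQ] at h6
    exact h6
  have hDn : (L₀.normalCore).Normal := Subgroup.normalCore_normal L₀
  have hDL : L₀.normalCore ≤ L₀ := Subgroup.normalCore_le L₀
  have hQD : Cfsg.pCore p L ≤ L₀.normalCore := Subgroup.normal_le_normalCore.2 h2
  have hsurj := QuotientGroup.mk'_surjective (Cfsg.pCore p L)
  -- every maximal subgroup containing O_p(L) contains D
  have hmax : ∀ M : Subgroup L, IsCoatom M → Cfsg.pCore p L ≤ M → L₀.normalCore ≤ M := by
    intro M hM hQM
    by_contra hDM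
    have hsup : L₀.normalCore ⊔ M = ⊤ := hM.2 _ (right_lt_sup.2 hDM)
    have hidx : ¬ p ∣ M.index :=
      not_dvd_index_of_sup_eq_top L₀.normalCore M (Cfsg.pCore p L) hsup hQD hQM
        (hK2 L₀.normalCore hDL).2.2
    obtain ⟨g, hg⟩ := exists_conj_le_of_not_dvd_index (P : Subgroup L) P.isPGroup' M hidx
    have hco : IsCoatom (M.map (MulAut.conj g).toMonoidHom) := by
      apply isCoatom_map_of_surjective (MulAut.conj g).surjective hM
      intro x hx
      have hx1 : (MulAut.conj g) x = 1 := hx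
      have hx2 : x = 1 := (MulAut.conj g).injective (hx1.trans (map_one _).symm)
      rw [hx2]; exact M.one_mem
    have hY' : Y ≤ M.map (MulAut.conj g).toMonoidHom := by
      intro y hy
      refine ⟨g⁻¹ * y * g, hg y (hYP hy), ?_⟩
      simp [mul_assoc]
    have heq := huniq _ hco hY'
    apply hDM
    intro d hd
    have hd' : g * d * g⁻¹ ∈ L₀ := hDL (hDn.conj_mem d hd g)
    rw [← heq] at hd'
    obtain ⟨m, hm, hmd⟩ := hd'
    have hmd' : g * m * g⁻¹ = g * d * g⁻¹ := hmd
    have : m = d := by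
      have := congrArg (fun z => g⁻¹ * z * g) hmd'
      simpa [mul_assoc] using this
    rw [← this]; exact hm
  -- (b)
  have hb : (L₀.normalCore).map (QuotientGroup.mk' (Cfsg.pCore p L)) =
      frattini (L ⧸ Cfsg.pCore p L) := by
    apply le_antisymm
    · unfold frattini Order.radical
      refine le_iInf₂ (fun K hK => ?_)
      rw [Subgroup.map_le_iff_le_comap]
      apply hmax _ (isCoatom_comap_of_surjective hsurj hK)
      intro x hx
      rw [Subgroup.mem_comap]
      have : (QuotientGroup.mk' (Cfsg.pCore p L)) x = 1 := by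
        rw [QuotientGroup.mk'_apply, QuotientGroup.eq_one_iff]; exact hx
      rw [this]; exact K.one_mem
    · have hco : IsCoatom (L₀.map (QuotientGroup.mk' (Cfsg.pCore p L))) :=
        isCoatom_map_of_surjective hsurj hL₀ (by rw [QuotientGroup.ker_mk']; exact h2)
      have hF : frattini (L ⧸ Cfsg.pCore p L) ≤ L₀.map (QuotientGroup.mk' (Cfsg.pCore p L)) :=
        frattini_le_coatom hco
      have hcomap : (frattini (L ⧸ Cfsg.pCore p L)).comap (QuotientGroup.mk' (Cfsg.pCore p L)) ≤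
          L₀ := by
        intro x hx
        obtain ⟨y, hy, hyx⟩ := hF (Subgroup.mem_comap.1 hx)
        rw [QuotientGroup.mk'_apply, QuotientGroup.mk'_apply, QuotientGroup.eq] at hyx
        have : x = y * (y⁻¹ * x) := by group
        rw [this]
        exact L₀.mul_mem hy (h2 hyx)
      have hcn : ((frattini (L ⧸ Cfsg.pCore p L)).comap
          (QuotientGroup.mk' (Cfsg.pCore p L))).Normal := inferInstance
      have hcD := (Subgroup.normal_le_normalCore (hN := hcn)).2 hcomap
      rw [← Subgroup.map_comap_eq_self_of_surjective hsurj (frattini (L ⧸ Cfsg.pCore p L))]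
      exact Subgroup.map_mono hcD
  refine ⟨⟨hQD, hb, (hK2 L₀.normalCore hDL).1⟩, ?_⟩
  intro N hN hNL
  obtain ⟨hcl, hpc, hidx⟩ := hK2 N hNL
  refine ⟨hcl, ?_, ?_⟩
  · -- nilpotent
    let ψ : ↥N →* L ⧸ Cfsg.pCore p L := (QuotientGroup.mk' (Cfsg.pCore p L)).comp N.subtype
    have hker : ∀ n : ↥N, ψ n = 1 ↔ n ∈ Cfsg.pCore p ↥N := by
      intro n
      rw [hpc, Subgroup.mem_subgroupOf]
      show (QuotientGroup.mk' (Cfsg.pCore p L)) (n : L) = 1 ↔ _
      rw [QuotientGroup.mk'_apply, QuotientGroup.eq_one_iff]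
    let f : ↥N ⧸ Cfsg.pCore p ↥N →* L ⧸ Cfsg.pCore p L :=
      QuotientGroup.lift (Cfsg.pCore p ↥N) ψ (fun n hn => (hker n).2 hn)
    have hND : N ≤ L₀.normalCore := Subgroup.normal_le_normalCore.2 hNL
    have hfr : ∀ x, f x ∈ frattini (L ⧸ Cfsg.pCore p L) := by
      intro x
      induction x using QuotientGroup.induction_on with
      | H n =>
        rw [← hb]
        exact ⟨(n : L), hND n.2, rfl⟩
    let g : ↥N ⧸ Cfsg.pCore p ↥N →* ↥(frattini (L ⧸ Cfsg.pCore p L)) := f.codRestrict _ hfr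
    have hginj : g.ker ≤ Subgroup.center _ := by
      intro x hx
      have hx1 : g x = 1 := hx
      have hx2 : f x = 1 := congrArg Subtype.val hx1
      have hx3 : x = 1 := by
        induction x using QuotientGroup.induction_on with
        | H n =>
          have hn : ψ n = 1 := hx2
          exact (QuotientGroup.eq_one_iff n).2 ((hker n).1 hn)
      rw [hx3]; exact Subgroup.one_mem _
    have hnil := frattini_nilpotent (G := L ⧸ Cfsg.pCore p L)
    exact Subgroup.isNilpotent_of_ker_le_center g hginj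
  · show ((Cfsg.pCore p ↥N).index).Coprime p
    rw [hpc]
    exact ((Nat.Prime.coprime_iff_not_dvd Fact.out).2 hidx).symm

end Cfsg.Agent.S2836
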