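import Cfsg.Statements.S2838
import Mathlib
import Cfsg.Agent.Lib.Helper4.Normalizer
import Cfsg.Agent.Lib.Helper4.Index
import Cfsg.Agent.Lib.Helper4.PClosed

set_option autoImplicit false
open Cfsg

namespace Cfsg.Agent.S2838

open Cfsg.Agent.Lib.Helper4

theorem cmap_mul {H : Type*} [Group H] (K : Subgroup H) (a c : H) :
    (K.map (MulAut.conj a).toMonoidHom).map (MulAut.conj c).toMonoidHom
      = K.map (MulAut.conj (c * a)).toMonoidHom := by
  rw [Subgroup.map_map]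
  congr 1
  ext x
  simp [MulAut.conj_apply, mul_assoc]

theorem cmap_one {H : Type*} [Group H] (K : Subgroup H) :
    K.map (MulAut.conj (1 : H)).toMonoidHom = K := by
  ext x; simp

theorem mem_cmap {H : Type*} [Group H] {K : Subgroup H} {a x : H} :
    x ∈ K.map (MulAut.conj a).toMonoidHom ↔ a⁻¹ * x * a ∈ K := by
  constructor
  · rintro ⟨k, hk, rfl⟩
    have e : a⁻¹ * (MulAut.conj a).toMonoidHom k * a = k := by
      simp only [MulEquiv.coe_toMonoidHom, MulAut.conj_apply]; group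
    rw [e]; exact hk
  · intro h
    refine ⟨a⁻¹ * x * a, h, ?_⟩
    simp only [MulEquiv.coe_toMonoidHom, MulAut.conj_apply]; group

theorem commutator_le_inf_of_normalize {H : Type*} [Group H] {A B : Subgroup H}
    (hAB : A ≤ Subgroup.normalizer (B : Set H)) (hBA : B ≤ Subgroup.normalizer (A : Set H)) :
    ⁅A, B⁆ ≤ A ⊓ B := by
  rw [Subgroup.commutator_le]
  intro a ha b hb
  show a * b * a⁻¹ * b⁻¹ ∈ _
  refine Subgroup.mem_inf.2 ⟨?_, ?_⟩
  · have h1 : b * a⁻¹ * b⁻¹ ∈ A := conj_mem_of_mem_normalizer (hBA hb) (A.inv_mem ha)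
    have e : a * b * a⁻¹ * b⁻¹ = a * (b * a⁻¹ * b⁻¹) := by group
    rw [e]; exact A.mul_mem ha h1
  · have h1 : a * b * a⁻¹ ∈ B := conj_mem_of_mem_normalizer (hAB ha) hb
    exact B.mul_mem h1 (B.inv_mem hb)

theorem normalize_of_commutator_le_inf {H : Type*} [Group H] {A B : Subgroup H}
    (h : ⁅A, B⁆ ≤ A ⊓ B) :
    A ≤ Subgroup.normalizer (B : Set H) ∧ B ≤ Subgroup.normalizer (A : Set H) := by
  rw [Subgroup.commutator_le] at h
  constructor
  · apply le_normalizer_of_conj_mem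
    intro a ha b hb
    have h1 : a * b * a⁻¹ * b⁻¹ ∈ A ⊓ B := h a ha b hb
    have e : a * b * a⁻¹ = (a * b * a⁻¹ * b⁻¹) * b := by group
    rw [e]; exact B.mul_mem (Subgroup.mem_inf.1 h1).2 hb
  · apply le_normalizer_of_conj_mem
    intro b hb a ha
    have h1 : a⁻¹ * b * a⁻¹⁻¹ * b⁻¹ ∈ A ⊓ B := h a⁻¹ (A.inv_mem ha) b hb
    have e : b * a * b⁻¹ = a * (a⁻¹ * b * a⁻¹⁻¹ * b⁻¹) := by group
    rw [e]; exact A.mul_mem ha (Subgroup.mem_inf.1 h1).1

theorem grow {H : Type*} [Group H] [Finite H] {p : ℕ} [Fact p.Prime] {T D : Subgroup H}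
    (hT : IsPGroup p T) (hDT : D ≤ T) (hne : D ≠ T) :
    ∃ x ∈ T, x ∈ Subgroup.normalizer (D : Set H) ∧ x ∉ D := by
  haveI : Group.IsNilpotent ↥T := hT.isNilpotent
  have hnc := Group.normalizerCondition_of_isNilpotent (G := ↥T)
  have hlt : D.subgroupOf T < ⊤ := by
    rw [lt_top_iff_ne_top]
    intro e
    rw [Subgroup.subgroupOf_eq_top] at e
    exact hne (le_antisymm hDT e)
  obtain ⟨x, hxN, hxD⟩ := SetLike.exists_of_lt (hnc _ hlt)
  refine ⟨x, x.2, ?_, fun h => hxD (Subgroup.mem_subgroupOf.2 h)⟩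
  rw [Subgroup.mem_normalizer_iff]
  intro d
  constructor
  · intro hd
    have := (Subgroup.mem_normalizer_iff.1 hxN ⟨d, hDT hd⟩).1 (Subgroup.mem_subgroupOf.2 hd)
    exact Subgroup.mem_subgroupOf.1 this
  · intro hd
    have hdT : d ∈ T := by
      have := T.mul_mem (T.mul_mem (T.inv_mem x.2) (hDT hd)) x.2
      have e : (x : H)⁻¹ * ((x : H) * d * (x : H)⁻¹) * (x : H) = d := by group
      rwa [e] at this
    have := (Subgroup.mem_normalizer_iff.1 hxN ⟨d, hdT⟩).2 (Subgroup.mem_subgroupOf.2 hd)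
    exact Subgroup.mem_subgroupOf.1 this

theorem sylow_conj_in {H : Type*} [Group H] [Finite H] {p : ℕ} [Fact p.Prime] {N : Subgroup H}
    (T : Sylow p H) (hTN : (T : Subgroup H) ≤ N) (R : Subgroup H) (hR : IsPGroup p R)
    (hRN : R ≤ N) : ∃ n ∈ N, ∀ y ∈ R, n⁻¹ * y * n ∈ T := by
  have hidx : ¬ p ∣ ((T : Subgroup H).subgroupOf N).index := by
    intro hdvd
    exact T.not_dvd_index (hdvd.trans (Subgroup.relIndex_dvd_index_of_le hTN))
  obtain ⟨n, hn⟩ := exists_conj_le_of_not_dvd_index (R.subgroupOf N) hR.comap_subtype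
    ((T : Subgroup H).subgroupOf N) hidx
  refine ⟨n, n.2, fun y hy => ?_⟩
  have := hn ⟨y, hRN hy⟩ (Subgroup.mem_subgroupOf.2 hy)
  exact Subgroup.mem_subgroupOf.1 this

theorem wc_unique {H : Type*} [Group H] [Finite H] {p : ℕ} [Fact p.Prime] {Q : Subgroup H}
    (T : Sylow p H) (hT : Cfsg.IsWeaklyClosed Q (T : Subgroup H)) (R : Subgroup H)
    (hR : IsPGroup p R) (hQR : Q ≤ R) (g : H) (hg : Q.map (MulAut.conj g).toMonoidHom ≤ R) :
    Q.map (MulAut.conj g).toMonoidHom = Q := by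
  obtain ⟨S, hS⟩ := hR.exists_le_sylow
  obtain ⟨h, rfl⟩ := MulAction.exists_smul_eq H T S
  have h1 : Q.map (MulAut.conj h⁻¹).toMonoidHom ≤ T := by
    intro x hx
    rw [mem_cmap] at hx
    have h2 : h⁻¹⁻¹ * x * h⁻¹ ∈ h • T := hS (hQR hx)
    rw [mem_sylow_smul_iff] at h2
    have e : h⁻¹ * (h⁻¹⁻¹ * x * h⁻¹) * h = x := by group
    rwa [e] at h2
  have h2 : Q.map (MulAut.conj (h⁻¹ * g)).toMonoidHom ≤ T := by
    intro x hx
    rw [← cmap_mul, mem_cmap] at hx
    have h3 : h⁻¹⁻¹ * x * h⁻¹ ∈ h • T := hS (hg hx)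
    rw [mem_sylow_smul_iff] at h3
    have e : h⁻¹ * (h⁻¹⁻¹ * x * h⁻¹) * h = x := by group
    rwa [e] at h3
  have e1 := hT.2 _ h1
  have e2 := hT.2 _ h2
  calc Q.map (MulAut.conj g).toMonoidHom
      = (Q.map (MulAut.conj (h⁻¹ * g)).toMonoidHom).map (MulAut.conj h).toMonoidHom := by
        rw [cmap_mul, mul_inv_cancel_left]
    _ = Q.map (MulAut.conj h).toMonoidHom := by rw [e2]
    _ = (Q.map (MulAut.conj h⁻¹).toMonoidHom).map (MulAut.conj h).toMonoidHom := by rw [e1]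
    _ = Q := by rw [cmap_mul, mul_inv_cancel, cmap_one]

theorem wc_of_B {H : Type*} [Group H] [Finite H] {p : ℕ} [Fact p.Prime] (Q : Subgroup H)
    (hQp : IsPGroup p ↥Q)
    (hB : ∀ g : H, ⁅Q, Q.map (MulAut.conj g).toMonoidHom⁆ ≤ Q ⊓ Q.map (MulAut.conj g).toMonoidHom →
      Q.map (MulAut.conj g).toMonoidHom = Q) : Cfsg.IsWeaklyClosedSubgroup p Q := by
  have hBc : ∀ a b : H, Q.map (MulAut.conj a).toMonoidHom
        ≤ Subgroup.normalizer ((Q.map (MulAut.conj b).toMonoidHom : Subgroup H) : Set H) →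
      Q.map (MulAut.conj b).toMonoidHom
        ≤ Subgroup.normalizer ((Q.map (MulAut.conj a).toMonoidHom : Subgroup H) : Set H) →
      Q.map (MulAut.conj a).toMonoidHom = Q.map (MulAut.conj b).toMonoidHom := by
    intro a b h1 h2
    have h3 := commutator_le_inf_of_normalize h1 h2
    have h4 := Subgroup.map_mono (f := (MulAut.conj a⁻¹).toMonoidHom) h3
    rw [Subgroup.map_commutator, cmap_mul, cmap_mul, inv_mul_cancel, cmap_one] at h4
    have h5 : (Q.map (MulAut.conj a).toMonoidHom ⊓ Q.map (MulAut.conj b).toMonoidHom).map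
        (MulAut.conj a⁻¹).toMonoidHom ≤ Q ⊓ Q.map (MulAut.conj (a⁻¹ * b)).toMonoidHom := by
      apply le_inf
      · calc _ ≤ (Q.map (MulAut.conj a).toMonoidHom).map (MulAut.conj a⁻¹).toMonoidHom :=
              Subgroup.map_mono inf_le_left
          _ = Q := by rw [cmap_mul, inv_mul_cancel, cmap_one]
      · calc _ ≤ (Q.map (MulAut.conj b).toMonoidHom).map (MulAut.conj a⁻¹).toMonoidHom :=
              Subgroup.map_mono inf_le_right
          _ = _ := by rw [cmap_mul]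
    have h6 := hB (a⁻¹ * b) (h4.trans h5)
    calc Q.map (MulAut.conj a).toMonoidHom
        = (Q.map (MulAut.conj (a⁻¹ * b)).toMonoidHom).map (MulAut.conj a).toMonoidHom := by
          rw [h6]
      _ = Q.map (MulAut.conj b).toMonoidHom := by rw [cmap_mul, mul_inv_cancel_left]
  obtain ⟨T, hQT⟩ := hQp.exists_le_sylow
  have hN : ∀ h : H, Q.map (MulAut.conj h).toMonoidHom ≤ T → (T : Subgroup H)
      ≤ Subgroup.normalizer ((Q.map (MulAut.conj h).toMonoidHom : Subgroup H) : Set H) := by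
    intro h hh
    by_contra hcon
    obtain ⟨P, hP⟩ : ∃ P, P = Q.map (MulAut.conj h).toMonoidHom := ⟨_, rfl⟩
    rw [← hP] at hh hcon
    obtain ⟨D, hD⟩ : ∃ D, D = (T : Subgroup H) ⊓ Subgroup.normalizer (P : Set H) := ⟨_, rfl⟩
    have hDT : D ≤ T := hD ▸ inf_le_left
    have hDN : D ≤ Subgroup.normalizer (P : Set H) := hD ▸ inf_le_right
    have hDne : D ≠ T := by
      intro e
      exact hcon (e.symm.le.trans hDN)
    obtain ⟨x, hxT, hxN, hxD⟩ := grow T.2 hDT hDne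
    have hPD : P ≤ D := hD ▸ le_inf hh Subgroup.le_normalizer
    have h1 : P.map (MulAut.conj x).toMonoidHom ≤ Subgroup.normalizer (P : Set H) := by
      rintro _ ⟨y, hy, rfl⟩
      exact hDN (conj_mem_of_mem_normalizer hxN (hPD hy))
    have h2 : P ≤ Subgroup.normalizer
        ((P.map (MulAut.conj x).toMonoidHom : Subgroup H) : Set H) := by
      apply le_normalizer_of_conj_mem
      intro y hy z hz
      rw [mem_cmap] at hz ⊢
      have h3 : x⁻¹ * y * x⁻¹⁻¹ ∈ D :=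
        conj_mem_of_mem_normalizer (Subgroup.inv_mem _ hxN) (hPD hy)
      have h5 := conj_mem_of_mem_normalizer (hDN h3) hz
      have e : x⁻¹ * (y * z * y⁻¹) * x
          = x⁻¹ * y * x⁻¹⁻¹ * (x⁻¹ * z * x) * (x⁻¹ * y * x⁻¹⁻¹)⁻¹ := by group
      rw [e]; exact h5
    have e1 : P.map (MulAut.conj x).toMonoidHom = Q.map (MulAut.conj (x * h)).toMonoidHom := by
      rw [hP, cmap_mul]
    rw [e1] at h1 h2
    rw [hP] at h1 h2
    have h6 := hBc (x * h) h h1 h2
    apply hxD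
    have hxP : x ∈ Subgroup.normalizer (P : Set H) := by
      apply mem_normalizer_of_map_conj_eq
      rw [hP, cmap_mul, h6]
    exact hD.symm.le (Subgroup.mem_inf.2 ⟨hxT, hxP⟩)
  refine ⟨T, hQT, fun g hg => ?_⟩
  have hQT' : Q.map (MulAut.conj (1 : H)).toMonoidHom ≤ T := by rw [cmap_one]; exact hQT
  have h1 := hN 1 hQT'
  have h2 := hN g hg
  have := hBc g 1 (hg.trans h1) (hQT'.trans h2)
  rw [cmap_one] at this; exact this

theorem wc_of_C {H : Type*} [Group H] [Finite H] {p : ℕ} [Fact p.Prime] (Q : Subgroup H)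
    (hQp : IsPGroup p ↥Q)
    (hC : ∀ R : Subgroup H, IsPGroup p ↥R → Q ≤ R →
      Subgroup.normalizer (R : Set H) ≤ Subgroup.normalizer (Q : Set H)) :
    Cfsg.IsWeaklyClosedSubgroup p Q := by
  obtain ⟨T, hQT⟩ := hQp.exists_le_sylow
  refine ⟨T, hQT, fun g hg => ?_⟩
  have hTQ : (T : Subgroup H) ≤ Subgroup.normalizer (Q : Set H) :=
    Subgroup.le_normalizer.trans (hC T T.2 hQT)
  obtain ⟨P, hP⟩ : ∃ P, P = Q.map (MulAut.conj g).toMonoidHom := ⟨_, rfl⟩
  rw [← hP] at hg ⊢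
  have hTP : (T : Subgroup H) ≤ Subgroup.normalizer (P : Set H) := by
    have hR : IsPGroup p ((T : Subgroup H).map (MulAut.conj g⁻¹).toMonoidHom) := T.2.map _
    have hQR : Q ≤ (T : Subgroup H).map (MulAut.conj g⁻¹).toMonoidHom := by
      intro q hq
      rw [mem_cmap]
      have h0 : g⁻¹⁻¹ * q * g⁻¹ ∈ P := by
        rw [hP, mem_cmap]
        have e : g⁻¹ * (g⁻¹⁻¹ * q * g⁻¹) * g = q := by group
        rw [e]; exact hq
      exact hg h0
    have h3 := Subgroup.le_normalizer.trans (hC _ hR hQR)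
    apply le_normalizer_of_conj_mem
    intro t ht x hx
    rw [hP, mem_cmap] at hx ⊢
    have h4 : g⁻¹ * t * g ∈ (T : Subgroup H).map (MulAut.conj g⁻¹).toMonoidHom := by
      rw [mem_cmap]
      have e : g⁻¹⁻¹ * (g⁻¹ * t * g) * g⁻¹ = t := by group
      rw [e]; exact ht
    have h5 := conj_mem_of_mem_normalizer (h3 h4) hx
    have e : g⁻¹ * (t * x * t⁻¹) * g = g⁻¹ * t * g * (g⁻¹ * x * g) * (g⁻¹ * t * g)⁻¹ := by
      group
    rw [e]; exact h5
  have hTgP : (T : Subgroup H).map (MulAut.conj g).toMonoidHom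
      ≤ Subgroup.normalizer (P : Set H) := by
    apply le_normalizer_of_conj_mem
    intro s hs x hx
    rw [mem_cmap] at hs
    rw [hP, mem_cmap] at hx ⊢
    have h5 := conj_mem_of_mem_normalizer (hTQ hs) hx
    have e : g⁻¹ * (s * x * s⁻¹) * g = g⁻¹ * s * g * (g⁻¹ * x * g) * (g⁻¹ * s * g)⁻¹ := by
      group
    rw [e]; exact h5
  obtain ⟨n, hn, hn'⟩ := sylow_conj_in T hTP _ (T.2.map _) hTgP
  have h6 : n⁻¹ * g ∈ Subgroup.normalizer ((T : Subgroup H) : Set H) := by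
    have hle : (((n⁻¹ * g) • T : Sylow p H) : Subgroup H) ≤ T := by
      intro x hx
      have hx' : x ∈ (n⁻¹ * g) • T := hx
      rw [mem_sylow_smul_iff] at hx'
      have h7 : g * ((n⁻¹ * g)⁻¹ * x * (n⁻¹ * g)) * g⁻¹
          ∈ (T : Subgroup H).map (MulAut.conj g).toMonoidHom := by
        rw [mem_cmap]
        have e : g⁻¹ * (g * ((n⁻¹ * g)⁻¹ * x * (n⁻¹ * g)) * g⁻¹) * g
            = (n⁻¹ * g)⁻¹ * x * (n⁻¹ * g) := by group
        rw [e]; exact hx'
      have h8 := hn' _ h7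
      have e : n⁻¹ * (g * ((n⁻¹ * g)⁻¹ * x * (n⁻¹ * g)) * g⁻¹) * n = x := by group
      rwa [e] at h8
    have heq : ((n⁻¹ * g) • T : Sylow p H) = T :=
      Sylow.ext (((n⁻¹ * g) • T : Sylow p H).is_maximal' T.2 hle).symm
    exact Sylow.smul_eq_iff_mem_normalizer.1 heq
  have h7 : Q.map (MulAut.conj (n⁻¹ * g)).toMonoidHom = Q :=
    map_conj_eq_of_mem_normalizer (hC T T.2 hQT h6)
  have h8 : P.map (MulAut.conj n⁻¹).toMonoidHom = P :=
    map_conj_eq_of_mem_normalizer (Subgroup.inv_mem _ hn)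
  rw [← h8, hP, cmap_mul, h7]


/-- For a nontrivial p-subgroup Q of a finite group H the following are equivalent: Q is a weakly closed subgroup (it is the only H-conjugate of itself inside some Sylow p-subgroup containing it); Q = P for every conjugate P of Q with [Q, P] ≤ Q ∩ P; Q is normal in N_H(R) for every p-subgroup R of H containing Q. -/
theorem result {H : Type*} [Group H] [Finite H] {p : ℕ} [Fact p.Prime] (Q : Subgroup H) (hQp : IsPGroup p ↥Q) (hQ1 : Q ≠ ⊥) : (Cfsg.IsWeaklyClosedSubgroup p Q ↔ ∀ g : H, ⁅Q, ((Q : Subgroup H).map (MulAut.conj (g : H)).toMonoidHom)⁆ ≤ Q ⊓ ((Q : Subgroup H).map (MulAut.conj (g : H)).toMonoidHom) → ((Q : Subgroup H).map (MulAut.conj (g : H)).toMonoidHom) = Q) ∧ (Cfsg.IsWeaklyClosedSubgroup p Q ↔ ∀ R : Subgroup H, IsPGroup p ↥R → Q ≤ R → Subgroup.normalizer ((R : Subgroup H) : Set H) ≤ Subgroup.normalizer ((Q : Subgroup H) : Set H)) := by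
  refine ⟨⟨?_, wc_of_B Q hQp⟩, ⟨?_, wc_of_C Q hQp⟩⟩
  · rintro ⟨T, hT⟩ g hg
    obtain ⟨h1, h2⟩ := normalize_of_commutator_le_inf hg
    have hPp : IsPGroup p (Q.map (MulAut.conj g).toMonoidHom) := hQp.map _
    have hR : IsPGroup p (Q ⊔ Q.map (MulAut.conj g).toMonoidHom : Subgroup H) :=
      IsPGroup.to_sup_of_normal_right' hQp hPp h1
    exact wc_unique T hT _ hR le_sup_left g le_sup_right
  · rintro ⟨T, hT⟩ R hR hQR n hn
    apply mem_normalizer_of_map_conj_eq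
    apply wc_unique T hT R hR hQR n
    rintro _ ⟨q, hq, rfl⟩
    exact conj_mem_of_mem_normalizer hn (hQR hq)

end Cfsg.Agent.S2838
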