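import Cfsg.Statements.S2841
import Mathlib
import Cfsg.Agent.Lib.Helper5.WeaklyClosed5

set_option autoImplicit false
open Cfsg

namespace Cfsg.Agent.S2841

/-- Let Q be a nontrivial p-subgroup of the finite group H that is a weakly closed subgroup and N a normal subgroup of H. Then N = N_N(Q)·[N, Q] and [N, Q] = (Q ∩ [N, Q])·[N, Q, Q]. -/
theorem result {H : Type*} [Group H] [Finite H] {p : ℕ} [Fact p.Prime] (Q : Subgroup H) (hQp : IsPGroup p ↥Q) (hQ1 : Q ≠ ⊥) (hwc : Cfsg.IsWeaklyClosedSubgroup p Q) (N' : Subgroup H) [N'.Normal] : (∀ n : H, n ∈ N' → ∃ a ∈ N' ⊓ Subgroup.normalizer ((Q : Subgroup H) : Set H), ∃ b ∈ ⁅N', Q⁆, n = a * b) ∧ (∀ c : H, c ∈ ⁅N', Q⁆ → ∃ a ∈ Q ⊓ ⁅N', Q⁆, ∃ b ∈ ⁅⁅N', Q⁆, Q⁆, c = a * b) := by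
  have hRN : ⁅N', Q⁆ ≤ N' := Subgroup.commutator_le_left N' Q
  have hNR := Cfsg.Agent.Lib.Helper5.left_le_normalizer_commutator5 N' Q
  have hQR := Cfsg.Agent.Lib.Helper5.right_le_normalizer_commutator5 N' Q
  have claim1 : ∀ n : H, n ∈ N' → ∃ a ∈ N' ⊓ Subgroup.normalizer ((Q : Subgroup H) : Set H),
      ∃ b ∈ ⁅N', Q⁆, n = a * b := by
    intro n hn
    have hg : ∀ q ∈ Q, n⁻¹ * q * n⁻¹⁻¹ ∈ ⁅N', Q⁆ ⊔ Q := by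
      intro q hq
      have h1 : n⁻¹ * q * n⁻¹⁻¹ = (n⁻¹ * q * n⁻¹⁻¹ * q⁻¹) * q := by group
      rw [h1]
      exact Subgroup.mul_mem _ (Subgroup.mem_sup_left
        (Cfsg.Agent.Lib.Helper5.comm_mem5 (N'.inv_mem hn) hq)) (Subgroup.mem_sup_right hq)
    obtain ⟨x, hxK, hx⟩ := Cfsg.Agent.Lib.Helper5.weaklyClosed_frattini5 Q hQp hwc (⁅N', Q⁆ ⊔ Q)
      le_sup_right n⁻¹ hg
    have hset := Subgroup.coe_mul_of_right_le_normalizer_left ⁅N', Q⁆ Q hQR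
    have hx' : x ∈ ((⁅N', Q⁆ ⊔ Q : Subgroup H) : Set H) := hxK
    rw [hset] at hx'
    obtain ⟨r, hr, q, hq, rfl⟩ := Set.mem_mul.mp hx'
    have h2 : r⁻¹ * n⁻¹ ∈ Subgroup.normalizer (Q : Set H) := by
      have := Subgroup.mul_mem _ (Subgroup.le_normalizer hq) hx
      simpa [mul_assoc] using this
    refine ⟨(r⁻¹ * n⁻¹)⁻¹, ⟨?_, Subgroup.inv_mem _ h2⟩, r⁻¹, Subgroup.inv_mem _ hr, by group⟩
    exact N'.inv_mem (N'.mul_mem (N'.inv_mem (hRN hr)) (N'.inv_mem hn))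
  refine ⟨claim1, ?_⟩
  have hsub : (Q ⊓ ⁅N', Q⁆) ≤ Subgroup.normalizer ((⁅⁅N', Q⁆, Q⁆ : Subgroup H) : Set H) :=
    inf_le_left.trans (Cfsg.Agent.Lib.Helper5.right_le_normalizer_commutator5 ⁅N', Q⁆ Q)
  have hset := Subgroup.coe_mul_of_left_le_normalizer_right (Q ⊓ ⁅N', Q⁆) ⁅⁅N', Q⁆, Q⁆ hsub
  have hle : ⁅N', Q⁆ ≤ (Q ⊓ ⁅N', Q⁆) ⊔ ⁅⁅N', Q⁆, Q⁆ := by
    rw [Cfsg.Agent.Lib.Helper5.commutator_le5]
    intro n hn q hq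
    obtain ⟨a, ⟨haN, haQ⟩, b, hb, rfl⟩ := claim1 n hn
    have h1 : a * b * q * (a * b)⁻¹ * q⁻¹ = ((a * b * a⁻¹) * (a * q * a⁻¹) * (a * b * a⁻¹)⁻¹ *
        (a * q * a⁻¹)⁻¹) * (a * q * a⁻¹ * q⁻¹) := by group
    rw [h1]
    have hb' : a * b * a⁻¹ ∈ ⁅N', Q⁆ :=
      Cfsg.Agent.Lib.Helper4.conj_mem_of_mem_normalizer (hNR haN) hb
    have hq' : a * q * a⁻¹ ∈ Q := Cfsg.Agent.Lib.Helper4.conj_mem_of_mem_normalizer haQ hq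
    refine Subgroup.mul_mem _ (Subgroup.mem_sup_right
      (Cfsg.Agent.Lib.Helper5.comm_mem5 hb' hq')) (Subgroup.mem_sup_left ⟨?_, ?_⟩)
    · exact Q.mul_mem hq' (Q.inv_mem hq)
    · exact Cfsg.Agent.Lib.Helper5.comm_mem5 haN hq
  intro c hc
  have hc' : c ∈ (((Q ⊓ ⁅N', Q⁆) ⊔ ⁅⁅N', Q⁆, Q⁆ : Subgroup H) : Set H) := hle hc
  rw [hset] at hc'
  obtain ⟨a, ha, b, hb, rfl⟩ := Set.mem_mul.mp hc'
  exact ⟨a, ha, b, hb, rfl⟩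

end Cfsg.Agent.S2841
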