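import Cfsg.Statements.S2873
import Mathlib
import Cfsg.Agent.Lib.Helper4.PCore
-- import your own Cfsg.Agent.* helpers here

set_option autoImplicit false
open Cfsg

namespace Cfsg.Agent.S2873

theorem cnt {G : Type*} [Group G] [Finite G] (Q : Subgroup G) [hQ : Q.Normal] (a ρ g : G)
    (ha : a * a = 1) (hinv : a * ρ * a = ρ⁻¹) (hg : g * a * g⁻¹ = a * ρ)
    (hρ : ∀ x ∈ Q, x * ρ = ρ * x → x = 1) :
    Nat.card ↥(Q ⊓ Subgroup.centralizer ({a} : Set G)) ^ 2 = Nat.card Q ∧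
    ∀ b : G, b * a⁻¹ ∈ Q → b * b = 1 → ∃ q ∈ Q, q * a * q⁻¹ = b := by
  classical
  have hainv : a⁻¹ = a := inv_eq_of_mul_eq_one_right ha
  obtain ⟨a', ha'def⟩ : ∃ a' : G, a' = a * ρ := ⟨_, rfl⟩
  rw [← ha'def] at hg
  have ha' : a' * a' = 1 := by
    calc a' * a' = (a * ρ * a) * ρ := by rw [ha'def]; group
      _ = 1 := by rw [hinv]; group
  have haa' : a * a' = ρ := by rw [ha'def, ← mul_assoc, ha, one_mul]
  have hcent : ∀ (t x : G), x ∈ Subgroup.centralizer ({t} : Set G) ↔ x * t = t * x := by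
    intro t x
    rw [Subgroup.mem_centralizer_iff]
    constructor
    · intro h; exact (h t (Set.mem_singleton t)).symm
    · intro h y hy
      rw [Set.mem_singleton_iff.1 hy]; exact h.symm
  have claim1 : ∀ y : G, y * ρ⁻¹ ∈ Q → ∃ q ∈ Q, y = q * ρ * q⁻¹ := by
    let κ : Q → {y : G // y * ρ⁻¹ ∈ Q} := fun q => ⟨(q : G) * ρ * (q : G)⁻¹, by
      have : (q : G) * ρ * (q : G)⁻¹ * ρ⁻¹ = q * (ρ * (q : G)⁻¹ * ρ⁻¹) := by group
      rw [this]
      exact Q.mul_mem q.2 (hQ.conj_mem _ (Q.inv_mem q.2) ρ)⟩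
    have hκ : Function.Injective κ := by
      intro q₁ q₂ h
      have h1 : (q₁ : G) * ρ * (q₁ : G)⁻¹ = q₂ * ρ * (q₂ : G)⁻¹ := congrArg Subtype.val h
      have h2 : ((q₂ : G)⁻¹ * q₁) * ρ = ρ * ((q₂ : G)⁻¹ * q₁) := by
        calc ((q₂ : G)⁻¹ * q₁) * ρ = (q₂ : G)⁻¹ * ((q₁ : G) * ρ * (q₁ : G)⁻¹) * q₁ := by group
          _ = (q₂ : G)⁻¹ * ((q₂ : G) * ρ * (q₂ : G)⁻¹) * q₁ := by rw [h1]
          _ = ρ * ((q₂ : G)⁻¹ * q₁) := by group
      have h3 := hρ _ (Q.mul_mem (Q.inv_mem q₂.2) q₁.2) h2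
      apply Subtype.ext
      calc (q₁ : G) = q₂ * ((q₂ : G)⁻¹ * q₁) := by group
        _ = q₂ := by rw [h3, mul_one]
    have hcard : Nat.card {y : G // y * ρ⁻¹ ∈ Q} ≤ Nat.card Q := by
      apply Nat.card_le_card_of_injective
        (fun y : {y : G // y * ρ⁻¹ ∈ Q} => (⟨y.1 * ρ⁻¹, y.2⟩ : Q))
      intro y₁ y₂ h
      have : y₁.1 * ρ⁻¹ = y₂.1 * ρ⁻¹ := congrArg Subtype.val h
      exact Subtype.ext (mul_right_cancel this)
    have hbij := hκ.bijective_of_nat_card_le hcard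
    intro y hy
    obtain ⟨q, hq⟩ := hbij.2 ⟨y, hy⟩
    exact ⟨q, q.2, (congrArg Subtype.val hq).symm⟩
  have inj : ∀ b c b' c' : G, b * a⁻¹ ∈ Q → c * a⁻¹ ∈ Q → b * b = 1 → c * c = 1 →
      b' * b' = 1 → c' * c' = 1 → b * b' = c * c' → (b * b') * ρ⁻¹ ∈ Q → b = c := by
    intro b c b' c' hb hc hb2 hc2 hb'2 hc'2 heq hy
    obtain ⟨q, hq, hyq⟩ := claim1 _ hy
    have hbinv : b⁻¹ = b := inv_eq_of_mul_eq_one_right hb2
    have hcinv : c⁻¹ = c := inv_eq_of_mul_eq_one_right hc2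
    have hb'inv : b'⁻¹ = b' := inv_eq_of_mul_eq_one_right hb'2
    have hc'inv : c'⁻¹ = c' := inv_eq_of_mul_eq_one_right hc'2
    have hx : c * b ∈ Q := by
      have : c * b = (c * a⁻¹) * (a * (b * a⁻¹) * a⁻¹) * (a * a) := by group
      rw [this, ha, mul_one]
      exact Q.mul_mem hc (hQ.conj_mem _ hb a)
    have e1 : c' * c = b' * b := by
      calc c' * c = (c * c')⁻¹ := by rw [mul_inv_rev, hcinv, hc'inv]
        _ = (b * b')⁻¹ := by rw [heq]
        _ = b' * b := by rw [mul_inv_rev, hbinv, hb'inv]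
    have hcomm : (c * b) * (b * b') = (b * b') * (c * b) := by
      calc (c * b) * (b * b') = c * (b * b) * b' := by group
        _ = c * b' := by rw [hb2, mul_one]
        _ = c * ((b' * b) * b) := by rw [mul_assoc b' b b, hb2, mul_one]
        _ = c * ((c' * c) * b) := by rw [e1]
        _ = (c * c') * (c * b) := by group
        _ = (b * b') * (c * b) := by rw [heq]
    have h2 : (q⁻¹ * (c * b) * q) * ρ = ρ * (q⁻¹ * (c * b) * q) := by
      calc (q⁻¹ * (c * b) * q) * ρ = q⁻¹ * ((c * b) * (q * ρ * q⁻¹)) * q := by group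
        _ = q⁻¹ * ((c * b) * (b * b')) * q := by rw [← hyq]
        _ = q⁻¹ * ((b * b') * (c * b)) * q := by rw [hcomm]
        _ = q⁻¹ * ((q * ρ * q⁻¹) * (c * b)) * q := by rw [hyq]
        _ = ρ * (q⁻¹ * (c * b) * q) := by group
    have hmem : q⁻¹ * (c * b) * q ∈ Q := by
      have := hQ.conj_mem _ hx q⁻¹
      rwa [inv_inv] at this
    have h3 := hρ _ hmem h2
    have h4 : c * b = 1 := by
      calc c * b = q * (q⁻¹ * (c * b) * q) * q⁻¹ := by group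
        _ = 1 := by rw [h3]; group
    calc b = c⁻¹ := eq_inv_of_mul_eq_one_right h4
      _ = c := hcinv
  have conjmem : ∀ q ∈ Q, (q * a * q⁻¹) * a⁻¹ ∈ Q := by
    intro q hq
    have : (q * a * q⁻¹) * a⁻¹ = q * (a * q⁻¹ * a⁻¹) := by group
    rw [this]; exact Q.mul_mem hq (hQ.conj_mem _ (Q.inv_mem hq) a)
  have conjsq : ∀ (q t : G), t * t = 1 → (q * t * q⁻¹) * (q * t * q⁻¹) = 1 := by
    intro q t ht
    calc (q * t * q⁻¹) * (q * t * q⁻¹) = q * (t * t) * q⁻¹ := by group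
      _ = 1 := by rw [ht]; group
  have core : ∀ b : G, b * a⁻¹ ∈ Q → b * b = 1 →
      ∃ q ∈ Q, q * a * q⁻¹ = b ∧ q * a' * q⁻¹ = a' := by
    intro b hb hb2
    have hy : (b * a') * ρ⁻¹ ∈ Q := by
      have : (b * a') * ρ⁻¹ = b * a⁻¹ := by rw [ha'def, hainv]; group
      rw [this]; exact hb
    obtain ⟨q, hq, hyq⟩ := claim1 _ hy
    have heq : b * a' = (q * a * q⁻¹) * (q * a' * q⁻¹) := by
      rw [hyq, ← haa']; group
    have h1 := inj b (q * a * q⁻¹) a' (q * a' * q⁻¹) hb (conjmem q hq) hb2 (conjsq q a ha) ha'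
      (conjsq q a' ha') heq hy
    refine ⟨q, hq, h1.symm, ?_⟩
    rw [← h1] at heq
    exact (mul_left_cancel heq).symm
  obtain ⟨C, hCdef⟩ : ∃ C : Subgroup G, C = Q ⊓ Subgroup.centralizer ({a} : Set G) := ⟨_, rfl⟩
  obtain ⟨C', hC'def⟩ : ∃ C' : Subgroup G, C' = Q ⊓ Subgroup.centralizer ({a'} : Set G) := ⟨_, rfl⟩
  have hCmem : ∀ x : G, x ∈ C ↔ x ∈ Q ∧ x * a = a * x := by
    intro x; rw [hCdef, Subgroup.mem_inf, hcent]
  have hC'mem : ∀ x : G, x ∈ C' ↔ x ∈ Q ∧ x * a' = a' * x := by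
    intro x; rw [hC'def, Subgroup.mem_inf, hcent]
  let m : C' × C → Q := fun z => ⟨z.1.1 * z.2.1, Q.mul_mem ((hC'mem _).1 z.1.2).1 ((hCmem _).1 z.2.2).1⟩
  have hm_inj : Function.Injective m := by
    rintro ⟨x₁, z₁⟩ ⟨x₂, z₂⟩ h
    have h1 : (x₁ : G) * z₁ = x₂ * z₂ := congrArg Subtype.val h
    have hw : (x₂ : G)⁻¹ * x₁ = z₂ * (z₁ : G)⁻¹ := by
      calc (x₂ : G)⁻¹ * x₁ = (x₂ : G)⁻¹ * ((x₁ : G) * z₁) * (z₁ : G)⁻¹ := by group
        _ = (x₂ : G)⁻¹ * ((x₂ : G) * z₂) * (z₁ : G)⁻¹ := by rw [h1]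
        _ = z₂ * (z₁ : G)⁻¹ := by group
    have hwC' : (x₂ : G)⁻¹ * x₁ ∈ C' := C'.mul_mem (C'.inv_mem x₂.2) x₁.2
    have hwC : (x₂ : G)⁻¹ * x₁ ∈ C := by rw [hw]; exact C.mul_mem z₂.2 (C.inv_mem z₁.2)
    have hwa := ((hCmem _).1 hwC).2
    have hwa' := ((hC'mem _).1 hwC').2
    have hwρ : ((x₂ : G)⁻¹ * x₁) * ρ = ρ * ((x₂ : G)⁻¹ * x₁) := by
      rw [← haa', ← mul_assoc, hwa, mul_assoc, hwa', ← mul_assoc]
    have h3 := hρ _ ((hCmem _).1 hwC).1 hwρ
    have e1 : (x₁ : G) = x₂ := by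
      calc (x₁ : G) = x₂ * ((x₂ : G)⁻¹ * x₁) := by group
        _ = x₂ := by rw [h3, mul_one]
    have e2 : (z₁ : G) = z₂ := by
      rw [e1] at h1; exact mul_left_cancel h1
    exact Prod.ext (Subtype.ext e1) (Subtype.ext e2)
  have hm_surj : Function.Surjective m := by
    rintro ⟨q, hq⟩
    obtain ⟨q₂, hq₂, h1, h2⟩ := core _ (conjmem q hq) (conjsq q a ha)
    have hx1 : q₂ ∈ C' := by
      rw [hC'mem]
      refine ⟨hq₂, ?_⟩
      calc q₂ * a' = (q₂ * a' * q₂⁻¹) * q₂ := by group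
        _ = a' * q₂ := by rw [h2]
    have hx2 : q₂⁻¹ * q ∈ C := by
      rw [hCmem]
      refine ⟨Q.mul_mem (Q.inv_mem hq₂) hq, ?_⟩
      calc (q₂⁻¹ * q) * a = q₂⁻¹ * (q * a * q⁻¹) * q := by group
        _ = q₂⁻¹ * (q₂ * a * q₂⁻¹) * q := by rw [h1]
        _ = a * (q₂⁻¹ * q) := by group
    refine ⟨(⟨q₂, hx1⟩, ⟨q₂⁻¹ * q, hx2⟩), ?_⟩
    apply Subtype.ext
    show q₂ * (q₂⁻¹ * q) = q
    group
  have hcard1 : Nat.card C' * Nat.card C = Nat.card Q := by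
    rw [← Nat.card_prod]
    exact Nat.card_congr (Equiv.ofBijective m ⟨hm_inj, hm_surj⟩)
  have hcard2 : Nat.card C' = Nat.card C := by
    apply Nat.card_congr
    refine ⟨fun x => ⟨g⁻¹ * x.1 * g, ?_⟩, fun x => ⟨g * x.1 * g⁻¹, ?_⟩, ?_, ?_⟩
    · obtain ⟨hxQ, hxa'⟩ := (hC'mem _).1 x.2
      rw [hCmem]
      refine ⟨?_, ?_⟩
      · have := hQ.conj_mem _ hxQ g⁻¹
        rwa [inv_inv] at this
      · calc (g⁻¹ * x.1 * g) * a = g⁻¹ * (x.1 * (g * a * g⁻¹)) * g := by group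
          _ = g⁻¹ * (x.1 * a') * g := by rw [hg]
          _ = g⁻¹ * (a' * x.1) * g := by rw [hxa']
          _ = g⁻¹ * ((g * a * g⁻¹) * x.1) * g := by rw [hg]
          _ = a * (g⁻¹ * x.1 * g) := by group
    · obtain ⟨hxQ, hxa⟩ := (hCmem _).1 x.2
      rw [hC'mem]
      refine ⟨hQ.conj_mem _ hxQ g, ?_⟩
      calc (g * x.1 * g⁻¹) * a' = (g * x.1 * g⁻¹) * (g * a * g⁻¹) := by rw [hg]
        _ = g * (x.1 * a) * g⁻¹ := by group
        _ = g * (a * x.1) * g⁻¹ := by rw [hxa]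
        _ = (g * a * g⁻¹) * (g * x.1 * g⁻¹) := by group
        _ = a' * (g * x.1 * g⁻¹) := by rw [hg]
    · intro x
      apply Subtype.ext
      show g * (g⁻¹ * x.1 * g) * g⁻¹ = x.1
      group
    · intro x
      apply Subtype.ext
      show g⁻¹ * (g * x.1 * g⁻¹) * g = x.1
      group
  refine ⟨?_, fun b hb hb2 => ?_⟩
  · rw [← hCdef, sq]
    rw [hcard2] at hcard1
    exact hcard1
  · obtain ⟨q, hq, h1, _⟩ := core b hb hb2
    exact ⟨q, hq, h1⟩

theorem r_pow {r : ℕ} (j : ZMod r) (m : ℕ) :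
    DihedralGroup.r j ^ m = DihedralGroup.r ((m : ZMod r) * j) := by
  induction m with
  | zero => rw [pow_zero, DihedralGroup.one_def, Nat.cast_zero, zero_mul]
  | succ m ih =>
    rw [pow_succ, ih, DihedralGroup.r_mul_r]
    congr 1
    push_cast
    ring

/-- Let G be a finite group and r an odd prime such that G ⧸ O₂(G) is dihedral of order 2r, and let R be a Sylow r-subgroup of G with C_{O₂(G)}(R) = 1. Then N_G(R) is dihedral of order 2r; for any involution a of N_G(R), every involution of G outside O₂(G) is conjugate to a; and |C_{O₂(G)}(a)|² = |O₂(G)|. -/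
theorem result {G : Type*} [Group G] [Finite G] {r : ℕ} [Fact r.Prime] (hr : r ≠ 2) [hN : (Cfsg.pCore 2 G).Normal] (hquot : Nonempty (G ⧸ Cfsg.pCore 2 G ≃* DihedralGroup r)) (R : Sylow r G) (hC : Cfsg.pCore 2 G ⊓ Subgroup.centralizer ((R : Subgroup G) : Set G) = ⊥) : Nonempty (↥(Subgroup.normalizer ((R : Subgroup G) : Set G)) ≃* DihedralGroup r) ∧ ∀ a : G, a ∈ Subgroup.normalizer ((R : Subgroup G) : Set G) → orderOf a = 2 → (∀ b : G, orderOf b = 2 → b ∉ Cfsg.pCore 2 G → ∃ g : G, g * a * g⁻¹ = b) ∧ Nat.card ↥(Cfsg.pCore 2 G ⊓ Subgroup.centralizer ({a} : Set G)) ^ 2 = Nat.card ↥(Cfsg.pCore 2 G) := by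
  classical
  obtain ⟨e⟩ := hquot
  have hrp : r.Prime := Fact.out
  set Q := Cfsg.pCore 2 G with hQdef
  have hQ2 : IsPGroup 2 Q := Cfsg.Agent.Lib.Helper4.pCore_isPGroup 2 G
  let π : G →* DihedralGroup r := e.toMonoidHom.comp (QuotientGroup.mk' Q)
  have hπsurj : Function.Surjective π := e.surjective.comp (QuotientGroup.mk'_surjective Q)
  have hπker : ∀ x : G, π x = 1 ↔ x ∈ Q := by
    intro x
    show e (QuotientGroup.mk' Q x) = 1 ↔ x ∈ Q
    rw [MulEquiv.map_eq_one_iff]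
    exact QuotientGroup.eq_one_iff x
  have h2 : (2 : ZMod r) ≠ 0 := by
    intro h
    have h' : ((2 : ℕ) : ZMod r) = 0 := by exact_mod_cast h
    rw [ZMod.natCast_eq_zero_iff] at h'
    exact hr ((Nat.prime_dvd_prime_iff_eq hrp Nat.prime_two).1 h')
  obtain ⟨m, hm⟩ : ∃ m, r = 2 * m + 1 := by
    rcases Nat.Prime.eq_two_or_odd' hrp with h | h
    · exact absurd h hr
    · obtain ⟨m, hm⟩ := h; exact ⟨m, hm⟩
  have hrefl : ∀ x : G, x * x = 1 → x ∉ Q → ∃ i, π x = DihedralGroup.sr i := by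
    intro x hx hxQ
    rcases hd : π x with j | i
    · exfalso
      have h1 : π x * π x = 1 := by rw [← map_mul, hx, map_one]
      rw [hd, DihedralGroup.r_mul_r, DihedralGroup.one_def] at h1
      have h3 : j + j = 0 := by injection h1
      have h4 : j = 0 := by
        have : (2 : ZMod r) * j = 0 := by rw [two_mul]; exact h3
        rcases mul_eq_zero.mp this with h | h
        · exact absurd h h2
        · exact h
      apply hxQ
      rw [← hπker, hd, h4, DihedralGroup.one_def]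
    · exact ⟨i, rfl⟩
  have hRcard : Nat.card (R : Subgroup G) = r := by
    obtain ⟨k, hk⟩ := IsPGroup.iff_card.mp R.isPGroup'
    obtain ⟨t, ht⟩ := IsPGroup.iff_card.mp hQ2
    have hG : Nat.card G = 2 ^ t * (2 * r) := by
      rw [← ht, ← DihedralGroup.nat_card (n := r), ← Nat.card_congr e.toEquiv, mul_comm]
      exact Subgroup.card_eq_card_quotient_mul_card_subgroup Q
    have hnd := R.not_dvd_index
    have hmul := (R : Subgroup G).card_mul_index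
    rw [hk, hG] at hmul
    have hk1 : k = 1 := by
      rcases k with _ | _ | k
      · exfalso
        apply hnd
        rw [pow_zero, one_mul] at hmul
        rw [hmul]
        exact Dvd.intro_left (2 ^ t * 2) (by ring)
      · rfl
      · exfalso
        have h1 : r ^ 2 ∣ 2 ^ t * (2 * r) := by
          rw [← hmul]
          exact Dvd.dvd.mul_right (pow_dvd_pow r (by omega)) _
        have h2' : r * r ∣ (2 ^ t * 2) * r := by
          rw [← sq]; convert h1 using 1; ring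
        have h3 : r ∣ 2 ^ t * 2 := Nat.dvd_of_mul_dvd_mul_right hrp.pos h2'
        have h4 : r ∣ 2 ^ (t + 1) := by rw [pow_succ]; exact h3
        exact hr ((Nat.prime_dvd_prime_iff_eq hrp Nat.prime_two).1 (hrp.dvd_of_dvd_pow h4))
    rw [hk, hk1, pow_one]
  obtain ⟨ρ', hρ'1⟩ : ∃ ρ' : (R : Subgroup G), ρ' ≠ 1 := by
    by_contra hcon
    have hall : ∀ x : (R : Subgroup G), x = 1 := fun x => by
      by_contra hx
      exact hcon ⟨x, hx⟩
    have : Nat.card (R : Subgroup G) = 1 := by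
      rw [Nat.card_eq_one_iff_unique]
      exact ⟨⟨fun x y => by rw [hall x, hall y]⟩, ⟨1⟩⟩
    rw [hRcard] at this
    exact hrp.one_lt.ne' this
  have hgen : Subgroup.zpowers ρ' = ⊤ := zpowers_eq_top_of_prime_card hRcard hρ'1
  obtain ⟨ρ, hρdef⟩ : ∃ ρ : G, ρ = ρ'.1 := ⟨_, rfl⟩
  have hρR : ρ ∈ (R : Subgroup G) := by rw [hρdef]; exact ρ'.2
  have hρr : ρ ^ r = 1 := by
    have := pow_card_eq_one' (G := (R : Subgroup G)) (x := ρ')
    rw [hRcard] at this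
    rw [hρdef]
    exact congrArg Subtype.val this
  have hRpow : ∀ x ∈ (R : Subgroup G), ∃ k : ℤ, ρ ^ k = x := by
    intro x hx
    have : (⟨x, hx⟩ : (R : Subgroup G)) ∈ Subgroup.zpowers ρ' := by
      rw [hgen]; exact Subgroup.mem_top _
    obtain ⟨k, hk⟩ := Subgroup.mem_zpowers_iff.1 this
    refine ⟨k, ?_⟩
    have := congrArg Subtype.val hk
    rw [hρdef]
    simpa using this
  have hρc : ∀ x ∈ Q, x * ρ = ρ * x → x = 1 := by
    intro x hx hxρ
    have : x ∈ Q ⊓ Subgroup.centralizer ((R : Subgroup G) : Set G) := by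
      refine ⟨hx, ?_⟩
      show x ∈ Subgroup.centralizer ((R : Subgroup G) : Set G)
      rw [Subgroup.mem_centralizer_iff]
      intro y hy
      obtain ⟨k, rfl⟩ := hRpow y hy
      have hc : Commute x ρ := hxρ
      exact (hc.zpow_right k).eq.symm
    rw [hC, Subgroup.mem_bot] at this
    exact this
  have hRQ : ∀ x ∈ (R : Subgroup G), x ∈ Q → x = 1 := by
    intro x hxR hxQ
    obtain ⟨k, hk⟩ := hQ2 ⟨x, hxQ⟩
    have h1 : x ^ 2 ^ k = 1 := by
      have := congrArg Subtype.val hk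
      simpa using this
    obtain ⟨j, rfl⟩ := hRpow x hxR
    have h2' : (ρ ^ j) ^ r = 1 := by
      rw [← zpow_natCast, ← zpow_mul, mul_comm, zpow_mul, zpow_natCast, hρr, one_zpow]
    have hd1 := orderOf_dvd_of_pow_eq_one h1
    have hd2 := orderOf_dvd_of_pow_eq_one h2'
    have hcop : Nat.Coprime (2 ^ k) r := by
      apply Nat.Coprime.pow_left
      rw [Nat.coprime_comm, Nat.Prime.coprime_iff_not_dvd hrp]
      intro h
      exact hr ((Nat.prime_dvd_prime_iff_eq hrp Nat.prime_two).1 h)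
    have h3 : orderOf (ρ ^ j) ∣ 1 := by
      have := Nat.dvd_gcd hd1 hd2
      rwa [hcop.gcd_eq_one] at this
    exact orderOf_eq_one_iff.1 (Nat.dvd_one.1 h3)
  have hρ1 : ρ ≠ 1 := by
    intro h
    apply hρ'1
    apply Subtype.ext
    rw [← hρdef, h]; rfl
  obtain ⟨j₀, hj₀, hπρ'⟩ : ∃ j₀ : ZMod r, j₀ ≠ 0 ∧ π ρ = DihedralGroup.r j₀ := by
    rcases hd : π ρ with j | i
    · refine ⟨j, ?_, rfl⟩
      intro hj
      have : ρ ∈ Q := by rw [← hπker, hd, hj, DihedralGroup.one_def]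
      exact hρ1 (hRQ ρ hρR this)
    · exfalso
      have h1 : (π ρ) ^ r = 1 := by rw [← map_pow, hρr, map_one]
      rw [hd] at h1
      have h1' : DihedralGroup.sr i ^ (2 * m + 1) = 1 := by rw [← hm]; exact h1
      rw [pow_succ, pow_mul, sq, DihedralGroup.sr_mul_self, one_pow, one_mul,
        DihedralGroup.one_def] at h1'
      cases h1'
  have hNQ : ∀ n ∈ Subgroup.normalizer ((R : Subgroup G) : Set G), n ∈ Q → n = 1 := by
    intro n hn hnQ
    apply hρc n hnQ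
    have h1 : n * ρ * n⁻¹ ∈ (R : Subgroup G) := (Subgroup.mem_normalizer_iff.1 hn ρ).1 hρR
    have h2' : n * ρ * n⁻¹ * ρ⁻¹ ∈ (R : Subgroup G) :=
      (R : Subgroup G).mul_mem h1 ((R : Subgroup G).inv_mem hρR)
    have h3 : n * ρ * n⁻¹ * ρ⁻¹ ∈ Q := by
      have : n * ρ * n⁻¹ * ρ⁻¹ = n * (ρ * n⁻¹ * ρ⁻¹) := by group
      rw [this]; exact Q.mul_mem hnQ (hN.conj_mem _ (Q.inv_mem hnQ) ρ)
    have h4 := hRQ _ h2' h3
    calc n * ρ = (n * ρ * n⁻¹ * ρ⁻¹) * (ρ * n) := by group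
      _ = ρ * n := by rw [h4, one_mul]
  let rot : Subgroup (DihedralGroup r) :=
    { carrier := {x | ∃ i, x = DihedralGroup.r i}
      mul_mem' := by
        rintro _ _ ⟨i, rfl⟩ ⟨j, rfl⟩
        exact ⟨i + j, DihedralGroup.r_mul_r i j⟩
      one_mem' := ⟨0, DihedralGroup.one_def⟩
      inv_mem' := by
        rintro _ ⟨i, rfl⟩
        exact ⟨-i, DihedralGroup.inv_r i⟩ }
  have hrotN : rot.Normal := by
    refine ⟨?_⟩
    rintro _ ⟨i, rfl⟩ d
    rcases d with j | j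
    · refine ⟨i, ?_⟩
      rw [DihedralGroup.inv_r, DihedralGroup.r_mul_r, DihedralGroup.r_mul_r]
      congr 1; ring
    · refine ⟨-i, ?_⟩
      rw [DihedralGroup.inv_sr, DihedralGroup.sr_mul_r, DihedralGroup.sr_mul_sr]
      congr 1; ring
  haveI hKN : (rot.comap π).Normal := hrotN.comap π
  have hRK : (R : Subgroup G) ≤ rot.comap π := by
    intro x hx
    obtain ⟨k, rfl⟩ := hRpow x hx
    show π (ρ ^ k) ∈ rot
    rw [map_zpow, hπρ']
    exact rot.zpow_mem ⟨j₀, rfl⟩ k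
  have hfrat : Subgroup.normalizer ((R : Subgroup G) : Set G) ⊔ rot.comap π = ⊤ :=
    Sylow.normalizer_sup_eq_top' R hRK
  have hNsurj : ∀ d : DihedralGroup r,
      ∃ n ∈ Subgroup.normalizer ((R : Subgroup G) : Set G), π n = d := by
    intro d
    obtain ⟨g, rfl⟩ := hπsurj d
    have hset : g ∈ ((Subgroup.normalizer ((R : Subgroup G) : Set G) ⊔ rot.comap π : Subgroup G) : Set G) := by
      rw [hfrat]; exact Subgroup.mem_top _
    rw [Subgroup.mul_normal] at hset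
    obtain ⟨n, hn, k, hk, rfl⟩ := Set.mem_mul.1 hset
    have hk' : π k ∈ rot := hk
    obtain ⟨j, hj⟩ := hk'
    obtain ⟨c, hc⟩ : ∃ c : ℕ, (c : ZMod r) * j₀ = j :=
      ⟨(j * j₀⁻¹).val, by rw [ZMod.natCast_zmod_val]; field_simp⟩
    refine ⟨n * ρ ^ c, Subgroup.mul_mem _ hn (Subgroup.pow_mem _ (Subgroup.le_normalizer hρR) c), ?_⟩
    rw [map_mul, map_mul, map_pow, hπρ', hj, r_pow, hc]
  let πN : ↥(Subgroup.normalizer ((R : Subgroup G) : Set G)) →* DihedralGroup r :=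
    π.comp (Subgroup.subtype _)
  have hπN : Function.Bijective πN := by
    constructor
    · rw [injective_iff_map_eq_one]
      intro n hn
      exact Subtype.ext (hNQ n.1 n.2 ((hπker _).1 hn))
    · intro d
      obtain ⟨n, hn, rfl⟩ := hNsurj d
      exact ⟨⟨n, hn⟩, rfl⟩
  refine ⟨⟨MulEquiv.ofBijective πN hπN⟩, ?_⟩
  intro a haN ha2
  have haa : a * a = 1 := by rw [← sq, ← ha2]; exact pow_orderOf_eq_one a
  have ha1 : a ≠ 1 := by
    intro h; rw [h, orderOf_one] at ha2; omega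
  have haQ : a ∉ Q := fun h => ha1 (hNQ a haN h)
  obtain ⟨i, hi⟩ := hrefl a haa haQ
  have hainv : a⁻¹ = a := inv_eq_of_mul_eq_one_right haa
  have hinv : a * ρ * a = ρ⁻¹ := by
    have h1 : a * ρ * a⁻¹ ∈ (R : Subgroup G) := (Subgroup.mem_normalizer_iff.1 haN ρ).1 hρR
    rw [hainv] at h1
    have h2' : a * ρ * a * ρ ∈ (R : Subgroup G) := (R : Subgroup G).mul_mem h1 hρR
    have h3 : a * ρ * a * ρ ∈ Q := by
      rw [← hπker, map_mul, map_mul, map_mul, hi, hπρ', DihedralGroup.sr_mul_r,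
        DihedralGroup.sr_mul_sr, DihedralGroup.r_mul_r, DihedralGroup.one_def]
      congr 1; ring
    exact eq_inv_of_mul_eq_one_left (hRQ _ h2' h3)
  have hρa : ∀ k : ℕ, ρ ^ k * a = a * (ρ⁻¹) ^ k := by
    intro k
    induction k with
    | zero => simp
    | succ k ih =>
      have h1 : ρ * a = a * ρ⁻¹ := by
        calc ρ * a = (a * a) * (ρ * a) := by rw [haa, one_mul]
          _ = a * (a * ρ * a) := by group
          _ = a * ρ⁻¹ := by rw [hinv]
      calc ρ ^ (k + 1) * a = ρ ^ k * (ρ * a) := by rw [pow_succ, mul_assoc]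
        _ = ρ ^ k * (a * ρ⁻¹) := by rw [h1]
        _ = (ρ ^ k * a) * ρ⁻¹ := by rw [mul_assoc]
        _ = a * (ρ⁻¹) ^ k * ρ⁻¹ := by rw [ih]
        _ = a * (ρ⁻¹) ^ (k + 1) := by rw [pow_succ, mul_assoc]
  have hg : ρ ^ m * a * (ρ ^ m)⁻¹ = a * ρ := by
    rw [hρa m, mul_assoc]
    congr 1
    have h1 : ρ ^ (m + m) * ρ = 1 := by
      rw [← pow_succ]
      have : m + m + 1 = r := by omega
      rw [this, hρr]
    rw [inv_pow, ← mul_inv_rev, ← pow_add, eq_inv_of_mul_eq_one_left h1, inv_inv]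
  obtain ⟨hB2, hcore⟩ := cnt Q a ρ (ρ ^ m) haa hinv hg hρc
  refine ⟨?_, hB2⟩
  intro b hb2 hbQ
  have hbb : b * b = 1 := by rw [← sq, ← hb2]; exact pow_orderOf_eq_one b
  obtain ⟨i', hi'⟩ := hrefl b hbb hbQ
  obtain ⟨g₀, hg₀⟩ := hπsurj (DihedralGroup.r ((i - i') / 2))
  have h1 : (g₀⁻¹ * b * g₀) * a⁻¹ ∈ Q := by
    rw [← hπker, map_mul, map_mul, map_mul, map_inv, map_inv, hg₀, hi', hi, DihedralGroup.inv_r,
      DihedralGroup.inv_sr, DihedralGroup.r_mul_sr, DihedralGroup.sr_mul_r,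
      DihedralGroup.sr_mul_sr, DihedralGroup.one_def]
    congr 1
    field_simp
    ring
  have h2' : (g₀⁻¹ * b * g₀) * (g₀⁻¹ * b * g₀) = 1 := by
    calc (g₀⁻¹ * b * g₀) * (g₀⁻¹ * b * g₀) = g₀⁻¹ * (b * b) * g₀ := by group
      _ = 1 := by rw [hbb]; group
  obtain ⟨q, hq, hqa⟩ := hcore _ h1 h2'
  refine ⟨g₀ * q, ?_⟩
  calc g₀ * q * a * (g₀ * q)⁻¹ = g₀ * (q * a * q⁻¹) * g₀⁻¹ := by group
    _ = g₀ * (g₀⁻¹ * b * g₀) * g₀⁻¹ := by rw [hqa]
    _ = b := by group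

end Cfsg.Agent.S2873
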