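import Cfsg.Statements.S2910
import Mathlib
import Cfsg.Agent.S1947

set_option autoImplicit false
open Cfsg

namespace Cfsg.Agent.S2910

/-- Let p be an odd prime dividing the order of the finite group G and P a Sylow p-subgroup of G. If Ω₁(P) (generated by the elements of order dividing p) is contained in the centre of G, then G has a normal p-complement. In particular, if G is quasisimple then Ω₁(P) is not central in G. -/
theorem result {G : Type*} [Group G] [Finite G] {p : ℕ} [Fact p.Prime] (hp : p ≠ 2) (hdiv : p ∣ Nat.card G) (P : Sylow p G) (hZ : Cfsg.omegaOne p (P : Subgroup G) ≤ Subgroup.center G) : Cfsg.HasNormalPComplement p G ∧ ¬ Cfsg.IsQuasisimple G := by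
  classical
  have hpp : p.Prime := Fact.out
  have hnpc : Cfsg.HasNormalPComplement p G := by
    apply Cfsg.Agent.S1947.result 1
    intro a hexp
    rw [Subgroup.upperCentralSeries_one]
    have hap : a ^ p = 1 := by
      rcases hexp with h1 | ⟨h2, _⟩
      · exact h1
      · exact absurd h2 hp
    have hzp : IsPGroup p ↥(Subgroup.zpowers a) := by
      intro x
      obtain ⟨k, hk⟩ := Subgroup.mem_zpowers_iff.mp x.2
      refine ⟨1, ?_⟩
      apply Subtype.ext
      show (x : G) ^ p ^ 1 = 1
      rw [pow_one, ← hk, ← zpow_natCast, ← zpow_mul, mul_comm, zpow_mul, zpow_natCast, hap, one_zpow]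
    obtain ⟨u, hu⟩ := Cfsg.Agent.Lib.Helper3.exists_conj_mem_sylow (Subgroup.zpowers a) hzp P
    have h1 : u * a * u⁻¹ ∈ Cfsg.omegaOne p (P : Subgroup G) := by
      apply Subgroup.subset_closure
      refine ⟨hu a (Subgroup.mem_zpowers a), ?_⟩
      rw [conj_pow, hap]; group
    have h2 : u * a * u⁻¹ ∈ Subgroup.center G := hZ h1
    have h3 : a = u⁻¹ * (u * a * u⁻¹) * u⁻¹⁻¹ := by group
    rw [h3]
    exact (inferInstance : (Subgroup.center G).Normal).conj_mem _ h2 u⁻¹
  refine ⟨hnpc, ?_⟩
  intro hqs
  obtain ⟨P', N, hNn, hNc⟩ := hnpc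
  have hidx : N.index = Nat.card ↥(P' : Subgroup G) := hNc.symm.index_eq_card
  have hNtop : N ≠ ⊤ := by
    intro h
    rw [h, Subgroup.index_top] at hidx
    have h1 : p ∣ Nat.card ↥(P' : Subgroup G) := by
      have := Sylow.pow_dvd_card_of_pow_dvd_card P' (n := 1) (by rw [pow_one]; exact hdiv)
      rwa [pow_one] at this
    rw [← hidx] at h1
    exact hpp.one_lt.ne' (Nat.dvd_one.mp h1)
  have hperf : Group.IsPerfect G := hqs.1
  have hquotp : IsPGroup p (G ⧸ N) := by
    obtain ⟨m, hm⟩ := IsPGroup.iff_card.mp P'.isPGroup'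
    apply IsPGroup.of_card (n := m)
    rw [← hm, ← hidx, Subgroup.index]
  have hnil : Group.IsNilpotent (G ⧸ N) := hquotp.isNilpotent
  have hnt : Nontrivial (G ⧸ N) := by
    rw [← Finite.one_lt_card_iff_nontrivial]
    have h1 : N.index ≠ 1 := fun h => hNtop (Subgroup.index_eq_one.mp h)
    have h2 : N.index ≠ 0 := Subgroup.index_ne_zero_of_finite
    rw [Subgroup.index] at h1 h2
    omega
  exact (Group.IsPerfect.not_isNilpotent (G := G ⧸ N)) hnil

end Cfsg.Agent.S2910
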