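import Cfsg.Statements.S2968
import Mathlib
import Cfsg.Agent.Lib.Helper5.Isolated

set_option autoImplicit false
open Cfsg

namespace Cfsg.Agent.S2968

/-- Let G be a finite group, p a prime, P a Sylow p-subgroup of G and x ∈ P an element of p-power order which is isolated in G (the only conjugate of x commuting with x is x itself). Then x lies in the centre of P, and the subgroup generated by x is both strongly closed and weakly closed in P with respect to G. -/
theorem result {G : Type*} [Group G] [Finite G] {p : ℕ} [Fact p.Prime] (P : Sylow p G) (x : G) (hxP : x ∈ (P : Subgroup G)) (hx : ∃ k : ℕ, orderOf x = p ^ k) (hiso : Cfsg.IsIsolated x) : x ∈ (P : Subgroup G) ⊓ Subgroup.centralizer ((P : Subgroup G) : Set G) ∧ Cfsg.IsStronglyClosed (Subgroup.zpowers x) (P : Subgroup G) ∧ Cfsg.IsWeaklyClosed (Subgroup.zpowers x) (P : Subgroup G) := by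
  obtain ⟨k, hk⟩ := hx
  have hcent := Cfsg.Agent.Lib.Helper5.isolated_central_in_pGroup x hiso (P : Subgroup G) P.2 hxP
  have hxle : Subgroup.zpowers x ≤ (P : Subgroup G) := by
    rw [Subgroup.zpowers_le]; exact hxP
  refine ⟨⟨hxP, ?_⟩, ⟨hxle, ?_⟩, ⟨hxle, ?_⟩⟩
  · show x ∈ Subgroup.centralizer ((P : Subgroup G) : Set G)
    rw [Subgroup.mem_centralizer_iff]
    intro h hh
    exact hcent h hh
  · intro u hu g hg
    obtain ⟨i, rfl⟩ := Subgroup.mem_zpowers_iff.mp hu
    have hconj : g * x ^ i * g⁻¹ = (g * x * g⁻¹) ^ i := (conj_zpow (a := g) (b := x) (i := i)).symm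
    have hxN : x ∈ Subgroup.centralizer ({g * x ^ i * g⁻¹} : Set G) := by
      rw [Subgroup.mem_centralizer_iff]
      intro y hy
      rw [Set.mem_singleton_iff] at hy
      rw [hy]
      exact hcent _ hg
    have hyN : g * x * g⁻¹ ∈ Subgroup.centralizer ({g * x ^ i * g⁻¹} : Set G) := by
      rw [Subgroup.mem_centralizer_iff]
      intro y hy
      rw [Set.mem_singleton_iff] at hy
      rw [hy, hconj]
      exact ((Commute.refl (g * x * g⁻¹)).zpow_left i).eq
    obtain ⟨c, hc, hc2⟩ := Cfsg.Agent.Lib.Helper5.isolated_conj_in_subgroup x k hk hiso _ hxN g hyN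
    have hc3 := Subgroup.mem_centralizer_iff.mp hc (g * x ^ i * g⁻¹) rfl
    have h4 : g * x ^ i * g⁻¹ = c * x ^ i * c⁻¹ := by
      rw [hconj, hc2, conj_zpow]
    have h5 : g * x ^ i * g⁻¹ = x ^ i := by
      rw [h4] at hc3
      rw [h4]
      have h6 : c * x ^ i = c * (c * x ^ i * c⁻¹) := by
        rw [← hc3]; group
      exact (mul_left_cancel h6).symm
    rw [h5]
    exact Subgroup.zpow_mem_zpowers x i
  · intro g hg
    have h1 : g * x * g⁻¹ ∈ (P : Subgroup G) := by
      apply hg
      exact ⟨x, Subgroup.mem_zpowers x, rfl⟩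
    have h2 := Cfsg.Agent.Lib.Helper5.isolated_conj_eq x hiso (P : Subgroup G) P.2 hxP g h1
    rw [MonoidHom.map_zpowers]
    show Subgroup.zpowers (g * x * g⁻¹) = Subgroup.zpowers x
    rw [h2]

end Cfsg.Agent.S2968
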