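import Cfsg.Statements.S2970
import Mathlib
import Cfsg.Agent.Lib.Helper5.Isolated
import Cfsg.Agent.Lib.Helper5.CyclicSylow

set_option autoImplicit false
open Cfsg

namespace Cfsg.Agent.S2970

/-- Let G be a finite group, p a prime and x ∈ G an element of p-power order which is isolated in G. Then the image of x in any quotient G ⧸ N is isolated in G ⧸ N; and if x ≠ 1 and the Sylow p-subgroups of G are cyclic, then G has a normal p-complement. -/
theorem result {G : Type*} [Group G] [Finite G] {p : ℕ} [Fact p.Prime] (x : G) (hx : ∃ k : ℕ, orderOf x = p ^ k) (hiso : Cfsg.IsIsolated x) : (∀ (N : Subgroup G) [N.Normal], Cfsg.IsIsolated (QuotientGroup.mk x : G ⧸ N)) ∧ (x ≠ 1 → (∀ P : Sylow p G, IsCyclic ↥(P : Subgroup G)) → Cfsg.HasNormalPComplement p G) := by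
  obtain ⟨k, hk⟩ := hx
  refine ⟨?_, ?_⟩
  · intro N _ gbar hcomm
    obtain ⟨g, rfl⟩ := QuotientGroup.mk_surjective gbar
    obtain ⟨H, hH⟩ : ∃ H : Subgroup G, H = (Subgroup.centralizer
        ({(QuotientGroup.mk x : G ⧸ N)} : Set (G ⧸ N))).comap (QuotientGroup.mk' N) := ⟨_, rfl⟩
    have hxH : x ∈ H := by
      rw [hH, Subgroup.mem_comap, Subgroup.mem_centralizer_iff]
      intro y hy
      rw [Set.mem_singleton_iff] at hy
      rw [hy]
      rfl
    have hyH : g * x * g⁻¹ ∈ H := by
      rw [hH, Subgroup.mem_comap, Subgroup.mem_centralizer_iff]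
      intro y hy
      rw [Set.mem_singleton_iff] at hy
      rw [hy]
      exact hcomm.eq
    obtain ⟨h, hh, hh2⟩ := Cfsg.Agent.Lib.Helper5.isolated_conj_in_subgroup x k hk hiso H hxH g hyH
    rw [hH, Subgroup.mem_comap, Subgroup.mem_centralizer_iff] at hh
    have h3 : (QuotientGroup.mk x : G ⧸ N) * QuotientGroup.mk' N h
        = QuotientGroup.mk' N h * (QuotientGroup.mk x : G ⧸ N) := hh _ rfl
    have h4 : (QuotientGroup.mk g : G ⧸ N) * QuotientGroup.mk x * (QuotientGroup.mk g)⁻¹
        = QuotientGroup.mk (g * x * g⁻¹) := rfl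
    rw [h4, hh2]
    show (QuotientGroup.mk' N h) * (QuotientGroup.mk x : G ⧸ N) * (QuotientGroup.mk' N h)⁻¹ = _
    rw [← h3]
    group
  · intro hx1 hcyc
    have hxp := Cfsg.Agent.Lib.Helper5.isPGroup_zpowers_of_orderOf x k hk
    obtain ⟨P, hP⟩ := hxp.exists_le_sylow
    have hxP : x ∈ (P : Subgroup G) := hP (Subgroup.mem_zpowers x)
    have hNC : Subgroup.normalizer ((P : Subgroup G) : Set G)
        ≤ Subgroup.centralizer ((P : Subgroup G) : Set G) := by
      intro n hn
      have h1 := Cfsg.Agent.Lib.Helper5.isolated_normalizer_le x hiso (P : Subgroup G) P.2 hxP hn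
      have h2 := Subgroup.mem_centralizer_iff.mp h1 x rfl
      rw [Subgroup.mem_centralizer_iff]
      intro g hg
      exact ((Cfsg.Agent.Lib.Helper5.commute_of_normalizer_cyclic_sylow P (hcyc P) x hxP hx1 n hn
        h2.symm) g hg).eq.symm
    exact ⟨P, _, inferInstance, MonoidHom.ker_transferSylow_isComplement' P hNC⟩

end Cfsg.Agent.S2970
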