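import Cfsg.Statements.S3494
import Mathlib
import Cfsg.Agent.Lib.Helper6.Conj
-- import your own Cfsg.Agent.* helpers here

set_option autoImplicit false
open Cfsg

namespace Cfsg.Agent.S3494


open MulAction Pointwise in
theorem manning_aux {G : Type*} [Group G] [Finite G] {Ω : Type*} [Fintype Ω] [MulAction G Ω] [FaithfulSMul G Ω]
    (hprim : IsPreprimitive G Ω) (hH : ∀ α : Ω, stabilizer G α ≠ ⊥)
    (hep : ∀ (α : Ω) (ω : Ω), IsPreprimitive (stabilizer G α) (orbit (stabilizer G α) ω))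
    (α ω : Ω) (hω : ω ≠ α) (h : stabilizer G α) (hfix : ∀ x ∈ orbit (stabilizer G α) ω, h • x = x) : h = 1 := by
  classical
  by_contra hne
  have : IsPretransitive G Ω := hprim.toIsPretransitive
  have : Nontrivial Ω := ⟨⟨ω, α, hω⟩⟩
  let K' : Subgroup (stabilizer G α) := fixingSubgroup (stabilizer G α) (orbit (stabilizer G α) ω)
  have hK'mem : ∀ k : stabilizer G α, k ∈ K' ↔ ∀ x ∈ orbit (stabilizer G α) ω, k • x = x :=
    fun k => mem_fixingSubgroup_iff _
  have hhK : h ∈ K' := (hK'mem h).2 hfix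
  have hK'n : K'.Normal := by
    constructor
    intro n hn g
    rw [hK'mem] at hn ⊢
    intro x hx
    have hx' : g⁻¹ • x ∈ orbit (stabilizer G α) ω := by
      obtain ⟨y, rfl⟩ := hx
      exact ⟨g⁻¹ * y, mul_smul _ _ _⟩
    rw [mul_smul, mul_smul, hn _ hx', smul_inv_smul]
  let F₀ : Set Ω := {σ | ∀ k ∈ K', k • σ = σ}
  have hαF : α ∈ F₀ := fun k _ => k.2
  have hFinv : ∀ (g : stabilizer G α) σ, σ ∈ F₀ → g • σ ∈ F₀ := by
    intro g σ hσ k hk
    have hc : g⁻¹ * k * g ∈ K' := by simpa using hK'n.conj_mem k hk g⁻¹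
    have h2 := hσ _ hc
    rw [mul_smul, mul_smul, inv_smul_eq_iff] at h2
    exact h2
  have horbF : ∀ x ∈ orbit (stabilizer G α) ω, x ∈ F₀ := fun x hx k hk => (hK'mem k).1 hk x hx
  have hKorb : ∀ θ, θ ∉ F₀ → ∀ g : stabilizer G α, ∃ k ∈ K', k • θ = g • θ := by
    intro θ hθ g
    have hb : IsBlock (stabilizer G α)
        (orbit K' (⟨θ, mem_orbit_self θ⟩ : orbit (stabilizer G α) θ)) := IsBlock.orbit_of_normal _
    rcases (hep α θ).isTrivialBlock_of_isBlock hb with hsub | huniv
    · exfalso; apply hθ; intro k hk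
      have := hsub (mem_orbit _ (⟨k, hk⟩ : K')) (mem_orbit_self _)
      exact congrArg Subtype.val this
    · have hmem : (g • (⟨θ, mem_orbit_self θ⟩ : orbit (stabilizer G α) θ)) ∈
          orbit K' (⟨θ, mem_orbit_self θ⟩ : orbit (stabilizer G α) θ) := by
        rw [huniv]; exact Set.mem_univ _
      obtain ⟨k, hk⟩ := hmem
      exact ⟨k.1, k.2, congrArg Subtype.val hk⟩
  let inF : Ω → Ω → Prop := fun δ σ => ∃ g : G, g • α = δ ∧ g⁻¹ • σ ∈ F₀
  have hinF_iff : ∀ (g : G) σ, inF (g • α) σ ↔ g⁻¹ • σ ∈ F₀ := by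
    intro g σ
    constructor
    · rintro ⟨g', hg', hσ⟩
      have hmem : g⁻¹ * g' ∈ stabilizer G α := by
        rw [mem_stabilizer_iff, mul_smul, hg', inv_smul_smul]
      have h3 := hFinv ⟨g⁻¹ * g', hmem⟩ _ hσ
      have e : (⟨g⁻¹ * g', hmem⟩ : stabilizer G α) • (g'⁻¹ • σ) = g⁻¹ • σ := by
        show (g⁻¹ * g') • (g'⁻¹ • σ) = g⁻¹ • σ
        rw [mul_smul, smul_inv_smul]
      rwa [e] at h3
    · intro hσ; exact ⟨g, rfl, hσ⟩
  have hinF_smul : ∀ (x : G) δ σ, inF δ σ → inF (x • δ) (x • σ) := by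
    rintro x δ σ ⟨g, rfl, hσ⟩
    refine ⟨x * g, mul_smul _ _ _, ?_⟩
    rw [mul_inv_rev, mul_smul, inv_smul_smul]; exact hσ
  have hinF_smul_iff : ∀ (x : G) δ σ, inF (x • δ) (x • σ) ↔ inF δ σ := by
    intro x δ σ
    refine ⟨fun h => ?_, hinF_smul x δ σ⟩
    have := hinF_smul x⁻¹ _ _ h
    rwa [inv_smul_smul, inv_smul_smul] at this
  have hcount : ∀ σ, (Finset.univ.filter (fun δ => inF δ σ)).card =
      (Finset.univ.filter (fun φ => φ ∈ F₀)).card := by
    intro σ
    have h1 := Finset.sum_card_bipartiteAbove_eq_sum_card_bipartiteBelow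
      (s := (Finset.univ : Finset Ω)) (t := (Finset.univ : Finset Ω)) inF
    have h2 : ∀ δ, ((Finset.univ : Finset Ω).bipartiteAbove inF δ).card =
        (Finset.univ.filter (fun φ => φ ∈ F₀)).card := by
      intro δ
      obtain ⟨g, rfl⟩ := exists_smul_eq G α δ
      refine Finset.card_bij' (fun σ _ => g⁻¹ • σ) (fun φ _ => g • φ) ?_ ?_ ?_ ?_
      · intro σ hσ
        simp only [Finset.mem_filter, Finset.mem_univ, true_and, Finset.mem_bipartiteAbove] at hσ ⊢
        exact (hinF_iff g σ).1 hσ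
      · intro φ hφ
        simp only [Finset.mem_filter, Finset.mem_univ, true_and, Finset.mem_bipartiteAbove] at hφ ⊢
        exact (hinF_iff g _).2 (by rwa [inv_smul_smul])
      · intro σ _; exact smul_inv_smul g σ
      · intro φ _; exact inv_smul_smul g φ
    have h3 : ∀ σ', ((Finset.univ : Finset Ω).bipartiteBelow inF σ').card =
        ((Finset.univ : Finset Ω).bipartiteBelow inF σ).card := by
      intro σ'
      obtain ⟨x, rfl⟩ := exists_smul_eq G σ σ'
      refine Finset.card_bij' (fun δ _ => x⁻¹ • δ) (fun δ _ => x • δ) ?_ ?_ ?_ ?_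
      · intro δ hδ
        simp only [Finset.mem_univ, true_and, Finset.mem_bipartiteBelow] at hδ ⊢
        have := hinF_smul x⁻¹ _ _ hδ
        rwa [inv_smul_smul] at this
      · intro δ hδ
        simp only [Finset.mem_univ, true_and, Finset.mem_bipartiteBelow] at hδ ⊢
        exact hinF_smul x _ _ hδ
      · intro δ _; exact smul_inv_smul x δ
      · intro δ _; exact inv_smul_smul x δ
    rw [Finset.sum_congr rfl (fun δ _ => h2 δ), Finset.sum_congr rfl (fun σ' _ => h3 σ')] at h1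
    simp only [Finset.sum_const, smul_eq_mul] at h1
    have hpos : 0 < (Finset.univ : Finset Ω).card := Finset.card_pos.mpr ⟨α, Finset.mem_univ _⟩
    have h4 := Nat.eq_of_mul_eq_mul_left hpos h1
    rw [h4]
    rfl
  obtain ⟨θ₁, hθ₁⟩ : ∃ θ, (h : G) • θ ≠ θ := by
    by_contra hall
    push Not at hall
    apply hne
    apply Subtype.ext
    apply FaithfulSMul.eq_of_smul_eq_smul (α := Ω)
    intro a
    rw [hall a, Subgroup.coe_one, one_smul]
  have hθ₁F : θ₁ ∉ F₀ := fun hc => hθ₁ (hc h hhK)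
  obtain ⟨θ₀, hθ₀mem, hθ₀max⟩ := Finset.exists_max_image (Finset.univ.filter (fun θ => θ ∉ F₀))
    (fun θ => (orbit (stabilizer G α) θ).ncard) ⟨θ₁, by simp [hθ₁F]⟩
  have hθ₀F : θ₀ ∉ F₀ := by simpa using hθ₀mem
  have hmax : ∀ θ, θ ∉ F₀ →
      (orbit (stabilizer G α) θ).ncard ≤ (orbit (stabilizer G α) θ₀).ncard :=
    fun θ hθ => hθ₀max θ (by simp [hθ])
  have hco : IsCoatom (stabilizer G α) := by
    haveI := hprim
    exact IsPreprimitive.isCoatom_stabilizer_of_isPreprimitive G α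
  have key : ∀ δ, δ ≠ α → ¬ (stabilizer G δ ≤ stabilizer G α) := by
    intro δ hδ hle
    obtain ⟨g, rfl⟩ := exists_smul_eq G α δ
    rw [stabilizer_smul_eq_stabilizer_map_conj] at hle
    have heq : (stabilizer G α).map (MulAut.conj g).toMonoidHom = stabilizer G α :=
      Subgroup.eq_of_le_of_card_ge hle (by rw [Cfsg.Agent.Lib.Helper6.card_map_conj])
    have hgN : g ∈ Subgroup.normalizer (stabilizer G α : Set G) :=
      (Cfsg.Agent.Lib.Helper6.map_conj_eq_self_iff _ g).1 heq
    by_cases hN : Subgroup.normalizer (stabilizer G α : Set G) = ⊤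
    · apply hH α
      rw [eq_bot_iff]
      intro y hy
      rw [Subgroup.mem_bot]
      apply FaithfulSMul.eq_of_smul_eq_smul (α := Ω)
      intro σ
      obtain ⟨x, rfl⟩ := exists_smul_eq G α σ
      have hx : x ∈ Subgroup.normalizer (stabilizer G α : Set G) := hN ▸ Subgroup.mem_top x
      have hmem : x⁻¹ * y * x ∈ stabilizer G α := by
        have hx' := Subgroup.inv_mem _ hx
        have := (Subgroup.mem_normalizer_iff.1 hx' y).1 hy
        simpa using this
      rw [mem_stabilizer_iff, mul_smul, mul_smul, inv_smul_eq_iff] at hmem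
      rw [one_smul]; exact hmem
    · have hself : stabilizer G α = Subgroup.normalizer (stabilizer G α : Set G) := by
        by_contra hneq
        exact hN (hco.2 _ (lt_of_le_of_ne Subgroup.le_normalizer hneq))
      rw [← hself] at hgN
      exact hδ hgN
  have hv : ∀ (g : G), g • α ∈ F₀ → g • α ≠ α → g⁻¹ • θ₀ ∈ F₀ := by
    intro g hδF hδα
    by_contra hθ'
    have hsub : orbit (stabilizer G α) θ₀ ⊆ g • orbit (stabilizer G α) (g⁻¹ • θ₀) := by
      rintro x ⟨y, rfl⟩
      obtain ⟨k, hk, hky⟩ := hKorb θ₀ hθ₀F y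
      rw [Set.mem_smul_set_iff_inv_smul_mem]
      have hmem : g⁻¹ * (k : G) * g ∈ stabilizer G α := by
        rw [mem_stabilizer_iff, mul_smul, mul_smul]
        have : (k : G) • g • α = g • α := hδF k hk
        rw [this, inv_smul_smul]
      refine ⟨⟨_, hmem⟩, ?_⟩
      show (g⁻¹ * (k : G) * g) • g⁻¹ • θ₀ = g⁻¹ • y • θ₀
      rw [← hky, mul_smul, mul_smul, smul_inv_smul]; rfl
    have hcard : (g • orbit (stabilizer G α) (g⁻¹ • θ₀)).ncard ≤
        (orbit (stabilizer G α) θ₀).ncard := by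
      rw [Set.ncard_smul_set]; exact hmax _ hθ'
    have hΘ : orbit (stabilizer G α) θ₀ = g • orbit (stabilizer G α) (g⁻¹ • θ₀) :=
      Set.eq_of_subset_of_ncard_le hsub hcard (Set.toFinite _)
    have hHM : stabilizer G α ≤ stabilizer G (orbit (stabilizer G α) θ₀) := by
      intro y hy
      rw [mem_stabilizer_iff]
      exact smul_orbit (⟨y, hy⟩ : stabilizer G α) θ₀
    have hδM : stabilizer G (g • α) ≤ stabilizer G (orbit (stabilizer G α) θ₀) := by
      intro y hy
      rw [mem_stabilizer_iff]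
      have hmem : g⁻¹ * y * g ∈ stabilizer G α := by
        rw [mem_stabilizer_iff] at hy ⊢
        rw [mul_smul, mul_smul, hy, inv_smul_smul]
      have h1 : (g⁻¹ * y * g) • orbit (stabilizer G α) (g⁻¹ • θ₀) =
          orbit (stabilizer G α) (g⁻¹ • θ₀) := smul_orbit (⟨_, hmem⟩ : stabilizer G α) _
      rw [hΘ, ← mul_smul]
      conv_rhs => rw [← h1]
      rw [← mul_smul]; congr 1; group
    by_cases hM : stabilizer G (orbit (stabilizer G α) θ₀) = ⊤
    · obtain ⟨x, hx⟩ := exists_smul_eq G θ₀ α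
      have hxM : x ∈ stabilizer G (orbit (stabilizer G α) θ₀) := hM ▸ Subgroup.mem_top x
      rw [mem_stabilizer_iff] at hxM
      have hαΘ : α ∈ orbit (stabilizer G α) θ₀ := by
        rw [← hxM, ← hx]; exact Set.smul_mem_smul_set (mem_orbit_self θ₀)
      obtain ⟨y, hy⟩ := hαΘ
      apply hθ₀F
      have hθα : θ₀ = α := by
        have h5 := congrArg (fun z => y⁻¹ • z) hy
        simp only [inv_smul_smul] at h5
        rw [h5]; exact (y⁻¹).2
      rw [hθα]; exact hαF
    · have hself : stabilizer G α = stabilizer G (orbit (stabilizer G α) θ₀) := by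
        by_contra hneq
        exact hM (hco.2 _ (lt_of_le_of_ne hHM hneq))
      exact key _ hδα (hself ▸ hδM)
  let Rst : Ω → Set Ω := fun σ => {δ | δ ≠ σ ∧ inF δ σ}
  let D : Set Ω := F₀ \ {α}
  have hRst_smul : ∀ (x : G) σ, Rst (x • σ) = x • Rst σ := by
    intro x σ
    ext δ
    rw [Set.mem_smul_set_iff_inv_smul_mem]
    show (δ ≠ x • σ ∧ inF δ (x • σ)) ↔ (x⁻¹ • δ ≠ σ ∧ inF (x⁻¹ • δ) σ)
    have e1 : δ ≠ x • σ ↔ x⁻¹ • δ ≠ σ := by rw [ne_eq, ne_eq, inv_smul_eq_iff]
    have e2 : inF δ (x • σ) ↔ inF (x⁻¹ • δ) σ := by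
      conv_lhs => rw [← smul_inv_smul x δ]
      exact hinF_smul_iff x _ _
    rw [e1, e2]
  have hDsub : D ⊆ Rst θ₀ := by
    rintro δ ⟨hδF, hδα⟩
    obtain ⟨g, rfl⟩ := exists_smul_eq G α δ
    exact ⟨fun e => hθ₀F (e ▸ hδF), (hinF_iff g θ₀).2 (hv g hδF hδα)⟩
  have hRD : Rst θ₀ = D := by
    have hc := hcount θ₀
    have hθ₀R : θ₀ ∈ Finset.univ.filter (fun δ => inF δ θ₀) := by
      simp only [Finset.mem_filter, Finset.mem_univ, true_and]
      obtain ⟨g, hg⟩ := exists_smul_eq G α θ₀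
      exact ⟨g, hg, by rw [← hg, inv_smul_smul]; exact hαF⟩
    have hαF' : α ∈ Finset.univ.filter (fun φ => φ ∈ F₀) := by
      simp only [Finset.mem_filter, Finset.mem_univ, true_and]; exact hαF
    have hfin : (Finset.univ.filter (fun φ => φ ∈ F₀)).erase α =
        (Finset.univ.filter (fun δ => inF δ θ₀)).erase θ₀ := by
      apply Finset.eq_of_subset_of_card_le
      · intro δ hδ
        simp only [Finset.mem_erase, Finset.mem_filter, Finset.mem_univ, true_and] at hδ ⊢
        exact hDsub ⟨hδ.2, hδ.1⟩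
      · rw [Finset.card_erase_of_mem hθ₀R, Finset.card_erase_of_mem hαF', hc]
    ext δ
    have h6 := Finset.ext_iff.mp hfin δ
    simp only [Finset.mem_erase, Finset.mem_filter, Finset.mem_univ, true_and] at h6
    constructor
    · intro hδ; exact ⟨(h6.2 hδ).2, (h6.2 hδ).1⟩
    · rintro ⟨h1, h2⟩; exact h6.1 ⟨h2, h1⟩
  let B : Set Ω := {σ | Rst σ = D}
  have hB : IsBlock G B := by
    rw [isBlock_iff_smul_eq_of_mem]
    intro x σ hσ hxσ
    have hxD : x • D = D := by
      have h1 : Rst (x • σ) = D := hxσ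
      rw [hRst_smul] at h1
      have h2 : Rst σ = D := hσ
      rw [h2] at h1; exact h1
    ext τ
    rw [Set.mem_smul_set_iff_inv_smul_mem]
    show Rst (x⁻¹ • τ) = D ↔ Rst τ = D
    rw [hRst_smul]
    constructor
    · intro h1
      have h7 : x • x⁻¹ • Rst τ = x • D := by rw [h1]
      rw [smul_inv_smul, hxD] at h7; exact h7
    · intro h1
      rw [h1, inv_smul_eq_iff, hxD]
  have hθ₀B : θ₀ ∈ B := hRD
  obtain ⟨k, hk, hkθ⟩ : ∃ k ∈ K', k • θ₀ ≠ θ₀ := by
    by_contra hall; push Not at hall; exact hθ₀F hall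
  have hkD : (k : G) • D = D := by
    ext x
    rw [Set.mem_smul_set_iff_inv_smul_mem]
    have hkinv : ∀ y ∈ F₀, (k : G)⁻¹ • y = y := by
      intro y hy
      rw [inv_smul_eq_iff]; exact (hy k hk).symm
    constructor
    · intro hx
      have hxF : (k : G)⁻¹ • x ∈ F₀ := hx.1
      have h8 : (k : G) • (k : G)⁻¹ • x = (k : G)⁻¹ • x := hxF k hk
      rw [smul_inv_smul] at h8
      rw [← h8] at hx; exact hx
    · intro hx
      rw [hkinv x hx.1]; exact hx
  have hkθB : (k : G) • θ₀ ∈ B := by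
    show Rst ((k : G) • θ₀) = D
    rw [hRst_smul, hRD, hkD]
  rcases hprim.isTrivialBlock_of_isBlock hB with hsub | huniv
  · exact hkθ (hsub hkθB hθ₀B)
  · have hωB : ω ∈ B := huniv ▸ Set.mem_univ ω
    have hωD : ω ∈ D := ⟨horbF ω (mem_orbit_self ω), hω⟩
    have h1 : Rst ω = D := hωB
    rw [← h1] at hωD
    exact hωD.1 rfl

/-- Manning's Theorem on extremely primitive groups. Let a finite group G act faithfully and primitively on a finite set Ω with non-trivial point stabilizers, and suppose every point stabilizer G_α acts primitively on each of its orbits. Then G_α acts faithfully on each of its orbits other than {α}: an element of G_α fixing every point of one such orbit is the identity. -/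
theorem result {G : Type*} [Group G] [Finite G] {Ω : Type*} [Fintype Ω] [MulAction G Ω] [FaithfulSMul G Ω] (hprim : MulAction.IsPreprimitive G Ω) (hH : ∀ α : Ω, MulAction.stabilizer G α ≠ ⊥) (hep : ∀ (α : Ω) (ω : Ω), MulAction.IsPreprimitive (MulAction.stabilizer G α) (MulAction.orbit (MulAction.stabilizer G α) ω))
    (α ω : Ω) (hω : ω ≠ α) (h : MulAction.stabilizer G α) (hfix : ∀ x ∈ MulAction.orbit (MulAction.stabilizer G α) ω, h • x = x) : h = 1 := by
  exact manning_aux hprim hH hep α ω hω h hfix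

end Cfsg.Agent.S3494
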