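import Cfsg.Statements.S3554
import Mathlib

set_option autoImplicit false
open Cfsg

namespace Cfsg.Agent.S3554

/-- Let G act faithfully and transitively on a finite set and suppose G has a non-trivial cyclic normal subgroup. Then some element of G of prime order fixes no point. -/
theorem result {G Ω : Type*} [Group G] [Finite G] [MulAction G Ω] [FaithfulSMul G Ω] [Finite Ω]
    (htrans : MulAction.IsPretransitive G Ω) (C : Subgroup G) (hC : C.Normal) (hC1 : C ≠ ⊥) (hcyc : IsCyclic ↥C) :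
    ∃ g : G, (orderOf g).Prime ∧ ∀ ω : Ω, g • ω ≠ ω := by
  obtain ⟨γ, hγ⟩ := hcyc.exists_generator
  set N := orderOf γ with hN
  have hN0 : 0 < N := orderOf_pos γ
  have hN1 : N ≠ 1 := by
    intro h1
    rw [hN, orderOf_eq_one_iff] at h1
    apply hC1
    rw [Subgroup.eq_bot_iff_forall]
    intro x hx
    have := hγ ⟨x, hx⟩
    rw [h1, Subgroup.zpowers_one_eq_bot, Subgroup.mem_bot] at this
    exact congrArg Subtype.val this
  obtain ⟨p, hp, hpN⟩ := Nat.exists_prime_and_dvd hN1
  obtain ⟨t, ht⟩ := hpN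
  have ht0 : t ≠ 0 := by
    rintro rfl
    simp at ht
    omega
  set z : ↥C := γ ^ t with hz
  have hzord : orderOf z = p := by
    rw [hz, orderOf_pow' γ ht0, ← hN, ht, Nat.gcd_mul_left_left,
      Nat.mul_div_cancel _ (Nat.pos_of_ne_zero ht0)]
  have key : ∀ y : ↥C, y ^ p = 1 → y ∈ Subgroup.zpowers z := by
    intro y hy
    obtain ⟨j, rfl⟩ := Subgroup.mem_zpowers_iff.mp (hγ y)
    have h1 : γ ^ (j * (p : ℤ)) = 1 := by
      rw [zpow_mul, zpow_natCast]; exact hy
    have h2 : (N : ℤ) ∣ j * p := (orderOf_dvd_iff_zpow_eq_one).mpr h1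
    rw [ht] at h2
    push_cast at h2
    have h3 : (t : ℤ) ∣ j := by
      have h4 : (t : ℤ) * p ∣ j * p := by rwa [mul_comm (t : ℤ) p]
      exact Int.dvd_of_mul_dvd_mul_right (by exact_mod_cast hp.ne_zero) h4
    obtain ⟨l, rfl⟩ := h3
    rw [Subgroup.mem_zpowers_iff]
    exact ⟨l, by rw [hz, ← zpow_natCast, ← zpow_mul]⟩
  have hzG : orderOf (z : G) = p := by
    rw [Subgroup.orderOf_coe]; exact hzord
  refine ⟨(z : G), by rw [hzG]; exact hp, ?_⟩
  intro ω hω
  -- z fixes every point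
  have hall : ∀ ω' : Ω, (z : G) • ω' = (1 : G) • ω' := by
    intro ω'
    obtain ⟨g, rfl⟩ := MulAction.exists_smul_eq G ω ω'
    have hy : g⁻¹ * (z : G) * g ∈ C := by
      have := hC.conj_mem (z : G) z.2 g⁻¹
      simpa using this
    have hyp : (⟨g⁻¹ * (z : G) * g, hy⟩ : ↥C) ^ p = 1 := by
      apply Subtype.ext
      simp only [Subgroup.coe_pow, Subgroup.coe_one]
      have : (g⁻¹ * (z : G) * g) ^ p = g⁻¹ * (z : G) ^ p * g := by
        have := conj_pow (a := g⁻¹) (b := (z : G)) (i := p)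
        simpa using this
      rw [this, ← hzG, pow_orderOf_eq_one]
      simp
    obtain ⟨l, hl⟩ := Subgroup.mem_zpowers_iff.mp (key _ hyp)
    have hl' : (z : G) ^ l = g⁻¹ * (z : G) * g := by
      have := congrArg Subtype.val hl
      simpa using this
    have hstab : (z : G) ∈ MulAction.stabilizer G ω := MulAction.mem_stabilizer_iff.mpr hω
    have hstab' : g⁻¹ * (z : G) * g ∈ MulAction.stabilizer G ω := by
      rw [← hl']; exact Subgroup.zpow_mem _ hstab l
    have h5 : (g⁻¹ * (z : G) * g) • ω = ω := MulAction.mem_stabilizer_iff.mp hstab'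
    rw [one_smul]
    calc (z : G) • g • ω = g • ((g⁻¹ * (z : G) * g) • ω) := by
          simp [mul_smul]
      _ = g • ω := by rw [h5]
  have hz1 : (z : G) = 1 := FaithfulSMul.eq_of_smul_eq_smul hall
  rw [← orderOf_eq_one_iff, hzG] at hz1
  exact hp.one_lt.ne' hz1

end Cfsg.Agent.S3554
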