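import Cfsg.Statements.S3555
import Mathlib
import Cfsg.Agent.Lib.Helper1.Basic
-- import your own Cfsg.Agent.* helpers here

set_option autoImplicit false
open Cfsg

namespace Cfsg.Agent.S3555


theorem triple_sum_le {G Ω : Type*} [Fintype G] [Fintype Ω] (X Y : G → Ω → Ω → ℕ)
    (h : ∀ ω β, ∑ g : G, X g ω β ≤ ∑ g : G, Y g ω β) :
    ∑ g : G, ∑ ω : Ω, ∑ β : Ω, X g ω β ≤ ∑ g : G, ∑ ω : Ω, ∑ β : Ω, Y g ω β := by
  have e : ∀ Z : G → Ω → Ω → ℕ,
      ∑ g : G, ∑ ω : Ω, ∑ β : Ω, Z g ω β = ∑ ω : Ω, ∑ β : Ω, ∑ g : G, Z g ω β := by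
    intro Z
    rw [Finset.sum_comm]
    apply Finset.sum_congr rfl; intro ω _
    rw [Finset.sum_comm]
  rw [e X, e Y]
  exact Finset.sum_le_sum (fun ω _ => Finset.sum_le_sum (fun β _ => h ω β))

open Classical in
theorem fix_at_most_one {G Ω : Type*} [Group G] [Finite G] [MulAction G Ω] [FaithfulSMul G Ω]
    [Finite Ω] (htrans : MulAction.IsPretransitive G Ω) (hne : Nonempty Ω)
    (hinv : ∀ g : G, (∀ ω : Ω, g • ω ≠ ω) → g ^ 2 = 1) :
    ∀ g : G, g ≠ 1 → ∀ α β : Ω, g • α = α → g • β = β → α = β := by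
  have := Fintype.ofFinite G
  have := Fintype.ofFinite Ω
  obtain ⟨fx, hfx⟩ : ∃ fx : G → ℕ,
      ∀ g, fx g = (Finset.univ.filter (fun ω : Ω => g • ω = ω)).card := ⟨_, fun _ => rfl⟩
  obtain ⟨n, hn⟩ : ∃ n, n = Fintype.card Ω := ⟨_, rfl⟩
  have hnpos : 0 < n := hn ▸ Fintype.card_pos
  have hfxsum : ∀ g, fx g = ∑ ω : Ω, if g • ω = ω then 1 else 0 := by
    intro g; rw [hfx, Finset.card_filter]
  have hfxle : ∀ g, fx g ≤ n := by
    intro g; rw [hfx, hn]; exact Finset.card_le_univ _
  have hB : ∑ g : G, fx g = Fintype.card G := by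
    have h1 : ∑ g : G, fx g = ∑ ω : Ω, ∑ g : G, if g • ω = ω then 1 else 0 := by
      rw [Finset.sum_comm]
      exact Finset.sum_congr rfl (fun g _ => hfxsum g)
    have h2 : ∀ ω : Ω, (∑ g : G, if g • ω = ω then 1 else 0) * n = Fintype.card G := by
      intro ω
      rw [← Finset.card_filter]
      have h3 := Subgroup.card_mul_index (MulAction.stabilizer G ω)
      rw [MulAction.index_stabilizer_of_transitive, Nat.card_eq_fintype_card (α := Ω),
        Nat.card_eq_fintype_card (α := G)] at h3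
      have h5 : Nat.card (MulAction.stabilizer G ω) =
          (Finset.univ.filter (fun g : G => g • ω = ω)).card := by
        rw [Nat.card_eq_fintype_card]
        exact Fintype.card_of_subtype _ (fun g => by simp [MulAction.mem_stabilizer_iff])
      rw [hn, ← h3, h5]
    have h4 : (∑ g : G, fx g) * n = Fintype.card G * n := by
      rw [h1, Finset.sum_mul, Finset.sum_congr rfl (fun ω _ => h2 ω), Finset.sum_const,
        Finset.card_univ, smul_eq_mul, ← hn, mul_comm]
    exact Nat.eq_of_mul_eq_mul_right hnpos h4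
  have hA : ∑ g : G, fx (g ^ 2) ≤ ∑ g : G, (fx g) ^ 2 := by
    have h1 : ∀ g : G, fx (g ^ 2) =
        ∑ ω : Ω, ∑ β : Ω, if g • ω = β ∧ g • β = ω then 1 else 0 := by
      intro g
      rw [hfxsum]
      apply Finset.sum_congr rfl
      intro ω _
      rw [Finset.sum_eq_single (g • ω)]
      · simp only [true_and, sq, mul_smul]
      · intro β _ hβ
        rw [if_neg]
        intro h; exact hβ h.1.symm
      · intro h; exact absurd (Finset.mem_univ _) h
    have h2 : ∀ g : G, (fx g) ^ 2 =
        ∑ ω : Ω, ∑ β : Ω, if g • ω = ω ∧ g • β = β then 1 else 0 := by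
      intro g
      rw [sq, hfxsum, Finset.sum_mul_sum]
      apply Finset.sum_congr rfl; intro ω _
      apply Finset.sum_congr rfl; intro β _
      by_cases h1 : g • ω = ω <;> by_cases h2 : g • β = β <;> simp [h1, h2]
    rw [Finset.sum_congr rfl (fun g _ => h1 g), Finset.sum_congr rfl (fun g _ => h2 g)]
    apply triple_sum_le
    intro ω β
    rw [← Finset.card_filter, ← Finset.card_filter]
    by_cases hex : ∃ g₀ : G, g₀ • ω = β ∧ g₀ • β = ω
    · obtain ⟨g₀, hg1, hg2⟩ := hex
      apply Finset.card_le_card_of_injOn (fun g => g₀⁻¹ * g)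
      · intro g hg
        have hg' := (Finset.mem_filter.1 hg).2
        apply Finset.mem_filter.2
        refine ⟨Finset.mem_univ _, ?_, ?_⟩
        · rw [mul_smul, hg'.1, ← hg1, inv_smul_smul]
        · rw [mul_smul, hg'.2, ← hg2, inv_smul_smul]
      · intro a _ b _ hab
        exact mul_left_cancel hab
    · rw [Finset.card_eq_zero.2]
      · exact Nat.zero_le _
      · rw [Finset.filter_eq_empty_iff]
        intro g _ hg
        exact hex ⟨g, hg⟩
  obtain ⟨d, hd⟩ : ∃ d : G → ℕ, ∀ g, d g = if fx g = 0 then 1 else 0 := ⟨_, fun _ => rfl⟩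
  have hder : ∀ g, fx g = 0 → ∀ ω : Ω, g • ω ≠ ω := by
    intro g hg ω hω
    rw [hfx, Finset.card_eq_zero] at hg
    have : ω ∈ Finset.univ.filter (fun ω : Ω => g • ω = ω) :=
      Finset.mem_filter.2 ⟨Finset.mem_univ _, hω⟩
    rw [hg] at this
    exact absurd this (Finset.notMem_empty _)
  have hfx1 : fx 1 = n := by
    rw [hfx, hn]
    rw [Finset.filter_true_of_mem (fun ω _ => one_smul G ω), Finset.card_univ]
  have hBt : ∀ g, n * d g + fx g ≤ fx (g ^ 2) := by
    intro g
    rw [hd]
    by_cases h0 : fx g = 0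
    · rw [if_pos h0, h0, hinv g (hder g h0), hfx1]; omega
    · rw [if_neg h0, mul_zero, zero_add, hfx, hfx]
      apply Finset.card_le_card
      intro ω hω
      rw [Finset.mem_filter] at hω ⊢
      refine ⟨hω.1, ?_⟩
      rw [sq, mul_smul, hω.2, hω.2]
  have hCt : ∀ g, (fx g) ^ 2 + n ≤ (n + 1) * fx g + n * d g := by
    intro g
    rw [hd]
    by_cases h0 : fx g = 0
    · rw [if_pos h0, h0]; simp
    · rw [if_neg h0]
      have h1 : 1 ≤ fx g := Nat.one_le_iff_ne_zero.2 h0
      have h2 := hfxle g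
      nlinarith
  have hsum1 : ∑ g : G, ((fx g) ^ 2 + n) = ∑ g : G, ((n + 1) * fx g + n * d g) := by
    apply le_antisymm (Finset.sum_le_sum (fun g _ => hCt g))
    calc ∑ g : G, ((n + 1) * fx g + n * d g)
        = (n + 1) * ∑ g : G, fx g + n * ∑ g : G, d g := by
          rw [Finset.sum_add_distrib, Finset.mul_sum, Finset.mul_sum]
      _ = (∑ g : G, (n * d g + fx g)) + n * Fintype.card G := by
          rw [Finset.sum_add_distrib, ← Finset.mul_sum, hB]; ring
      _ ≤ ∑ g : G, fx (g ^ 2) + n * Fintype.card G := by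
          apply Nat.add_le_add_right; exact Finset.sum_le_sum (fun g _ => hBt g)
      _ ≤ ∑ g : G, (fx g) ^ 2 + n * Fintype.card G := Nat.add_le_add_right hA _
      _ = ∑ g : G, ((fx g) ^ 2 + n) := by
          rw [Finset.sum_add_distrib, Finset.sum_const, Finset.card_univ, smul_eq_mul, mul_comm]
  have hterm := (Finset.sum_eq_sum_iff_of_le (fun g _ => hCt g)).1 hsum1
  intro g hg1 α β hα hβ
  by_contra hαβ
  have h0 : fx g ≠ 0 := by
    intro h0; exact hder g h0 α hα
  have heq := hterm g (Finset.mem_univ g)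
  rw [hd, if_neg h0, mul_zero, add_zero] at heq
  have hz : ((fx g : ℤ) - 1) * ((fx g : ℤ) - n) = 0 := by
    have : ((fx g : ℤ)) ^ 2 + n = (n + 1) * fx g := by exact_mod_cast heq
    linear_combination this
  rcases mul_eq_zero.1 hz with h | h
  · have h1 : fx g = 1 := by omega
    have h2 : 1 < fx g := by
      rw [hfx, Finset.one_lt_card]
      exact ⟨α, Finset.mem_filter.2 ⟨Finset.mem_univ _, hα⟩, β,
        Finset.mem_filter.2 ⟨Finset.mem_univ _, hβ⟩, hαβ⟩
    omega
  · have h1 : fx g = n := by omega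
    apply hg1
    apply FaithfulSMul.eq_of_smul_eq_smul (α := Ω)
    intro ω
    rw [one_smul]
    by_contra hω
    have h2 : fx g < n := by
      rw [hfx, hn]
      apply Finset.card_lt_univ_of_notMem (x := ω)
      rw [Finset.mem_filter]; exact fun h => hω h.2
    omega

/-- Let G act faithfully and transitively on a finite set and suppose every element of G fixing no point is an involution. Then either G is an elementary abelian 2-group, or G is a Frobenius group whose Frobenius kernel is an elementary abelian 2-group: G has a Frobenius complement H, and the elements lying in no conjugate of H, together with the identity, pairwise commute and square to the identity. -/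
theorem result {G Ω : Type*} [Group G] [Finite G] [MulAction G Ω] [FaithfulSMul G Ω] [Finite Ω]
    (htrans : MulAction.IsPretransitive G Ω) (hinv : ∀ g : G, (∀ ω : Ω, g • ω ≠ ω) → orderOf g = 2) :
    (IsMulCommutative G ∧ ∀ g : G, g ^ 2 = 1) ∨
    (∃ H : Subgroup G, Cfsg.IsFrobeniusComplement H ∧
      (∀ x ∈ Cfsg.frobeniusKernel H, x ^ 2 = 1) ∧
      ∀ x ∈ Cfsg.frobeniusKernel H, ∀ y ∈ Cfsg.frobeniusKernel H, x * y = y * x) := by
  classical
  by_cases hΩ : Nonempty Ω
  swap
  · left
    have h1 : ∀ g : G, g = 1 := by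
      intro g
      apply FaithfulSMul.eq_of_smul_eq_smul (α := Ω)
      intro ω; exact absurd ⟨ω⟩ hΩ
    exact ⟨⟨⟨fun a b => by rw [h1 a, h1 b]⟩⟩, fun g => by rw [h1 g, one_pow]⟩
  have hinv' : ∀ g : G, (∀ ω : Ω, g • ω ≠ ω) → g ^ 2 = 1 := by
    intro g hg
    have := pow_orderOf_eq_one g
    rwa [hinv g hg] at this
  have hfix := fix_at_most_one htrans hΩ hinv'
  obtain ⟨α⟩ := hΩ
  have hinvself : ∀ g : G, g ^ 2 = 1 → g⁻¹ = g := fun g h =>
    inv_eq_of_mul_eq_one_right (by rw [← sq]; exact h)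
  have hsq_comm : (∀ g : G, g ^ 2 = 1) → IsMulCommutative G ∧ ∀ g : G, g ^ 2 = 1 := by
    intro h
    refine ⟨⟨⟨fun a b => ?_⟩⟩, h⟩
    calc a * b = (a * b)⁻¹ := (hinvself _ (h _)).symm
      _ = b⁻¹ * a⁻¹ := mul_inv_rev a b
      _ = b * a := by rw [hinvself a (h a), hinvself b (h b)]
  by_cases hH1 : MulAction.stabilizer G α = ⊥
  · left
    apply hsq_comm
    intro g
    by_cases hg1 : g = 1
    · rw [hg1, one_pow]
    apply hinv'
    intro ω hω
    obtain ⟨k, rfl⟩ := MulAction.exists_smul_eq G α ω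
    have h1 : k⁻¹ * g * k ∈ MulAction.stabilizer G α := by
      rw [MulAction.mem_stabilizer_iff, mul_smul, mul_smul, hω, inv_smul_smul]
    rw [hH1, Subgroup.mem_bot] at h1
    apply hg1
    have : g = k * (k⁻¹ * g * k) * k⁻¹ := by group
    rw [this, h1]; group
  by_cases hH2 : MulAction.stabilizer G α = ⊤
  · left
    apply hsq_comm
    intro g
    have : g = 1 := by
      apply FaithfulSMul.eq_of_smul_eq_smul (α := Ω)
      intro ω
      obtain ⟨k, rfl⟩ := MulAction.exists_smul_eq G α ω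
      have h1 : k⁻¹ * g * k ∈ MulAction.stabilizer G α := by rw [hH2]; trivial
      rw [MulAction.mem_stabilizer_iff, mul_smul, mul_smul, inv_smul_eq_iff] at h1
      rw [one_smul]
      exact h1
    rw [this, one_pow]
  right
  have hker : ∀ x ∈ Cfsg.frobeniusKernel (MulAction.stabilizer G α), x ≠ 1 →
      ∀ ω : Ω, x • ω ≠ ω := by
    intro x hx hx1 ω hω
    rcases hx with h | h
    · exact hx1 h
    · obtain ⟨k, rfl⟩ := MulAction.exists_smul_eq G α ω
      apply h k
      rw [Cfsg.Agent.Lib.Helper1.mem_conj_smul, MulAction.mem_stabilizer_iff, mul_smul, mul_smul,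
        hω, inv_smul_smul]
  refine ⟨MulAction.stabilizer G α, ⟨hH1, hH2, ?_⟩, ?_, ?_⟩
  · intro g hg
    rw [eq_bot_iff]
    intro x hx
    rw [Subgroup.mem_bot]
    by_contra hx1
    have hx1' : x • α = α := MulAction.mem_stabilizer_iff.1 hx.1
    have hx2 : g⁻¹ * x * g ∈ MulAction.stabilizer G α :=
      (Cfsg.Agent.Lib.Helper1.mem_conj_smul _ g x).1 hx.2
    rw [MulAction.mem_stabilizer_iff, mul_smul, mul_smul, inv_smul_eq_iff] at hx2
    have := hfix x hx1 α (g • α) hx1' hx2
    exact hg (MulAction.mem_stabilizer_iff.2 this.symm)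
  · intro x hx
    by_cases hx1 : x = 1
    · rw [hx1, one_pow]
    · exact hinv' x (hker x hx hx1)
  · intro x hx y hy
    by_cases hx1 : x = 1
    · rw [hx1, one_mul, mul_one]
    by_cases hy1 : y = 1
    · rw [hy1, one_mul, mul_one]
    by_cases hxy : x = y
    · rw [hxy]
    have hx2 := hinv' x (hker x hx hx1)
    have hy2 := hinv' y (hker y hy hy1)
    have hxinv := hinvself x hx2
    have hyinv := hinvself y hy2
    have hxyd : ∀ ω : Ω, (x * y) • ω ≠ ω := by
      intro γ hγ
      have h1 : y • γ = x • γ := by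
        rw [mul_smul] at hγ
        rw [← hxinv, eq_inv_smul_iff]; exact hγ
      have h2 : (x * y) • (x • γ) = x • γ := by
        rw [mul_smul, ← h1, smul_smul y y γ, ← sq, hy2, one_smul]
        exact h1.symm
      have hne : x * y ≠ 1 := by
        intro h
        apply hxy
        have : y = x⁻¹ := eq_inv_of_mul_eq_one_right h
        rw [this, hxinv]
      have h3 := hfix (x * y) hne γ (x • γ) hγ h2
      exact hker x hx hx1 γ h3.symm
    have h4 := hinv' (x * y) hxyd
    calc x * y = (x * y)⁻¹ := (hinvself _ h4).symm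
      _ = y⁻¹ * x⁻¹ := mul_inv_rev x y
      _ = y * x := by rw [hxinv, hyinv]

end Cfsg.Agent.S3555
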