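import Cfsg.Statements.S3634
import Mathlib
import Cfsg.Agent.Lib.Helper6.FrobAvg
import Cfsg.Agent.Lib.Helper6.SylowSub
-- import your own Cfsg.Agent.* helpers here

set_option autoImplicit false
open Cfsg

namespace Cfsg.Agent.S3634



/-- Let G be a finite group with normal subgroups K ≤ M, and let p, q, r be distinct primes with p dividing the order of K, q dividing the order of M/K and r dividing the order of G/M. Then p, q, r are not pairwise non-adjacent in the prime graph of G: G has an element of order pq, pr or qr. -/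
theorem result {G : Type*} [Group G] [Finite G] (K M : Subgroup G) [K.Normal] [M.Normal] (hKM : K ≤ M)
    (p q r : ℕ) (hp : p.Prime) (hq : q.Prime) (hr : r.Prime) (hpq : p ≠ q) (hpr : p ≠ r) (hqr : q ≠ r)
    (hpK : p ∣ Nat.card ↥K) (hqM : q ∣ Nat.card ↥M / Nat.card ↥K) (hrG : r ∣ Nat.card G / Nat.card ↥M) :
    (∃ x : G, orderOf x = p * q) ∨ (∃ x : G, orderOf x = p * r) ∨ (∃ x : G, orderOf x = q * r) := by
  classical
  haveI : Fact p.Prime := ⟨hp⟩
  obtain ⟨P⟩ : Nonempty (Sylow p K) := inferInstance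
  obtain ⟨P0, hP0def⟩ : ∃ P0 : Subgroup G, P0 = (P : Subgroup K).map K.subtype := ⟨_, rfl⟩
  obtain ⟨N1, hN1def⟩ : ∃ N1 : Subgroup G, N1 = Subgroup.normalizer (P0 : Set G) := ⟨_, rfl⟩
  have hfr : N1 ⊔ K = ⊤ := by
    rw [hN1def, hP0def]; exact Sylow.normalizer_sup_eq_top P
  have hP0N : P0 ≤ N1 := by rw [hN1def]; exact Subgroup.le_normalizer
  haveI hVn : (P0.subgroupOf N1).Normal := by
    rw [hN1def]; exact Subgroup.normal_in_normalizer
  have hP0card : Nat.card P0 = p ^ (Nat.card K).factorization p := by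
    rw [hP0def, Subgroup.card_map_of_injective K.subtype_injective, Sylow.card_eq_multiplicity]
  let e : P0.subgroupOf N1 ≃* P0 := Subgroup.subgroupOfEquivOfLe hP0N
  have hVcard : Nat.card (P0.subgroupOf N1) = p ^ (Nat.card K).factorization p := by
    rw [Nat.card_congr e.toEquiv, hP0card]
  have hVp : IsPGroup p (P0.subgroupOf N1) := IsPGroup.of_card hVcard
  have hV1 : P0.subgroupOf N1 ≠ ⊥ := by
    intro hbot
    have hfac : 0 < (Nat.card K).factorization p :=
      hp.factorization_pos_of_dvd Nat.card_pos.ne' hpK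
    have h1 : 1 < Nat.card (P0.subgroupOf N1) := by
      rw [hVcard]; exact Nat.one_lt_pow hfac.ne' hp.one_lt
    rw [hbot, Subgroup.card_bot] at h1
    exact lt_irrefl _ h1
  -- q divides |M ⊓ N1|
  have hsup : (N1 ⊓ M) ⊔ K = M := by
    apply le_antisymm
    · exact sup_le inf_le_right hKM
    · intro m hm
      have hm' : m ∈ N1 ⊔ K := by rw [hfr]; trivial
      obtain ⟨n, hn, k, hk, hnk⟩ := Subgroup.mem_sup_of_normal_right.mp hm'
      have hnM : n ∈ M := by
        have : n = m * k⁻¹ := by rw [← hnk]; group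
        rw [this]
        exact M.mul_mem hm (M.inv_mem (hKM hk))
      rw [← hnk]
      exact Subgroup.mul_mem_sup (Subgroup.mem_inf.mpr ⟨hn, hnM⟩) hk
  have hqM' : q ∣ Nat.card (M.subgroupOf N1) := by
    have h1 : K.relIndex ((N1 ⊓ M) ⊔ K) = K.relIndex (N1 ⊓ M) := Subgroup.relIndex_sup_right _ _
    rw [hsup] at h1
    have h2 : Nat.card K * K.relIndex M = Nat.card M :=
      Cfsg.Agent.Lib.Helper6.card_mul_relIndex_of_le hKM
    have h3 : Nat.card M / Nat.card K = K.relIndex M :=
      Nat.div_eq_of_eq_mul_right Nat.card_pos h2.symm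
    rw [h3, h1] at hqM
    have h4 : K.relIndex (N1 ⊓ M) ∣ Nat.card (N1 ⊓ M : Subgroup G) := Subgroup.relIndex_dvd_card _ _
    have h5 : Nat.card (M.subgroupOf N1) = Nat.card (N1 ⊓ M : Subgroup G) := by
      have h6 : M.subgroupOf N1 = (N1 ⊓ M).subgroupOf N1 := by
        rw [inf_comm, Subgroup.inf_subgroupOf_right]
      rw [h6]
      exact Nat.card_congr (Subgroup.subgroupOfEquivOfLe (inf_le_left : N1 ⊓ M ≤ N1)).toEquiv
    rw [h5]
    exact hqM.trans h4
  have hrM' : r ∣ (M.subgroupOf N1).index := by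
    have h1 : M.relIndex (N1 ⊔ M) = M.relIndex N1 := Subgroup.relIndex_sup_right _ _
    have h2 : N1 ⊔ M = ⊤ := by
      rw [eq_top_iff, ← hfr]
      exact sup_le_sup_left hKM N1
    rw [h2, Subgroup.relIndex_top_right] at h1
    have h3 : Nat.card G / Nat.card M = M.index :=
      Nat.div_eq_of_eq_mul_right Nat.card_pos (Subgroup.card_mul_index M).symm
    rw [h3, h1] at hrG
    exact hrG
  have key := Cfsg.Agent.Lib.Helper6.three_primes_normal (P0.subgroupOf N1) (M.subgroupOf N1)
    p q r hp hq hr hpq hpr hqr hVp hV1 hqM' hrM'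
  rcases key with ⟨x, hx⟩ | ⟨x, hx⟩ | ⟨x, hx⟩
  · exact Or.inl ⟨(x : G), by rw [Subgroup.orderOf_coe]; exact hx⟩
  · exact Or.inr (Or.inl ⟨(x : G), by rw [Subgroup.orderOf_coe]; exact hx⟩)
  · exact Or.inr (Or.inr ⟨(x : G), by rw [Subgroup.orderOf_coe]; exact hx⟩)

end Cfsg.Agent.S3634
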