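import Cfsg.Statements.S3807
import Mathlib
import Cfsg.Agent.Lib.Helper3.IdxP

set_option autoImplicit false
open Cfsg

namespace Cfsg.Agent.S3807

open Cfsg.Agent.Lib.Helper3
open scoped commutatorElement

/-- Let S be a non-abelian finite p-group with an abelian subgroup A of index p. Then [S : Z(S)] = p·#[S,S], and either [S,S] has order p, S/Z(S) is elementary abelian of order p², and S has exactly p + 1 abelian subgroups of index p; or [S,S] has order at least p² and A is the only abelian subgroup of index p in S. -/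
theorem result {S : Type*} [Group S] [Finite S] (p : ℕ) [Fact p.Prime] (hS : IsPGroup p S) (hna : ¬ IsMulCommutative S)
    (A : Subgroup S) (hA : IsMulCommutative ↥A) (hAi : A.index = p) :
    (Subgroup.center S).index = p * Nat.card (commutator S) ∧
      ((Nat.card (commutator S) = p ∧ Cfsg.IsElementaryAbelian p (⊤ : Subgroup (S ⧸ Subgroup.center S)) ∧
          Nat.card (S ⧸ Subgroup.center S) = p ^ 2 ∧
          Nat.card {B : Subgroup S // IsMulCommutative ↥B ∧ B.index = p} = p + 1) ∨
        (p ^ 2 ≤ Nat.card (commutator S) ∧ ∀ B : Subgroup S, IsMulCommutative ↥B → B.index = p → B = A)) := by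
  classical
  have hp : p.Prime := Fact.out
  obtain ⟨n, hn⟩ := IsPGroup.iff_card.mp hS
  have hn0 : n ≠ 0 := by
    rintro rfl
    rw [pow_zero] at hn
    haveI hsub : Subsingleton S := (Nat.card_eq_one_iff_unique.mp hn).1
    exact hna ⟨⟨fun a b => Subsingleton.elim _ _⟩⟩
  haveI hAn : A.Normal :=
    Subgroup.normal_of_index_eq_minFac_card (by rw [hAi, hn, Nat.Prime.pow_minFac hp hn0])
  have hAtop : A ≠ ⊤ := by
    intro h
    rw [h, Subgroup.index_top] at hAi
    exact hp.one_lt.ne hAi
  obtain ⟨x, hx⟩ : ∃ x, x ∉ A := by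
    by_contra hcon
    push_neg at hcon
    exact hAtop (eq_top_iff.mpr (fun g _ => hcon g))
  have hZA : Subgroup.center S ≤ A := idxp_center_le hp hna hA hAi
  have hconj : ∀ a ∈ A, x * a * x⁻¹ ∈ A := fun a ha => hAn.conj_mem a ha x
  have hconj' : ∀ a ∈ A, x⁻¹ * a * x ∈ A := fun a ha => by
    simpa using hAn.conj_mem a ha x⁻¹
  obtain ⟨φ, hφ⟩ : ∃ φ : ↥A →* S, ∀ a : ↥A, φ a = x * (a : S) * x⁻¹ * (a : S)⁻¹ := by
    refine ⟨MonoidHom.mk' (fun a : ↥A => x * (a : S) * x⁻¹ * (a : S)⁻¹) ?_, fun a => rfl⟩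
    intro a b
    have h1 : x * (b : S) * x⁻¹ * (b : S)⁻¹ ∈ A := A.mul_mem (hconj b b.2) (A.inv_mem b.2)
    have h2 := idxp_comm hA h1 (A.inv_mem a.2)
    show x * ((a : S) * (b : S)) * x⁻¹ * ((a : S) * (b : S))⁻¹
      = (x * a * x⁻¹ * (a : S)⁻¹) * (x * b * x⁻¹ * (b : S)⁻¹)
    calc x * ((a : S) * (b : S)) * x⁻¹ * ((a : S) * (b : S))⁻¹
        = x * a * x⁻¹ * ((x * b * x⁻¹ * (b : S)⁻¹) * (a : S)⁻¹) := by group
      _ = x * a * x⁻¹ * ((a : S)⁻¹ * (x * b * x⁻¹ * (b : S)⁻¹)) := by rw [h2]
      _ = _ := by group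
  have hcen : ∀ a ∈ A, x * a = a * x → a ∈ Subgroup.center S := by
    intro a ha hax
    refine Subgroup.mem_center_iff.mpr (fun g => ?_)
    exact ((idxp_commute_all hp hAi hx (MonoidHom.id S) a (fun b hb => idxp_comm hA ha hb)
      hax.symm g).eq).symm
  have hker : φ.ker = (Subgroup.center S).subgroupOf A := by
    ext a
    rw [MonoidHom.mem_ker, Subgroup.mem_subgroupOf, hφ]
    constructor
    · intro h
      have hax : x * (a : S) = a * x := by
        have h3 : x * (a : S) = (x * a * x⁻¹ * (a : S)⁻¹) * (a * x) := by group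
        rw [h3, h, one_mul]
      exact hcen a a.2 hax
    · intro h
      have h3 := Subgroup.mem_center_iff.mp h x
      rw [h3]; group
  have hrange_le_A : ∀ a : ↥A, φ a ∈ A := fun a => by
    rw [hφ]; exact A.mul_mem (hconj a a.2) (A.inv_mem a.2)
  have hxconj : ∀ a : ↥A, x * φ a * x⁻¹ = φ ⟨x * a * x⁻¹, hconj a a.2⟩ := by
    intro a; simp only [hφ]; group
  have hxconj' : ∀ a : ↥A, x⁻¹ * φ a * x = φ ⟨x⁻¹ * a * x, hconj' a a.2⟩ := by
    intro a; simp only [hφ]; group
  have hRA : φ.range ≤ A := by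
    rintro _ ⟨a, rfl⟩; exact hrange_le_A a
  have hAfix : ∀ a ∈ A, ∀ h ∈ A, a * h * a⁻¹ = h := fun a ha h hh => by
    rw [idxp_comm hA ha hh]; group
  have hRnorm : Subgroup.normalizer (φ.range : Set S) = ⊤ := by
    refine idxp_eq_top hp hAi (fun a ha => ?_) (fun hle => hx (hle ?_))
    · refine Subgroup.mem_normalizer_iff.mpr (fun h => ⟨fun hh => ?_, fun hh => ?_⟩)
      · rw [hAfix a ha h (hRA hh)]; exact hh
      · have hhA : h ∈ A := by
          have h1 : a⁻¹ * (a * h * a⁻¹) * a ∈ A :=
            A.mul_mem (A.mul_mem (A.inv_mem ha) (hRA hh)) ha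
          have h2 : a⁻¹ * (a * h * a⁻¹) * a = h := by group
          rwa [h2] at h1
        rw [hAfix a ha h hhA] at hh; exact hh
    · refine Subgroup.mem_normalizer_iff.mpr (fun h => ⟨fun hh => ?_, fun hh => ?_⟩)
      · obtain ⟨b, rfl⟩ := hh
        rw [hxconj b]; exact ⟨_, rfl⟩
      · obtain ⟨c, hc⟩ := hh
        have h2 : h = x⁻¹ * φ c * x := by rw [hc]; group
        rw [h2, hxconj' c]; exact ⟨_, rfl⟩
  haveI hRn : φ.range.Normal := Subgroup.normalizer_eq_top_iff.mp hRnorm
  have hcomm_eq : commutator S = φ.range := by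
    refine le_antisymm (idxp_commutator_le hp hA hAi hx φ.range
      (fun a ha => ⟨⟨a, ha⟩, by rw [hφ, commutatorElement_def]⟩)) ?_
    rintro _ ⟨a, rfl⟩
    rw [hφ, ← commutatorElement_def, commutator_def]
    exact Subgroup.commutator_mem_commutator (Subgroup.mem_top _) (Subgroup.mem_top _)
  have hidx : (Subgroup.center S).index = p * Nat.card (commutator S) := by
    have h1 := Subgroup.relIndex_mul_index hZA
    rw [hAi] at h1
    have h2 : (Subgroup.center S).relIndex A = Nat.card φ.range := by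
      rw [← Subgroup.index_ker φ, hker]; rfl
    rw [← h1, h2, hcomm_eq, mul_comm]
  obtain ⟨k, hk⟩ := IsPGroup.iff_card.mp (hS.to_subgroup (commutator S))
  have hk0 : k ≠ 0 := by
    rintro rfl
    rw [pow_zero] at hk
    have hbot : commutator S = ⊥ := Subgroup.card_eq_one.mp hk
    apply hna
    refine ⟨⟨fun a b => ?_⟩⟩
    have hab : ⁅a, b⁆ ∈ commutator S := by
      rw [commutator_def]
      exact Subgroup.commutator_mem_commutator (Subgroup.mem_top _) (Subgroup.mem_top _)
    rw [hbot, Subgroup.mem_bot] at hab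
    exact (commutatorElement_eq_one_iff_commute.mp hab).eq
  refine ⟨hidx, ?_⟩
  have hsecond : ∀ B : Subgroup S, IsMulCommutative ↥B → B.index = p → B ≠ A →
      (Subgroup.center S).index ≤ p * p := by
    intro B hB hBi hBA
    have hBA' : ¬ B ≤ A := fun h => hBA (idxp_eq_of_le h (by rw [hBi, hAi]))
    obtain ⟨y, hyB, hyA⟩ := SetLike.not_le_iff_exists.mp hBA'
    have hle : A ⊓ B ≤ Subgroup.center S := by
      intro c hc
      refine Subgroup.mem_center_iff.mpr (fun g => ?_)
      exact ((idxp_commute_all hp hAi hyA (MonoidHom.id S) c (fun b hb => idxp_comm hA hc.1 hb)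
        (idxp_comm hB hc.2 hyB) g).eq).symm
    have h4 : (Subgroup.center S).index ∣ (A ⊓ B).index := Subgroup.index_dvd_of_le hle
    have h5 : (A ⊓ B).index ≤ A.index * B.index := Subgroup.index_inf_le
    have h6 : (A ⊓ B).index ≠ 0 := Subgroup.index_ne_zero_of_finite
    calc (Subgroup.center S).index ≤ (A ⊓ B).index := Nat.le_of_dvd (Nat.pos_of_ne_zero h6) h4
      _ ≤ A.index * B.index := h5
      _ = p * p := by rw [hAi, hBi]
  by_cases hk1 : k = 1
  · left
    subst hk1
    rw [pow_one] at hk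
    have hZi : (Subgroup.center S).index = p ^ 2 := by rw [hidx, hk, sq]
    have hQcard : Nat.card (S ⧸ Subgroup.center S) = p ^ 2 := by
      rw [← Subgroup.index_eq_card, hZi]
    have hH : ∀ g : S, g ∉ Subgroup.center S →
        (Subgroup.center S ⊔ Subgroup.zpowers g).index = p := by
      intro g hg
      have hZD : Subgroup.center S ≤ Subgroup.center S ⊔ Subgroup.zpowers g := le_sup_left
      have h1 := Subgroup.relIndex_mul_index hZD
      rw [hZi] at h1
      have hdvd : (Subgroup.center S ⊔ Subgroup.zpowers g).index ∣ p ^ 2 := Dvd.intro_left _ h1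
      obtain ⟨j, hj, hDj⟩ := (Nat.dvd_prime_pow hp).mp hdvd
      have hj0 : j ≠ 0 := by
        rintro rfl
        rw [pow_zero] at hDj
        have htop := Subgroup.index_eq_one.mp hDj
        have hc := idxp_comm_sup_center g
        rw [htop] at hc
        exact hna ⟨⟨fun a b => idxp_comm hc (Subgroup.mem_top a) (Subgroup.mem_top b)⟩⟩
      have hj2 : j ≠ 2 := by
        rintro rfl
        rw [hDj] at h1
        have h2 : (Subgroup.center S).relIndex (Subgroup.center S ⊔ Subgroup.zpowers g) = 1 :=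
          Nat.eq_of_mul_eq_mul_right (pow_pos hp.pos 2) (by rw [h1, one_mul])
        exact hg (Subgroup.relIndex_eq_one.mp h2
          (Subgroup.mem_sup_right (Subgroup.mem_zpowers g)))
      have hj1 : j = 1 := by omega
      rw [hDj, hj1, pow_one]
    refine ⟨hk, ?_, hQcard, ?_⟩
    · have hQcomm : ∀ a b : S ⧸ Subgroup.center S, a * b = b * a :=
        IsPGroup.commutative_of_card_eq_prime_sq hQcard
      refine ⟨⟨⟨fun a b => Subtype.ext (hQcomm a.1 b.1)⟩⟩, fun a _ => ?_⟩
      have hord : orderOf a ∣ p ^ 2 := hQcard ▸ orderOf_dvd_natCard a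
      obtain ⟨j, hj, hoj⟩ := (Nat.dvd_prime_pow hp).mp hord
      have hj2 : j ≠ 2 := by
        rintro rfl
        haveI : IsCyclic (S ⧸ Subgroup.center S) :=
          isCyclic_of_orderOf_eq_card a (by rw [hoj, hQcard])
        exact hna ⟨⟨fun u v => commutative_of_cyclic_center_quotient
          (QuotientGroup.mk' (Subgroup.center S)) (QuotientGroup.ker_mk' _).le u v⟩⟩
      have hj1 : j ≤ 1 := by omega
      have hdp : orderOf a ∣ p := by
        rw [hoj]
        rcases Nat.le_one_iff_eq_zero_or_eq_one.mp hj1 with rfl | rfl <;> simp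
      exact orderOf_dvd_iff_pow_eq_one.mp hdp
    · have hfam : ∀ B : Subgroup S, (IsMulCommutative ↥B ∧ B.index = p) ↔
          (Subgroup.center S ≤ B ∧ B.index = p) := by
        intro B
        constructor
        · rintro ⟨hB, hBi⟩
          exact ⟨idxp_center_le hp hna hB hBi, hBi⟩
        · rintro ⟨hZB, hBi⟩
          refine ⟨?_, hBi⟩
          have hne : ¬ B ≤ Subgroup.center S := by
            intro hle
            have hBZ := le_antisymm hle hZB
            rw [hBZ, hZi] at hBi
            have := hp.one_lt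
            nlinarith
          obtain ⟨g, hgB, hgZ⟩ := SetLike.not_le_iff_exists.mp hne
          have hD := hH g hgZ
          have hDB : Subgroup.center S ⊔ Subgroup.zpowers g = B :=
            idxp_eq_of_le (sup_le hZB (Subgroup.zpowers_le.mpr hgB)) (by rw [hD, hBi])
          rw [← hDB]; exact idxp_comm_sup_center g
      rw [show Nat.card {B : Subgroup S // IsMulCommutative ↥B ∧ B.index = p}
          = Nat.card {B : Subgroup S // Subgroup.center S ≤ B ∧ B.index = p} from
        Nat.card_congr (Equiv.subtypeEquivRight hfam)]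
      exact idxp_card_subgroups p hp _ hZi hH
  · right
    have hk2 : 2 ≤ k := by omega
    have hp2 : p ^ 2 ≤ Nat.card (commutator S) := by
      rw [hk]; exact Nat.pow_le_pow_right hp.pos hk2
    refine ⟨hp2, fun B hB hBi => ?_⟩
    by_contra hBA
    have h1 := hsecond B hB hBi hBA
    rw [hidx] at h1
    have h2 : Nat.card (commutator S) ≤ p := Nat.le_of_mul_le_mul_left h1 hp.pos
    have h3 : p < p ^ 2 := by have := hp.one_lt; nlinarith
    omega

end Cfsg.Agent.S3807
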