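import Cfsg.Statements.S3808
import Mathlib
import Cfsg.Agent.Lib.Helper1.ThompsonJ
import Cfsg.Agent.Lib.Helper6.NormalSq
-- import your own Cfsg.Agent.* helpers here

set_option autoImplicit false
open Cfsg

namespace Cfsg.Agent.S3808



/-- Let S be a finite p-group with an extraspecial subgroup Q of index p. Then either Z(S) = Z(Q), or S = Q·Z(S) and Z(S) has order p². -/
theorem result {S : Type*} [Group S] [Finite S] (p : ℕ) [Fact p.Prime] (hS : IsPGroup p S) (Q : Subgroup S) (hQ : Cfsg.IsExtraspecial p ↥Q) (hQi : Q.index = p) :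
    Subgroup.center S = (Subgroup.center ↥Q).map Q.subtype ∨
      (Q ⊔ Subgroup.center S = ⊤ ∧ Nat.card (Subgroup.center S) = p ^ 2) := by
  classical
  have hp := (Fact.out : p.Prime)
  obtain ⟨n, hn⟩ := IsPGroup.iff_card.mp hS
  have hn0 : n ≠ 0 := by
    rintro rfl
    rw [pow_zero] at hn
    have h1 := Subgroup.card_mul_index Q
    rw [hn, hQi] at h1
    have h2 : p ∣ 1 := Dvd.intro_left _ h1
    exact hp.one_lt.ne' (Nat.dvd_one.mp h2)
  haveI hQn : Q.Normal := by
    apply Subgroup.normal_of_index_eq_minFac_card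
    rw [hn, hp.pow_minFac hn0, hQi]
  set ZQ := (Subgroup.center ↥Q).map Q.subtype with hZQ
  have hZQcard : Nat.card ZQ = p := by
    rw [hZQ, Subgroup.card_map_of_injective Q.subtype_injective]
    exact hQ.2
  haveI hZQn : ZQ.Normal := ConjAct.normal_of_characteristic_of_normal
  have hZQle : ZQ ≤ Subgroup.center S := by
    intro z hz
    rw [Subgroup.mem_center_iff]
    intro g
    have h1 := Cfsg.Agent.Lib.Helper6.centralizes_of_normalizes_prime hS ZQ hZQcard g
      (by rw [Subgroup.normalizer_eq_top]; exact Subgroup.mem_top _)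
    exact ((Subgroup.mem_centralizer_iff.mp h1) z hz).symm
  have hZQQ : ZQ ≤ Q := Subgroup.map_subtype_le _
  have hinf : Subgroup.center S ⊓ Q ≤ ZQ := by
    intro x hx
    obtain ⟨hxZ, hxQ⟩ := Subgroup.mem_inf.mp hx
    refine Subgroup.mem_map.mpr ⟨⟨x, hxQ⟩, ?_, rfl⟩
    rw [Subgroup.mem_center_iff]
    intro g
    apply Subtype.ext
    exact (Subgroup.mem_center_iff.mp hxZ) g
  by_cases hle : Subgroup.center S ≤ Q
  · left
    apply le_antisymm
    · exact (le_inf le_rfl hle).trans hinf
    · exact hZQle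
  · right
    have htop : Q ⊔ Subgroup.center S = ⊤ := by
      have h1 := Subgroup.relIndex_mul_index (le_sup_left : Q ≤ Q ⊔ Subgroup.center S)
      rw [hQi] at h1
      have h2 : (Q ⊔ Subgroup.center S).index ∣ p := Dvd.intro_left _ h1
      rcases (Nat.dvd_prime hp).mp h2 with h3 | h3
      · exact Subgroup.index_eq_one.mp h3
      · exfalso
        rw [h3] at h1
        have h4 : Q.relIndex (Q ⊔ Subgroup.center S) = 1 := by
          have : Q.relIndex (Q ⊔ Subgroup.center S) * p = 1 * p := by rw [h1, one_mul]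
          exact Nat.eq_of_mul_eq_mul_right hp.pos this
        have h5 := Subgroup.relIndex_eq_one.mp h4
        exact hle (le_sup_right.trans h5)
    refine ⟨htop, ?_⟩
    have h1 := Cfsg.Agent.Lib.Helper1.card_sup_mul_card_inf Q (Subgroup.center S)
      (by rw [Subgroup.normalizer_eq_top]; exact le_top)
    have h2 : Q ⊓ Subgroup.center S = ZQ := by
      apply le_antisymm
      · rw [inf_comm]; exact hinf
      · exact le_inf hZQQ hZQle
    rw [htop, h2, Subgroup.card_top, hZQcard] at h1
    have h3 := Subgroup.card_mul_index Q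
    rw [hQi] at h3
    rw [← h3] at h1
    have hQpos : 0 < Nat.card Q := Nat.card_pos
    have h4 : Nat.card Q * (p ^ 2) = Nat.card Q * Nat.card (Subgroup.center S) := by
      rw [← h1]; ring
    exact (Nat.eq_of_mul_eq_mul_left hQpos h4).symm

end Cfsg.Agent.S3808
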