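import Cfsg.Statements.S3809
import Mathlib
import Cfsg.Agent.S0095
import Cfsg.Agent.Lib.Helper7.ElemAbCount
-- import your own Cfsg.Agent.* helpers here

set_option autoImplicit false
open Cfsg

namespace Cfsg.Agent.S3809

open scoped commutatorElement

/-- Let S be a finite p-group with an extraspecial subgroup of index p. Then S has order p^(2+2n) for some n ≥ 1, derived length at most 3, and exponent dividing p³. -/
theorem result {S : Type*} [Group S] [Finite S] (p : ℕ) [Fact p.Prime] (hS : IsPGroup p S) (Q : Subgroup S) (hQ : Cfsg.IsExtraspecial p ↥Q) (hQi : Q.index = p) :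
    (∃ n : ℕ, 1 ≤ n ∧ Nat.card S = p ^ (2 + 2 * n)) ∧ derivedSeries S 3 = ⊥ ∧ ∀ x : S, x ^ (p ^ 3) = 1 := by
  classical
  have hp := (Fact.out : p.Prime)
  obtain ⟨n, hn1, hn⟩ := Cfsg.Agent.S0095.result hQ
  have hQcard := Subgroup.card_mul_index Q
  rw [hQi, hn] at hQcard
  obtain ⟨m, hm⟩ := IsPGroup.iff_card.mp hS
  have hm0 : m ≠ 0 := by
    rintro rfl
    rw [pow_zero] at hm
    rw [hm] at hQcard
    have h2 : p ∣ 1 := Dvd.intro_left _ hQcard
    exact hp.one_lt.ne' (Nat.dvd_one.mp h2)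
  haveI hQn : Q.Normal := by
    apply Subgroup.normal_of_index_eq_minFac_card
    rw [hm, hp.pow_minFac hm0, hQi]
  refine ⟨⟨n, hn1, by rw [← hQcard]; ring⟩, ?_, ?_⟩
  · have h1 : derivedSeries S 1 ≤ Q := by
      rw [derivedSeries_one]
      haveI : IsCyclic (S ⧸ Q) := isCyclic_of_prime_card (p := p) (by rw [← Subgroup.index_eq_card, hQi])
      haveI : IsMulCommutative (S ⧸ Q) := IsCyclic.isMulCommutative
      exact Subgroup.Normal.quotient_commutative_iff_commutator_le.mp inferInstance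
    have hZ : ∀ a ∈ (Subgroup.center ↥Q).map Q.subtype, ∀ b ∈ (Subgroup.center ↥Q).map Q.subtype, ⁅a, b⁆ = 1 := by
      rintro _ ⟨a, ha, rfl⟩ _ ⟨b, hb, rfl⟩
      rw [commutatorElement_eq_one_iff_mul_comm]
      have := (Subgroup.mem_center_iff.mp hb) a
      exact congrArg Subtype.val this
    have h2 : derivedSeries S 2 ≤ (Subgroup.center ↥Q).map Q.subtype := by
      rw [derivedSeries_succ, ← hQ.1.2.2, commutator_def, Subgroup.map_commutator, ← MonoidHom.range_eq_map, Subgroup.range_subtype]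
      exact Subgroup.commutator_mono h1 h1
    rw [derivedSeries_succ, eq_bot_iff]
    refine le_trans (Subgroup.commutator_mono h2 h2) ?_
    rw [Subgroup.commutator_le]
    intro a ha b hb
    rw [Subgroup.mem_bot]
    exact hZ a ha b hb
  · intro x
    have h1 : x ^ p ∈ Q := by
      have := Subgroup.pow_index_mem Q x
      rwa [hQi] at this
    have h2 := Cfsg.Agent.Lib.Helper7.pow_mem_frattini hQ.1.1 (⟨x ^ p, h1⟩ : ↥Q)
    rw [hQ.1.2.1] at h2
    have h3 : ((⟨(⟨x ^ p, h1⟩ : ↥Q) ^ p, h2⟩ : Subgroup.center ↥Q)) ^ p = 1 := by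
      have := pow_card_eq_one' (G := Subgroup.center ↥Q) (x := ⟨(⟨x ^ p, h1⟩ : ↥Q) ^ p, h2⟩)
      rwa [hQ.2] at this
    have h4 := congrArg (fun z : Subgroup.center ↥Q => ((z : ↥Q) : S)) h3
    simp only [Subgroup.coe_pow, Subgroup.coe_one] at h4
    rw [show p ^ 3 = p * p * p by ring, pow_mul, pow_mul]
    exact h4

end Cfsg.Agent.S3809
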