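import Cfsg.Statements.S3810
import Mathlib
import Cfsg.Agent.Lib.Helper1.ThompsonJ
import Cfsg.Agent.Lib.Helper6.NormalSq
import Cfsg.Agent.Lib.Helper6.SylowSub
import Cfsg.Agent.Lib.Lead.OmegaOdd
-- import your own Cfsg.Agent.* helpers here

set_option autoImplicit false
open Cfsg

namespace Cfsg.Agent.S3810

open scoped commutatorElement

theorem exists_central_order {T : Type*} [Group T] [Finite T] [Nontrivial T] {p : ℕ} [Fact p.Prime]
    (hT : IsPGroup p T) : ∃ z : T, z ∈ Subgroup.center T ∧ orderOf z = p := by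
  haveI := hT.center_nontrivial
  obtain ⟨z, hz⟩ := exists_ne (1 : Subgroup.center T)
  obtain ⟨k, hk⟩ := (IsPGroup.iff_orderOf.mp (hT.to_subgroup (Subgroup.center T))) z
  have hk0 : k ≠ 0 := by
    rintro rfl
    rw [pow_zero, orderOf_eq_one_iff] at hk
    exact hz hk
  obtain ⟨j, rfl⟩ : ∃ j, k = j + 1 := ⟨k - 1, by omega⟩
  refine ⟨((z ^ (p ^ j) : Subgroup.center T) : T), (z ^ (p ^ j)).2, ?_⟩
  rw [Subgroup.orderOf_coe]
  apply orderOf_eq_prime
  · rw [← pow_mul, ← pow_succ, ← hk, pow_orderOf_eq_one]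
  · apply pow_ne_one_of_lt_orderOf (pow_pos (Fact.out : p.Prime).pos j).ne'
    rw [hk]
    exact Nat.pow_lt_pow_right (Fact.out : p.Prime).one_lt (Nat.lt_succ_self j)

/-- Let S be a finite p-group with an extraspecial subgroup of index p. Then S has an abelian subgroup of index p if and only if S has order p⁴. -/
theorem result {S : Type*} [Group S] [Finite S] (p : ℕ) [Fact p.Prime] (hS : IsPGroup p S) (Q : Subgroup S) (hQ : Cfsg.IsExtraspecial p ↥Q) (hQi : Q.index = p) :
    (∃ A : Subgroup S, IsMulCommutative ↥A ∧ A.index = p) ↔ Nat.card S = p ^ 4 := by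
  classical
  have hp := (Fact.out : p.Prime)
  obtain ⟨n, hn⟩ := IsPGroup.iff_card.mp hS
  have hQcard := Subgroup.card_mul_index Q
  rw [hQi] at hQcard
  have hQna : ∃ a b : ↥Q, a * b ≠ b * a := by
    by_contra hcon
    push Not at hcon
    have h1 : commutator ↥Q = ⊥ := by
      rw [eq_bot_iff, commutator_def, Subgroup.commutator_le]
      intro a _ b _
      rw [Subgroup.mem_bot, commutatorElement_eq_one_iff_mul_comm]
      exact hcon a b
    have h2 := hQ.2
    rw [← hQ.1.2.2, h1, Subgroup.card_bot] at h2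
    exact hp.one_lt.ne h2
  obtain ⟨a₀, b₀, hab₀⟩ := hQna
  obtain ⟨k, hk⟩ := IsPGroup.iff_card.mp hQ.1.1
  have hk3 : 3 ≤ k := by
    by_contra hcon
    have : k ≤ 2 := by omega
    apply hab₀
    interval_cases k
    · haveI : Subsingleton ↥Q := (Nat.card_eq_one_iff_unique.mp (by rw [hk, pow_zero])).1
      exact Subsingleton.elim _ _
    · haveI : IsCyclic ↥Q := isCyclic_of_prime_card (p := p) (by rw [hk, pow_one])
      exact (IsCyclic.isMulCommutative (α := ↥Q)).is_comm.comm a₀ b₀
    · exact (IsPGroup.isMulCommutative_of_card_eq_prime_sq hk).is_comm.comm a₀ b₀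
  constructor
  · rintro ⟨A, hAc, hAi⟩
    have hn0 : n ≠ 0 := by
      rintro rfl
      rw [pow_zero] at hn
      rw [hn] at hQcard
      have h2 : p ∣ 1 := Dvd.intro_left _ hQcard
      exact hp.one_lt.ne' (Nat.dvd_one.mp h2)
    haveI hAn : A.Normal := by
      apply Subgroup.normal_of_index_eq_minFac_card
      rw [hn, hp.pow_minFac hn0, hAi]
    have hAcomm : ∀ x ∈ A, ∀ y ∈ A, x * y = y * x := fun x hx y hy =>
      congrArg Subtype.val (hAc.is_comm.comm ⟨x, hx⟩ ⟨y, hy⟩)
    obtain ⟨x, hxQ, hxA⟩ : ∃ x ∈ Q, x ∉ A := by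
      by_contra hcon
      push Not at hcon
      apply hab₀
      exact Subtype.ext (hAcomm _ (hcon _ a₀.2) _ (hcon _ b₀.2))
    have htop : A ⊔ Subgroup.zpowers x = ⊤ := by
      have h1 := Subgroup.relIndex_mul_index (le_sup_left : A ≤ A ⊔ Subgroup.zpowers x)
      rw [hAi] at h1
      have h2 : (A ⊔ Subgroup.zpowers x).index ∣ p := Dvd.intro_left _ h1
      rcases (Nat.dvd_prime hp).mp h2 with h3 | h3
      · exact Subgroup.index_eq_one.mp h3
      · exfalso
        rw [h3] at h1
        have h4 : A.relIndex (A ⊔ Subgroup.zpowers x) = 1 := by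
          have : A.relIndex (A ⊔ Subgroup.zpowers x) * p = 1 * p := by rw [h1, one_mul]
          exact Nat.eq_of_mul_eq_mul_right hp.pos this
        have h5 := Subgroup.relIndex_eq_one.mp h4
        exact hxA (h5 (Subgroup.mem_sup_right (Subgroup.mem_zpowers x)))
    set ZQ := (Subgroup.center ↥Q).map Q.subtype with hZQ
    have hZQcard : Nat.card ZQ = p := by
      rw [hZQ, Subgroup.card_map_of_injective Q.subtype_injective]
      exact hQ.2
    have hcomZ : ∀ q ∈ Q, ∀ y ∈ Q, ⁅q, y⁆ ∈ ZQ := by
      intro q hq y hy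
      refine Subgroup.mem_map.mpr ⟨⁅(⟨q, hq⟩ : ↥Q), ⟨y, hy⟩⁆, ?_, rfl⟩
      rw [← hQ.1.2.2]
      exact Subgroup.commutator_mem_commutator (Subgroup.mem_top _) (Subgroup.mem_top _)
    have hZQc : ∀ z ∈ ZQ, ∀ y ∈ Q, y * z = z * y := by
      intro z hz y hy
      obtain ⟨z', hz', rfl⟩ := Subgroup.mem_map.mp hz
      exact congrArg Subtype.val ((Subgroup.mem_center_iff.mp hz') ⟨y, hy⟩)
    set B := A ⊓ Q with hB
    have hmul : ∀ b b' : ↥B, ⁅(b : S) * b', x⁆ = ⁅(b : S), x⁆ * ⁅(b' : S), x⁆ := by
      intro b b'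
      have hbQ := (Subgroup.mem_inf.mp b.2).2
      have hb'Q := (Subgroup.mem_inf.mp b'.2).2
      have e : ⁅(b : S) * b', x⁆ = (b : S) * ⁅(b' : S), x⁆ * (b : S)⁻¹ * ⁅(b : S), x⁆ := by
        simp only [commutatorElement_def]; group
      have h1 := hZQc _ (hcomZ _ hb'Q x hxQ) _ hbQ
      rw [e, h1, mul_inv_cancel_right]
      have hcQ : ⁅(b : S), x⁆ ∈ Q := Subgroup.map_subtype_le _ (hcomZ _ hbQ x hxQ)
      exact (hZQc _ (hcomZ _ hb'Q x hxQ) _ hcQ).symm
    let ψ : ↥B →* ↥ZQ := { toFun := fun b => ⟨⁅(b : S), x⁆, hcomZ _ (Subgroup.mem_inf.mp b.2).2 x hxQ⟩, map_one' := Subtype.ext (by simp), map_mul' := fun b b' => Subtype.ext (hmul b b') }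
    have hker : Nat.card ψ.ker ≤ p := by
      have h1 : ψ.ker.map B.subtype ≤ ZQ := by
        rintro _ ⟨b, hb, rfl⟩
        have hb1 : ⁅(b : S), x⁆ = 1 := congrArg Subtype.val (MonoidHom.mem_ker.mp hb)
        rw [commutatorElement_eq_one_iff_mul_comm] at hb1
        obtain ⟨hbA, hbQ⟩ := Subgroup.mem_inf.mp b.2
        refine Subgroup.mem_map.mpr ⟨⟨(b : S), hbQ⟩, ?_, rfl⟩
        rw [Subgroup.mem_center_iff]
        intro y
        apply Subtype.ext
        show (y : S) * b = b * y
        have hle : A ⊔ Subgroup.zpowers x ≤ Subgroup.centralizer ({(b : S)} : Set S) := by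
          apply sup_le
          · intro a ha
            rw [Subgroup.mem_centralizer_singleton_iff]
            exact hAcomm a ha _ hbA
          · rw [Subgroup.zpowers_le, Subgroup.mem_centralizer_singleton_iff]
            exact hb1.symm
        have hy : (y : S) ∈ A ⊔ Subgroup.zpowers x := by rw [htop]; exact Subgroup.mem_top _
        have := hle hy
        rw [Subgroup.mem_centralizer_singleton_iff] at this
        exact this
      have h2 := Subgroup.card_le_of_le h1
      rw [Subgroup.card_map_of_injective B.subtype_injective, hZQcard] at h2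
      exact h2
    have hBcard : Nat.card B ≤ p * p := by
      have h1 := Subgroup.card_mul_index ψ.ker
      rw [Subgroup.index_ker] at h1
      have h2 : Nat.card ψ.range ≤ p := by
        rw [← hZQcard]; exact Subgroup.card_le_card_group ψ.range
      rw [← h1]
      exact Nat.mul_le_mul hker h2
    have hprod := Cfsg.Agent.Lib.Helper1.card_sup_mul_card_inf Q A
      (by rw [Subgroup.normalizer_eq_top]; exact le_top)
    have hAcard := Subgroup.card_mul_index A
    rw [hAi] at hAcard
    have hsup : Nat.card ↥(Q ⊔ A) ≤ Nat.card S := Subgroup.card_le_card_group _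
    have hQle : Nat.card Q ≤ p ^ 3 := by
      have hinf : Nat.card ↥(Q ⊓ A) ≤ p * p := by rw [inf_comm]; exact hBcard
      have hApos : 0 < Nat.card A := Nat.card_pos
      have h3 : Nat.card Q * Nat.card A ≤ (p ^ 3) * Nat.card A := by
        calc Nat.card Q * Nat.card A = Nat.card ↥(Q ⊔ A) * Nat.card ↥(Q ⊓ A) := hprod.symm
          _ ≤ Nat.card S * (p * p) := Nat.mul_le_mul hsup hinf
          _ = (p ^ 3) * Nat.card A := by rw [← hAcard]; ring
      exact Nat.le_of_mul_le_mul_right h3 hApos
    rw [hk] at hQle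
    have hk3' : k ≤ 3 := (Nat.pow_le_pow_iff_right hp.one_lt).mp hQle
    have hk3'' : k = 3 := by omega
    rw [← hQcard, hk, hk3'']; ring
  · intro hcard
    haveI hSnt : Nontrivial S := by
      rw [← Finite.one_lt_card_iff_nontrivial, hcard]
      exact Nat.one_lt_pow (by norm_num) hp.one_lt
    obtain ⟨z, hzc, hzo⟩ := exists_central_order hS
    set Z₀ := Subgroup.zpowers z with hZ₀
    have hZ₀card : Nat.card Z₀ = p := by rw [hZ₀, Nat.card_zpowers, hzo]
    haveI hZ₀n : Z₀.Normal := by
      constructor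
      intro m hm g
      obtain ⟨i, rfl⟩ := Subgroup.mem_zpowers_iff.mp hm
      have hc : g * z ^ i = z ^ i * g :=
        ((show Commute g z from (Subgroup.mem_center_iff.mp hzc) g).zpow_right i).eq
      rw [hc, mul_inv_cancel_right]
      exact hm
    have hQt : IsPGroup p (S ⧸ Z₀) := hS.to_quotient Z₀
    haveI : Nontrivial (S ⧸ Z₀) := by
      rw [← Finite.one_lt_card_iff_nontrivial]
      have h1 := Subgroup.card_eq_card_quotient_mul_card_subgroup Z₀
      rw [hcard, hZ₀card] at h1
      have h2 : Nat.card (S ⧸ Z₀) = p ^ 3 := by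
        have : Nat.card (S ⧸ Z₀) * p = p ^ 3 * p := by rw [← h1]; ring
        exact Nat.eq_of_mul_eq_mul_right hp.pos this
      rw [h2]; exact Nat.one_lt_pow (by norm_num) hp.one_lt
    obtain ⟨y, hyc, hyo⟩ := exists_central_order hQt
    obtain ⟨N, hNn, hZN, hrel, -⟩ := Cfsg.Agent.Lib.Lead.exists_normal_over Z₀ y hyc hyo
    haveI := hNn
    have hNcard : Nat.card N = p ^ 2 := by
      have := Cfsg.Agent.Lib.Helper6.card_mul_relIndex_of_le hZN
      rw [hZ₀card, hrel] at this
      rw [← this, sq]
    have hCge := Cfsg.Agent.Lib.Helper6.card_le_of_normal_sq hS N hNcard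
    haveI hNc : IsMulCommutative ↥N := IsPGroup.isMulCommutative_of_card_eq_prime_sq hNcard
    have hNC : N ≤ Subgroup.centralizer (N : Set S) := by
      intro u hu
      rw [Subgroup.mem_centralizer_iff]
      intro v hv
      exact congrArg Subtype.val (hNc.is_comm.comm ⟨v, hv⟩ ⟨u, hu⟩)
    obtain ⟨c, hcC, hcN⟩ : ∃ c ∈ Subgroup.centralizer (N : Set S), c ∉ N := by
      by_contra hcon
      push Not at hcon
      have h1 := Subgroup.card_le_of_le (show Subgroup.centralizer (N : Set S) ≤ N from hcon)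
      rw [hNcard] at h1
      rw [hcard] at hCge
      have h2 : p ^ 4 ≤ p * p ^ 2 := hCge.trans (Nat.mul_le_mul_left p h1)
      have h3 : p ^ 3 < p ^ 4 := Nat.pow_lt_pow_right hp.one_lt (by norm_num)
      have h4 : p * p ^ 2 = p ^ 3 := by ring
      omega
    set A := N ⊔ Subgroup.zpowers c with hA
    have hAC : A ≤ Subgroup.centralizer (N : Set S) :=
      sup_le hNC (by rw [Subgroup.zpowers_le]; exact hcC)
    have hAcen_c : A ≤ Subgroup.centralizer ({c} : Set S) := by
      apply sup_le
      · intro u hu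
        rw [Subgroup.mem_centralizer_singleton_iff]
        exact ((Subgroup.mem_centralizer_iff.mp hcC) u hu)
      · rw [Subgroup.zpowers_le, Subgroup.mem_centralizer_singleton_iff]
    have hAcomm : ∀ u ∈ A, ∀ v ∈ A, u * v = v * u := by
      intro u hu v hv
      have hle : A ≤ Subgroup.centralizer ({v} : Set S) := by
        apply sup_le
        · intro w hw
          rw [Subgroup.mem_centralizer_singleton_iff]
          exact ((Subgroup.mem_centralizer_iff.mp (hAC hv)) w hw)
        · rw [Subgroup.zpowers_le, Subgroup.mem_centralizer_singleton_iff]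
          have := hAcen_c hv
          rw [Subgroup.mem_centralizer_singleton_iff] at this
          exact this.symm
      have := hle hu
      rw [Subgroup.mem_centralizer_singleton_iff] at this
      exact this
    refine ⟨A, IsMulCommutative.of_setLike_mul_comm hAcomm, ?_⟩
    obtain ⟨i, hi⟩ := IsPGroup.iff_card.mp (hS.to_subgroup A)
    have hi4 : i ≤ 4 := by
      have := Subgroup.card_le_card_group A
      rw [hi, hcard] at this
      exact (Nat.pow_le_pow_iff_right hp.one_lt).mp this
    have hi2 : 2 < i := by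
      have hlt : Nat.card N < Nat.card A := by
        by_contra hge
        push Not at hge
        have h := Subgroup.eq_of_le_of_card_ge (le_sup_left : N ≤ N ⊔ Subgroup.zpowers c) hge
        apply hcN
        rw [h]
        exact Subgroup.mem_sup_right (Subgroup.mem_zpowers c)
      rw [hNcard, hi] at hlt
      exact (Nat.pow_lt_pow_iff_right hp.one_lt).mp hlt
    have hi4' : i ≠ 4 := by
      intro h4
      have hAtop : A = ⊤ := Subgroup.eq_top_of_card_eq A (by rw [hi, h4, hcard])
      apply hab₀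
      apply Subtype.ext
      exact hAcomm _ (hAtop ▸ Subgroup.mem_top _) _ (hAtop ▸ Subgroup.mem_top _)
    have hi3 : i = 3 := by omega
    have h1 := Subgroup.card_mul_index A
    rw [hi, hi3, hcard] at h1
    have h2 : p ^ 3 * A.index = p ^ 3 * p := by rw [h1]; ring
    exact Nat.eq_of_mul_eq_mul_left (pow_pos hp.pos 3) h2

end Cfsg.Agent.S3810
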