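import Cfsg.Statements.S3824
import Mathlib
import Cfsg.Agent.Lib.Lead.CharBurnside
import Cfsg.Agent.Lib.Lead.CharSmall
import Cfsg.Agent.Lib.Helper6.Index
-- import your own Cfsg.Agent.* helpers here

set_option autoImplicit false
open Cfsg

namespace Cfsg.Agent.S3824

universe u


theorem aux : ∀ (n : ℕ) (G : Type u) [Group G] [Finite G] (A : Subgroup G),
    Nat.card G = n → IsMulCommutative A → (∃ k : ℕ, A.index = 2 ^ k) → Group.IsSolvable G := by
  intro n
  induction n using Nat.strong_induction_on with
  | _ n ih =>
  intro G _ _ A hn hA hidx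
  obtain ⟨k, hk⟩ := hidx
  by_cases hAbot : A = ⊥
  · -- G is a 2-group
    have : Fact (Nat.Prime 2) := ⟨Nat.prime_two⟩
    have hcard : Nat.card G = 2 ^ k := by
      rw [← hk, hAbot, Subgroup.index_bot]
    have hp : IsPGroup 2 G := IsPGroup.of_card hcard
    have : Group.IsNilpotent G := hp.isNilpotent
    infer_instance
  · obtain ⟨g, hg1⟩ := (Subgroup.ne_bot_iff_exists_ne_one.mp hAbot)
    have hg1' : (g : G) ≠ 1 := fun h => hg1 (Subtype.ext h)
    have hAC : A ≤ Subgroup.centralizer ({(g : G)} : Set G) := by
      intro a ha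
      rw [Subgroup.mem_centralizer_iff]
      intro x hx
      rw [Set.mem_singleton_iff] at hx
      subst hx
      have := mul_comm' (⟨a, ha⟩ : A) g
      have h2 := congrArg Subtype.val this
      simpa using h2.symm
    have hCidx : ∃ j : ℕ, (Subgroup.centralizer ({(g : G)} : Set G)).index = 2 ^ j := by
      have hdvd : (Subgroup.centralizer ({(g : G)} : Set G)).index ∣ 2 ^ k := by
        rw [← hk]; exact Subgroup.index_dvd_of_le hAC
      obtain ⟨j, -, hj⟩ := (Nat.dvd_prime_pow Nat.prime_two).1 hdvd
      exact ⟨j, hj⟩
    obtain ⟨j, hj⟩ := hCidx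
    have : Nontrivial G := ⟨⟨(g : G), 1, hg1'⟩⟩
    by_cases hsimple : IsSimpleGroup G
    · have := hsimple
      have hprime := Cfsg.Agent.Lib.Lead.prime_card_of_class_prime_pow 2 j Nat.prime_two (g : G) hg1' hj
      have : Fact (Nat.card G).Prime := ⟨hprime⟩
      have : IsCyclic G := isCyclic_of_prime_card rfl
      exact Group.isSolvable_of_comm (fun a b => Cfsg.Agent.Lib.Lead.comm_of_cyclic a b)
    · -- there is a proper nontrivial normal subgroup
      have hex : ∃ N : Subgroup G, N.Normal ∧ N ≠ ⊥ ∧ N ≠ ⊤ := by
        by_contra hno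
        push Not at hno
        apply hsimple
        refine ⟨fun N hN => ?_⟩
        by_cases hNb : N = ⊥
        · exact Or.inl hNb
        · exact Or.inr (hno N hN hNb)
      obtain ⟨N, hNn, hNb, hNt⟩ := hex
      have := hNn
      -- N is solvable
      have hNcard : Nat.card N < n := by
        rw [← hn]
        have h1 := Subgroup.card_mul_index N
        have h2 : 1 < N.index := by
          have h3 : N.index ≠ 1 := fun h => hNt (Subgroup.index_eq_one.mp h)
          have h4 : N.index ≠ 0 := Subgroup.index_ne_zero_of_finite
          omega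
        have h5 : 0 < Nat.card N := Nat.card_pos
        nlinarith
      have hNsolv : Group.IsSolvable N := by
        apply ih (Nat.card N) hNcard N (A.subgroupOf N) rfl inferInstance
        have h1 : (A.subgroupOf N).index ∣ 2 ^ k := by
          rw [← hk]
          show A.relIndex N ∣ A.index
          rw [← Cfsg.Agent.Lib.Helper6.relIndex_sup_of_normal]
          exact Subgroup.relIndex_dvd_index_of_le le_sup_left
        obtain ⟨i, -, hi⟩ := (Nat.dvd_prime_pow Nat.prime_two).1 h1
        exact ⟨i, hi⟩
      -- G ⧸ N is solvable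
      have hQcard : Nat.card (G ⧸ N) < n := by
        rw [← hn]
        have h1 := Subgroup.card_mul_index N
        have h2 : 1 < Nat.card N := by
          have h3 : Nat.card N ≠ 1 := fun h => hNb (Subgroup.card_eq_one.mp h)
          have h5 : 0 < Nat.card N := Nat.card_pos
          omega
        have h4 : N.index ≠ 0 := Subgroup.index_ne_zero_of_finite
        have h6 : Nat.card (G ⧸ N) = N.index := rfl
        rw [h6]
        have h7 : 0 < N.index := Nat.pos_of_ne_zero h4
        nlinarith
      have hQsolv : Group.IsSolvable (G ⧸ N) := by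
        apply ih (Nat.card (G ⧸ N)) hQcard (G ⧸ N) (A.map (QuotientGroup.mk' N)) rfl inferInstance
        have h1 : (A.map (QuotientGroup.mk' N)).index ∣ 2 ^ k := by
          rw [← hk]
          exact Subgroup.index_map_dvd A (QuotientGroup.mk'_surjective N)
        obtain ⟨i, -, hi⟩ := (Nat.dvd_prime_pow Nat.prime_two).1 h1
        exact ⟨i, hi⟩
      exact Group.isSolvable_of_ker_le_range N.subtype (QuotientGroup.mk' N) (by simp)

/-- Every finite group having an abelian subgroup whose index is a power of 2 is solvable. -/
theorem result {G : Type*} [Group G] [Finite G]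
    (A : Subgroup G) (hA : IsMulCommutative A) (hidx : ∃ k : ℕ, A.index = 2 ^ k) : Group.IsSolvable G := by
  exact aux _ G A rfl hA hidx

end Cfsg.Agent.S3824
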