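import Cfsg.Statements.S3868
import Mathlib
import Cfsg.Agent.Lib.Helper6.IrrCyclic
import Cfsg.Agent.Lib.Helper6.InvSylow
import Cfsg.Agent.Lib.Helper6.PSolv
import Cfsg.Agent.Lib.Helper6.Index
import Cfsg.Agent.Lib.Helper4.PClosed
import Cfsg.Agent.Lib.Helper1.MinNormal
import Cfsg.Agent.Lib.Helper5.ElemAbNormal
-- import your own Cfsg.Agent.* helpers here

set_option autoImplicit false
open Cfsg

namespace Cfsg.Agent.S3868


open Cfsg.Agent.Lib.Helper6 in
theorem min_non_pclosed_structure {G : Type*} [Group G] [Finite G] {p : ℕ} [Fact p.Prime]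
    (hnc : ¬ Cfsg.IsPClosed p G) (hsub : ∀ H : Subgroup G, H ≠ ⊤ → Cfsg.IsPClosed p ↥H)
    (hquo : ∀ (N : Subgroup G) [N.Normal], N ≠ ⊥ → Cfsg.IsPClosed p (G ⧸ N))
    (hns : ¬ IsSimpleGroup G) :
    ∃ q : ℕ, q.Prime ∧ q ≠ p ∧ ∃ A : Subgroup G, A.Normal ∧ A.index = p ∧
      (∀ a ∈ A, ∀ b ∈ A, a * b = b * a) ∧ (∀ a ∈ A, a ^ q = 1) ∧
      (∀ B : Subgroup G, B.Normal → B ≤ A → B = ⊥ ∨ B = A) ∧ ¬ IsMulCommutative G := by
  classical
  have hp : p.Prime := Fact.out
  have hna : ¬ IsMulCommutative G := by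
    intro hc
    apply hnc
    intro P
    constructor
    intro n hn g
    have : g * n * g⁻¹ = n := by rw [hc.is_comm.comm g n, mul_inv_cancel_right]
    rw [this]; exact hn
  have hPnn : ∀ P : Sylow p G, ¬ (P : Subgroup G).Normal := fun P h =>
    hnc (Cfsg.Agent.Lib.Helper4.isPClosed_of_normal_sylow P h)
  have hOp : ∀ D : Subgroup G, D.Normal → IsPGroup p D → D = ⊥ := by
    intro D hD hDp
    by_contra hne
    exact hnc ((Cfsg.Agent.Lib.Helper4.isPClosed_quotient_iff D hDp).mpr (hquo D hne))
  have hGnt : Nontrivial G := by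
    by_contra hnt
    rw [not_nontrivial_iff_subsingleton] at hnt
    apply hnc
    intro P
    constructor
    intro n hn g
    rw [Subsingleton.elim (g * n * g⁻¹) n]; exact hn
  obtain ⟨N, hNn, hN0, hNtop⟩ : ∃ N : Subgroup G, N.Normal ∧ N ≠ ⊥ ∧ N ≠ ⊤ := by
    by_contra hcon
    push Not at hcon
    apply hns
    exact ⟨fun H hH => by
      by_cases h : H = ⊥
      · exact Or.inl h
      · exact Or.inr (hcon H hH h)⟩
  obtain ⟨A, hAn, hAN, hA0, hAmin⟩ := Cfsg.Agent.Lib.Helper1.exists_minimal_normal_le N hNn hN0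
  have hAtop : A ≠ ⊤ := fun h => hNtop (top_le_iff.mp (h ▸ hAN))
  haveI := hAn
  have hPA : ∀ P : Sylow p G, (P : Subgroup G) ⊔ A = ⊤ := by
    intro P
    by_contra hne
    have hn : ((P : Subgroup G) ⊔ A).Normal := by
      have h1 := hquo A hA0 (P.mapSurjective (QuotientGroup.mk'_surjective A))
      rw [Sylow.coe_mapSurjective] at h1
      have h2 := h1.comap (QuotientGroup.mk' A)
      rw [Subgroup.comap_map_eq, QuotientGroup.ker_mk'] at h2
      exact h2
    have hcl := hsub _ hne
    have h3 := Cfsg.Agent.Lib.Helper4.normal_map_sylow_of_isPClosed ((P : Subgroup G) ⊔ A) hcl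
      (P.subtype le_sup_left)
    rw [Sylow.coe_subtype, Subgroup.subgroupOf_map_subtype, inf_eq_left.mpr le_sup_left] at h3
    exact hPnn P h3
  have hPiA : ∀ P : Sylow p G, (P : Subgroup G) ⊓ A = ⊥ := by
    intro P
    have h1 := (Cfsg.Agent.Lib.Helper4.isPClosed_normal_iff P A).mp (hsub A hAtop)
    rcases hAmin _ h1 inf_le_right with h | h
    · exact h
    · exfalso
      have h2 : A ≤ (P : Subgroup G) := inf_eq_right.mp h
      have h3 := hPA P
      rw [sup_eq_left.mpr h2] at h3
      apply hPnn P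
      rw [h3]; infer_instance
  have hAcop : (Nat.card A).Coprime p := by
    rw [Nat.coprime_comm, hp.coprime_iff_not_dvd]
    intro hdvd
    obtain ⟨a, ha⟩ := exists_prime_orderOf_dvd_card' (G := A) p hdvd
    have hpa : IsPGroup p (Subgroup.zpowers (a : G)) :=
      IsPGroup.of_card (n := 1) (by rw [Nat.card_zpowers, Subgroup.orderOf_coe, ha, pow_one])
    obtain ⟨P, hP⟩ := hpa.exists_le_sylow
    have h0 : (a : G) ∈ (P : Subgroup G) ⊓ A := ⟨hP (Subgroup.mem_zpowers _), a.2⟩
    rw [hPiA P, Subgroup.mem_bot] at h0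
    have h1 : orderOf (a : G) = 1 := by rw [h0, orderOf_one]
    rw [Subgroup.orderOf_coe, ha] at h1
    exact hp.one_lt.ne' h1
  have hpG : p ∣ Nat.card G := by
    by_contra h
    obtain ⟨P⟩ : Nonempty (Sylow p G) := inferInstance
    apply hPnn P
    have h0 : (P : Subgroup G) = ⊥ := by
      rw [← Subgroup.card_eq_one]
      obtain ⟨k, hk⟩ := IsPGroup.iff_card.mp P.isPGroup'
      rcases Nat.eq_zero_or_pos k with rfl | hk0
      · rw [hk, pow_zero]
      · exfalso
        apply h
        have h1 : p ∣ Nat.card (P : Subgroup G) := by rw [hk]; exact dvd_pow_self p hk0.ne'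
        exact h1.trans (Subgroup.card_subgroup_dvd_card _)
    rw [h0]; infer_instance
  obtain ⟨y, hy⟩ := exists_prime_orderOf_dvd_card' (G := G) p hpG
  have hy1 : y ≠ 1 := by
    intro h; rw [h, orderOf_one] at hy; exact hp.one_lt.ne hy
  have hAy : A ⊔ Subgroup.zpowers y = ⊤ := by
    by_contra hne
    have hcl := hsub _ hne
    have hyH : y ∈ A ⊔ Subgroup.zpowers y := Subgroup.mem_sup_right (Subgroup.mem_zpowers y)
    have hpy : IsPGroup p (Subgroup.zpowers (⟨y, hyH⟩ : ↥(A ⊔ Subgroup.zpowers y))) :=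
      IsPGroup.of_card (n := 1) (by rw [Nat.card_zpowers, Subgroup.orderOf_mk, hy, pow_one])
    obtain ⟨S, hS⟩ := hpy.exists_le_sylow
    have hSn := hcl S
    have hA'n : (A.subgroupOf (A ⊔ Subgroup.zpowers y)).Normal := inferInstance
    have hdisj : Disjoint (S : Subgroup ↥(A ⊔ Subgroup.zpowers y))
        (A.subgroupOf (A ⊔ Subgroup.zpowers y)) := by
      apply Subgroup.disjoint_of_coprime_natCard
      obtain ⟨k, hk⟩ := IsPGroup.iff_card.mp S.isPGroup'
      rw [hk, Nat.card_congr (Subgroup.subgroupOfEquivOfLe (le_sup_left :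
        A ≤ A ⊔ Subgroup.zpowers y)).toEquiv]
      exact (Nat.Coprime.pow_right k hAcop).symm
    have hycomm : ∀ a ∈ A, y * a = a * y := by
      intro a ha
      have haH : a ∈ A ⊔ Subgroup.zpowers y := Subgroup.mem_sup_left ha
      have h1 := Subgroup.commute_of_normal_of_disjoint _ _ hSn hA'n hdisj ⟨y, hyH⟩ ⟨a, haH⟩
        (hS (Subgroup.mem_zpowers _)) (Subgroup.mem_subgroupOf.mpr ha)
      exact congrArg Subtype.val h1.eq
    have hpy' : IsPGroup p (Subgroup.zpowers y) :=
      IsPGroup.of_card (n := 1) (by rw [Nat.card_zpowers, hy, pow_one])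
    obtain ⟨P, hP⟩ := hpy'.exists_le_sylow
    have hyP : y ∈ (P : Subgroup G) := hP (Subgroup.mem_zpowers y)
    have hD : ((P : Subgroup G) ⊓ Subgroup.centralizer (A : Set G)).Normal := by
      rw [← Subgroup.normalizer_eq_top_iff, eq_top_iff, ← hPA P, sup_le_iff]
      constructor
      · refine le_trans ?_ Subgroup.inf_normalizer_le_normalizer_inf
        refine le_inf Subgroup.le_normalizer ?_
        rw [Subgroup.normalizer_eq_top]
        exact le_top
      · intro a ha
        apply centralizer_le_normalizer'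
        rw [Subgroup.mem_centralizer_iff]
        intro z hz
        exact ((Subgroup.mem_centralizer_iff.mp hz.2) a ha).symm
    have hD0 := hOp _ hD (P.isPGroup'.to_le inf_le_left)
    have hyD : y ∈ (P : Subgroup G) ⊓ Subgroup.centralizer (A : Set G) :=
      ⟨hyP, Subgroup.mem_centralizer_iff.mpr (fun a ha => (hycomm a ha).symm)⟩
    rw [hD0, Subgroup.mem_bot] at hyD
    exact hy1 hyD
  have hidx : A.index = p := by
    have hdisj : A ⊓ Subgroup.zpowers y = ⊥ :=
      (Subgroup.disjoint_of_coprime_natCard (by rw [Nat.card_zpowers, hy]; exact hAcop)).eq_bot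
    rw [← Subgroup.relIndex_top_right, ← hAy, sup_comm, Subgroup.relIndex_sup_right,
      ← Subgroup.inf_relIndex_right, hdisj, Subgroup.relIndex_bot_left, Nat.card_zpowers, hy]
  obtain ⟨P⟩ : Nonempty (Sylow p G) := inferInstance
  have hcardG : Nat.card G = Nat.card A * Nat.card (P : Subgroup G) := by
    have h1 := card_sup_of_normal_disjoint (P : Subgroup G) A (hPiA P)
    rw [hPA P, Subgroup.card_top] at h1
    exact h1
  have hqex : ∃ q : ℕ, q.Prime ∧ IsPGroup q A := by
    by_contra hcon
    push Not at hcon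
    have hAC : A ≤ Subgroup.centralizer ((P : Subgroup G) : Set G) := by
      have h1 : (Subgroup.centralizer ((P : Subgroup G) : Set G)).relIndex A = 1 := by
        rw [Nat.eq_one_iff_not_exists_prime_dvd]
        intro r hr hrd
        haveI := Fact.mk hr
        obtain ⟨R, hRA, hRr, hRidx, hRinv⟩ :=
          exists_invariant_sylow p r A hAcop (P : Subgroup G) P.isPGroup'
        by_cases hPR : (P : Subgroup G) ⊔ R = ⊤
        · apply hcon r hr
          have hAR : R = A := by
            apply Subgroup.eq_of_le_of_card_ge hRA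
            have hPn : (P : Subgroup G) ≤ Subgroup.normalizer (R : Set G) := by
              intro g hg
              rw [Subgroup.mem_normalizer_iff]
              intro h
              constructor
              · exact hRinv g hg h
              · intro hh
                have h2 := hRinv g⁻¹ (inv_mem hg) _ hh
                have h3 : g⁻¹ * (g * h * g⁻¹) * g⁻¹⁻¹ = h := by group
                rw [h3] at h2
                exact h2
            have h2 := card_sup_dvd_mul R (P : Subgroup G) hPn
            rw [sup_comm, hPR, Subgroup.card_top, hcardG] at h2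
            have h3 : Nat.card A ∣ Nat.card R :=
              Nat.dvd_of_mul_dvd_mul_right Nat.card_pos h2
            exact Nat.le_of_dvd Nat.card_pos h3
          rw [← hAR]; exact hRr
        · have hcl := hsub _ hPR
          have hSn := hcl (P.subtype le_sup_left)
          rw [Sylow.coe_subtype] at hSn
          have hRC : R ≤ Subgroup.centralizer ((P : Subgroup G) : Set G) := by
            intro y hy
            rw [Subgroup.mem_centralizer_iff]
            intro g hg
            have hyH : y ∈ (P : Subgroup G) ⊔ R := Subgroup.mem_sup_right hy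
            have hgH : g ∈ (P : Subgroup G) ⊔ R := Subgroup.mem_sup_left hg
            have h1 := hSn.conj_mem ⟨g, hgH⟩ (Subgroup.mem_subgroupOf.mpr hg) ⟨y, hyH⟩
            have h2 : y * g * y⁻¹ ∈ (P : Subgroup G) := Subgroup.mem_subgroupOf.mp h1
            have h3 : y * g * y⁻¹ * g⁻¹ ∈ (P : Subgroup G) ⊓ A := Subgroup.mem_inf.mpr
              ⟨(P : Subgroup G).mul_mem h2 ((P : Subgroup G).inv_mem hg), by
              have h4 : y * g * y⁻¹ * g⁻¹ = y * (g * y⁻¹ * g⁻¹) := by group
              rw [h4]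
              exact A.mul_mem (hRA hy) (hAn.conj_mem _ (A.inv_mem (hRA hy)) g)⟩
            rw [hPiA P, Subgroup.mem_bot] at h3
            have h4 : y * g * y⁻¹ * g⁻¹ * (g * y) = g * y := by rw [h3, one_mul]
            rw [← h4]; group
          exact hRidx (hrd.trans (Subgroup.relIndex_dvd_of_le_left A hRC))
      exact Subgroup.relIndex_eq_one.mp h1
    apply hPnn P
    rw [← Subgroup.normalizer_eq_top_iff, eq_top_iff, ← hPA P, sup_le_iff]
    exact ⟨Subgroup.le_normalizer, fun a ha => centralizer_le_normalizer' _ (hAC ha)⟩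
  obtain ⟨q, hq, hAq⟩ := hqex
  haveI := Fact.mk hq
  obtain ⟨k, hk⟩ := IsPGroup.iff_card.mp hAq
  have hk0 : k ≠ 0 := by
    rintro rfl
    rw [pow_zero] at hk
    exact hA0 (Subgroup.card_eq_one.mp hk)
  have hqp : q ≠ p := by
    rintro rfl
    rw [hk] at hAcop
    have h1 : q ∣ q ^ k := dvd_pow_self q hk0
    exact (hp.coprime_iff_not_dvd.mp hAcop.symm) h1
  have hsolvA : Group.IsSolvable A := isSolvable_of_card_prime_pow hq A k hk
  obtain ⟨V, p', hVn, hp', hVA, hV0, hVc, hVe⟩ :=
    Cfsg.Agent.Lib.Helper5.exists_normal_exponent_prime_of_solvable A hA0 hsolvA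
  have hVA' : V = A := by
    rcases hAmin V hVn hVA with h | h
    · exact absurd h hV0
    · exact h
  subst hVA'
  haveI := Fact.mk hp'
  have hp'q : p' = q := by
    obtain ⟨a, ha⟩ := Subgroup.ne_bot_iff_exists_ne_one.mp hA0
    have ha1 : (a : G) ≠ 1 := fun h => ha (Subtype.ext h)
    have h1 : orderOf (a : G) = p' := orderOf_eq_prime (hVe _ a.2) ha1
    obtain ⟨j, hj⟩ := hAq a
    have hj' : (a : G) ^ q ^ j = 1 := congrArg Subtype.val hj
    have h2 : p' ∣ q ^ j := by rw [← h1]; exact orderOf_dvd_of_pow_eq_one hj'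
    exact (Nat.prime_dvd_prime_iff_eq hp' hq).mp (hp'.dvd_of_dvd_pow h2)
  subst hp'q
  exact ⟨p', hp', hqp, V, hVn, hidx, hVc, hVe, hAmin, hna⟩

/-- Structure of the non-simple minimal non-p-closed groups. Call a finite group p-closed when its Sylow p-subgroups are normal, and minimal non-p-closed when it is not p-closed but every proper subgroup and every proper quotient is. If such a group G is not simple, then there is a prime q ≠ p such that G has order p · q^e, where e is the multiplicative order of q modulo p, and G has a normal subgroup A of order q^e that is elementary abelian and is a minimal normal subgroup of G (so G is the semidirect product of A by a group of order p acting irreducibly). -/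
theorem result {G : Type*} [Group G] [Finite G] {p : ℕ} [Fact p.Prime]
    (hnc : ¬ Cfsg.IsPClosed p G) (hsub : ∀ H : Subgroup G, H ≠ ⊤ → Cfsg.IsPClosed p ↥H)
    (hquo : ∀ (N : Subgroup G) [N.Normal], N ≠ ⊥ → Cfsg.IsPClosed p (G ⧸ N)) (hns : ¬ IsSimpleGroup G) :
    ∃ q : ℕ, q.Prime ∧ q ≠ p ∧ Nat.card G = p * q ^ orderOf (q : ZMod p) ∧
      ∃ A : Subgroup G, A.Normal ∧ Nat.card ↥A = q ^ orderOf (q : ZMod p) ∧ Cfsg.IsElementaryAbelian q A ∧
        ∀ B : Subgroup G, B.Normal → B ≤ A → B = ⊥ ∨ B = A := by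
  obtain ⟨q, hq, hqp, A, hAn, hidx, hAc, hAe, hAmin, hna⟩ :=
    min_non_pclosed_structure hnc hsub hquo hns
  haveI := hAn
  have hcard := Cfsg.Agent.Lib.Helper6.card_eq_of_minimal_normal_index_prime hq hna A hAc hAe hidx
    hAmin
  refine ⟨q, hq, hqp, ?_, A, hAn, hcard, ⟨⟨⟨fun a b => Subtype.ext (hAc a a.2 b b.2)⟩⟩, hAe⟩, hAmin⟩
  rw [← Subgroup.card_mul_index A, hidx, hcard, mul_comm]

end Cfsg.Agent.S3868
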