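import Cfsg.Statements.S3869
import Mathlib
import Cfsg.Agent.Lib.Helper6.IrrCyclic
-- import your own Cfsg.Agent.* helpers here

set_option autoImplicit false
open Cfsg

namespace Cfsg.Agent.S3869


theorem isPClosed_of_card_dvd_prime {K : Type*} [Group K] [Finite K] {p : ℕ} (hp : p.Prime)
    (h : Nat.card K ∣ p) : Cfsg.IsPClosed p K := by
  have hcyc : IsCyclic K := by
    rcases (Nat.dvd_prime hp).mp h with h1 | h1
    · haveI : Subsingleton K := (Nat.card_eq_one_iff_unique.mp h1).1
      exact isCyclic_of_subsingleton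
    · haveI := Fact.mk hp
      exact isCyclic_of_prime_card h1
  haveI : IsMulCommutative K := IsCyclic.isMulCommutative
  intro P
  constructor
  intro n hn g
  have : g * n * g⁻¹ = n := by rw [IsMulCommutative.is_comm.comm g n, mul_inv_cancel_right]
  rw [this]; exact hn

/-- Let p and q be distinct primes and G a finite non-abelian group with a normal elementary abelian q-subgroup A that is a minimal normal subgroup of G and has index p. Then A has order q^e with e the multiplicative order of q modulo p, and G is minimal non-p-closed: its Sylow p-subgroups are not normal, while in every proper subgroup and in every proper quotient of G the Sylow p-subgroups are normal. -/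
theorem result {G : Type*} [Group G] [Finite G] {p q : ℕ} [Fact p.Prime] (hq : q.Prime) (hpq : q ≠ p)
    (hna : ¬ IsMulCommutative G) (A : Subgroup G) [A.Normal] (hA : Cfsg.IsElementaryAbelian q A) (hidx : A.index = p)
    (hmin : ∀ B : Subgroup G, B.Normal → B ≤ A → B = ⊥ ∨ B = A) :
    Nat.card ↥A = q ^ orderOf (q : ZMod p) ∧ ¬ Cfsg.IsPClosed p G ∧ (∀ H : Subgroup G, H ≠ ⊤ → Cfsg.IsPClosed p ↥H) ∧
      ∀ (N : Subgroup G) [N.Normal], N ≠ ⊥ → Cfsg.IsPClosed p (G ⧸ N) := by
  have hp : p.Prime := Fact.out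
  obtain ⟨hAc', hAq⟩ := hA
  have hAc : ∀ a ∈ A, ∀ b ∈ A, a * b = b * a := fun a ha b hb =>
    congrArg Subtype.val (hAc'.is_comm.comm ⟨a, ha⟩ ⟨b, hb⟩)
  have hcard := Cfsg.Agent.Lib.Helper6.card_eq_of_minimal_normal_index_prime hq hna A hAc hAq hidx
    hmin
  have hA0 : A ≠ ⊥ := by
    intro h
    apply hna
    rw [h, Subgroup.index_bot] at hidx
    haveI : IsCyclic G := isCyclic_of_prime_card hidx
    exact IsCyclic.isMulCommutative
  have hAp : IsPGroup q A := by
    intro a
    exact ⟨1, by rw [pow_one]; exact Subtype.ext (hAq a a.2)⟩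
  have hfpf : ∀ x ∉ A, ∀ a ∈ A, x * a * x⁻¹ = a → a = 1 := fun x hx =>
    Cfsg.Agent.Lib.Helper6.fpf_of_minimal_normal hna A hAc hp hidx hmin x hx
  have hdisj : ∀ N : Subgroup G, N.Normal → N ⊓ A = ⊥ → N = ⊥ := by
    intro N hN hNA
    by_contra hne
    obtain ⟨y, hy1⟩ := (Subgroup.ne_bot_iff_exists_ne_one (H := N)).mp hne
    have hyA : (y : G) ∉ A := by
      intro h
      apply hy1
      have h2 : (y : G) ∈ N ⊓ A := ⟨y.2, h⟩
      rw [hNA, Subgroup.mem_bot] at h2
      exact Subtype.ext h2
    obtain ⟨a, ha1⟩ := Subgroup.ne_bot_iff_exists_ne_one.mp hA0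
    have hcomm : Commute (y : G) (a : G) :=
      Subgroup.commute_of_normal_of_disjoint N A hN inferInstance (disjoint_iff.mpr hNA) _ _
        y.2 a.2
    have h3 : (a : G) = 1 := hfpf y hyA a a.2 (by rw [hcomm.eq, mul_inv_cancel_right])
    exact ha1 (Subtype.ext h3)
  haveI : Fact q.Prime := ⟨hq⟩
  refine ⟨hcard, ?_, ?_, ?_⟩
  · intro hcl
    obtain ⟨P⟩ : Nonempty (Sylow p G) := inferInstance
    have hPn := hcl P
    have hPA : (P : Subgroup G) ⊓ A = ⊥ :=
      (IsPGroup.disjoint_of_ne p q hpq.symm _ _ P.isPGroup' hAp).eq_bot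
    have h1 := hdisj _ hPn hPA
    have hpG : p ∣ Nat.card G := by rw [← hidx]; exact Subgroup.index_dvd_card A
    exact P.ne_bot_of_dvd_card hpG h1
  · intro H hH
    by_cases hHA : H ≤ A
    · intro S
      have h0 : (S : Subgroup H) = ⊥ := by
        rw [eq_bot_iff]
        intro s hs
        rw [Subgroup.mem_bot]
        obtain ⟨k, hk⟩ := S.isPGroup' ⟨s, hs⟩
        have hk' : s ^ p ^ k = 1 := congrArg Subtype.val hk
        have hq' : s ^ q = 1 := Subtype.ext (hAq _ (hHA s.2))
        have h1 : orderOf s ∣ p ^ k := orderOf_dvd_of_pow_eq_one hk'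
        have h2 : orderOf s ∣ q := orderOf_dvd_of_pow_eq_one hq'
        have h3 : Nat.Coprime (p ^ k) q :=
          Nat.Coprime.pow_left k ((Nat.coprime_primes hp hq).mpr hpq.symm)
        have h4 : orderOf s = 1 :=
          Nat.Coprime.eq_one_of_dvd (Nat.Coprime.coprime_dvd_left h1 h3) h2
        exact orderOf_eq_one_iff.mp h4
      rw [h0]
      infer_instance
    · obtain ⟨x, hxH, hxA⟩ := SetLike.not_le_iff_exists.mp hHA
      have htop := Cfsg.Agent.Lib.Helper6.sup_zpowers_eq_top_of_index_prime hp A hidx x hxA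
      have hn : (H ⊓ A).Normal := by
        apply Cfsg.Agent.Lib.Helper6.normal_of_le_abelian_of_inv hAc inf_le_right x htop
        intro b hb
        exact ⟨H.mul_mem (H.mul_mem hxH hb.1) (H.inv_mem hxH), ‹A.Normal›.conj_mem b hb.2 x⟩
      rcases hmin _ hn inf_le_right with h | h
      · apply isPClosed_of_card_dvd_prime hp
        have h1 : A.relIndex H ∣ A.index := Subgroup.relIndex_dvd_index_of_normal A H
        rw [hidx, ← Subgroup.inf_relIndex_right, inf_comm, h, Subgroup.relIndex_bot_left] at h1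
        exact h1
      · exfalso
        apply hH
        rw [eq_top_iff, ← htop, sup_le_iff, Subgroup.zpowers_le]
        exact ⟨inf_eq_right.mp h, hxH⟩
  · intro N hN hN0
    have hn : (N ⊓ A).Normal := inferInstance
    rcases hmin _ hn inf_le_right with h | h
    · exact absurd (hdisj N hN h) hN0
    · apply isPClosed_of_card_dvd_prime hp
      rw [← Subgroup.index_eq_card, ← hidx]
      exact Subgroup.index_dvd_of_le (inf_eq_right.mp h)

end Cfsg.Agent.S3869
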