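import Cfsg.Statements.S3870
import Mathlib
import Cfsg.Agent.Lib.Helper6.PGroups

set_option autoImplicit false
open Cfsg

namespace Cfsg.Agent.S3870

open Cfsg.Agent.Lib.Helper6

/-- Let G be a finite simple group whose Sylow p-subgroups are not normal but such that every proper subgroup of G has a normal Sylow p-subgroup. Then any two distinct Sylow p-subgroups of G intersect trivially, and for every Sylow p-subgroup P the normalizer of every non-identity subgroup of P lies in the normalizer of P. -/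
theorem result {G : Type*} [Group G] [Finite G] [IsSimpleGroup G] {p : ℕ} [Fact p.Prime]
    (hnc : ¬ Cfsg.IsPClosed p G) (hsub : ∀ H : Subgroup G, H ≠ ⊤ → Cfsg.IsPClosed p ↥H) :
    (∀ P Q : Sylow p G, P ≠ Q → (P : Subgroup G) ⊓ (Q : Subgroup G) = ⊥) ∧
      ∀ (P : Sylow p G) (R : Subgroup G), R ≤ P → R ≠ ⊥ →
        Subgroup.normalizer (R : Set G) ≤ Subgroup.normalizer ((P : Subgroup G) : Set G) := by
  have part1 : ∀ P Q : Sylow p G, P ≠ Q → (P : Subgroup G) ⊓ (Q : Subgroup G) = ⊥ := by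
    by_contra hcon
    push Not at hcon
    obtain ⟨P₀, Q₀, hne₀, hD₀⟩ := hcon
    let 𝒮 := {pq : Sylow p G × Sylow p G // pq.1 ≠ pq.2 ∧ (pq.1 : Subgroup G) ⊓ pq.2 ≠ ⊥}
    have hnonempty : Nonempty 𝒮 := ⟨⟨(P₀, Q₀), hne₀, hD₀⟩⟩
    obtain ⟨⟨⟨P, Q⟩, hne, hD⟩, hmax⟩ :=
      Finite.exists_max (fun pq : 𝒮 => Nat.card ↥((pq.1.1 : Subgroup G) ⊓ pq.1.2))
    simp only at hne hD hmax
    set D : Subgroup G := (P : Subgroup G) ⊓ Q with hDdef
    have hDP : D < P := by
      refine lt_of_le_of_ne inf_le_left ?_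
      intro h
      have hle : (P : Subgroup G) ≤ Q := by rw [← h]; exact inf_le_right
      exact hne (sylow_eq_of_le hle)
    have hDQ : D < Q := by
      refine lt_of_le_of_ne inf_le_right ?_
      intro h
      have hle : (Q : Subgroup G) ≤ P := by rw [← h]; exact inf_le_left
      exact hne (sylow_eq_of_le hle).symm
    have hNne : Subgroup.normalizer (D : Set G) ≠ ⊤ := by
      intro htop
      have hnorm : D.Normal := Subgroup.normalizer_eq_top_iff.mp htop
      rcases hnorm.eq_bot_or_eq_top with h | h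
      · exact hD h
      · have : (P : Subgroup G) ≤ D := by rw [h]; exact le_top
        exact (not_le_of_gt hDP) this
    obtain ⟨S, hS, -, hSmax⟩ := exists_pSubgroup_ge_of_pClosed _ (hsub _ hNne)
    obtain ⟨x, hxP, hxN, hxD⟩ := exists_mem_normalizer_not_mem (P : Subgroup G) D P.isPGroup' hDP
    obtain ⟨y, hyQ, hyN, hyD⟩ := exists_mem_normalizer_not_mem (Q : Subgroup G) D Q.isPGroup' hDQ
    have hxS : x ∈ S := by
      have h1 : Subgroup.zpowers x ≤ S := by
        apply hSmax
        · rw [Subgroup.zpowers_le]; exact hxN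
        · exact P.isPGroup'.to_le (by rw [Subgroup.zpowers_le]; exact hxP)
      exact h1 (Subgroup.mem_zpowers x)
    have hyS : y ∈ S := by
      have h1 : Subgroup.zpowers y ≤ S := by
        apply hSmax
        · rw [Subgroup.zpowers_le]; exact hyN
        · exact Q.isPGroup'.to_le (by rw [Subgroup.zpowers_le]; exact hyQ)
      exact h1 (Subgroup.mem_zpowers y)
    have hDS : D ≤ S := hSmax _ Subgroup.le_normalizer (P.isPGroup'.to_le inf_le_left)
    obtain ⟨P₁, hP₁⟩ := hS.exists_le_sylow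
    have hPP₁ : P = P₁ := by
      by_contra hne1
      have hle : D ≤ (P : Subgroup G) ⊓ P₁ := le_inf inf_le_left (hDS.trans hP₁)
      have hnb : (P : Subgroup G) ⊓ P₁ ≠ ⊥ := by
        intro h; rw [h, le_bot_iff] at hle; exact hD hle
      have hc := hmax ⟨(P, P₁), hne1, hnb⟩
      simp only at hc
      have heq := Subgroup.eq_of_le_of_card_ge hle hc
      apply hxD
      rw [heq]
      exact ⟨hxP, hP₁ hxS⟩
    have hQP₁ : Q = P₁ := by
      by_contra hne1
      have hle : D ≤ (Q : Subgroup G) ⊓ P₁ := le_inf inf_le_right (hDS.trans hP₁)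
      have hnb : (Q : Subgroup G) ⊓ P₁ ≠ ⊥ := by
        intro h; rw [h, le_bot_iff] at hle; exact hD hle
      have hc := hmax ⟨(Q, P₁), hne1, hnb⟩
      simp only at hc
      have heq := Subgroup.eq_of_le_of_card_ge hle hc
      apply hyD
      rw [heq]
      exact ⟨hyQ, hP₁ hyS⟩
    exact hne (hPP₁.trans hQP₁.symm)
  refine ⟨part1, ?_⟩
  intro P R hRP hR g hg
  rw [P.coe_coe, ← Sylow.smul_eq_iff_mem_normalizer]
  by_contra hne
  have h1 := part1 P (g • P) (Ne.symm hne)
  apply hR
  rw [eq_bot_iff, ← h1]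
  refine le_inf hRP ?_
  intro r hr
  rw [Sylow.coe_subgroup_smul, Subgroup.mem_pointwise_smul_iff_inv_smul_mem]
  rw [Subgroup.mem_set_normalizer_iff] at hg
  have h2 : g⁻¹ * r * g ∈ R := by
    apply (hg (g⁻¹ * r * g)).mpr
    have e : g * (g⁻¹ * r * g) * g⁻¹ = r := by group
    rw [e]; exact hr
  have e2 : (MulAut.conj g)⁻¹ • r = g⁻¹ * r * g := by
    rw [← map_inv, MulAut.smul_def, MulAut.conj_apply, inv_inv]
  rw [e2]
  exact hRP h2

end Cfsg.Agent.S3870
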