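import Cfsg.Statements.S3873
import Mathlib
import Cfsg.Agent.Lib.Helper6.IrrCyclic
import Cfsg.Agent.Lib.Helper6.InvSylow
import Cfsg.Agent.Lib.Helper6.PSolv
import Cfsg.Agent.Lib.Helper6.Index
import Cfsg.Agent.Lib.Helper1.MinNormal
import Cfsg.Agent.Lib.Helper5.ElemAbNormal
-- import your own Cfsg.Agent.* helpers here

set_option autoImplicit false
open Cfsg

namespace Cfsg.Agent.S3873


open Cfsg.Agent.Lib.Helper6 in
theorem min_non_pexp_structure {G : Type*} [Group G] [Finite G] {p : ℕ} [Fact p.Prime]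
    (hnc : ¬ (∃ H : Subgroup G, (H : Set G) = {g : G | g ^ p = 1}))
    (hsub : ∀ K : Subgroup G, K ≠ ⊤ → (∃ H : Subgroup ↥K, (H : Set ↥K) = {g : ↥K | g ^ p = 1}))
    (hquo : ∀ (N : Subgroup G) [N.Normal], N ≠ ⊥ →
      (∃ H : Subgroup (G ⧸ N), (H : Set (G ⧸ N)) = {g : (G ⧸ N) | g ^ p = 1}))
    (hns : ¬ IsSimpleGroup G) (hnp : ¬ IsPGroup p G) :
    ∃ q : ℕ, q.Prime ∧ q ≠ p ∧ ∃ A : Subgroup G, A.Normal ∧ A.index = p ∧
      (∀ a ∈ A, ∀ b ∈ A, a * b = b * a) ∧ (∀ a ∈ A, a ^ q = 1) ∧
      (∀ B : Subgroup G, B.Normal → B ≤ A → B = ⊥ ∨ B = A) ∧ ¬ IsMulCommutative G := by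
  classical
  have hp : p.Prime := Fact.out
  obtain ⟨x, y, hx, hy, hxy⟩ : ∃ x y : G, x ^ p = 1 ∧ y ^ p = 1 ∧ (x * y) ^ p ≠ 1 := by
    by_contra hcon
    push Not at hcon
    apply hnc
    exact ⟨{ carrier := {g : G | g ^ p = 1}
             mul_mem' := fun {a b} ha hb => hcon a b ha hb
             one_mem' := one_pow p
             inv_mem' := fun {a} ha => by
               show a⁻¹ ^ p = 1
               rw [inv_pow, show a ^ p = 1 from ha, inv_one] }, rfl⟩
  have hna : ¬ IsMulCommutative G := by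
    intro hc
    apply hxy
    rw [(show Commute x y from hc.is_comm.comm x y).mul_pow, hx, hy, one_mul]
  have hgen : Subgroup.closure ({x, y} : Set G) = ⊤ := by
    by_contra hne
    obtain ⟨H, hH⟩ := hsub _ hne
    have hxK : x ∈ Subgroup.closure ({x, y} : Set G) := Subgroup.subset_closure (by simp)
    have hyK : y ∈ Subgroup.closure ({x, y} : Set G) := Subgroup.subset_closure (by simp)
    have hmem : ∀ k : ↥(Subgroup.closure ({x, y} : Set G)), k ∈ H ↔ k ^ p = 1 := fun k => by
      rw [← SetLike.mem_coe, hH]; rfl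
    have h1 : (⟨x, hxK⟩ : ↥(Subgroup.closure ({x, y} : Set G))) ∈ H :=
      (hmem _).mpr (Subtype.ext hx)
    have h2 : (⟨y, hyK⟩ : ↥(Subgroup.closure ({x, y} : Set G))) ∈ H :=
      (hmem _).mpr (Subtype.ext hy)
    have h3 := (hmem _).mp (H.mul_mem h1 h2)
    exact hxy (congrArg Subtype.val h3)
  have hGnt : Nontrivial G := by
    by_contra hnt
    rw [not_nontrivial_iff_subsingleton] at hnt
    apply hnp
    intro g
    exact ⟨0, Subsingleton.elim _ _⟩
  obtain ⟨N, hNn, hN0, hNtop⟩ : ∃ N : Subgroup G, N.Normal ∧ N ≠ ⊥ ∧ N ≠ ⊤ := by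
    by_contra hcon
    push Not at hcon
    apply hns
    exact ⟨fun H hH => by
      by_cases h : H = ⊥
      · exact Or.inl h
      · exact Or.inr (hcon H hH h)⟩
  obtain ⟨A, hAn, hAN, hA0, hAmin⟩ := Cfsg.Agent.Lib.Helper1.exists_minimal_normal_le N hNn hN0
  have hAtop : A ≠ ⊤ := fun h => hNtop (top_le_iff.mp (h ▸ hAN))
  haveI := hAn
  have hexpq : ∀ g : G, g ^ p ∈ A := by
    intro g
    obtain ⟨H, hH⟩ := hquo A hA0
    have hmem : ∀ k : G ⧸ A, k ∈ H ↔ k ^ p = 1 := fun k => by rw [← SetLike.mem_coe, hH]; rfl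
    have htopH : H = ⊤ := by
      rw [eq_top_iff, ← Subgroup.map_top_of_surjective (QuotientGroup.mk' A)
        (QuotientGroup.mk'_surjective A), ← hgen, MonoidHom.map_closure, Subgroup.closure_le]
      rintro _ ⟨w, hw, rfl⟩
      simp only [Set.mem_insert_iff, Set.mem_singleton_iff] at hw
      rw [SetLike.mem_coe, hmem, ← map_pow]
      rcases hw with rfl | rfl
      · rw [hx, map_one]
      · rw [hy, map_one]
    have h1 : (QuotientGroup.mk' A g) ∈ H := by rw [htopH]; trivial
    have h2 := (hmem _).mp h1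
    rw [← map_pow, QuotientGroup.mk'_apply, QuotientGroup.eq_one_iff] at h2
    exact h2
  have hΩ : ∀ a ∈ A, a ^ p = 1 → a = 1 := by
    obtain ⟨H, hH⟩ := hsub A hAtop
    have hmem : ∀ k : A, k ∈ H ↔ k ^ p = 1 := fun k => by rw [← SetLike.mem_coe, hH]; rfl
    have hn : (H.map A.subtype).Normal := by
      constructor
      rintro _ ⟨h, hh, rfl⟩ g
      refine ⟨⟨g * h * g⁻¹, hAn.conj_mem _ h.2 g⟩, (hmem _).mpr ?_, rfl⟩
      apply Subtype.ext
      show (g * (h : G) * g⁻¹) ^ p = 1
      rw [conj_pow, show ((h : G)) ^ p = 1 from congrArg Subtype.val ((hmem h).mp hh), mul_one,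
        mul_inv_cancel]
    rcases hAmin _ hn (Subgroup.map_subtype_le _) with h | h
    · intro a ha hap
      have h1 : a ∈ H.map A.subtype := ⟨⟨a, ha⟩, (hmem _).mpr (Subtype.ext hap), rfl⟩
      rw [h, Subgroup.mem_bot] at h1
      exact h1
    · exfalso
      apply hnp
      intro g
      refine ⟨2, ?_⟩
      have h1 : g ^ p ∈ H.map A.subtype := by rw [h]; exact hexpq g
      obtain ⟨k, hk, hkeq⟩ := h1
      have h2 : (k : G) ^ p = 1 := congrArg Subtype.val ((hmem k).mp hk)
      have h3 : (g ^ p) ^ p = 1 := by rw [← hkeq]; exact h2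
      rw [← pow_mul, ← pow_two] at h3
      exact h3
  have hAcop : (Nat.card A).Coprime p := by
    rw [Nat.coprime_comm, hp.coprime_iff_not_dvd]
    intro hdvd
    obtain ⟨a, ha⟩ := exists_prime_orderOf_dvd_card' (G := A) p hdvd
    have h1 : (a : G) ^ p = 1 := by
      have := pow_orderOf_eq_one (a : G)
      rwa [Subgroup.orderOf_coe, ha] at this
    have h2 := hΩ a a.2 h1
    have h3 : orderOf (a : G) = 1 := by rw [h2, orderOf_one]
    rw [Subgroup.orderOf_coe, ha] at h3
    exact hp.one_lt.ne' h3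
  have hcent : ∀ (K R : Subgroup G), K ≠ ⊤ → R ≤ K → K ≤ Subgroup.normalizer (R : Set G) →
      R ≤ A → ∀ z ∈ K, z ^ p = 1 → ∀ a ∈ R, z * a = a * z := by
    intro K R hK hRK hKn hRA z hzK hz a ha
    obtain ⟨H, hH⟩ := hsub K hK
    have hmem : ∀ k : K, k ∈ H ↔ k ^ p = 1 := fun k => by rw [← SetLike.mem_coe, hH]; rfl
    have hHn : H.Normal := by
      constructor
      intro h hh k
      rw [hmem] at hh ⊢
      rw [conj_pow, hh, mul_one, mul_inv_cancel]
    have hR'n : (R.subgroupOf K).Normal :=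
      (Subgroup.normal_subgroupOf_iff_le_normalizer hRK).mpr hKn
    have hdisj : Disjoint H (R.subgroupOf K) := by
      rw [disjoint_iff, eq_bot_iff]
      rintro k ⟨hk1, hk2⟩
      rw [Subgroup.mem_bot]
      have h1 : (k : G) ^ p = 1 := congrArg Subtype.val ((hmem k).mp hk1)
      exact Subtype.ext (hΩ k (hRA (Subgroup.mem_subgroupOf.mp hk2)) h1)
    have h1 := Subgroup.commute_of_normal_of_disjoint _ _ hHn hR'n hdisj ⟨z, hzK⟩ ⟨a, hRK ha⟩
      ((hmem _).mpr (Subtype.ext hz)) (Subgroup.mem_subgroupOf.mpr ha)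
    exact congrArg Subtype.val h1.eq
  have hzpow : ∀ z : G, z ^ p = 1 → ∀ w ∈ Subgroup.zpowers z, w ^ p = 1 := by
    intro z hz w hw
    obtain ⟨i, rfl⟩ := Subgroup.mem_zpowers_iff.mp hw
    rw [← zpow_natCast, ← zpow_mul, mul_comm, zpow_mul, zpow_natCast, hz, one_zpow]
  obtain ⟨z, hz, hzA, hAz⟩ : ∃ z : G, z ^ p = 1 ∧ z ∉ A ∧ A ⊔ Subgroup.zpowers z = ⊤ := by
    by_contra hcon
    push Not at hcon
    have hc : ∀ z : G, z ^ p = 1 → ∀ a ∈ A, z * a = a * z := by
      intro z hz a ha
      by_cases hzA : z ∈ A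
      · rw [hΩ z hzA hz, one_mul, mul_one]
      · exact hcent (A ⊔ Subgroup.zpowers z) A (hcon z hz hzA) le_sup_left
          (by rw [Subgroup.normalizer_eq_top]; exact le_top) le_rfl z
          (Subgroup.mem_sup_right (Subgroup.mem_zpowers z)) hz a ha
    have hAcen : A ≤ Subgroup.center G := by
      intro a ha
      rw [Subgroup.mem_center_iff]
      have h1 : Subgroup.centralizer {a} = ⊤ := by
        rw [eq_top_iff, ← hgen, Subgroup.closure_le]
        intro w hw
        simp only [Set.mem_insert_iff, Set.mem_singleton_iff] at hw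
        rw [SetLike.mem_coe, Subgroup.mem_centralizer_iff]
        intro b hb
        rw [Set.mem_singleton_iff] at hb
        subst hb
        rcases hw with rfl | rfl
        · exact (hc _ hx b ha).symm
        · exact (hc _ hy b ha).symm
      intro g
      have hg : g ∈ Subgroup.centralizer {a} := by rw [h1]; trivial
      exact ((Subgroup.mem_centralizer_iff.mp hg) a rfl).symm
    have hGA : IsPGroup p (G ⧸ A) := by
      intro g
      obtain ⟨g, rfl⟩ := QuotientGroup.mk'_surjective A g
      refine ⟨1, ?_⟩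
      rw [pow_one, ← map_pow, QuotientGroup.mk'_apply, QuotientGroup.eq_one_iff]
      exact hexpq g
    haveI : Group.IsNilpotent (G ⧸ A) := hGA.isNilpotent
    haveI : Group.IsNilpotent G := Subgroup.isNilpotent_of_ker_le_center (QuotientGroup.mk' A)
      (by rw [QuotientGroup.ker_mk']; exact hAcen)
    obtain ⟨P⟩ : Nonempty (Sylow p G) := inferInstance
    apply hnc
    refine ⟨(P : Subgroup G), ?_⟩
    ext g
    show g ∈ (P : Subgroup G) ↔ g ^ p = 1
    constructor
    · intro hg
      have h1 := hexpq g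
      have h2 : g ^ p ∈ (P : Subgroup G) ⊓ A :=
        Subgroup.mem_inf.mpr ⟨(P : Subgroup G).pow_mem hg p, h1⟩
      have h3 : (P : Subgroup G) ⊓ A = ⊥ := (Subgroup.disjoint_of_coprime_natCard (by
        obtain ⟨k, hk⟩ := IsPGroup.iff_card.mp P.isPGroup'
        rw [hk]; exact (Nat.Coprime.pow_right k hAcop).symm)).eq_bot
      rw [h3, Subgroup.mem_bot] at h2
      exact h2
    · intro hg
      have hpg : IsPGroup p (Subgroup.zpowers g) := by
        intro w
        refine ⟨1, Subtype.ext ?_⟩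
        rw [pow_one]
        exact hzpow g hg w w.2
      obtain ⟨S, hS⟩ := hpg.exists_le_sylow
      obtain ⟨k, hk⟩ := MulAction.exists_smul_eq G P S
      rw [Sylow.smul_eq_of_normal] at hk
      rw [hk]
      exact hS (Subgroup.mem_zpowers g)
  have hz1 : z ≠ 1 := fun h => hzA (h ▸ A.one_mem)
  have hzo : orderOf z = p := orderOf_eq_prime hz hz1
  have hidx : A.index = p := by
    have hdisj : A ⊓ Subgroup.zpowers z = ⊥ :=
      (Subgroup.disjoint_of_coprime_natCard (by rw [Nat.card_zpowers, hzo]; exact hAcop)).eq_bot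
    rw [← Subgroup.relIndex_top_right, ← hAz, sup_comm, Subgroup.relIndex_sup_right,
      ← Subgroup.inf_relIndex_right, hdisj, Subgroup.relIndex_bot_left, Nat.card_zpowers, hzo]
  have hcardG : Nat.card G = Nat.card A * p := by rw [← Subgroup.card_mul_index A, hidx]
  have hqex : ∃ q : ℕ, q.Prime ∧ IsPGroup q A := by
    by_contra hcon
    push Not at hcon
    have hAC : A ≤ Subgroup.centralizer ({z} : Set G) := by
      have h1 : (Subgroup.centralizer ({z} : Set G)).relIndex A = 1 := by
        rw [Nat.eq_one_iff_not_exists_prime_dvd]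
        intro r hr hrd
        haveI := Fact.mk hr
        have hZp : IsPGroup p (Subgroup.zpowers z) :=
          IsPGroup.of_card (n := 1) (by rw [Nat.card_zpowers, hzo, pow_one])
        obtain ⟨R, hRA, hRr, hRidx, hRinv⟩ :=
          exists_invariant_sylow p r A hAcop (Subgroup.zpowers z) hZp
        have hZn : Subgroup.zpowers z ≤ Subgroup.normalizer (R : Set G) := by
          intro g hg
          rw [Subgroup.mem_normalizer_iff]
          intro h
          constructor
          · exact hRinv g hg h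
          · intro hh
            have h2 := hRinv g⁻¹ (inv_mem hg) _ hh
            have h3 : g⁻¹ * (g * h * g⁻¹) * g⁻¹⁻¹ = h := by group
            rw [h3] at h2
            exact h2
        by_cases hZR : Subgroup.zpowers z ⊔ R = ⊤
        · apply hcon r hr
          have hAR : R = A := by
            apply Subgroup.eq_of_le_of_card_ge hRA
            have h2 := card_sup_dvd_mul R (Subgroup.zpowers z) hZn
            rw [sup_comm, hZR, Subgroup.card_top, hcardG, Nat.card_zpowers, hzo] at h2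
            exact Nat.le_of_dvd Nat.card_pos (Nat.dvd_of_mul_dvd_mul_right hp.pos h2)
          rw [← hAR]; exact hRr
        · have hRC : R ≤ Subgroup.centralizer ({z} : Set G) := by
            intro a ha
            rw [Subgroup.mem_centralizer_iff]
            intro w hw
            rw [Set.mem_singleton_iff] at hw
            subst hw
            exact hcent (Subgroup.zpowers w ⊔ R) R hZR le_sup_right
              (sup_le hZn Subgroup.le_normalizer) hRA w
              (Subgroup.mem_sup_left (Subgroup.mem_zpowers w)) hz a ha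
          exact hRidx (hrd.trans (Subgroup.relIndex_dvd_of_le_left A hRC))
      exact Subgroup.relIndex_eq_one.mp h1
    apply hnc
    refine ⟨Subgroup.zpowers z, ?_⟩
    ext g
    show g ∈ Subgroup.zpowers z ↔ g ^ p = 1
    constructor
    · intro hg
      exact hzpow z hz g hg
    · intro hg
      have hgs : g ∈ Subgroup.zpowers z ⊔ A := by rw [sup_comm, hAz]; trivial
      obtain ⟨w, hw, a, ha, rfl⟩ := Subgroup.mem_sup_of_normal_right.mp hgs
      have hwa : Commute w a := by
        obtain ⟨i, rfl⟩ := Subgroup.mem_zpowers_iff.mp hw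
        have h0 : Commute z a := (Subgroup.mem_centralizer_iff.mp (hAC ha)) z rfl
        exact h0.zpow_left i
      rw [hwa.mul_pow, hzpow z hz w hw, one_mul] at hg
      rw [hΩ a ha hg, mul_one]
      exact hw
  obtain ⟨q, hq, hAq⟩ := hqex
  haveI := Fact.mk hq
  obtain ⟨k, hk⟩ := IsPGroup.iff_card.mp hAq
  have hk0 : k ≠ 0 := by
    rintro rfl
    rw [pow_zero] at hk
    exact hA0 (Subgroup.card_eq_one.mp hk)
  have hqp : q ≠ p := by
    rintro rfl
    rw [hk] at hAcop
    have h1 : q ∣ q ^ k := dvd_pow_self q hk0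
    exact (hp.coprime_iff_not_dvd.mp hAcop.symm) h1
  have hsolvA : Group.IsSolvable A := isSolvable_of_card_prime_pow hq A k hk
  obtain ⟨V, p', hVn, hp', hVA, hV0, hVc, hVe⟩ :=
    Cfsg.Agent.Lib.Helper5.exists_normal_exponent_prime_of_solvable A hA0 hsolvA
  have hVA' : V = A := by
    rcases hAmin V hVn hVA with h | h
    · exact absurd h hV0
    · exact h
  subst hVA'
  haveI := Fact.mk hp'
  have hp'q : p' = q := by
    obtain ⟨a, ha⟩ := Subgroup.ne_bot_iff_exists_ne_one.mp hA0
    have ha1 : (a : G) ≠ 1 := fun h => ha (Subtype.ext h)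
    have h1 : orderOf (a : G) = p' := orderOf_eq_prime (hVe _ a.2) ha1
    obtain ⟨j, hj⟩ := hAq a
    have hj' : (a : G) ^ q ^ j = 1 := congrArg Subtype.val hj
    have h2 : p' ∣ q ^ j := by rw [← h1]; exact orderOf_dvd_of_pow_eq_one hj'
    exact (Nat.prime_dvd_prime_iff_eq hp' hq).mp (hp'.dvd_of_dvd_pow h2)
  subst hp'q
  exact ⟨p', hp', hqp, V, hVn, hidx, hVc, hVe, hAmin, hna⟩

/-- Say that a finite group is p-exponent closed when its elements of order dividing p form a subgroup. Let G be a finite group that is not p-exponent closed, but all of whose proper subgroups and proper quotients are, and suppose G is neither simple nor a p-group. Then there is a prime q ≠ p such that G has order p · q^e, where e is the multiplicative order of q modulo p, and G has a normal elementary abelian subgroup of order q^e that is a minimal normal subgroup of G. -/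
theorem result {G : Type*} [Group G] [Finite G] {p : ℕ} [Fact p.Prime]
    (hnc : ¬ (∃ H : Subgroup G, (H : Set G) = {g : G | g ^ p = 1})) (hsub : ∀ K : Subgroup G, K ≠ ⊤ → (∃ H : Subgroup ↥K, (H : Set ↥K) = {g : ↥K | g ^ p = 1}))
    (hquo : ∀ (N : Subgroup G) [N.Normal], N ≠ ⊥ → (∃ H : Subgroup (G ⧸ N), (H : Set (G ⧸ N)) = {g : (G ⧸ N) | g ^ p = 1}))
    (hns : ¬ IsSimpleGroup G) (hnp : ¬ IsPGroup p G) :
    ∃ q : ℕ, q.Prime ∧ q ≠ p ∧ Nat.card G = p * q ^ orderOf (q : ZMod p) ∧
      ∃ A : Subgroup G, A.Normal ∧ Nat.card ↥A = q ^ orderOf (q : ZMod p) ∧ Cfsg.IsElementaryAbelian q A ∧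
        ∀ B : Subgroup G, B.Normal → B ≤ A → B = ⊥ ∨ B = A := by
  obtain ⟨q, hq, hqp, A, hAn, hidx, hAc, hAe, hAmin, hna⟩ :=
    min_non_pexp_structure hnc hsub hquo hns hnp
  haveI := hAn
  have hcard := Cfsg.Agent.Lib.Helper6.card_eq_of_minimal_normal_index_prime hq hna A hAc hAe hidx
    hAmin
  refine ⟨q, hq, hqp, ?_, A, hAn, hcard, ⟨⟨⟨fun a b => Subtype.ext (hAc a a.2 b b.2)⟩⟩, hAe⟩, hAmin⟩
  rw [← Subgroup.card_mul_index A, hidx, hcard, mul_comm]

end Cfsg.Agent.S3873
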