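import Cfsg.Statements.S3889
import Mathlib

set_option autoImplicit false
open Cfsg

namespace Cfsg.Agent.S3889

/-- A finite abelian group that is the union of a family of proper subgroups any two of which intersect trivially is elementary abelian: its exponent is a prime. -/
theorem result {G : Type*} [CommGroup G] [Finite G] (𝓑 : Set (Subgroup G)) (hprop : ∀ B ∈ 𝓑, B ≠ ⊤)
    (hcov : ∀ g : G, ∃ B ∈ 𝓑, g ∈ B) (hdisj : ∀ B ∈ 𝓑, ∀ C ∈ 𝓑, B ≠ C → B ⊓ C = ⊥) :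
    (Monoid.exponent G).Prime := by
  -- step 1
  have key : ∀ B ∈ 𝓑, ∀ C ∈ 𝓑, B ≠ C → ∀ x ∈ B, ∀ y ∈ C, x ≠ 1 → orderOf y ∣ orderOf x := by
    intro B hB C hC hBC x hx y hy hx1
    obtain ⟨D, hD, hxyD⟩ := hcov (x * y)
    have hDC : D ≠ C := by
      rintro rfl
      have hxD : x ∈ D := by
        have : x = (x * y) * y⁻¹ := by group
        rw [this]; exact D.mul_mem hxyD (D.inv_mem hy)
      have : x ∈ B ⊓ D := ⟨hx, hxD⟩
      rw [hdisj B hB D hD hBC, Subgroup.mem_bot] at this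
      exact hx1 this
    have h1 : (x * y) ^ orderOf x = y ^ orderOf x := by
      rw [mul_pow, pow_orderOf_eq_one, one_mul]
    have h2 : y ^ orderOf x ∈ D ⊓ C := ⟨by rw [← h1]; exact D.pow_mem hxyD _, C.pow_mem hy _⟩
    rw [hdisj D hD C hC hDC, Subgroup.mem_bot] at h2
    exact orderOf_dvd_of_pow_eq_one h2
  have key2 : ∀ B ∈ 𝓑, ∀ C ∈ 𝓑, B ≠ C → ∀ x ∈ B, ∀ y ∈ C, x ≠ 1 → y ≠ 1 → orderOf x = orderOf y := by
    intro B hB C hC hBC x hx y hy hx1 hy1
    exact Nat.dvd_antisymm (key C hC B hB (Ne.symm hBC) y hy x hx hy1) (key B hB C hC hBC x hx y hy hx1)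
  -- outside element
  have out : ∀ B ∈ 𝓑, ∃ y : G, y ∉ B := by
    intro B hB
    by_contra hcon
    push_neg at hcon
    exact hprop B hB (eq_top_iff.mpr fun y _ => hcon y)
  have all : ∀ x x' : G, x ≠ 1 → x' ≠ 1 → orderOf x = orderOf x' := by
    intro x x' hx1 hx'1
    obtain ⟨B, hB, hxB⟩ := hcov x
    obtain ⟨B', hB', hx'B'⟩ := hcov x'
    by_cases hBB : B = B'
    · subst hBB
      obtain ⟨y, hy⟩ := out B hB
      have hy1 : y ≠ 1 := fun h => hy (h ▸ B.one_mem)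
      obtain ⟨C, hC, hyC⟩ := hcov y
      have hBC : B ≠ C := fun h => hy (h ▸ hyC)
      rw [key2 B hB C hC hBC x hxB y hyC hx1 hy1, key2 B hB C hC hBC x' hx'B' y hyC hx'1 hy1]
    · exact key2 B hB B' hB' hBB x hxB x' hx'B' hx1 hx'1
  obtain ⟨B₀, hB₀, _⟩ := hcov 1
  obtain ⟨y, hy⟩ := out B₀ hB₀
  have hy1 : y ≠ 1 := fun h => hy (h ▸ B₀.one_mem)
  haveI : Nontrivial G := ⟨⟨y, 1, hy1⟩⟩
  set n := orderOf y with hn
  have hn1 : n ≠ 1 := by rw [hn, Ne, orderOf_eq_one_iff]; exact hy1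
  obtain ⟨p, hp, hpn⟩ := Nat.exists_prime_and_dvd hn1
  obtain ⟨e, he⟩ := hpn
  have he0 : e ≠ 0 := by
    rintro rfl
    have : 0 < n := orderOf_pos y
    omega
  have hord : orderOf (y ^ e) = p := by
    rw [orderOf_pow' y he0, ← hn, he, Nat.gcd_mul_left_left, Nat.mul_div_cancel _ (Nat.pos_of_ne_zero he0)]
  have hye1 : y ^ e ≠ 1 := by
    intro h
    rw [← orderOf_eq_one_iff, hord] at h
    exact hp.one_lt.ne' h
  have hnp : n = p := by rw [← hord]; exact all y (y ^ e) hy1 hye1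
  have : Monoid.exponent G = p := by
    rw [Monoid.exponent_eq_prime_iff hp]
    intro g hg
    rw [all g y hg hy1, ← hn, hnp]
  rw [this]; exact hp

end Cfsg.Agent.S3889
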