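import Cfsg.Statements.S3919
import Mathlib
import Cfsg.Agent.Lib.Lead.SylowAux2
import Cfsg.Agent.Lib.Lead.MaxClass2
import Cfsg.Agent.Lib.Lead.NilpClass
import Cfsg.Agent.Lib.Lead.DihFusion2
import Cfsg.Agent.S4143
import Cfsg.Agent.Lib.Helper5.CentQuat5

set_option autoImplicit false
open Cfsg Cfsg.Agent.Lib.Lead

namespace Cfsg.Agent.S3919

open scoped Pointwise commutatorElement

/-- Say that a group has self-centralizing non-cyclic subgroups when every non-cyclic subgroup H satisfies C_G(H) ≤ H. A finite non-abelian 2-group G of order 2^n has self-centralizing non-cyclic subgroups if and only if G has nilpotency class n − 1 (that is, G is dihedral, semidihedral or generalized quaternion). -/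
theorem result {G : Type*} [Group G] [Finite G] (hna : ¬ IsMulCommutative G) (n : ℕ) (hG : Nat.card G = 2 ^ n) :
    (∀ H : Subgroup G, ¬ IsCyclic ↥H → Subgroup.centralizer (H : Set G) ≤ H) ↔ (⊤ : Subgroup G).lowerCentralSeries (n - 2) ≠ ⊥ := by
  haveI : Fact (Nat.Prime 2) := ⟨Nat.prime_two⟩
  have hpg : IsPGroup 2 G := IsPGroup.of_card hG
  haveI : Group.IsNilpotent G := hpg.isNilpotent
  have hcle : Group.nilpotencyClass G ≤ max 1 (n - 1) := nilpotencyClass_le_of_card 2 n G hG
  have hc2 : ¬ Group.nilpotencyClass G ≤ 1 := by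
    intro h
    have h1 := Subgroup.upperCentralSeries_eq_top_iff_nilpotencyClass_le.mpr h
    rw [Subgroup.upperCentralSeries_one] at h1
    exact hna ⟨⟨fun x y => (Subgroup.mem_center_iff.mp (h1 ▸ Subgroup.mem_top y) x)⟩⟩
  have hn : 3 ≤ n := by
    by_contra h
    exact hc2 (le_trans hcle (max_le (le_refl 1) (by omega)))
  rw [Ne, Subgroup.lowerCentralSeries_eq_bot_iff_nilpotencyClass_le]
  constructor
  · intro hH
    have hcl : Group.nilpotencyClass G = n - 1 := by
      by_cases hK : ∃ U : Subgroup G, IsKleinFour ↥U
      · obtain ⟨U, hU⟩ := hK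
        have hUc : ¬ IsCyclic ↥U := by
          intro hc
          have h1 := hU.card_four
          have h2 := hU.exponent_two
          rw [IsCyclic.exponent_eq_card, h1] at h2
          omega
        exact Cfsg.Agent.S4143.suzuki 2 n G hG U (by rw [hU.card_four]; norm_num) (hH U hUc)
      · haveI : Nontrivial G := Finite.one_lt_card_iff_nontrivial.mp (by
          rw [hG]; exact Nat.one_lt_two_pow (by omega))
        haveI : Nontrivial (Subgroup.center G) := hpg.center_nontrivial
        obtain ⟨k, hk⟩ := IsPGroup.iff_card.mp (hpg.to_subgroup (Subgroup.center G))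
        have hk1 : k ≠ 0 := by
          rintro rfl
          have := Finite.one_lt_card_iff_nontrivial.mpr ‹Nontrivial (Subgroup.center G)›
          rw [hk] at this; simp at this
        obtain ⟨z, hz⟩ := exists_prime_orderOf_dvd_card' (G := Subgroup.center G) 2
          (by rw [hk]; exact dvd_pow_self 2 hk1)
        have hz2 : orderOf (z : G) = 2 := by rw [Subgroup.orderOf_coe]; exact hz
        have hzc : ∀ g : G, g * (z : G) = (z : G) * g := fun g => Subgroup.mem_center_iff.mp z.2 g
        have huniq : ∃! x : G, orderOf x = 2 := by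
          refine ⟨(z : G), hz2, ?_⟩
          intro x hx
          by_contra hne
          obtain ⟨U, hU, -⟩ := klein_of_two_invol x (z : G) hx hz2 (hzc x) hne
          exact hK ⟨U, hU⟩
        obtain ⟨m, ⟨e⟩⟩ := Cfsg.Agent.Lib.Helper5.quat_of_unique_invol5 hpg hna huniq
        haveI : NeZero (2 ^ m) := ⟨by positivity⟩
        set N := 2 ^ m with hN
        set w : G := e.symm (QuaternionGroup.xa 0) with hw
        have hwo : orderOf w = 4 := by
          rw [hw, MulEquiv.orderOf_eq, QuaternionGroup.orderOf_xa]
        have hA : Nat.card (Subgroup.zpowers w) = 2 ^ 2 := by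
          rw [Nat.card_zpowers, hwo]; norm_num
        refine Cfsg.Agent.S4143.suzuki 2 n G hG (Subgroup.zpowers w) hA ?_
        intro g hg
        have hgw : w * g = g * w := Subgroup.mem_centralizer_iff.mp hg w (Subgroup.mem_zpowers w)
        have h2 : QuaternionGroup.xa 0 * e g = e g * QuaternionGroup.xa 0 := by
          have := congrArg e hgw
          rw [map_mul, map_mul, hw, MulEquiv.apply_symm_apply] at this
          exact this
        have hmem : e g ∈ Subgroup.zpowers (QuaternionGroup.xa (0 : ZMod (2 * N))) := by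
          have hNN : (2 : ZMod (2 * N)) * (N : ZMod (2 * N)) = 0 := by
            exact_mod_cast ZMod.natCast_self (2 * N)
          have hN0 : (N : ZMod (2 * N)) ≠ 0 := by
            intro h0
            rw [ZMod.natCast_eq_zero_iff] at h0
            have hpos : 0 < N := Nat.pos_of_ne_zero (NeZero.ne N)
            have := Nat.le_of_dvd hpos h0
            omega
          have hx2 : (QuaternionGroup.xa (0 : ZMod (2 * N))) ^ 2 = QuaternionGroup.a (N : ZMod (2 * N)) :=
            QuaternionGroup.xa_sq 0
          have hx3 : (QuaternionGroup.xa (0 : ZMod (2 * N))) ^ 3 = QuaternionGroup.xa (N : ZMod (2 * N)) := by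
            rw [pow_succ', hx2, QuaternionGroup.xa_mul_a, zero_add]
          rcases hq : e g with i | i
          · rw [hq] at h2
            rw [QuaternionGroup.xa_mul_a, QuaternionGroup.a_mul_xa] at h2
            have h3 : (0 : ZMod (2 * N)) + i = 0 - i := QuaternionGroup.xa.inj h2
            have h4 : 2 * i = 0 := by linear_combination h3
            by_cases hi0 : i = 0
            · rw [hi0, QuaternionGroup.a_zero]; exact Subgroup.one_mem _
            · have := zmod_two_torsion_unique (2 * N) i (N : ZMod (2 * N)) h4 hi0 hNN hN0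
              rw [this, ← hx2]
              exact Subgroup.pow_mem _ (Subgroup.mem_zpowers _) 2
          · rw [hq] at h2
            rw [QuaternionGroup.xa_mul_xa, QuaternionGroup.xa_mul_xa] at h2
            have h3 : (N : ZMod (2 * N)) + i - 0 = N + 0 - i := QuaternionGroup.a.inj h2
            have h4 : 2 * i = 0 := by linear_combination h3
            by_cases hi0 : i = 0
            · rw [hi0]; exact Subgroup.mem_zpowers _
            · have := zmod_two_torsion_unique (2 * N) i (N : ZMod (2 * N)) h4 hi0 hNN hN0
              rw [this, ← hx3]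
              exact Subgroup.pow_mem _ (Subgroup.mem_zpowers _) 3
        obtain ⟨k', hk'⟩ := Subgroup.mem_zpowers_iff.mp hmem
        have : g = w ^ k' := by
          rw [hw, ← map_zpow, hk', MulEquiv.symm_apply_apply]
        rw [this]; exact Subgroup.zpow_mem _ (Subgroup.mem_zpowers w) k'
    rw [hcl]; omega
  · intro hnb H hH
    have hcl : Group.nilpotencyClass G = n - 1 := by
      have : max 1 (n - 1) = n - 1 := max_eq_right (by omega)
      rw [this] at hcle
      omega
    have hidx : (commutator G).index = 4 := by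
      have := index_commutator_of_maxclass 2 n (by omega) G hG hcl
      rw [this]; norm_num
    have hsq := sq_mem_commutator_of_index_four n hn G hG hidx
    obtain ⟨a, b, ha, hb, hd, hcomm, hbab, hCidx⟩ := maxclass_two_struct n hn G hG hidx hsq
    obtain ⟨u, hudef⟩ : ∃ u : G, u = a ^ (2 ^ (n - 2)) := ⟨_, rfl⟩
    obtain ⟨-, -, huord⟩ := maxclass_two_cent n hn G a b ha hd hcomm
    rw [← hudef] at huord
    have hkey : ∀ h : G, h ∉ Subgroup.zpowers a → ∀ g ∈ Subgroup.zpowers a, h * g = g * h →
        g ∈ Subgroup.zpowers u := by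
      intro h hh g hg hhg
      have hbh : b⁻¹ * h ∈ Subgroup.zpowers a := by
        rw [Subgroup.mul_mem_iff_of_index_two hCidx]
        constructor
        · intro h1; exact absurd ((Subgroup.inv_mem_iff _).mp h1) hb
        · intro h1; exact absurd h1 hh
      have hca : (b⁻¹ * h) * a = a * (b⁻¹ * h) := by
        obtain ⟨k, hk⟩ := Subgroup.mem_zpowers_iff.mp hbh
        rw [← hk]
        exact (Commute.zpow_left (Commute.refl a) k).eq
      have hconj : h * a * h⁻¹ = b * a * b⁻¹ := by
        have h2 : (b⁻¹ * h) * a * (b⁻¹ * h)⁻¹ = a := by rw [hca]; group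
        calc h * a * h⁻¹ = b * ((b⁻¹ * h) * a * (b⁻¹ * h)⁻¹) * b⁻¹ := by group
          _ = b * a * b⁻¹ := by rw [h2]
      have hd' : orderOf (h * a * h⁻¹ * a⁻¹) = 2 ^ (n - 2) := by rw [hconj]; exact hd
      have hcomm' : (h * a * h⁻¹) * a = a * (h * a * h⁻¹) := by rw [hconj]; exact hcomm
      obtain ⟨-, hcent, -⟩ := maxclass_two_cent n hn G a h ha hd' hcomm'
      rw [← hudef] at hcent
      exact hcent g hg hhg
    have hu2 : u * u = 1 := invol_mul_self huord
    have hzu : ∀ x ∈ Subgroup.zpowers u, x = 1 ∨ x = u := by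
      intro x hx
      obtain ⟨k, rfl⟩ := Subgroup.mem_zpowers_iff.mp hx
      rcases Int.even_or_odd' k with ⟨c, rfl | rfl⟩
      · left; rw [zpow_mul, zpow_ofNat, pow_two, hu2, one_zpow]
      · right; rw [zpow_add, zpow_mul, zpow_ofNat, pow_two, hu2, one_zpow, one_mul, zpow_one]
    obtain ⟨h, hhH, hha⟩ : ∃ h ∈ H, h ∉ Subgroup.zpowers a := by
      by_contra hcon
      push_neg at hcon
      exact hH (Subgroup.isCyclic_of_le (H' := Subgroup.zpowers a) hcon)
    have huH : u ∈ H := by
      have hne : ∃ y ∈ H, y ∈ Subgroup.zpowers a ∧ y ≠ 1 := by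
        by_contra hcon
        push_neg at hcon
        apply hH
        apply Subgroup.isCyclic_of_le (H' := Subgroup.zpowers h)
        intro y hy
        by_cases hya : y ∈ Subgroup.zpowers a
        · rw [hcon y hy hya]; exact Subgroup.one_mem _
        · have h1 : h⁻¹ * y ∈ Subgroup.zpowers a := by
            rw [Subgroup.mul_mem_iff_of_index_two hCidx]
            constructor
            · intro h1; exact absurd ((Subgroup.inv_mem_iff _).mp h1) hha
            · intro h1; exact absurd h1 hya
          have h2 := hcon (h⁻¹ * y) (H.mul_mem (H.inv_mem hhH) hy) h1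
          have : y = h := (inv_mul_eq_one.mp h2).symm
          rw [this]; exact Subgroup.mem_zpowers h
      obtain ⟨y, hyH, hya, hy1⟩ := hne
      obtain ⟨s, hs⟩ := (IsPGroup.iff_orderOf.mp hpg) y
      have hs0 : s ≠ 0 := by
        rintro rfl
        rw [pow_zero, orderOf_eq_one_iff] at hs
        exact hy1 hs
      obtain ⟨t, ht⟩ : ∃ t : G, t = y ^ (2 ^ (s - 1)) := ⟨_, rfl⟩
      have hto : orderOf t = 2 := by
        rw [ht, orderOf_pow_of_dvd (by positivity) (by rw [hs]; exact pow_dvd_pow 2 (by omega)), hs,
          Nat.pow_div (by omega) (by norm_num)]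
        have : s - (s - 1) = 1 := by omega
        rw [this, pow_one]
      have htH : t ∈ H := by rw [ht]; exact H.pow_mem hyH _
      have hta : t ∈ Subgroup.zpowers a := by rw [ht]; exact Subgroup.pow_mem _ hya _
      have htu : t ∈ Subgroup.zpowers u := by
        obtain ⟨j, hj⟩ := Subgroup.mem_zpowers_iff.mp hta
        have h1 : a ^ (2 * j) = 1 := by
          rw [mul_comm, zpow_mul, hj, zpow_ofNat, pow_two]; exact invol_mul_self hto
        have h2 : ((orderOf a : ℕ) : ℤ) ∣ 2 * j := orderOf_dvd_iff_zpow_eq_one.mpr h1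
        rw [ha] at h2
        have h3 : ((2 ^ (n - 2) : ℕ) : ℤ) ∣ j := by
          have h4 : (2 ^ (n - 1) : ℕ) = 2 * 2 ^ (n - 2) := by
            rw [← pow_succ']; congr 1; omega
          rw [h4] at h2
          push_cast at h2 ⊢
          exact (mul_dvd_mul_iff_left (by norm_num : (2 : ℤ) ≠ 0)).mp h2
        obtain ⟨l, hl⟩ := h3
        rw [Subgroup.mem_zpowers_iff]
        refine ⟨l, ?_⟩
        rw [hudef, ← zpow_natCast, ← zpow_mul, ← hl, hj]
      rcases hzu t htu with h1 | h1
      · exact absurd h1 (invol_ne_one hto)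
      · rw [← h1]; exact htH
    intro x hx
    have hxh : h * x = x * h := Subgroup.mem_centralizer_iff.mp hx h hhH
    by_cases hxa : x ∈ Subgroup.zpowers a
    · rcases hzu x (hkey h hha x hxa hxh) with h1 | h1
      · rw [h1]; exact H.one_mem
      · rw [h1]; exact huH
    · have h1 : h⁻¹ * x ∈ Subgroup.zpowers a := by
        rw [Subgroup.mul_mem_iff_of_index_two hCidx]
        constructor
        · intro h1; exact absurd ((Subgroup.inv_mem_iff _).mp h1) hha
        · intro h1; exact absurd h1 hxa
      have h2 : h * (h⁻¹ * x) = (h⁻¹ * x) * h := by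
        rw [mul_inv_cancel_left, mul_assoc, ← hxh, inv_mul_cancel_left]
      have h3 : x = h * (h⁻¹ * x) := by rw [mul_inv_cancel_left]
      rw [h3]
      refine H.mul_mem hhH ?_
      rcases hzu _ (hkey h hha _ h1 h2) with h4 | h4
      · rw [h4]; exact H.one_mem
      · rw [h4]; exact huH

end Cfsg.Agent.S3919
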