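import Cfsg.Statements.S4039
import Mathlib
import Cfsg.Agent.S1946
import Cfsg.Agent.Lib.Helper6.FusionCl2
import Cfsg.Agent.Lib.Helper6.NilpNPC
import Cfsg.Agent.Lib.Helper6.PGroups
import Cfsg.Agent.Lib.Lead.Glauberman2
import Cfsg.Agent.Lib.Lead.SZ
import Cfsg.Agent.Lib.Helper1.ThompsonJ
-- import your own Cfsg.Agent.* helpers here

set_option autoImplicit false
open Cfsg

namespace Cfsg.Agent.S4039


universe u

open scoped commutatorElement
open scoped Pointwise

theorem nilp_sylow_mul_centralizer {H : Type*} [Group H] [Finite H] [Group.IsNilpotent H] (p : ℕ) [Fact p.Prime]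
    (P : Sylow p H) (m : H) :
    ∃ u ∈ (P : Subgroup H), ∃ c ∈ Subgroup.centralizer ((P : Subgroup H) : Set H), m = u * c := by
  classical
  have hnc := Group.normalizerCondition_of_isNilpotent (G := H)
  have hPn : (P : Subgroup H).Normal := Sylow.normal_of_normalizerCondition hnc P
  obtain ⟨P', K, hKn, hK⟩ := Cfsg.Agent.Lib.Helper6.npc_of_nilpotent (G := H) p
  have hPP' : P' = P := by
    obtain ⟨g, hg⟩ := MulAction.exists_smul_eq H P P'
    haveI := hPn
    rw [← hg]; exact Sylow.smul_eq_of_normal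
  rw [hPP'] at hK
  have hdis : Disjoint K (P : Subgroup H) := hK.disjoint
  have hmul : (K : Set H) * ((P : Subgroup H) : Set H) = Set.univ := hK.mul_eq
  have hm : m ∈ (K : Set H) * ((P : Subgroup H) : Set H) := by rw [hmul]; exact Set.mem_univ m
  obtain ⟨k, hk, u, hu, rfl⟩ := Set.mem_mul.mp hm
  have hcomm : ∀ y ∈ (P : Subgroup H), y * k = k * y := fun y hy =>
    ((Subgroup.commute_of_normal_of_disjoint K (P : Subgroup H) hKn hPn hdis k y hk hy).eq).symm
  refine ⟨u, hu, k, ?_, (hcomm u hu).symm⟩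
  rw [Subgroup.mem_centralizer_iff]
  exact hcomm

theorem key_prime2 {G : Type u} [Group G] [Finite G] (M : Subgroup G) (hmax : IsCoatom M)
    [hnil : Group.IsNilpotent M] (hcl : Group.nilpotencyClass ↥M ≤ 2) (hcore : M.normalCore = ⊥)
    (p : ℕ) (hp : p.Prime) (hpM : p ∣ Nat.card M) :
    ¬ p ∣ M.index ∧ ∃ K : Subgroup G, K.Normal ∧ ¬ p ∣ Nat.card K ∧ ∃ k : ℕ, K.index = p ^ k := by
  classical
  haveI : Fact p.Prime := ⟨hp⟩
  have hnc := Group.normalizerCondition_of_isNilpotent (G := M)
  obtain ⟨PM⟩ : Nonempty (Sylow p M) := inferInstance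
  have hPMn : (PM : Subgroup M).Normal := Sylow.normal_of_normalizerCondition hnc PM
  obtain ⟨P, hPdef⟩ : ∃ P : Subgroup G, P = (PM : Subgroup M).map M.subtype := ⟨_, rfl⟩
  have hPM : P ≤ M := by rw [hPdef]; exact Subgroup.map_subtype_le _
  have hPp : IsPGroup p P := by rw [hPdef]; exact PM.isPGroup'.map _
  have hPne : P ≠ ⊥ := by
    rw [hPdef]
    intro h
    rw [Subgroup.map_eq_bot_iff_of_injective _ M.subtype_injective] at h
    exact Sylow.ne_bot_of_dvd_card PM hpM h
  have hMN : M ≤ Subgroup.normalizer (P : Set G) := by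
    intro m hm
    apply Cfsg.Agent.Lib.Helper1.mem_normalizer_of_finite
    intro x hx
    rw [hPdef] at hx ⊢
    obtain ⟨y, hy, rfl⟩ := hx
    exact ⟨(⟨m, hm⟩ : M) * y * (⟨m, hm⟩ : M)⁻¹, hPMn.conj_mem y hy ⟨m, hm⟩, rfl⟩
  have hcoreM : ∀ W : Subgroup G, W ≤ M → W ≠ ⊥ → Subgroup.normalizer (W : Set G) ≠ ⊤ := by
    intro W hWM hWne htop
    haveI : W.Normal := Subgroup.normalizer_eq_top_iff.mp htop
    have := Subgroup.normal_le_normalCore.mpr hWM
    rw [hcore] at this
    exact hWne (le_bot_iff.mp this)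
  have hNP : Subgroup.normalizer (P : Set G) = M := by
    rcases hmax.le_iff.mp hMN with h | h
    · exact absurd h (hcoreM P hPM hPne)
    · exact h
  obtain ⟨S, hPS⟩ := hPp.exists_le_sylow
  have hPS' : P = (S : Subgroup G) := by
    by_contra hne
    have hlt : P < (S : Subgroup G) := lt_of_le_of_ne hPS hne
    obtain ⟨g, hgS, hgN, hgP⟩ := Cfsg.Agent.Lib.Helper6.exists_mem_normalizer_not_mem (S : Subgroup G) P S.isPGroup' hlt
    rw [hNP] at hgN
    apply hgP
    obtain ⟨a, ha⟩ := (IsPGroup.iff_orderOf.mp S.isPGroup') ⟨g, hgS⟩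
    have ha' : orderOf (⟨g, hgN⟩ : M) = p ^ a := by
      rw [Subgroup.orderOf_mk, ← ha, Subgroup.orderOf_mk]
    have := Cfsg.Agent.Lib.Helper6.mem_normal_sylow PM hPMn (⟨g, hgN⟩ : M) a ha'
    rw [hPdef]
    exact ⟨⟨g, hgN⟩, this, rfl⟩
  have hidx : ¬ p ∣ M.index := by
    intro h
    have h1 : M.index ∣ (S : Subgroup G).index := Subgroup.index_dvd_of_le (hPS' ▸ hPM)
    exact S.not_dvd_index (dvd_trans h h1)
  refine ⟨hidx, ?_⟩
  have hNS : Subgroup.normalizer ((S : Subgroup G) : Set G) = M := by rw [← hPS']; exact hNP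
  have h3 : ∀ m ∈ M, ∃ u ∈ (S : Subgroup G), ∃ c ∈ Subgroup.centralizer ((S : Subgroup G) : Set G), m = u * c := by
    intro m hm
    obtain ⟨u, hu, c, hc, hmuc⟩ := nilp_sylow_mul_centralizer p PM (⟨m, hm⟩ : M)
    refine ⟨(u : G), ?_, (c : G), ?_, congrArg Subtype.val hmuc⟩
    · rw [← hPS', hPdef]; exact Subgroup.mem_map.mpr ⟨u, hu, rfl⟩
    · rw [← hPS', hPdef, Subgroup.mem_centralizer_iff]
      rintro _ ⟨y, hy, rfl⟩
      have := Subgroup.mem_centralizer_iff.mp hc y hy
      exact congrArg Subtype.val this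
  have h2 : ∀ D : Subgroup G, D ≤ (S : Subgroup G) → D ≠ ⊥ →
      (S : Subgroup G) ≤ Subgroup.normalizer (D : Set G) → Subgroup.normalizer (D : Set G) ≤ M := by
    intro D hDS hDne hSD
    have hMD : M ≤ Subgroup.normalizer (D : Set G) := by
      intro m hm
      obtain ⟨u, hu, c, hc, rfl⟩ := h3 m hm
      apply Subgroup.mul_mem _ (hSD hu)
      apply Cfsg.Agent.Lib.Helper1.mem_normalizer_of_finite
      intro d hd
      have := Subgroup.mem_centralizer_iff.mp hc d (hDS hd)
      rw [← this, mul_inv_cancel_right]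
      exact hd
    rcases hmax.le_iff.mp hMD with h | h
    · exact absurd h (hcoreM D (hDS.trans (hPS' ▸ hPM)) hDne)
    · exact h.le
  have h4 : ∀ u ∈ (S : Subgroup G), ∀ v ∈ (S : Subgroup G), ⁅u, v⁆ ∈ Subgroup.centralizer ((S : Subgroup G) : Set G) := by
    intro u hu v hv
    rw [Subgroup.mem_centralizer_iff]
    intro w hw
    have huM : u ∈ M := (hPS' ▸ hPM) hu
    have hvM : v ∈ M := (hPS' ▸ hPM) hv
    have hwM : w ∈ M := (hPS' ▸ hPM) hw
    have hlcs : (⊤ : Subgroup ↥M).lowerCentralSeries 2 = ⊥ :=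
      Subgroup.lowerCentralSeries_eq_bot_iff_nilpotencyClass_le.mpr hcl
    have h5 : ⁅⁅(⟨u, huM⟩ : ↥M), (⟨v, hvM⟩ : ↥M)⁆, (⟨w, hwM⟩ : ↥M)⁆ ∈ (⊤ : Subgroup ↥M).lowerCentralSeries 2 :=
      Subgroup.commutator_mem_commutator (Subgroup.commutator_mem_commutator (Subgroup.mem_top _) (Subgroup.mem_top _)) (Subgroup.mem_top _)
    rw [hlcs, Subgroup.mem_bot, commutatorElement_eq_one_iff_mul_comm] at h5
    exact (congrArg Subtype.val h5).symm
  have hfus := Cfsg.Agent.Lib.Helper6.fusion_control_of_class_two S M (hNS.ge) h2 h3 h4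
  have hnpc : Cfsg.HasNormalPComplement p G :=
    (Cfsg.Agent.S1946.result S).mpr (fun a ha _ g hg => hfus a ha g hg)
  obtain ⟨S', K, hKn, hK⟩ := hnpc
  refine ⟨K, hKn, ?_, ?_⟩
  · have h1 : (S' : Subgroup G).index = Nat.card K := hK.index_eq_card
    rw [← h1]
    exact S'.not_dvd_index
  · have h1 : K.index = Nat.card (S' : Subgroup G) := hK.symm.index_eq_card
    rw [h1]
    exact IsPGroup.iff_card.mp S'.isPGroup'

theorem solv_main2 : ∀ (n : ℕ) (G : Type u) [Group G] [Finite G], Nat.card G = n →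
    ∀ (M : Subgroup G), IsCoatom M → Group.IsNilpotent M → Group.nilpotencyClass ↥M ≤ 2 → Group.IsSolvable G := by
  intro n
  induction n using Nat.strong_induction_on with
  | _ n ih =>
  intro G _ _ hn M hmax hnil hcl
  classical
  haveI := hnil
  by_cases hcore : M.normalCore = ⊥
  swap
  · obtain ⟨N, hNdef⟩ : ∃ N : Subgroup G, N = M.normalCore := ⟨_, rfl⟩
    haveI hNn : N.Normal := by rw [hNdef]; infer_instance
    have hNM : N ≤ M := by rw [hNdef]; exact Subgroup.normalCore_le M
    have hNne : N ≠ ⊥ := by rw [hNdef]; exact hcore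
    have hlt : Nat.card (G ⧸ N) < n := by
      rw [← hn]; exact Cfsg.Agent.Lib.Lead.card_quotient_lt N hNne
    have hmax' := Cfsg.Agent.Lib.Helper6.isCoatom_map_mk N M hNM hmax
    have hnil' : Group.IsNilpotent (M.map (QuotientGroup.mk' N)) := by
      have hsurj : Function.Surjective ((QuotientGroup.mk' N).subgroupMap M) := (QuotientGroup.mk' N).subgroupMap_surjective M
      exact Group.nilpotent_of_surjective _ hsurj
    have hcl' : Group.nilpotencyClass (M.map (QuotientGroup.mk' N)) ≤ 2 := by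
      have hsurj : Function.Surjective ((QuotientGroup.mk' N).subgroupMap M) := (QuotientGroup.mk' N).subgroupMap_surjective M
      exact le_trans (Group.nilpotencyClass_le_of_surjective _ hsurj) hcl
    haveI : Group.IsSolvable (G ⧸ N) := ih _ hlt (G ⧸ N) rfl _ hmax' hnil' hcl'
    haveI : Group.IsSolvable N := by
      have : Group.IsSolvable (N.subgroupOf M) := inferInstance
      exact Group.isSolvable_of_isSolvable_injective (f := (Subgroup.subgroupOfEquivOfLe hNM).symm.toMonoidHom) (Subgroup.subgroupOfEquivOfLe hNM).symm.injective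
    exact Group.isSolvable_of_ker_le_range N.subtype (QuotientGroup.mk' N) (by rw [QuotientGroup.ker_mk', Subgroup.range_subtype])
  · by_cases hMbot : M = ⊥
    · subst hMbot
      have hz : ∀ x : G, x ≠ 1 → Subgroup.zpowers x = ⊤ := by
        intro x hx
        apply hmax.2
        rw [bot_lt_iff_ne_bot]
        intro h
        exact hx (Subgroup.zpowers_eq_bot.mp h)
      apply Group.isSolvable_of_comm
      intro a b
      by_cases ha : a = 1
      · rw [ha, one_mul, mul_one]
      · have hb : b ∈ Subgroup.zpowers a := by rw [hz a ha]; exact Subgroup.mem_top b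
        obtain ⟨k, rfl⟩ := Subgroup.mem_zpowers_iff.mp hb
        exact (Commute.zpow_right (Commute.refl a) k).eq
    · -- main case
      have hkey := fun (p : ℕ) (hp : p.Prime) (hpM : p ∣ Nat.card M) => key_prime2 M hmax hcl hcore p hp hpM
      choose Kf hKf using fun (q : {p : ℕ // p.Prime ∧ p ∣ Nat.card M}) => (hkey q.1 q.2.1 q.2.2).2
      obtain ⟨K, hKdef⟩ : ∃ K : Subgroup G, K = ⨅ q, Kf q := ⟨_, rfl⟩
      haveI hKn : K.Normal := by
        rw [hKdef]
        exact Subgroup.normal_iInf_normal (fun q => (hKf q).1)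
      have hcop : (Nat.card M).Coprime (Nat.card K) := by
        apply Nat.coprime_of_dvd
        intro p hp hpM hpK
        have h1 : K ≤ Kf ⟨p, hp, hpM⟩ := by rw [hKdef]; exact iInf_le _ _
        exact (hKf ⟨p, hp, hpM⟩).2.1 (dvd_trans hpK (Subgroup.card_dvd_of_le h1))
      have hKne : K ≠ ⊥ := by
        intro hKbot
        apply hmax.1
        rw [← Subgroup.index_eq_one, Nat.eq_one_iff_not_exists_prime_dvd]
        intro q hq hqd
        by_cases hqM : q ∣ Nat.card M
        · exact (hkey q hq hqM).1 hqd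
        · haveI : Fact q.Prime := ⟨hq⟩
          obtain ⟨Q⟩ : Nonempty (Sylow q G) := inferInstance
          have hQK : (Q : Subgroup G) ≤ K := by
            rw [hKdef]
            apply le_iInf
            intro r x hx
            obtain ⟨k, hk⟩ := (hKf r).2.2
            haveI := (hKf r).1
            have h1 : x ^ (r.1 ^ k) ∈ Kf r := by
              rw [← hk]; exact Subgroup.pow_index_mem _ x
            obtain ⟨b, hb⟩ := (IsPGroup.iff_orderOf.mp Q.isPGroup') ⟨x, hx⟩
            have h2 : x ^ (q ^ b) = 1 := by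
              rw [← hb, Subgroup.orderOf_mk]; exact pow_orderOf_eq_one x
            have hrq : r.1 ≠ q := by
              rintro h
              exact hqM (h ▸ r.2.2)
            have hcop2 : Nat.Coprime (r.1 ^ k) (q ^ b) := by
              apply Nat.Coprime.pow
              exact (Nat.coprime_primes r.2.1 hq).mpr hrq
            have hbez := Nat.gcd_eq_gcd_ab (r.1 ^ k) (q ^ b)
            rw [hcop2.gcd_eq_one] at hbez
            have : x = (x ^ (r.1 ^ k)) ^ (Nat.gcdA (r.1 ^ k) (q ^ b)) * (x ^ (q ^ b)) ^ (Nat.gcdB (r.1 ^ k) (q ^ b)) := by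
              rw [← zpow_natCast, ← zpow_natCast, ← zpow_mul, ← zpow_mul, ← zpow_add, ← hbez]
              simp
            rw [this, h2, one_zpow, mul_one]
            exact (Kf r).zpow_mem h1 _
          rw [hKbot] at hQK
          have hQbot : (Q : Subgroup G) = ⊥ := le_bot_iff.mp hQK
          have hqG : ¬ q ∣ Nat.card G := fun h => Sylow.ne_bot_of_dvd_card Q h hQbot
          exact hqG (dvd_trans hqd (Subgroup.index_dvd_card M))
      have hK1 : Nat.card K ≠ 1 := fun h => hKne (Subgroup.card_eq_one.mp h)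
      obtain ⟨q, hq, hqK⟩ := Nat.exists_prime_and_dvd hK1
      haveI : Fact q.Prime := ⟨hq⟩
      have hMK : M ≤ Subgroup.normalizer (K : Set G) := by
        rw [Subgroup.normalizer_eq_top]; exact le_top
      obtain ⟨Q, hQ⟩ := Cfsg.Agent.Lib.Lead.coprime_exists_invariant_sylow M K hMK hcop (Or.inl inferInstance) q
      obtain ⟨Q', hQ'def⟩ : ∃ Q' : Subgroup G, Q' = (Q : Subgroup K).map K.subtype := ⟨_, rfl⟩
      rw [← hQ'def] at hQ
      have hQ'K : Q' ≤ K := by rw [hQ'def]; exact Subgroup.map_subtype_le _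
      have hQ'ne : Q' ≠ ⊥ := by
        rw [hQ'def]
        intro h
        rw [Subgroup.map_eq_bot_iff_of_injective _ K.subtype_injective] at h
        exact Sylow.ne_bot_of_dvd_card Q hqK h
      have hMKbot : M ⊓ K = ⊥ := disjoint_iff.mp (Subgroup.disjoint_of_coprime_natCard hcop)
      have hMQbot : M ⊓ Q' = ⊥ := le_bot_iff.mp (hMKbot ▸ inf_le_inf_left M hQ'K)
      have hMQtop : M ⊔ Q' = ⊤ := by
        apply hmax.2
        apply lt_of_le_of_ne le_sup_left
        intro h
        have h1 : Q' ≤ M := by rw [h]; exact le_sup_right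
        have h2 : Q' ≤ M ⊓ Q' := le_inf h1 le_rfl
        rw [hMQbot] at h2
        exact hQ'ne (le_bot_iff.mp h2)
      have hc1 := Cfsg.Agent.Lib.Helper1.card_sup_mul_card_inf M Q' hQ
      rw [hMQtop, hMQbot, Subgroup.card_bot, mul_one, Subgroup.card_top] at hc1
      have hc2 := Cfsg.Agent.Lib.Helper1.card_sup_mul_card_inf M K hMK
      rw [hMKbot, Subgroup.card_bot, mul_one] at hc2
      have hc3 : Nat.card ↥(M ⊔ K) ≤ Nat.card G := Subgroup.card_le_card_group _
      have hKQ : K = Q' := by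
        symm
        apply Subgroup.eq_of_le_of_card_ge hQ'K
        have : Nat.card M * Nat.card K ≤ Nat.card M * Nat.card Q' := by
          rw [← hc2, ← hc1]; exact hc3
        exact Nat.le_of_mul_le_mul_left this Nat.card_pos
      have hKp : IsPGroup q K := by
        rw [hKQ, hQ'def]
        exact Q.isPGroup'.map _
      haveI : Group.IsNilpotent K := hKp.isNilpotent
      haveI : Group.IsSolvable K := inferInstance
      have hMKtop : M ⊔ K = ⊤ := by
        rw [hKQ]; exact hMQtop
      haveI : Group.IsSolvable (G ⧸ K) := by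
        apply Group.isSolvable_of_surjective (f := (QuotientGroup.mk' K).comp M.subtype)
        intro y
        obtain ⟨g, rfl⟩ := QuotientGroup.mk'_surjective K y
        have hg : g ∈ ((M ⊔ K : Subgroup G) : Set G) := by rw [hMKtop]; exact Subgroup.mem_top g
        rw [Subgroup.mul_normal] at hg
        obtain ⟨m, hm, k, hk, rfl⟩ := Set.mem_mul.mp hg
        refine ⟨⟨m, hm⟩, ?_⟩
        show QuotientGroup.mk' K m = QuotientGroup.mk' K (m * k)
        have hk1 : (QuotientGroup.mk' K) k = 1 := (QuotientGroup.eq_one_iff k).mpr hk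
        rw [map_mul, hk1, mul_one]
      exact Group.isSolvable_of_ker_le_range K.subtype (QuotientGroup.mk' K) (by rw [QuotientGroup.ker_mk', Subgroup.range_subtype])

/-- A finite group possessing a maximal subgroup that is nilpotent of class at most 2 is solvable. -/
theorem result {G : Type*} [Group G] [Finite G]
    (M : Subgroup G) (hmax : IsCoatom M) (hnil : Group.IsNilpotent M) (hcl : Group.nilpotencyClass ↥M ≤ 2) :
    Group.IsSolvable G := by
  exact solv_main2 (Nat.card G) G rfl M hmax hnil hcl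

end Cfsg.Agent.S4039
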