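import Cfsg.Statements.S4113
import Mathlib
import Cfsg.Agent.Lib.Helper7.MapConj

set_option autoImplicit false
open Cfsg

namespace Cfsg.Agent.S4113

open Cfsg.Agent.Lib.Helper7

/-- Let G be a finite group, M ≤ N non-trivial proper normal subgroups, and H a subgroup with HM = G and H ∩ M = 1. Then every element of G outside N acts fixed-point-freely on M (C_G(x) ≤ N for every x ∈ M, x ≠ 1) if and only if H ∩ gHg⁻¹ ≤ H ∩ N for every g outside H, with H proper and non-trivial and H ∩ N proper in H. -/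
theorem result {G : Type*} [Group G] [Finite G] (N M : Subgroup G) [N.Normal] [M.Normal] (hMN : M ≤ N) (hM1 : M ≠ ⊥) (hN2 : N ≠ ⊤)
    (H : Subgroup G) (hHM : H ⊔ M = ⊤) (hHM' : H ⊓ M = ⊥) :
    (∀ x ∈ M, x ≠ 1 → Subgroup.centralizer ({x} : Set G) ≤ N) ↔
      (H ≠ ⊥ ∧ H ≠ ⊤ ∧ H ⊓ N < H ∧ ∀ g : G, g ∉ H → H ⊓ H.map (MulAut.conj g).toMonoidHom ≤ N) := by
  have hdisj : ∀ y : G, y ∈ H → y ∈ M → y = 1 := by
    intro y hy1 hy2
    have : y ∈ H ⊓ M := Subgroup.mem_inf.mpr ⟨hy1, hy2⟩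
    rw [hHM', Subgroup.mem_bot] at this
    exact this
  have hHbot : H ≠ ⊥ := by
    intro h
    rw [h, bot_sup_eq] at hHM
    apply hN2
    rw [eq_top_iff, ← hHM]
    exact hMN
  have hHtop : H ≠ ⊤ := by
    intro h
    rw [h, top_inf_eq] at hHM'
    exact hM1 hHM'
  have hHN : H ⊓ N < H := by
    refine lt_of_le_of_ne inf_le_left ?_
    intro h
    have hle : H ≤ N := by rw [← h]; exact inf_le_right
    apply hN2
    rw [eq_top_iff, ← hHM]
    exact sup_le hle hMN
  constructor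
  · intro hcent
    refine ⟨hHbot, hHtop, hHN, ?_⟩
    intro g hg y hy
    rw [Subgroup.mem_inf, mem_map_conj] at hy
    obtain ⟨hy1, hy2⟩ := hy
    obtain ⟨a, ha, m, hm, rfl⟩ := exists_mul_of_sup_eq_top H M hHM g
    have hm1 : m ≠ 1 := by
      rintro rfl
      rw [mul_one] at hg
      exact hg ha
    -- u = g⁻¹ y g ∈ H
    have hu : (a * m)⁻¹ * y * (a * m) ∈ H := hy2
    have hy' : m * ((a * m)⁻¹ * y * (a * m)) * m⁻¹ ∈ H := by
      have : m * ((a * m)⁻¹ * y * (a * m)) * m⁻¹ = a⁻¹ * y * a := by group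
      rw [this]
      exact H.mul_mem (H.mul_mem (H.inv_mem ha) hy1) ha
    have hcomm : m * ((a * m)⁻¹ * y * (a * m)) * m⁻¹ * ((a * m)⁻¹ * y * (a * m))⁻¹ = 1 := by
      apply hdisj
      · exact H.mul_mem hy' (H.inv_mem hu)
      · have h1 : m * ((a * m)⁻¹ * y * (a * m)) * m⁻¹ * ((a * m)⁻¹ * y * (a * m))⁻¹
            = m * (((a * m)⁻¹ * y * (a * m)) * m⁻¹ * ((a * m)⁻¹ * y * (a * m))⁻¹) := by group
        rw [h1]
        exact M.mul_mem hm (Subgroup.Normal.conj_mem inferInstance _ (M.inv_mem hm) _)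
    have huC : (a * m)⁻¹ * y * (a * m) ∈ Subgroup.centralizer ({m} : Set G) := by
      rw [Subgroup.mem_centralizer_singleton_iff]
      have h2 := mul_inv_eq_one.mp hcomm
      -- h2 : m * u * m⁻¹ = u
      calc (a * m)⁻¹ * y * (a * m) * m = (m * ((a * m)⁻¹ * y * (a * m)) * m⁻¹) * m := by rw [h2]
        _ = m * ((a * m)⁻¹ * y * (a * m)) := by group
    have huN := hcent m hm hm1 huC
    have : y = (a * m) * ((a * m)⁻¹ * y * (a * m)) * (a * m)⁻¹ := by group
    rw [this]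
    exact Subgroup.Normal.conj_mem inferInstance _ huN _
  · rintro ⟨-, -, -, hTI⟩ x hx hx1 c hc
    rw [Subgroup.mem_centralizer_singleton_iff] at hc
    by_contra hcN
    obtain ⟨a, ha, m₀, hm₀, rfl⟩ := exists_mul_of_sup_eq_top H M hHM c
    have haN : a ∉ N := by
      intro h
      exact hcN (N.mul_mem h (hMN hm₀))
    -- any nontrivial element of M commuting with a gives a contradiction
    have hkey : ∀ n ∈ M, n * a * n⁻¹ = a → n = 1 := by
      intro n hn hna
      by_contra hn1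
      have hnH : n ∉ H := fun h => hn1 (hdisj n h hn)
      apply haN
      apply hTI n hnH
      rw [Subgroup.mem_inf, mem_map_conj]
      refine ⟨ha, ?_⟩
      have : n⁻¹ * a * n = a := by
        calc n⁻¹ * a * n = n⁻¹ * (n * a * n⁻¹) * n := by rw [hna]
          _ = a := by group
      rw [this]; exact ha
    let φ : M → M := fun m => ⟨(m : G) * a * (m : G)⁻¹ * a⁻¹, by
      have : (m : G) * a * (m : G)⁻¹ * a⁻¹ = (m : G) * (a * (m : G)⁻¹ * a⁻¹) := by group
      rw [this]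
      exact M.mul_mem m.2 (Subgroup.Normal.conj_mem inferInstance _ (M.inv_mem m.2) _)⟩
    have hinj : Function.Injective φ := by
      intro m m' hmm
      have h1 : (m : G) * a * (m : G)⁻¹ * a⁻¹ = (m' : G) * a * (m' : G)⁻¹ * a⁻¹ := congrArg Subtype.val hmm
      have h2 : (m : G) * a * (m : G)⁻¹ = (m' : G) * a * (m' : G)⁻¹ := mul_right_cancel h1
      have h3 : ((m' : G)⁻¹ * (m : G)) * a * ((m' : G)⁻¹ * (m : G))⁻¹ = a := by
        calc ((m' : G)⁻¹ * (m : G)) * a * ((m' : G)⁻¹ * (m : G))⁻¹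
            = (m' : G)⁻¹ * ((m : G) * a * (m : G)⁻¹) * (m' : G) := by group
          _ = (m' : G)⁻¹ * ((m' : G) * a * (m' : G)⁻¹) * (m' : G) := by rw [h2]
          _ = a := by group
      have h4 := hkey _ (M.mul_mem (M.inv_mem m'.2) m.2) h3
      apply Subtype.ext
      have : (m : G) = (m' : G) * ((m' : G)⁻¹ * (m : G)) := by group
      rw [this, h4, mul_one]
    have hsurj : Function.Surjective φ := Finite.injective_iff_surjective.mp hinj
    obtain ⟨m, hm⟩ := hsurj ⟨a * m₀ * a⁻¹, Subgroup.Normal.conj_mem inferInstance _ hm₀ _⟩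
    have h1 : (m : G) * a * (m : G)⁻¹ * a⁻¹ = a * m₀ * a⁻¹ := congrArg Subtype.val hm
    have h2 : (m : G) * a * (m : G)⁻¹ = a * m₀ := by
      have := congrArg (fun z => z * a) h1
      simpa using this
    rw [← h2] at hc
    -- x' = m⁻¹ x m commutes with a
    have hx' : ((m : G)⁻¹ * x * (m : G)) * a * ((m : G)⁻¹ * x * (m : G))⁻¹ = a := by
      have e : (m : G) * a * (m : G)⁻¹ * x = x * ((m : G) * a * (m : G)⁻¹) := hc
      calc ((m : G)⁻¹ * x * (m : G)) * a * ((m : G)⁻¹ * x * (m : G))⁻¹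
          = (m : G)⁻¹ * (x * ((m : G) * a * (m : G)⁻¹)) * x⁻¹ * (m : G) := by group
        _ = (m : G)⁻¹ * ((m : G) * a * (m : G)⁻¹ * x) * x⁻¹ * (m : G) := by rw [e]
        _ = a := by group
    have h5 := hkey _ (Subgroup.Normal.conj_mem' inferInstance _ hx _) hx'
    apply hx1
    have : x = (m : G) * ((m : G)⁻¹ * x * (m : G)) * (m : G)⁻¹ := by group
    rw [this, h5]; group

end Cfsg.Agent.S4113
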