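import Cfsg.Statements.S4126
import Mathlib
import Cfsg.Agent.S1946
import Cfsg.Agent.Lib.Helper7.ClassCount

set_option autoImplicit false
open Cfsg

namespace Cfsg.Agent.S4126

/-- Let G be a finite group and p a prime. Suppose every element of order p, and when p = 2 also every element of order 4, has a conjugacy class of p-power size. Then G has a normal p-complement. -/
theorem result {G : Type*} [Group G] [Finite G] (p : ℕ) [Fact p.Prime]
    (h : ∀ x : G, (orderOf x = p ∨ (p = 2 ∧ orderOf x = 4)) → ∃ a : ℕ, (Subgroup.centralizer ({x} : Set G)).index = p ^ a) :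
    Cfsg.HasNormalPComplement p G := by
  classical
  have hp : p.Prime := Fact.out
  obtain ⟨P⟩ : Nonempty (Sylow p G) := inferInstance
  rw [Cfsg.Agent.S1946.result P]
  intro a ha hexp g hg
  by_cases ha1 : a = 1
  · refine ⟨1, one_mem _, ?_⟩
    rw [ha1]; group
  have hord : orderOf a = p ∨ (p = 2 ∧ orderOf a = 4) := by
    rcases hexp with h1 | ⟨h2, h4⟩
    · left; exact orderOf_eq_prime h1 ha1
    · have hdvd : orderOf a ∣ 2 ^ 2 := orderOf_dvd_of_pow_eq_one (by norm_num; exact h4)
      obtain ⟨j, hj, hoj⟩ := (Nat.dvd_prime_pow Nat.prime_two).mp hdvd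
      interval_cases j
      · exfalso; exact ha1 (orderOf_eq_one_iff.mp (by simpa using hoj))
      · left; rw [hoj, h2]; norm_num
      · right; exact ⟨h2, by rw [hoj]; norm_num⟩
  obtain ⟨k, hk⟩ := h a hord
  set Y := Subgroup.centralizer ({a} : Set G) with hY
  have hle := Cfsg.Agent.Lib.Helper7.card_le_index_mul_card_inf (P : Subgroup G) Y
  have hge : Y.index * Nat.card ↥((P : Subgroup G) ⊓ Y : Subgroup G) ≤ Nat.card ↥(P : Subgroup G) := by
    have hPYp : IsPGroup p ↥((P : Subgroup G) ⊓ Y : Subgroup G) := P.isPGroup'.to_le inf_le_left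
    obtain ⟨j, hj⟩ := IsPGroup.iff_card.mp hPYp
    have h1 : p ^ j ∣ Nat.card ↥Y := by rw [← hj]; exact Subgroup.card_dvd_of_le inf_le_right
    have h2 : p ^ (k + j) ∣ Nat.card G := by
      rw [← Y.index_mul_card, hk, pow_add]
      exact mul_dvd_mul_left _ h1
    have h3 := Sylow.pow_dvd_card_of_pow_dvd_card P h2
    rw [hk, hj, ← pow_add]
    exact Nat.le_of_dvd Nat.card_pos h3
  obtain ⟨c, hc, hcg⟩ := Cfsg.Agent.Lib.Helper7.exists_mul_of_card_eq (P : Subgroup G) Y
    (le_antisymm hle hge) g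
  refine ⟨c, hc, ?_⟩
  have h5 := (Subgroup.mem_centralizer_iff.mp hcg) a (Set.mem_singleton a)
  calc g * a * g⁻¹ = c * ((c⁻¹ * g) * a) * g⁻¹ := by group
    _ = c * (a * (c⁻¹ * g)) * g⁻¹ := by rw [h5]
    _ = c * a * c⁻¹ := by group

end Cfsg.Agent.S4126
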