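import Mathlib
import Cfsg.Statements.S4365

set_option autoImplicit false
open Cfsg

namespace Cfsg.Agent.S4365

open Subgroup

section
variable {P : Type*} [Group P]

lemma mem_cent_iff {x g : P} : g ∈ centralizer ({x} : Set P) ↔ x * g = g * x := by
  rw [mem_centralizer_iff]; simp

lemma eq_of_le_of_index_eq [Finite P] {H K : Subgroup P} (h : H ≤ K)
    (hi : H.index = K.index) : H = K := by
  have h1 := relIndex_mul_index h
  have hK : K.index ≠ 0 := index_ne_zero_of_finite
  have h2 : H.relIndex K = 1 := by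
    rw [hi] at h1
    exact Nat.eq_of_mul_eq_mul_right (Nat.pos_of_ne_zero hK) (by rw [h1, one_mul])
  exact le_antisymm h (relIndex_eq_one.mp h2)

lemma T {a b z : P} (hz : ∀ h : P, Commute z h) (h : a * b = z * b * a) (n : ℕ)
    (hb : ∀ h : P, Commute (b ^ n) h) : a ^ n * b = b * a ^ n := by
  have h1 : SemiconjBy a b (z * b) := h
  have h2 : a * b ^ n = (z * b) ^ n * a := (h1.pow_right n)
  rw [(hz b).mul_pow] at h2
  have h3 : z ^ n = 1 := by
    have h31 : z ^ n * (b ^ n * a) = b ^ n * a := by
      rw [← mul_assoc, ← h2]; exact ((hb a).eq).symm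
    exact mul_eq_right.mp h31
  have h4 : b⁻¹ * a * b = z * a := by
    rw [mul_assoc, h, ← mul_assoc, ← mul_assoc, ← (hz b⁻¹).eq, mul_assoc z, inv_mul_cancel,
      mul_one]
  have h5 : b⁻¹ * a ^ n * b = z ^ n * a ^ n := by
    have := conj_pow (a := b⁻¹) (b := a) (i := n)
    rw [inv_inv, h4, (hz a).mul_pow] at this
    exact this.symm
  rw [h3, one_mul] at h5
  calc a ^ n * b = b * (b⁻¹ * a ^ n * b) := by group
    _ = b * a ^ n := by rw [h5]

end

/-- Let P be a finite p-group whose conjugacy class sizes are exactly 1 and pᵃ for some a ≥ 1. Then every element of P has its p-th power in the center of P (P/Z(P) has exponent p). -/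
theorem result {P : Type*} [Group P] [Finite P] (p : ℕ) [Fact p.Prime]
    (hP : IsPGroup p P) (a : ℕ) (ha : 1 ≤ a)
    (hcs : {k : ℕ | ∃ x : P, (Subgroup.centralizer ({x} : Set P)).index = k} = {1, p ^ a}) (x : P) :
    x ^ p ∈ Subgroup.center P := by
  classical
  have hp : p.Prime := Fact.out
  have hidx : ∀ g : P, (centralizer ({g} : Set P)).index = 1 ∨
      (centralizer ({g} : Set P)).index = p ^ a := by
    intro g
    have : (centralizer ({g} : Set P)).index ∈ ({1, p ^ a} : Set ℕ) := by
      rw [← hcs]; exact ⟨g, rfl⟩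
    simpa using this
  have hcen : ∀ g : P, (centralizer ({g} : Set P)).index = 1 → g ∈ center P := by
    intro g hg
    rw [index_eq_one] at hg
    rw [mem_center_iff]
    intro h
    have : h ∈ centralizer ({g} : Set P) := by rw [hg]; trivial
    rw [mem_cent_iff] at this
    exact this.symm
  have hnc : ∀ g : P, g ∉ center P → (centralizer ({g} : Set P)).index = p ^ a := by
    intro g hg
    rcases hidx g with h | h
    · exact absurd (hcen g h) hg
    · exact h
  have hpa : 1 < p ^ a := Nat.one_lt_pow (by omega) hp.one_lt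
  have hZc : ∀ z ∈ center P, ∀ h : P, Commute z h := by
    intro z hz h
    exact (mem_center_iff.mp hz h).symm
  obtain ⟨x₀, hx₀⟩ : ∃ x₀ : P, (centralizer ({x₀} : Set P)).index = p ^ a := by
    have : p ^ a ∈ ({1, p ^ a} : Set ℕ) := by simp
    rw [← hcs] at this; exact this
  have hZtop : center P ≠ ⊤ := by
    intro h
    have h1 : centralizer ({x₀} : Set P) = ⊤ := by
      rw [eq_top_iff]; intro g _
      rw [mem_cent_iff]
      have : x₀ ∈ center P := by rw [h]; trivial
      exact (hZc _ this g).eq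
    rw [h1, index_top] at hx₀; omega
  -- Step 1
  obtain ⟨y, hyZ, hypZ, hycomm⟩ : ∃ y : P, y ∉ center P ∧ y ^ p ∈ center P ∧
      ∀ g : P, g * y * g⁻¹ * y⁻¹ ∈ center P := by
    haveI : Nontrivial (P ⧸ center P) := by
      by_contra hnt
      rw [not_nontrivial_iff_subsingleton] at hnt
      exact hZtop (QuotientGroup.subgroup_eq_top_of_subsingleton _ hnt)
    have hQ : IsPGroup p (P ⧸ center P) := hP.to_quotient _
    haveI := hQ.center_nontrivial
    have hQZ : IsPGroup p (center (P ⧸ center P)) := hQ.to_subgroup _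
    obtain ⟨n, hn⟩ := IsPGroup.iff_card.mp hQZ
    have hn0 : n ≠ 0 := by
      rintro rfl
      have := Finite.one_lt_card (α := center (P ⧸ center P))
      rw [hn] at this; simp at this
    have hdvd : p ∣ Nat.card (center (P ⧸ center P)) := by
      rw [hn]; exact dvd_pow_self p hn0
    obtain ⟨c, hc⟩ := exists_prime_orderOf_dvd_card' p hdvd
    obtain ⟨y, hy⟩ := QuotientGroup.mk_surjective (c : P ⧸ center P)
    have hc1 : c ≠ 1 := by
      rintro rfl
      rw [orderOf_one] at hc
      exact hp.one_lt.ne hc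
    refine ⟨y, ?_, ?_, ?_⟩
    · intro hyZ
      apply hc1
      apply Subtype.ext
      rw [← hy]
      exact (QuotientGroup.eq_one_iff y).mpr hyZ
    · rw [← QuotientGroup.eq_one_iff, QuotientGroup.mk_pow, hy]
      have : c ^ p = 1 := by rw [← hc]; exact pow_orderOf_eq_one c
      rw [← Subgroup.coe_pow, this]; rfl
    · intro g
      rw [← QuotientGroup.eq_one_iff]
      have hcc := c.2
      rw [mem_center_iff] at hcc
      have := hcc (g : P ⧸ center P)
      rw [← hy] at this
      simp only [QuotientGroup.mk_mul, QuotientGroup.mk_inv]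
      rw [this]; group
  set M := centralizer ({y} : Set P) with hM
  have hMidx : M.index = p ^ a := hnc y hyZ
  -- g * y = z * y * g
  have hgy : ∀ g : P, g * y = (g * y * g⁻¹ * y⁻¹) * y * g := by intro g; group
  have hMpow : ∀ g : P, g ^ p ∈ M := by
    intro g
    rw [hM, mem_cent_iff]
    exact (T (hZc _ (hycomm g)) (hgy g) p (hZc _ hypZ)).symm
  have hMnorm : ∀ m ∈ M, ∀ g : P, g⁻¹ * m * g ∈ M := by
    intro m hm g
    rw [hM, mem_cent_iff] at hm ⊢
    have hgy' : g * y * g⁻¹ = (g * y * g⁻¹ * y⁻¹) * y := by group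
    have h1 : g * y * g⁻¹ * m = m * (g * y * g⁻¹) := by
      rw [hgy', mul_assoc, hm, ← mul_assoc, (hZc _ (hycomm g) m).eq]
      simp only [mul_assoc]
    calc y * (g⁻¹ * m * g) = g⁻¹ * (g * y * g⁻¹ * m) * g := by group
      _ = g⁻¹ * (m * (g * y * g⁻¹)) * g := by rw [h1]
      _ = g⁻¹ * m * g * y := by group
  -- Lemma L
  have L : ∀ g : P, g ^ p ∉ center P →
      centralizer ({g} : Set P) = centralizer ({g ^ p} : Set P) ∧ g ∈ M := by
    intro g hg
    have hgZ : g ∉ center P := fun h => hg (pow_mem h p)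
    have hle : centralizer ({g} : Set P) ≤ centralizer ({g ^ p} : Set P) := by
      intro h hh
      rw [mem_cent_iff] at hh ⊢
      exact ((Commute.pow_left (show Commute g h from hh) p)).eq
    have heq := eq_of_le_of_index_eq hle (by rw [hnc g hgZ, hnc _ hg])
    refine ⟨heq, ?_⟩
    have h1 : y ∈ centralizer ({g ^ p} : Set P) := by
      have := hMpow g
      rw [hM, mem_cent_iff] at this
      rw [mem_cent_iff]; exact this.symm
    rw [← heq, mem_cent_iff] at h1
    rw [hM, mem_cent_iff]; exact h1.symm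
  by_contra hx
  obtain ⟨hCx, hxM⟩ := L x hx
  have hxZ : x ∉ center P := fun h => hx (pow_mem h p)
  have hCM : centralizer ({x} : Set P) ≤ M := by
    intro w hw
    by_contra hwM
    have hwp : w ^ p ∈ center P := by
      by_contra h; exact hwM (L w h).2
    have hxw : x * w ∉ M := fun h => hwM (by
      have := M.mul_mem (M.inv_mem hxM) h
      simpa using this)
    have hxwp : (x * w) ^ p ∈ center P := by
      by_contra h; exact hxw (L _ h).2
    rw [mem_cent_iff] at hw
    have h1 : (x * w) ^ p = x ^ p * w ^ p := (show Commute x w from hw).mul_pow p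
    apply hx
    have h2 : x ^ p = (x * w) ^ p * (w ^ p)⁻¹ := by rw [h1]; group
    rw [h2]
    exact (center P).mul_mem hxwp ((center P).inv_mem hwp)
  have hCxM : centralizer ({x} : Set P) = M :=
    eq_of_le_of_index_eq hCM (by rw [hnc x hxZ, hMidx])
  -- K1
  have K1 : ∀ g : P, g ∉ M → g * x * g⁻¹ * x⁻¹ ∉ center P := by
    intro g hgM hz
    have hgp : g ^ p ∈ center P := by
      by_contra h; exact hgM (L g h).2
    -- x * g = z⁻¹ * g * x
    have h1 : x * g = (g * x * g⁻¹ * x⁻¹)⁻¹ * g * x := by group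
    have h2 := T (hZc _ ((center P).inv_mem hz)) h1 p (hZc _ hgp)
    -- x^p * g = g * x^p
    apply hgM
    have : g ∈ centralizer ({x ^ p} : Set P) := by
      rw [mem_cent_iff]; exact h2
    rw [← hCx, hCxM] at this
    exact this
  -- g₀ ∉ M
  obtain ⟨g₀, hg₀⟩ : ∃ g₀ : P, g₀ ∉ M := by
    by_contra h
    have : M = ⊤ := by
      rw [eq_top_iff]; intro g _
      by_contra hg; exact h ⟨g, hg⟩
    rw [this, index_top] at hMidx; omega
  have hg₀Z : g₀ ∉ center P := by
    intro h
    apply hg₀
    rw [hM, mem_cent_iff]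
    exact ((hZc _ h y).eq).symm
  set C₀ := centralizer ({g₀} : Set P) with hC₀
  have hC₀idx : C₀.index = p ^ a := hnc g₀ hg₀Z
  let c : Option (P ⧸ M) → P := fun o => o.elim 1 (fun q => q.out * x * q.out⁻¹)
  have hcM : ∀ o, ∀ m ∈ M, m * c o = c o * m := by
    intro o m hm
    cases o with
    | none => simp [c]
    | some q =>
      simp only [c, Option.elim]
      have h1 := hCxM.ge (hMnorm m hm q.out)
      rw [mem_cent_iff] at h1
      calc m * (q.out * x * q.out⁻¹) = q.out * ((q.out)⁻¹ * m * q.out * x) * q.out⁻¹ := by group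
        _ = q.out * (x * ((q.out)⁻¹ * m * q.out)) * q.out⁻¹ := by rw [h1]
        _ = q.out * x * q.out⁻¹ * m := by group
  have hcard : Nat.card (P ⧸ C₀) < Nat.card (Option (P ⧸ M)) := by
    rw [Finite.card_option]
    have h1 : Nat.card (P ⧸ C₀) = p ^ a := hC₀idx
    have h2 : Nat.card (P ⧸ M) = p ^ a := hMidx
    omega
  obtain ⟨u, v, huv, hf⟩ : ∃ u v : Option (P ⧸ M), u ≠ v ∧
      (QuotientGroup.mk (c u) : P ⧸ C₀) = QuotientGroup.mk (c v) := by
    by_contra hno
    have hinj : Function.Injective
        (fun o : Option (P ⧸ M) => (QuotientGroup.mk (c o) : P ⧸ C₀)) := by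
      intro u v huv
      by_contra hne
      exact hno ⟨u, v, hne, huv⟩
    have := Nat.card_le_card_of_injective _ hinj
    omega
  have hd : (c u)⁻¹ * c v ∈ C₀ := QuotientGroup.eq.mp hf
  have hdZ : (c u)⁻¹ * c v ∈ center P := by
    by_contra hdn
    have h1 : M ≤ centralizer ({(c u)⁻¹ * c v} : Set P) := by
      intro m hm
      rw [mem_cent_iff]
      have hu := hcM u m hm
      have hv := hcM v m hm
      have hu' : m * (c u)⁻¹ = (c u)⁻¹ * m := by
        calc m * (c u)⁻¹ = (c u)⁻¹ * (c u * m) * (c u)⁻¹ := by group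
          _ = (c u)⁻¹ * (m * c u) * (c u)⁻¹ := by rw [hu]
          _ = (c u)⁻¹ * m := by group
      rw [mul_assoc, ← hv, ← mul_assoc, ← hu', mul_assoc]
    have h2 := eq_of_le_of_index_eq h1 (by rw [hMidx, hnc _ hdn])
    apply hg₀
    rw [h2, mem_cent_iff]
    rw [hC₀, mem_cent_iff] at hd
    exact hd.symm
  have hconjZ : ∀ g t : P, g * t * g⁻¹ ∈ center P → t ∈ center P := by
    intro g t h
    have := (inferInstance : (center P).Normal).conj_mem _ h g⁻¹
    simpa [mul_assoc] using this
  cases u with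
  | none =>
    cases v with
    | none => exact huv rfl
    | some r =>
      simp only [c, Option.elim, inv_one, one_mul] at hdZ
      exact hxZ (hconjZ _ _ hdZ)
  | some q =>
    cases v with
    | none =>
      simp only [c, Option.elim, mul_one] at hdZ
      have := (center P).inv_mem hdZ
      rw [inv_inv] at this
      exact hxZ (hconjZ _ _ this)
    | some r =>
      simp only [c, Option.elim] at hdZ
      have hk : (q.out)⁻¹ * r.out ∉ M := by
        intro h
        apply huv
        have : (QuotientGroup.mk q.out : P ⧸ M) = QuotientGroup.mk r.out := QuotientGroup.eq.mpr h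
        rw [QuotientGroup.out_eq', QuotientGroup.out_eq'] at this
        rw [this]
      apply K1 _ hk
      have h1 := (inferInstance : (center P).Normal).conj_mem _ hdZ (x * (q.out)⁻¹)
      have h2 : x * (q.out)⁻¹ * ((q.out * x * (q.out)⁻¹)⁻¹ * (r.out * x * (r.out)⁻¹)) * (x * (q.out)⁻¹)⁻¹
          = (q.out)⁻¹ * r.out * x * ((q.out)⁻¹ * r.out)⁻¹ * x⁻¹ := by group
      rw [h2] at h1
      exact h1

end Cfsg.Agent.S4365
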