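import Cfsg.Statements.S4134
import Mathlib
import Cfsg.Agent.S4365
import Cfsg.Agent.S4160
import Cfsg.Agent.S4143
import Cfsg.Agent.Lib.Helper6.PParts
import Cfsg.Agent.Lib.Lead.FpfPart
import Cfsg.Agent.Lib.Lead.CoprimeAbelian
import Cfsg.Agent.Lib.Lead.PNilp3
import Cfsg.Agent.Lib.Lead.SZ
import Cfsg.Agent.Lib.Helper7.SylowAux
import Cfsg.Agent.Lib.Helper7.SylowIndex

set_option autoImplicit false
open Cfsg

namespace Cfsg.Agent.S4134

open Subgroup

section
variable {G : Type*} [Group G] [Finite G]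

/-- the centralizer of an element -/
abbrev Cen (x : G) : Subgroup G := centralizer ({x} : Set G)

lemma mem_cen {x g : G} : g ∈ Cen x ↔ g * x = x * g := mem_centralizer_singleton_iff

lemma self_mem_cen (x : G) : x ∈ Cen x := mem_cen.mpr rfl

lemma cen_le_of_mem_zpowers {x y : G} (hy : y ∈ zpowers x) : Cen x ≤ Cen y := by
  intro g hg
  rw [mem_cen] at hg ⊢
  obtain ⟨k, rfl⟩ := mem_zpowers_iff.mp hy
  exact (Commute.zpow_right (show Commute g x from hg) k)

lemma idx_of_not_center {n : ℕ} (h : ∀ x : G, (Cen x).index = 1 ∨ (Cen x).index = n)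
    {x : G} (hx : x ∉ center G) : (Cen x).index = n := by
  rcases h x with h1 | h1
  · exfalso; apply hx
    rw [index_eq_one] at h1
    rw [mem_center_iff]; intro g
    have : g ∈ Cen x := by rw [h1]; trivial
    exact mem_cen.mp this
  · exact h1

lemma center_of_idx_not_dvd {n : ℕ} (h : ∀ x : G, (Cen x).index = 1 ∨ (Cen x).index = n)
    (q : ℕ) (hqn : q ∣ n) {x : G} (hx : ¬ q ∣ (Cen x).index) : x ∈ center G := by
  by_contra hc
  exact hx (by rw [idx_of_not_center h hc]; exact hqn)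

lemma cen_eq_of_le {n : ℕ} (h : ∀ x : G, (Cen x).index = 1 ∨ (Cen x).index = n)
    {x y : G} (hx : x ∉ center G) (hy : y ∉ center G) (hle : Cen x ≤ Cen y) : Cen x = Cen y :=
  Cfsg.Agent.S4365.eq_of_le_of_index_eq hle
    (by rw [idx_of_not_center h hx, idx_of_not_center h hy])

theorem sylow_central {n : ℕ} (h : ∀ x : G, (Cen x).index = 1 ∨ (Cen x).index = n)
    (q : ℕ) [Fact q.Prime] (hqn : ¬ q ∣ n) (Q : Sylow q G) :
    (Q : Subgroup G) ≤ center G := by
  have hM : centralizer ((Q : Subgroup G) : Set G) = ⊤ := by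
    apply Cfsg.Agent.Lib.Helper6.eq_top_of_conj_cover
    intro g
    have hq : ¬ q ∣ (Cen g).index := by
      rcases h g with h1 | h1
      · rw [h1]; exact (Fact.out : q.Prime).not_dvd_one
      · rw [h1]; exact hqn
    obtain ⟨c, hc⟩ := Cfsg.Agent.S4160.exists_conj_le q Q (Cen g) hq
    refine ⟨c⁻¹, ?_⟩
    rw [inv_inv, mem_centralizer_iff]
    intro u hu
    have h1 := mem_cen.mp (hc u hu)
    calc u * (c * g * c⁻¹) = c * ((c⁻¹ * u * c) * g) * c⁻¹ := by group
      _ = c * (g * (c⁻¹ * u * c)) * c⁻¹ := by rw [h1]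
      _ = c * g * c⁻¹ * u := by group
  intro u hu
  rw [mem_center_iff]
  intro g
  have hg : g ∈ centralizer ((Q : Subgroup G) : Set G) := by rw [hM]; trivial
  exact (mem_centralizer_iff.mp hg u hu).symm

theorem center_of_commutes_sylow {n : ℕ} (h : ∀ x : G, (Cen x).index = 1 ∨ (Cen x).index = n)
    (q : ℕ) [Fact q.Prime] (hqn : q ∣ n) (Q : Sylow q G) {z : G}
    (hz : ∀ u ∈ (Q : Subgroup G), u * z = z * u) : z ∈ center G := by
  apply center_of_idx_not_dvd h q hqn
  have hle : (Q : Subgroup G) ≤ Cen z := fun u hu => mem_cen.mpr (hz u hu)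
  intro hdvd
  exact Q.not_dvd_index (dvd_trans hdvd (index_dvd_of_le hle))

theorem sylow_not_central {n : ℕ}
    (hex : ∃ x : G, (Cen x).index = n) (q : ℕ) [Fact q.Prime] (hqn : q ∣ n) (Q : Sylow q G) :
    ¬ (Q : Subgroup G) ≤ center G := by
  intro hQ
  obtain ⟨x, hx⟩ := hex
  have hle : (Q : Subgroup G) ≤ Cen x :=
    fun u hu => mem_cen.mpr ((mem_center_iff.mp (hQ hu) x).symm)
  exact Q.not_dvd_index (dvd_trans (hx ▸ hqn) (index_dvd_of_le hle))

theorem F1 {n : ℕ} (h : ∀ x : G, (Cen x).index = 1 ∨ (Cen x).index = n)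
    {x w : G} (hx : x ∉ center G) (hw : w ∈ Cen x)
    (hcop : Nat.Coprime (orderOf w) (orderOf x)) : Cen x ≤ Cen w := by
  have hcomm : Commute x w := (mem_cen.mp hw).symm
  have hxz : x ∈ zpowers (x * w) := by
    obtain ⟨m, hm⟩ := exists_pow_eq_self_of_coprime hcop (x := x)
    have h1 : (x * w) ^ (orderOf w) = x ^ (orderOf w) := by
      rw [hcomm.mul_pow, pow_orderOf_eq_one, mul_one]
    have h2 : ((x * w) ^ orderOf w) ^ m ∈ zpowers (x * w) :=
      Subgroup.pow_mem (zpowers (x * w)) (Subgroup.pow_mem (zpowers (x * w)) (mem_zpowers (x * w)) _) _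
    rw [h1, hm] at h2
    exact h2
  have hxw : x * w ∉ center G := by
    intro hc
    apply hx
    exact (zpowers_le.mpr hc) hxz
  have e := cen_eq_of_le h hxw hx (cen_le_of_mem_zpowers hxz)
  intro g hg
  rw [← e] at hg
  have hgx : g * x = x * g := mem_cen.mp (cen_le_of_mem_zpowers hxz hg)
  rw [mem_cen] at hg ⊢
  calc g * w = x⁻¹ * (g * (x * w)) := by rw [← mul_assoc g x w, hgx]; group
    _ = x⁻¹ * ((x * w) * g) := by rw [hg]
    _ = w * g := by group

theorem caseI {n : ℕ} (h : ∀ x : G, (Cen x).index = 1 ∨ (Cen x).index = n)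
    (hex : ∃ x : G, (Cen x).index = n) (q : ℕ) {x : G} (hx : x ∉ center G)
    (hI : ∀ (r : ℕ), r.Prime → r ≠ q → ∀ w ∈ Cen x, (∃ j, orderOf w = r ^ j) → w ∈ center G) :
    ∀ r : ℕ, r.Prime → r ∣ n → r = q := by
  intro r hr hrn
  by_contra hne
  haveI : Fact r.Prime := ⟨hr⟩
  obtain R : Sylow r G := default
  have hRnc := sylow_not_central hex r hrn R
  obtain ⟨y, hyR, hyZ⟩ := SetLike.not_le_iff_exists.mp hRnc
  have hn0 : 0 < n := by
    rw [← idx_of_not_center h hx]
    exact Nat.pos_of_ne_zero index_ne_zero_of_finite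
  have hcard : Nat.card (Cen x) = Nat.card (Cen y) := by
    have h1 := (Cen x).card_mul_index
    have h2 := (Cen y).card_mul_index
    rw [idx_of_not_center h hx] at h1
    rw [idx_of_not_center h hyZ] at h2
    exact Nat.eq_of_mul_eq_mul_right hn0 (h1.trans h2.symm)
  have ht : (center G).relIndex (Cen x) = (center G).relIndex (Cen y) := by
    have h1 := Cfsg.Agent.Lib.Helper7.card_inf_mul_relIndex (center G) (Cen x)
    have h2 := Cfsg.Agent.Lib.Helper7.card_inf_mul_relIndex (center G) (Cen y)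
    rw [inf_eq_left.mpr (center_le_centralizer _)] at h1 h2
    exact Nat.eq_of_mul_eq_mul_left Nat.card_pos (by rw [h1, h2, hcard])
  have hx' : ¬ r ∣ (center G).relIndex (Cen x) := by
    obtain R0 : Sylow r (Cen x) := default
    have hle : (R0 : Subgroup (Cen x)) ≤ (center G).subgroupOf (Cen x) := by
      intro u hu
      rw [mem_subgroupOf]
      obtain ⟨j, hj⟩ := Cfsg.Agent.Lib.Helper7.orderOf_of_mem_sylow R0 u hu
      exact hI r hr hne (u : G) u.2 ⟨j, by rw [Subgroup.orderOf_coe]; exact hj⟩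
    intro hdvd
    exact R0.not_dvd_index (dvd_trans hdvd (index_dvd_of_le hle))
  have hy' : r ∣ (center G).relIndex (Cen y) := by
    by_contra hnd
    apply hyZ
    haveI : ((center G).subgroupOf (Cen y)).Normal :=
      Subgroup.Normal.subgroupOf inferInstance (Cen y)
    have h1 : (⟨y, self_mem_cen y⟩ : Cen y) ^ ((center G).subgroupOf (Cen y)).index ∈
        (center G).subgroupOf (Cen y) := Subgroup.pow_index_mem _ _
    rw [mem_subgroupOf, Subgroup.coe_pow] at h1
    have h2 : y ^ ((center G).relIndex (Cen y)) ∈ center G := h1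
    obtain ⟨j, hj⟩ := Cfsg.Agent.Lib.Helper7.orderOf_of_mem_sylow R y hyR
    have hcop : Nat.Coprime ((center G).relIndex (Cen y)) (orderOf y) := by
      rw [hj]
      exact Nat.Coprime.pow_right j ((Nat.Prime.coprime_iff_not_dvd hr).mpr hnd).symm
    obtain ⟨m, hm⟩ := exists_pow_eq_self_of_coprime hcop
    rw [← hm]; exact Subgroup.pow_mem _ h2 _
  rw [← ht] at hy'
  exact hx' hy'

lemma cen_central_mul {z x : G} (hz : z ∈ center G) : Cen (z * x) = Cen x := by
  ext t
  rw [mem_cen, mem_cen]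
  have hzt := mem_center_iff.mp hz t
  constructor
  · intro ht
    have h1 : z * (t * x) = z * (x * t) := by
      calc z * (t * x) = (z * t) * x := (mul_assoc z t x).symm
        _ = (t * z) * x := by rw [hzt]
        _ = t * (z * x) := mul_assoc t z x
        _ = z * x * t := ht
        _ = z * (x * t) := mul_assoc z x t
    exact mul_left_cancel h1
  · intro ht
    calc t * (z * x) = (t * z) * x := (mul_assoc t z x).symm
      _ = (z * t) * x := by rw [hzt]
      _ = z * (t * x) := mul_assoc z t x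
      _ = z * (x * t) := by rw [ht]
      _ = z * x * t := (mul_assoc z x t).symm

lemma conj_mem_cen {x t : G} (g : G) (ht : t ∈ Cen x) : g * t * g⁻¹ ∈ Cen (g * x * g⁻¹) := by
  rw [mem_cen] at ht ⊢
  calc g * t * g⁻¹ * (g * x * g⁻¹) = g * (t * x) * g⁻¹ := by group
    _ = g * (x * t) * g⁻¹ := by rw [ht]
    _ = g * x * g⁻¹ * (g * t * g⁻¹) := by group

/-- the `r`-part of a commutative subgroup -/
def rPart (C : Subgroup G) (hC : ∀ a ∈ C, ∀ b ∈ C, a * b = b * a) (r : ℕ) : Subgroup G where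
  carrier := {d | d ∈ C ∧ ∃ k : ℕ, d ^ (r ^ k) = 1}
  mul_mem' := by
    rintro a b ⟨ha, k, hk⟩ ⟨hb, l, hl⟩
    refine ⟨C.mul_mem ha hb, k + l, ?_⟩
    rw [(show Commute a b from hC a ha b hb).mul_pow, pow_add, pow_mul, hk, one_pow,
      mul_comm (r ^ k) (r ^ l), pow_mul, hl, one_pow, mul_one]
  one_mem' := ⟨C.one_mem, 0, by simp⟩
  inv_mem' := by
    rintro a ⟨ha, k, hk⟩
    exact ⟨C.inv_mem ha, k, by rw [inv_pow, hk, inv_one]⟩

theorem exists_conjHom (A V : Subgroup G) (hAV : A ≤ normalizer (V : Set G)) :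
    ∃ ψ : A →* MulAut V, ∀ (a : A) (v : V), ((ψ a v : V) : G) = (a : G) * v * (a : G)⁻¹ := by
  let f : A → MulAut V := fun a =>
    { toFun := fun v => ⟨(a:G) * v * (a:G)⁻¹,
        (Subgroup.mem_normalizer_iff.mp (hAV a.2) v).mp v.2⟩
      invFun := fun v => ⟨(a:G)⁻¹ * v * (a:G),
        (Subgroup.mem_normalizer_iff.mp (hAV a.2) _).mpr (by
          have : (a:G) * ((a:G)⁻¹ * v * (a:G)) * (a:G)⁻¹ = v := by group
          rw [this]; exact v.2)⟩
      left_inv := fun v => Subtype.ext (by simp [mul_assoc])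
      right_inv := fun v => Subtype.ext (by simp [mul_assoc])
      map_mul' := fun v w => Subtype.ext (by simp [mul_assoc]) }
  refine ⟨{ toFun := f, map_one' := ?_, map_mul' := ?_ }, ?_⟩
  · ext v; simp [f]
  · intro a b; ext v; simp [f, mul_assoc]
  · intro a v; rfl

theorem exists_second_center {P : Type*} [Group P] [Finite P] (p : ℕ) [Fact p.Prime]
    (hP : IsPGroup p P) (hZtop : center P ≠ ⊤) :
    ∃ y : P, y ∉ center P ∧ y ^ p ∈ center P ∧ ∀ g : P, g * y * g⁻¹ * y⁻¹ ∈ center P := by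
  have hp : p.Prime := Fact.out
  haveI : Nontrivial (P ⧸ center P) := by
    by_contra hnt
    rw [not_nontrivial_iff_subsingleton] at hnt
    exact hZtop (QuotientGroup.subgroup_eq_top_of_subsingleton _ hnt)
  have hQ : IsPGroup p (P ⧸ center P) := hP.to_quotient _
  haveI := hQ.center_nontrivial
  have hQZ : IsPGroup p (center (P ⧸ center P)) := hQ.to_subgroup _
  obtain ⟨n, hn⟩ := IsPGroup.iff_card.mp hQZ
  have hn0 : n ≠ 0 := by
    rintro rfl
    have := Finite.one_lt_card (α := center (P ⧸ center P))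
    rw [hn] at this; simp at this
  have hdvd : p ∣ Nat.card (center (P ⧸ center P)) := by
    rw [hn]; exact dvd_pow_self p hn0
  obtain ⟨c, hc⟩ := exists_prime_orderOf_dvd_card' p hdvd
  obtain ⟨y, hy⟩ := QuotientGroup.mk_surjective (c : P ⧸ center P)
  have hc1 : c ≠ 1 := by
    rintro rfl
    rw [orderOf_one] at hc
    exact hp.one_lt.ne hc
  refine ⟨y, ?_, ?_, ?_⟩
  · intro hyZ
    apply hc1
    apply Subtype.ext
    rw [← hy]
    exact (QuotientGroup.eq_one_iff y).mpr hyZ
  · rw [← QuotientGroup.eq_one_iff, QuotientGroup.mk_pow, hy]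
    have : c ^ p = 1 := by rw [← hc]; exact pow_orderOf_eq_one c
    rw [← Subgroup.coe_pow, this]; rfl
  · intro g
    rw [← QuotientGroup.eq_one_iff]
    have hcc := c.2
    rw [mem_center_iff] at hcc
    have := hcc (g : P ⧸ center P)
    rw [← hy] at this
    simp only [QuotientGroup.mk_mul, QuotientGroup.mk_inv]
    rw [this]; group

theorem abelian_cen {n : ℕ} (h : ∀ x : G, (Cen x).index = 1 ∨ (Cen x).index = n)
    (h2 : ∀ (q : ℕ), q.Prime → ∀ x : G, x ∉ center G → (∃ e, orderOf x = q ^ e) →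
      ∃ r, r.Prime ∧ r ≠ q ∧ ∃ w ∈ Cen x, (∃ j, orderOf w = r ^ j) ∧ w ∉ center G)
    (q : ℕ) (hq : q.Prime) {x : G} (hx : x ∉ center G) (hxo : ∃ e, orderOf x = q ^ e) :
    ∀ u ∈ Cen x, ∀ t ∈ Cen x, u * t = t * u := by
  obtain ⟨r, hr, hrq, w, hw, ⟨j, hj⟩, hwZ⟩ := h2 q hq x hx hxo
  obtain ⟨e, he⟩ := hxo
  haveI : Fact q.Prime := ⟨hq⟩
  have hqr : Nat.Coprime r q := (Nat.coprime_primes hr hq).mpr hrq
  have hxw : Cen x = Cen w :=
    cen_eq_of_le h hx hwZ (F1 h hx hw (by rw [hj, he]; exact Nat.Coprime.pow _ _ hqr))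
  intro u hu t ht
  obtain ⟨y, z, huyz, -, ⟨k, hk⟩, hzc, hyu, hzu⟩ := Cfsg.Agent.Lib.Helper6.exists_p_decomp q u
  have hzC : z ∈ Cen x := (zpowers_le.mpr hu) hzu
  have hyC : y ∈ Cen x := (zpowers_le.mpr hu) hyu
  have h1 : Cen x ≤ Cen z := F1 h hx hzC (by rw [he]; exact Nat.Coprime.pow_right _ hzc)
  have hyCw : y ∈ Cen w := by rw [← hxw]; exact hyC
  have h3 : Cen w ≤ Cen y :=
    F1 h hwZ hyCw (by rw [hk, hj]; exact Nat.Coprime.pow _ _ hqr.symm)
  have htz : t * z = z * t := mem_cen.mp (h1 ht)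
  have htw : t ∈ Cen w := by rw [← hxw]; exact ht
  have hty : t * y = y * t := mem_cen.mp (h3 htw)
  rw [huyz]
  calc y * z * t = y * (z * t) := mul_assoc y z t
    _ = y * (t * z) := by rw [htz]
    _ = (y * t) * z := (mul_assoc y t z).symm
    _ = (t * y) * z := by rw [hty]
    _ = t * (y * z) := mul_assoc t y z

theorem cen_eq_of_mem {n : ℕ} (h : ∀ x : G, (Cen x).index = 1 ∨ (Cen x).index = n)
    (h2 : ∀ (q : ℕ), q.Prime → ∀ x : G, x ∉ center G → (∃ e, orderOf x = q ^ e) →
      ∃ r, r.Prime ∧ r ≠ q ∧ ∃ w ∈ Cen x, (∃ j, orderOf w = r ^ j) ∧ w ∉ center G)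
    (q : ℕ) (hq : q.Prime) {x : G} (hx : x ∉ center G) (hxo : ∃ e, orderOf x = q ^ e)
    {c : G} (hc : c ∈ Cen x) (hcZ : c ∉ center G) : Cen c = Cen x := by
  have hle : Cen x ≤ Cen c := by
    intro t ht
    rw [mem_cen]
    exact (abelian_cen h h2 q hq hx hxo c hc t ht).symm
  exact (cen_eq_of_le h hx hcZ hle).symm

open scoped IsMulCommutative in
theorem not_sq_dvd {n : ℕ} (h : ∀ x : G, (Cen x).index = 1 ∨ (Cen x).index = n)
    (hex : ∃ x : G, (Cen x).index = n)
    (h2 : ∀ (q : ℕ), q.Prime → ∀ x : G, x ∉ center G → (∃ e, orderOf x = q ^ e) →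
      ∃ r, r.Prime ∧ r ≠ q ∧ ∃ w ∈ Cen x, (∃ j, orderOf w = r ^ j) ∧ w ∉ center G)
    (q : ℕ) [Fact q.Prime] (hqn : q ∣ n) : ¬ q ^ 2 ∣ n := by
  have hq : q.Prime := Fact.out
  intro hq2
  obtain Q : Sylow q G := default
  have hQnc := sylow_not_central hex q hqn Q
  have hQp : IsPGroup q (Q : Subgroup G) := Q.isPGroup'
  have hZtop : center (Q : Subgroup G) ≠ ⊤ := by
    intro htop
    apply hQnc
    intro u hu
    apply center_of_commutes_sylow h q hqn Q
    intro u' hu'
    have h1 : (⟨u, hu⟩ : (Q : Subgroup G)) ∈ center (Q : Subgroup G) := by rw [htop]; trivial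
    exact congrArg Subtype.val (mem_center_iff.mp h1 ⟨u', hu'⟩)
  obtain ⟨y, hyZ, hyq, hycomm⟩ := exists_second_center q hQp hZtop
  have hcen : ∀ z : (Q : Subgroup G), z ∈ center (Q : Subgroup G) → (z : G) ∈ center G := by
    intro z hz
    apply center_of_commutes_sylow h q hqn Q
    intro u hu
    exact congrArg Subtype.val (mem_center_iff.mp hz ⟨u, hu⟩)
  obtain ⟨v, hvQ, hvy⟩ : ∃ v : G, v ∈ (Q : Subgroup G) ∧ v = (y : G) := ⟨y, y.2, rfl⟩
  have hvZ : v ∉ center G := by
    intro hc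
    apply hyZ
    rw [mem_center_iff]
    intro g
    apply Subtype.ext
    have := mem_center_iff.mp hc (g : G)
    rw [hvy] at this
    exact this
  have hvq : v ^ q ∈ center G := by
    have := hcen _ hyq
    rw [Subgroup.coe_pow, ← hvy] at this
    exact this
  have hθ : ∀ g ∈ (Q : Subgroup G), g * v * g⁻¹ * v⁻¹ ∈ center G := by
    intro g hg
    have := hcen _ (hycomm ⟨g, hg⟩)
    rw [hvy]
    exact this
  have hvo : ∃ e, orderOf v = q ^ e := Cfsg.Agent.Lib.Helper7.orderOf_of_mem_sylow Q v hvQ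
  have hab := abelian_cen h h2 q hq hvZ hvo
  have hpow : ∀ g ∈ (Q : Subgroup G), g ^ q ∈ Cen v := by
    intro g hg
    rw [mem_cen]
    have hz : ∀ t : G, Commute (g * v * g⁻¹ * v⁻¹) t :=
      fun t => (mem_center_iff.mp (hθ g hg) t).symm
    have hb : ∀ t : G, Commute (v ^ q) t := fun t => (mem_center_iff.mp hvq t).symm
    exact Cfsg.Agent.S4365.T hz (by group) q hb
  have hQC : ∀ g ∈ (Q : Subgroup G), ∀ t ∈ Cen v, g * t * g⁻¹ ∈ Cen v := by
    intro g hg t ht
    have h1 := conj_mem_cen g ht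
    have e : g * v * g⁻¹ = (g * v * g⁻¹ * v⁻¹) * v := by group
    rw [e, cen_central_mul (hθ g hg)] at h1
    exact h1
  have hcommQ : ∀ g ∈ (Q : Subgroup G), ∀ k ∈ (Q : Subgroup G),
      (g * k)⁻¹ * (k * g) ∈ Cen v := by
    intro g hg k hk
    -- conjugation by g*k and by k*g agree on v
    have hzg := hθ g hg
    have hzk := hθ k hk
    have e1 : Cen ((g * k) * v * (g * k)⁻¹) = Cen v := by
      have e : (g * k) * v * (g * k)⁻¹ =
          (g * (k * v * k⁻¹ * v⁻¹) * g⁻¹) * ((g * v * g⁻¹ * v⁻¹) * v) := by group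
      have hc : g * (k * v * k⁻¹ * v⁻¹) * g⁻¹ ∈ center G :=
        (inferInstance : (center G).Normal).conj_mem _ hzk g
      rw [e, cen_central_mul hc, cen_central_mul hzg]
    have e2 : (g * k) * v * (g * k)⁻¹ = (k * g) * v * (k * g)⁻¹ := by
      have hzg' := mem_center_iff.mp hzg
      have hzk' := mem_center_iff.mp hzk
      have a1 : (g * k) * v * (g * k)⁻¹ = (k * v * k⁻¹ * v⁻¹) * ((g * v * g⁻¹ * v⁻¹) * v) := by
        calc (g * k) * v * (g * k)⁻¹ = (g * (k * v * k⁻¹ * v⁻¹)) * (v * g⁻¹) := by group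
          _ = ((k * v * k⁻¹ * v⁻¹) * g) * (v * g⁻¹) := by rw [hzk' g]
          _ = (k * v * k⁻¹ * v⁻¹) * ((g * v * g⁻¹ * v⁻¹) * v) := by group
      have a2 : (k * g) * v * (k * g)⁻¹ = (k * v * k⁻¹ * v⁻¹) * ((g * v * g⁻¹ * v⁻¹) * v) := by
        calc (k * g) * v * (k * g)⁻¹ = (k * (g * v * g⁻¹ * v⁻¹)) * (v * k⁻¹) := by group
          _ = ((g * v * g⁻¹ * v⁻¹) * k) * (v * k⁻¹) := by rw [hzg' k]
          _ = (g * v * g⁻¹ * v⁻¹) * ((k * v * k⁻¹ * v⁻¹) * v) := by group
          _ = ((g * v * g⁻¹ * v⁻¹) * (k * v * k⁻¹ * v⁻¹)) * v := (mul_assoc _ _ _).symm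
          _ = ((k * v * k⁻¹ * v⁻¹) * (g * v * g⁻¹ * v⁻¹)) * v := by
              rw [hzk' (g * v * g⁻¹ * v⁻¹)]
          _ = (k * v * k⁻¹ * v⁻¹) * ((g * v * g⁻¹ * v⁻¹) * v) := mul_assoc _ _ _
      rw [a1, a2]
    rw [mem_cen]
    calc (g * k)⁻¹ * (k * g) * v = (g * k)⁻¹ * ((k * g) * v * (k * g)⁻¹) * (k * g) := by group
      _ = (g * k)⁻¹ * ((g * k) * v * (g * k)⁻¹) * (k * g) := by rw [e2]
      _ = v * ((g * k)⁻¹ * (k * g)) := by group
  set B : Subgroup G := (Q : Subgroup G) ⊓ Cen v with hB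
  have hBQ : B ≤ (Q : Subgroup G) := inf_le_left
  haveI hB'n : (B.subgroupOf (Q : Subgroup G)).Normal := by
    constructor
    intro b hb g
    rw [mem_subgroupOf] at hb ⊢
    refine mem_inf.mpr ⟨(g * b * g⁻¹).2, ?_⟩
    have h1 := hcommQ (b : G) b.2 (g : G)⁻¹ (inv_mem g.2)
    have e : ((g * b * g⁻¹ : (Q : Subgroup G)) : G) =
        (((b : G) * (g : G)⁻¹)⁻¹ * ((g : G)⁻¹ * (b : G)) * (b : G)⁻¹)⁻¹ := by
      simp only [Subgroup.coe_mul, Subgroup.coe_inv]; group
    rw [e]
    exact inv_mem (mul_mem h1 (inv_mem hb.2))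
  obtain ⟨r, hr, hrq, w, hw, ⟨j, hj⟩, hwZ⟩ := h2 q hq v hvZ hvo
  haveI : Fact r.Prime := ⟨hr⟩
  set D : Subgroup G := rPart (Cen v) hab r with hD
  have hDle : D ≤ Cen v := fun d hd => hd.1
  have hwD : w ∈ D := ⟨hw, j, by rw [← hj]; exact pow_orderOf_eq_one w⟩
  have hDp : IsPGroup r D := by
    intro d
    obtain ⟨k, hk⟩ := d.2.2
    exact ⟨k, Subtype.ext (by rw [Subgroup.coe_pow]; exact hk)⟩
  haveI hDcomm : IsMulCommutative D :=
    ⟨⟨fun a b => Subtype.ext (hab a (hDle a.2) b (hDle b.2))⟩⟩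
  have hQD : (Q : Subgroup G) ≤ normalizer (D : Set G) := by
    apply Cfsg.Agent.Lib.Lead.le_normalizer_of_conj_mem
    intro g hg d hd
    refine ⟨hQC g hg d hd.1, ?_⟩
    obtain ⟨k, hk⟩ := hd.2
    exact ⟨k, by rw [conj_pow, hk, mul_one, mul_inv_cancel]⟩
  have hcop : (Nat.card (Q : Subgroup G)).Coprime (Nat.card D) := by
    obtain ⟨a1, ha1⟩ := IsPGroup.iff_card.mp hQp
    obtain ⟨a2, ha2⟩ := IsPGroup.iff_card.mp hDp
    rw [ha1, ha2]
    exact Nat.Coprime.pow _ _ ((Nat.coprime_primes hq hr).mpr hrq.symm)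
  have hinf := Cfsg.Agent.Lib.Lead.coprime_abelian_inf (Q : Subgroup G) D hQD hcop
  have hsup := Cfsg.Agent.Lib.Lead.coprime_abelian_sup (Q : Subgroup G) D hQD hcop
  set V : Subgroup G := ⁅D, (Q : Subgroup G)⁆ with hV
  have hVD : V ≤ D := Cfsg.Agent.Lib.Lead.commutator_le_of_le_normalizer D (Q : Subgroup G) hQD
  have hVne : V ≠ ⊥ := by
    intro hbot
    rw [hbot, sup_bot_eq] at hsup
    have hwc : w ∈ D ⊓ centralizer ((Q : Subgroup G) : Set G) := by rw [hsup]; exact hwD
    apply hwZ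
    apply center_of_commutes_sylow h q hqn Q
    intro u hu
    exact mem_centralizer_iff.mp hwc.2 u hu
  have hQV : (Q : Subgroup G) ≤ normalizer (V : Set G) := by
    apply Cfsg.Agent.Lib.Lead.le_normalizer_of_conj_mem
    exact Cfsg.Agent.Lib.Lead.commutator_conj_mem_right D (Q : Subgroup G)
  obtain ⟨ψ, hψ⟩ := exists_conjHom (Q : Subgroup G) V hQV
  have hker : B.subgroupOf (Q : Subgroup G) ≤ ψ.ker := by
    intro b hb
    rw [mem_subgroupOf] at hb
    rw [MonoidHom.mem_ker]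
    apply MulEquiv.ext
    intro x
    apply Subtype.ext
    have hx : (x : G) ∈ Cen v := hDle (hVD x.2)
    rw [hψ, MulAut.one_apply, hab (b : G) hb.2 (x : G) hx, mul_inv_cancel_right]
  haveI hVnt : Nontrivial V := (Subgroup.nontrivial_iff_ne_bot V).mpr hVne
  haveI hVcomm : IsMulCommutative V :=
    ⟨⟨fun a b => Subtype.ext (hab a (hDle (hVD a.2)) b (hDle (hVD b.2)))⟩⟩
  haveI hAcomm : IsMulCommutative ((Q : Subgroup G) ⧸ B.subgroupOf (Q : Subgroup G)) := by
    refine ⟨⟨fun a b => ?_⟩⟩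
    induction a using QuotientGroup.induction_on with
    | H g =>
      induction b using QuotientGroup.induction_on with
      | H k =>
        rw [← QuotientGroup.mk_mul, ← QuotientGroup.mk_mul]
        apply QuotientGroup.eq.mpr
        rw [mem_subgroupOf]
        refine mem_inf.mpr ⟨((g * k)⁻¹ * (k * g)).2, ?_⟩
        exact hcommQ g g.2 k k.2
  have hAexp : ∀ a : (Q : Subgroup G) ⧸ B.subgroupOf (Q : Subgroup G), a ^ q = 1 := by
    intro a
    induction a using QuotientGroup.induction_on with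
    | H g =>
      rw [← QuotientGroup.mk_pow, QuotientGroup.eq_one_iff, mem_subgroupOf]
      refine mem_inf.mpr ⟨(g ^ q).2, ?_⟩
      rw [Subgroup.coe_pow]
      exact hpow g g.2
  have hφ : Cfsg.Agent.Lib.Lead.Fpf (QuotientGroup.lift (B.subgroupOf (Q : Subgroup G)) ψ hker) := by
    intro a ha x hx
    induction a using QuotientGroup.induction_on with
    | H g =>
      have hgB : (g : G) ∉ B := by
        intro hg
        apply ha
        exact (QuotientGroup.eq_one_iff g).mpr (mem_subgroupOf.mpr hg)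
      have h1 : (g : G) * x * (g : G)⁻¹ = x := by
        have h3 := congrArg Subtype.val hx
        rw [QuotientGroup.lift_mk, hψ] at h3
        exact h3
      have hxg : (g : G) * x = x * g := by
        calc (g : G) * x = ((g : G) * x * (g : G)⁻¹) * g := by group
          _ = x * g := by rw [h1]
      have hxC : (x : G) ∈ Cen v := hDle (hVD x.2)
      by_cases hxZ : (x : G) ∈ center G
      · have h3 : (x : G) ∈ (D ⊓ centralizer ((Q : Subgroup G) : Set G)) ⊓ V := by
          refine mem_inf.mpr ⟨mem_inf.mpr ⟨hVD x.2, ?_⟩, x.2⟩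
          rw [mem_centralizer_iff]
          intro u _
          exact mem_center_iff.mp hxZ u
        rw [hinf, mem_bot] at h3
        exact Subtype.ext h3
      · exfalso
        apply hgB
        have e := cen_eq_of_mem h h2 q hq hvZ hvo hxC hxZ
        refine mem_inf.mpr ⟨g.2, ?_⟩
        rw [← e, mem_cen]
        exact hxg
  have hcyc : IsCyclic ((Q : Subgroup G) ⧸ B.subgroupOf (Q : Subgroup G)) :=
    Cfsg.Agent.Lib.Lead.fpf_comm_cyclic _ hφ hVnt
  have hidx : (B.subgroupOf (Q : Subgroup G)).index ∣ q := by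
    rw [Subgroup.index_eq_card]
    haveI := hcyc
    rw [← IsCyclic.exponent_eq_card]
    exact Monoid.exponent_dvd_of_forall_pow_eq_one hAexp
  have h1 := Cfsg.Agent.Lib.Helper7.card_inf_mul_relIndex B (Q : Subgroup G)
  rw [inf_eq_left.mpr hBQ] at h1
  have h3 : Nat.card (Q : Subgroup G) ∣ Nat.card B * q := by
    rw [← h1]; exact Nat.mul_dvd_mul_left _ hidx
  have h4 : Nat.card B ∣ Nat.card (Cen v) := Subgroup.card_dvd_of_le inf_le_right
  have h5 := (Cen v).card_mul_index
  rw [idx_of_not_center h hvZ] at h5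
  have h6 : Nat.card (Q : Subgroup G) * q ∣ Nat.card G := by
    rw [← h5]
    calc Nat.card (Q : Subgroup G) * q ∣ (Nat.card B * q) * q := Nat.mul_dvd_mul_right h3 q
      _ = Nat.card B * q ^ 2 := by ring
      _ ∣ Nat.card (Cen v) * n := Nat.mul_dvd_mul h4 hq2
  rw [Sylow.card_eq_multiplicity, ← pow_succ] at h6
  exact Nat.pow_succ_factorization_not_dvd Nat.card_pos.ne' hq h6

theorem normalizer_cen_eq_top {n : ℕ} (h : ∀ x : G, (Cen x).index = 1 ∨ (Cen x).index = n)
    (hex : ∃ x : G, (Cen x).index = n)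
    (h2 : ∀ (q : ℕ), q.Prime → ∀ x : G, x ∉ center G → (∃ e, orderOf x = q ^ e) →
      ∃ r, r.Prime ∧ r ≠ q ∧ ∃ w ∈ Cen x, (∃ j, orderOf w = r ^ j) ∧ w ∉ center G)
    (hsq : ∀ s : ℕ, s.Prime → s ∣ n → ¬ s ^ 2 ∣ n)
    (q : ℕ) (hq : q.Prime) {x : G} (hx : x ∉ center G) (hxo : ∃ e, orderOf x = q ^ e) :
    normalizer ((Cen x : Subgroup G) : Set G) = ⊤ := by
  rw [← index_eq_one]
  by_contra hne
  obtain ⟨s, hs, hsdvd⟩ := Nat.exists_prime_and_dvd hne
  haveI : Fact s.Prime := ⟨hs⟩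
  have hidx : (Cen x).index = n := idx_of_not_center h hx
  have hsn : s ∣ n := by
    rw [← hidx]
    exact dvd_trans hsdvd (index_dvd_of_le le_normalizer)
  have hs2 := hsq s hs hsn
  have hn0 : n ≠ 0 := by rw [← hidx]; exact index_ne_zero_of_finite
  obtain T0 : Sylow s (Cen x) := default
  have hTp : IsPGroup s ((T0 : Subgroup (Cen x)).map (Cen x).subtype) := T0.isPGroup'.map _
  obtain ⟨S, hTS⟩ := hTp.exists_le_sylow
  apply S.not_dvd_index
  refine dvd_trans hsdvd (index_dvd_of_le ?_)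
  set B2 : Subgroup G := (S : Subgroup G) ⊓ Cen x with hB2
  have hTB : (T0 : Subgroup (Cen x)).map (Cen x).subtype ≤ B2 := by
    apply le_inf hTS
    rintro _ ⟨t, -, rfl⟩
    exact t.2
  set a := (Nat.card (Cen x)).factorization s with ha
  have hcT : Nat.card ((T0 : Subgroup (Cen x)).map (Cen x).subtype) = s ^ a := by
    rw [Subgroup.card_map_of_injective (Subgroup.subtype_injective _), Sylow.card_eq_multiplicity]
  have hcS : Nat.card (S : Subgroup G) = s ^ (a + 1) := by
    rw [Sylow.card_eq_multiplicity]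
    congr 1
    have h5 := (Cen x).card_mul_index
    rw [hidx] at h5
    rw [← h5, Nat.factorization_mul Nat.card_pos.ne' hn0]
    simp only [Finsupp.coe_add, Pi.add_apply]
    have h6 : 1 ≤ n.factorization s :=
      (hs.pow_dvd_iff_le_factorization hn0).mp (by rw [pow_one]; exact hsn)
    have h7 : ¬ 2 ≤ n.factorization s :=
      fun hh => hs2 ((hs.pow_dvd_iff_le_factorization hn0).mpr hh)
    omega
  have hB2S : B2 ≤ (S : Subgroup G) := inf_le_left
  obtain ⟨k, hk, hB2k⟩ := (Nat.dvd_prime_pow hs).mp (hcS ▸ Subgroup.card_dvd_of_le hB2S)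
  have hak : a ≤ k := by
    have h8 := Subgroup.card_dvd_of_le hTB
    rw [hcT, hB2k] at h8
    exact (Nat.pow_dvd_pow_iff_le_right hs.one_lt).mp h8
  rcases Nat.lt_or_ge a k with hlt | hge
  · -- B2 = S
    have hk' : k = a + 1 := by omega
    have hB2eq : B2 = (S : Subgroup G) :=
      Subgroup.eq_of_le_of_card_ge hB2S (by rw [hcS, hB2k, hk'])
    have hSle : (S : Subgroup G) ≤ Cen x := by rw [← hB2eq]; exact inf_le_right
    exact le_trans hSle le_normalizer
  · have hk' : k = a := by omega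
    rw [hk'] at hB2k
    -- B2 normal in S
    have hSB2 : (S : Subgroup G) ≤ normalizer (B2 : Set G) := by
      rw [← Subgroup.normal_subgroupOf_iff_le_normalizer hB2S]
      apply Subgroup.normal_of_index_eq_minFac_card
      rw [hcS, Nat.pow_minFac (by omega), hs.minFac_eq]
      have h1 := Cfsg.Agent.Lib.Helper7.card_inf_mul_relIndex B2 (S : Subgroup G)
      rw [inf_eq_left.mpr hB2S, hB2k, hcS] at h1
      have h9 : B2.relIndex (S : Subgroup G) = s := by
        apply Nat.eq_of_mul_eq_mul_left (pow_pos hs.pos a)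
        rw [h1]; ring
      exact h9
    -- a noncentral element of B2
    obtain ⟨c, hcB, hcZ⟩ : ∃ c ∈ B2, c ∉ center G := by
      by_contra hcon
      push Not at hcon
      apply sylow_not_central hex s hsn S
      intro g hg
      by_cases hgB : g ∈ B2
      · exact hcon g hgB
      · apply center_of_commutes_sylow h s hsn S
        have hS' : (S : Subgroup G) ⊓ Cen g = (S : Subgroup G) := by
          apply Cfsg.Agent.S4143.eq_of_between (p := s) a (H := B2) _ inf_le_left hB2k hcS g _ hgB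
          · intro b hb
            refine mem_inf.mpr ⟨hB2S hb, ?_⟩
            rw [mem_cen]
            exact mem_center_iff.mp (hcon b hb) g |>.symm
          · exact mem_inf.mpr ⟨hg, self_mem_cen g⟩
        intro u hu
        have hu' : u ∈ (S : Subgroup G) ⊓ Cen g := by rw [hS']; exact hu
        exact mem_cen.mp hu'.2
    have hcx : c ∈ Cen x := hcB.2
    have e1 := cen_eq_of_mem h h2 q hq hx hxo hcx hcZ
    apply Cfsg.Agent.Lib.Lead.le_normalizer_of_conj_mem
    intro g hg t ht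
    have hgc : g * c * g⁻¹ ∈ B2 := (mem_normalizer_iff.mp (hSB2 hg) c).mp hcB
    have hgcZ : g * c * g⁻¹ ∉ center G := by
      intro hz
      apply hcZ
      have := (inferInstance : (center G).Normal).conj_mem _ hz g⁻¹
      have e : g⁻¹ * (g * c * g⁻¹) * g⁻¹⁻¹ = c := by group
      rw [e] at this
      exact this
    have e2 := cen_eq_of_mem h h2 q hq hx hxo hgc.2 hgcZ
    rw [← e2]
    apply conj_mem_cen
    rw [e1]; exact ht

theorem caseII_false {n : ℕ} (hn : 1 < n) (h : ∀ x : G, (Cen x).index = 1 ∨ (Cen x).index = n)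
    (hex : ∃ x : G, (Cen x).index = n)
    (h2 : ∀ (q : ℕ), q.Prime → ∀ x : G, x ∉ center G → (∃ e, orderOf x = q ^ e) →
      ∃ r, r.Prime ∧ r ≠ q ∧ ∃ w ∈ Cen x, (∃ j, orderOf w = r ^ j) ∧ w ∉ center G) : False := by
  have hsq : ∀ s : ℕ, s.Prime → s ∣ n → ¬ s ^ 2 ∣ n := fun s hs hsn => by
    haveI : Fact s.Prime := ⟨hs⟩
    exact not_sq_dvd h hex h2 s hsn
  obtain ⟨q, hq, hqn⟩ := Nat.exists_prime_and_dvd (by omega : n ≠ 1)
  haveI : Fact q.Prime := ⟨hq⟩
  obtain Q : Sylow q G := default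
  obtain ⟨a, haQ, haZ⟩ := SetLike.not_le_iff_exists.mp (sylow_not_central hex q hqn Q)
  have hao : ∃ e, orderOf a = q ^ e := Cfsg.Agent.Lib.Helper7.orderOf_of_mem_sylow Q a haQ
  obtain ⟨r, hr, hrq, w, hw, ⟨j, hj⟩, hwZ⟩ := h2 q hq a haZ hao
  haveI : Fact r.Prime := ⟨hr⟩
  have hrn : r ∣ n := by
    by_contra hrn
    obtain ⟨R, hwR⟩ := Cfsg.Agent.Lib.Helper7.exists_mem_sylow_of_orderOf w ⟨j, hj⟩
    exact hwZ (sylow_central h r hrn R hwR)
  obtain R : Sylow r G := default
  have hRle : (R : Subgroup G) ≤ Cen a := by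
    intro g hg
    by_cases hgZ : g ∈ center G
    · exact mem_cen.mpr (mem_center_iff.mp hgZ a).symm
    have hgo : ∃ e, orderOf g = r ^ e := Cfsg.Agent.Lib.Helper7.orderOf_of_mem_sylow R g hg
    have hNg := normalizer_cen_eq_top h hex h2 hsq r hr hgZ hgo
    have hNa := normalizer_cen_eq_top h hex h2 hsq q hq haZ hao
    have hcg : g * a * g⁻¹ * a⁻¹ ∈ Cen g := by
      have h1 : a * g⁻¹ * a⁻¹ ∈ Cen g := by
        have : a ∈ normalizer ((Cen g : Subgroup G) : Set G) := by rw [hNg]; trivial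
        exact (mem_normalizer_iff.mp this g⁻¹).mp (inv_mem (self_mem_cen g))
      have e : g * a * g⁻¹ * a⁻¹ = g * (a * g⁻¹ * a⁻¹) := by group
      rw [e]; exact mul_mem (self_mem_cen g) h1
    have hca : g * a * g⁻¹ * a⁻¹ ∈ Cen a := by
      have h1 : g * a * g⁻¹ ∈ Cen a := by
        have : g ∈ normalizer ((Cen a : Subgroup G) : Set G) := by rw [hNa]; trivial
        exact (mem_normalizer_iff.mp this a).mp (self_mem_cen a)
      exact mul_mem h1 (inv_mem (self_mem_cen a))
    by_cases hcZ : g * a * g⁻¹ * a⁻¹ ∈ center G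
    · have hz : ∀ t : G, Commute (g * a * g⁻¹ * a⁻¹) t :=
        fun t => (mem_center_iff.mp hcZ t).symm
      have hb : ∀ t : G, Commute (a ^ orderOf a) t := fun t => by
        rw [pow_orderOf_eq_one]; exact Commute.one_left t
      have h3 : g ^ orderOf a * a = a * g ^ orderOf a :=
        Cfsg.Agent.S4365.T hz (by group) (orderOf a) hb
      obtain ⟨e1, he1⟩ := hao
      obtain ⟨e2, he2⟩ := hgo
      have hcop : Nat.Coprime (orderOf a) (orderOf g) := by
        rw [he1, he2]; exact Nat.Coprime.pow _ _ ((Nat.coprime_primes hq hr).mpr hrq.symm)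
      obtain ⟨m, hm⟩ := exists_pow_eq_self_of_coprime hcop (x := g)
      rw [← hm]
      exact Subgroup.pow_mem _ (mem_cen.mpr h3) _
    · have e1 := cen_eq_of_mem h h2 r hr hgZ hgo hcg hcZ
      have e2 := cen_eq_of_mem h h2 q hq haZ hao hca hcZ
      rw [← e2, e1]; exact self_mem_cen g
  apply R.not_dvd_index
  have h9 := index_dvd_of_le hRle
  rw [idx_of_not_center h haZ] at h9
  exact dvd_trans hrn h9

theorem prime_pow {n : ℕ} (hn : 1 < n) (h : ∀ x : G, (Cen x).index = 1 ∨ (Cen x).index = n)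
    (hex : ∃ x : G, (Cen x).index = n) :
    ∃ (p : ℕ), p.Prime ∧ ∀ r : ℕ, r.Prime → r ∣ n → r = p := by
  by_contra hcon
  apply caseII_false hn h hex
  intro q hq x hx hxo
  by_contra hI
  apply hcon
  refine ⟨q, hq, ?_⟩
  exact caseI h hex q hx (fun r hr hrq w hw hwo => by
    by_contra hwZ
    exact hI ⟨r, hr, hrq, w, hw, hwo, hwZ⟩)

end

theorem result {G : Type*} [Group G] [Finite G] (n : ℕ) (hn : 1 < n)
    (h : ∀ x : G, (Subgroup.centralizer ({x} : Set G)).index = 1 ∨ (Subgroup.centralizer ({x} : Set G)).index = n) (hex : ∃ x : G, (Subgroup.centralizer ({x} : Set G)).index = n) :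
    ∃ (p : ℕ) (_ : Fact p.Prime) (a : ℕ), n = p ^ a ∧ ∀ P : Sylow p G, (P : Subgroup G).Normal ∧
      (∃ N : Subgroup G, N.Normal ∧ N.IsComplement' (P : Subgroup G) ∧ IsMulCommutative N ∧
        ∀ x ∈ N, ∀ y ∈ (P : Subgroup G), x * y = y * x) ∧
      ∃ A : Subgroup (P : Subgroup G), A.Normal ∧ IsMulCommutative A ∧ ∀ y : (P : Subgroup G), y ^ p ∈ A := by
  obtain ⟨p, hp, hpu⟩ := prime_pow hn h hex
  haveI : Fact p.Prime := ⟨hp⟩
  have hn0 : n ≠ 0 := by omega
  have hna : n = p ^ n.primeFactorsList.length :=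
    Nat.eq_prime_pow_of_unique_prime_dvd hn0 (fun {d} hd hdn => hpu d hd hdn)
  have ha1 : 1 ≤ n.primeFactorsList.length := by
    rcases Nat.eq_zero_or_pos n.primeFactorsList.length with h0 | h0
    · rw [h0, pow_zero] at hna; omega
    · exact h0
  have hpn : p ∣ n := by
    rw [hna]; exact dvd_pow_self p (by omega)
  obtain ⟨b, hb⟩ : ∃ b, (center G).index = p ^ b := by
    refine ⟨_, Nat.eq_prime_pow_of_unique_prime_dvd index_ne_zero_of_finite
      (fun {d} hd hdn => ?_)⟩
    by_contra hne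
    haveI : Fact d.Prime := ⟨hd⟩
    obtain Q : Sylow d G := default
    have hdn' : ¬ d ∣ n := fun hh => hne (hpu d hd hh)
    have hQ := sylow_central h d hdn' Q
    exact Q.not_dvd_index (dvd_trans hdn (index_dvd_of_le hQ))
  have hGnil : Group.IsNilpotent G := by
    apply Group.of_quotient_center_nilpotent
    have hpq : IsPGroup p (G ⧸ center G) :=
      IsPGroup.of_card (by rw [← Subgroup.index_eq_card]; exact hb)
    exact hpq.isNilpotent
  haveI := hGnil
  have hp'cen : ∀ x : G, Nat.Coprime (orderOf x) p → x ∈ center G := by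
    intro x hx
    have h1 : x ^ (center G).index ∈ center G := Subgroup.pow_index_mem _ x
    rw [hb] at h1
    have hcop : Nat.Coprime (p ^ b) (orderOf x) := Nat.Coprime.pow_left b hx.symm
    obtain ⟨m, hm⟩ := exists_pow_eq_self_of_coprime hcop (x := x)
    rw [← hm]; exact Subgroup.pow_mem _ h1 _
  refine ⟨p, ⟨hp⟩, n.primeFactorsList.length, hna, ?_⟩
  intro P
  haveI hPn : (P : Subgroup G).Normal := inferInstance
  obtain ⟨P', N, hNn, hNc⟩ := Cfsg.Agent.Lib.Lead.nilpotent_hasNormalPComplement p hGnil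
  haveI : Subsingleton (Sylow p G) := (Sylow.unique_of_normal P hPn).instSubsingleton
  obtain rfl : P' = P := Subsingleton.elim _ _
  have hNcen : N ≤ center G := by
    intro x hx
    apply hp'cen
    have h1 : orderOf x ∣ Nat.card N := by
      have h3 := orderOf_dvd_natCard (⟨x, hx⟩ : N)
      rw [← Subgroup.orderOf_coe] at h3
      exact h3
    have h2 : ¬ p ∣ Nat.card N := by
      rw [← hNc.index_eq_card]; exact P'.not_dvd_index
    exact Nat.Coprime.coprime_dvd_left h1 ((Nat.Prime.coprime_iff_not_dvd hp).mpr h2).symm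
  refine ⟨hPn, ⟨N, hNn, hNc, ?_, ?_⟩, ?_⟩
  · exact ⟨⟨fun x y => Subtype.ext ((mem_center_iff.mp (hNcen x.2) (y : G)).symm)⟩⟩
  · intro x hx y hy
    exact (mem_center_iff.mp (hNcen hx) y).symm
  · refine ⟨center (P' : Subgroup G), inferInstance, inferInstance, ?_⟩
    intro y
    apply Cfsg.Agent.S4365.result p P'.isPGroup' n.primeFactorsList.length ha1
    have key : ∀ x : (P' : Subgroup G),
        (centralizer ({x} : Set (P' : Subgroup G))).index = (Cen (x : G)).index := by
      intro x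
      have e1 : centralizer ({x} : Set (P' : Subgroup G)) =
          (Cen (x : G)).subgroupOf (P' : Subgroup G) := by
        ext t
        rw [mem_centralizer_singleton_iff, mem_subgroupOf, mem_cen, Subtype.ext_iff]
        rfl
      rw [e1]
      have e2 := Cfsg.Agent.Lib.Helper7.relIndex_sup_eq_of_le_normalizer (Cen (x : G))
        (P' : Subgroup G) (by rw [normalizer_eq_top_iff.mpr hPn]; exact le_top)
      have e3 : Cen (x : G) ⊔ (P' : Subgroup G) = ⊤ := by
        rw [eq_top_iff, ← hNc.sup_eq_top]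
        exact sup_le_sup_right (le_trans hNcen (center_le_centralizer _)) _
      rw [e3, relIndex_top_right] at e2
      exact e2.symm
    ext k
    simp only [Set.mem_setOf_eq, Set.mem_insert_iff, Set.mem_singleton_iff]
    constructor
    · rintro ⟨x, rfl⟩
      rw [key x]
      rcases h (x : G) with h1 | h1
      · left; exact h1
      · right; rw [← hna]; exact h1
    · rintro (rfl | rfl)
      · refine ⟨1, ?_⟩
        rw [key 1, index_eq_one, eq_top_iff]
        intro g _
        rw [mem_cen]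
        simp
      · obtain ⟨u, huP, huZ⟩ := SetLike.not_le_iff_exists.mp (sylow_not_central hex p hpn P')
        refine ⟨⟨u, huP⟩, ?_⟩
        rw [key ⟨u, huP⟩, ← hna]
        exact idx_of_not_center h huZ

end Cfsg.Agent.S4134
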