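import Cfsg.Statements.S4244
import Mathlib

set_option autoImplicit false
open Cfsg

namespace Cfsg.Agent.S4244

/-- For a normal subgroup `N` of a finite group, `[N : N ∩ K]` divides `[G : K]`. -/
theorem relIndex_normal_dvd_index {G : Type*} [Group G] [Finite G] (N K : Subgroup G) [N.Normal] :
    K.relIndex N ∣ K.index := by
  have h1 : K.relIndex (K ⊔ N) ∣ K.index := Subgroup.relIndex_dvd_index_of_le le_sup_left
  have h2 : N.relIndex (K ⊔ N) = N.relIndex K := Subgroup.relIndex_sup_right K N
  have h3 := Subgroup.relIndex_mul_relIndex (K ⊓ N) K (K ⊔ N) inf_le_left le_sup_left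
  have h4 := Subgroup.relIndex_mul_relIndex (K ⊓ N) N (K ⊔ N) inf_le_right le_sup_right
  rw [Subgroup.inf_relIndex_left] at h3
  rw [Subgroup.inf_relIndex_right, h2] at h4
  have h5 : N.relIndex K * K.relIndex (K ⊔ N) = N.relIndex K * K.relIndex N := by
    rw [h3, ← h4, mul_comm]
  have h6 : N.relIndex K ≠ 0 := by
    have : (N.subgroupOf K).FiniteIndex := inferInstance
    exact this.index_ne_zero
  rw [← Nat.eq_of_mul_eq_mul_left (Nat.pos_of_ne_zero h6) h5]
  exact h1

/-- Let H be a subnormal subgroup of a finite group G. Then for every subgroup K of G the index of H ∩ K in H divides the index of K in G. -/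
theorem result {G : Type*} [Group G] [Finite G] (H : Subgroup G) (hH : H.IsSubnormal) (K : Subgroup G) :
    (H ⊓ K).relIndex H ∣ K.index := by
  rw [Subgroup.inf_relIndex_left]
  induction hH with
  | top => rw [Subgroup.relIndex_top_right]
  | step H M hle hsub hN ih =>
    have h1 := relIndex_normal_dvd_index (H.subgroupOf M) (K.subgroupOf M)
    rw [Subgroup.relIndex_subgroupOf hle] at h1
    exact h1.trans ih

end Cfsg.Agent.S4244
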