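import Cfsg.Statements.S4153
import Mathlib
import Cfsg.Agent.Lib.Helper7.SylowAux
import Cfsg.Agent.S4244

set_option autoImplicit false
open Cfsg

namespace Cfsg.Agent.S4153

open Cfsg.Agent.Lib.Helper7

theorem pel_of_pow_eq_one {G : Type*} [Monoid G] {p : ℕ} (hp : p.Prime) (g : G) (e : ℕ)
    (h : g ^ (p ^ e) = 1) : ∃ k : ℕ, orderOf g = p ^ k := by
  obtain ⟨m, -, hm⟩ := (Nat.dvd_prime_pow hp).mp (orderOf_dvd_of_pow_eq_one h)
  exact ⟨m, hm⟩

theorem factorization_of_eq {p n j r : ℕ} (hp : p.Prime) (h : n = p ^ j * r) (hr : ¬ p ∣ r) :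
    n.factorization p = j := by
  have hr0 : r ≠ 0 := fun h0 => hr (h0 ▸ dvd_zero p)
  rw [h, Nat.factorization_mul (pow_ne_zero _ hp.ne_zero) hr0, Nat.Prime.factorization_pow hp]
  simp [Nat.factorization_eq_zero_of_not_dvd hr]

theorem card_sylow_inf_normal {G : Type*} [Group G] [Finite G] {p : ℕ} [Fact p.Prime]
    (Q : Sylow p G) (N : Subgroup G) [N.Normal] :
    Nat.card ((Q : Subgroup G) ⊓ N : Subgroup G) = p ^ (Nat.card N).factorization p := by
  have hp : p.Prime := Fact.out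
  have hpg : IsPGroup p ((Q : Subgroup G) ⊓ N : Subgroup G) := IsPGroup.to_le Q.2 inf_le_left
  obtain ⟨j, hj⟩ := IsPGroup.iff_card.mp hpg
  have h1 : ¬ p ∣ ((Q : Subgroup G) ⊓ N).relIndex N := by
    rw [Subgroup.inf_relIndex_right]
    intro hdvd
    exact Q.not_dvd_index (hdvd.trans (Cfsg.Agent.S4244.relIndex_normal_dvd_index N (Q : Subgroup G)))
  have h2 := Subgroup.relIndex_mul_relIndex ⊥ ((Q : Subgroup G) ⊓ N) N bot_le inf_le_right
  rw [Subgroup.relIndex_bot_left, Subgroup.relIndex_bot_left, hj] at h2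
  rw [hj, factorization_of_eq hp h2.symm h1]

theorem exists_pel_lift {G : Type*} [Group G] [Finite G] {p : ℕ} [Fact p.Prime]
    (N : Subgroup G) [N.Normal] (q : G ⧸ N) (hq : ∃ k : ℕ, orderOf q = p ^ k) :
    ∃ y : G, (∃ k : ℕ, orderOf y = p ^ k) ∧ (y : G ⧸ N) = q := by
  have hp : p.Prime := Fact.out
  obtain ⟨k, hk⟩ := hq
  obtain ⟨x, rfl⟩ := QuotientGroup.mk_surjective q
  obtain ⟨e, m, hm, hn⟩ := Nat.exists_eq_pow_mul_and_not_dvd (orderOf_pos x).ne' p hp.ne_one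
  have hcop : Nat.Coprime m (p ^ k) := Nat.Coprime.pow_right k ((Nat.Prime.coprime_iff_not_dvd hp).mpr hm).symm
  have hb := Nat.gcd_eq_gcd_ab m (p ^ k)
  rw [hcop] at hb
  refine ⟨(x ^ m) ^ (Nat.gcdA m (p ^ k)), ?_, ?_⟩
  · apply pel_of_pow_eq_one hp _ e
    have h0 : (x ^ m) ^ (p ^ e) = 1 := by rw [← pow_mul, mul_comm, ← hn, pow_orderOf_eq_one]
    rw [← zpow_natCast, ← zpow_mul, mul_comm, zpow_mul, zpow_natCast, h0, one_zpow]
  · rw [QuotientGroup.mk_zpow, QuotientGroup.mk_pow]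
    have h1 : ((x : G ⧸ N) ^ m) ^ (Nat.gcdA m (p ^ k)) * ((x : G ⧸ N) ^ (p ^ k)) ^ (Nat.gcdB m (p ^ k)) = (x : G ⧸ N) := by
      rw [← zpow_natCast, ← zpow_natCast, ← zpow_mul, ← zpow_mul, ← zpow_add, ← hb]
      simp
    have h2 : (x : G ⧸ N) ^ (p ^ k) = 1 := by rw [← hk, pow_orderOf_eq_one]
    rw [h2, one_zpow, mul_one] at h1
    exact h1

theorem fiber_lower {G : Type*} [Group G] [Finite G] {p : ℕ} [Fact p.Prime]
    (N : Subgroup G) [N.Normal] (q : G ⧸ N) (hq : ∃ k : ℕ, orderOf q = p ^ k) :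
    p ^ (Nat.card N).factorization p ≤ Nat.card {g : G // (∃ k : ℕ, orderOf g = p ^ k) ∧ (g : G ⧸ N) = q} := by
  obtain ⟨y, hy, hyq⟩ := exists_pel_lift N q hq
  obtain ⟨Q, hQ⟩ := exists_mem_sylow_of_orderOf y hy
  rw [← card_sylow_inf_normal Q N]
  let φ : ((Q : Subgroup G) ⊓ N : Subgroup G) → {g : G // (∃ k : ℕ, orderOf g = p ^ k) ∧ (g : G ⧸ N) = q} :=
    fun m => ⟨y * (m : G), orderOf_of_mem_sylow Q _ (Q.mul_mem hQ (Subgroup.mem_inf.mp m.2).1), by
      rw [QuotientGroup.mk_mul, hyq, (QuotientGroup.eq_one_iff (m : G)).mpr (Subgroup.mem_inf.mp m.2).2, mul_one]⟩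
  apply Nat.card_le_card_of_injective φ
  intro a b hab
  have := congrArg Subtype.val hab
  exact Subtype.ext (mul_left_cancel this)

theorem fiber_upper {G : Type*} [Group G] [Finite G] {p : ℕ} [Fact p.Prime]
    (N : Subgroup G) [N.Normal] (hN : N ≤ Subgroup.center G) (q : G ⧸ N) :
    Nat.card {g : G // (∃ k : ℕ, orderOf g = p ^ k) ∧ (g : G ⧸ N) = q} ≤ p ^ (Nat.card N).factorization p := by
  have hp : p.Prime := Fact.out
  rcases isEmpty_or_nonempty {g : G // (∃ k : ℕ, orderOf g = p ^ k) ∧ (g : G ⧸ N) = q} with hemp | ⟨⟨y, ⟨a, hya⟩, hyq⟩⟩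
  · rw [Nat.card_of_isEmpty]; exact Nat.zero_le _
  · obtain ⟨Q⟩ : Nonempty (Sylow p G) := inferInstance
    rw [← card_sylow_inf_normal Q N]
    have key : ∀ g : {g : G // (∃ k : ℕ, orderOf g = p ^ k) ∧ (g : G ⧸ N) = q}, y⁻¹ * (g : G) ∈ ((Q : Subgroup G) ⊓ N : Subgroup G) := by
      rintro ⟨g, ⟨b, hgb⟩, hgq⟩
      have hmN : y⁻¹ * g ∈ N := by
        rw [← QuotientGroup.eq, hyq, hgq]
      have hmc : y⁻¹ * g ∈ Subgroup.center G := hN hmN
      have hcomm : Commute y (y⁻¹ * g) := Subgroup.mem_center_iff.mp hmc y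
      have hpow : (y⁻¹ * g) ^ (p ^ (a + b)) = 1 := by
        have h1 : g ^ (p ^ (a + b)) = y ^ (p ^ (a + b)) * (y⁻¹ * g) ^ (p ^ (a + b)) := by
          rw [← hcomm.mul_pow, mul_inv_cancel_left]
        have h2 : g ^ (p ^ (a + b)) = 1 := by
          rw [pow_add, mul_comm, pow_mul, ← hgb, pow_orderOf_eq_one, one_pow]
        have h3 : y ^ (p ^ (a + b)) = 1 := by
          rw [pow_add, pow_mul, ← hya, pow_orderOf_eq_one, one_pow]
        rw [h2, h3, one_mul] at h1
        exact h1.symm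
      have hpel := pel_of_pow_eq_one hp _ _ hpow
      obtain ⟨Q', hQ'⟩ := exists_mem_sylow_of_orderOf _ hpel
      obtain ⟨h, rfl⟩ := MulAction.exists_smul_eq G Q Q'
      rw [mem_sylow_smul_iff] at hQ'
      have h4 : h⁻¹ * (y⁻¹ * g) * h = y⁻¹ * g := by
        rw [mul_assoc, ← Subgroup.mem_center_iff.mp hmc h, inv_mul_cancel_left]
      rw [h4] at hQ'
      exact Subgroup.mem_inf.mpr ⟨hQ', hmN⟩
    let φ : {g : G // (∃ k : ℕ, orderOf g = p ^ k) ∧ (g : G ⧸ N) = q} → ((Q : Subgroup G) ⊓ N : Subgroup G) :=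
      fun g => ⟨y⁻¹ * (g : G), key g⟩
    apply Nat.card_le_card_of_injective φ
    intro g1 g2 h12
    have := congrArg Subtype.val h12
    exact Subtype.ext (mul_left_cancel this)

theorem card_pel_eq_sum {G : Type*} [Group G] [Finite G] {p : ℕ} [Fact p.Prime]
    (N : Subgroup G) [N.Normal] [Fintype (G ⧸ N)] [DecidablePred (fun q : G ⧸ N => ∃ k : ℕ, orderOf q = p ^ k)] :
    Nat.card {g : G // ∃ k : ℕ, orderOf g = p ^ k} =
      ∑ q ∈ Finset.univ.filter (fun q : G ⧸ N => ∃ k : ℕ, orderOf q = p ^ k),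
        Nat.card {g : G // (∃ k : ℕ, orderOf g = p ^ k) ∧ (g : G ⧸ N) = q} := by
  classical
  have hp : p.Prime := Fact.out
  have : Fintype G := Fintype.ofFinite G
  have h1 : Nat.card {g : G // ∃ k : ℕ, orderOf g = p ^ k}
      = (Finset.univ.filter (fun g : G => ∃ k : ℕ, orderOf g = p ^ k)).card := by
    rw [Nat.card_eq_fintype_card, Fintype.card_subtype]
  have h2 : ∀ q : G ⧸ N, Nat.card {g : G // (∃ k : ℕ, orderOf g = p ^ k) ∧ (g : G ⧸ N) = q}
      = ((Finset.univ.filter (fun g : G => ∃ k : ℕ, orderOf g = p ^ k)).filter (fun g : G => (g : G ⧸ N) = q)).card := by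
    intro q
    rw [Nat.card_eq_fintype_card, Fintype.card_subtype, Finset.filter_filter]
  rw [h1]
  simp_rw [h2]
  apply Finset.card_eq_sum_card_fiberwise
  intro g hg
  have hg' : ∃ k : ℕ, orderOf g = p ^ k := by simpa using hg
  obtain ⟨k, hk⟩ := hg'
  have hdvd : orderOf (g : G ⧸ N) ∣ p ^ k := by
    rw [← hk]; exact orderOf_map_dvd (QuotientGroup.mk' N) g
  obtain ⟨m, -, hm⟩ := (Nat.dvd_prime_pow hp).mp hdvd
  simp only [Finset.coe_filter, Finset.mem_univ, true_and, Set.mem_ofPred_eq]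
  exact ⟨m, hm⟩

/-- Let G be a finite group, p a prime, N a normal subgroup, P a Sylow p-subgroup of G and P̄ a Sylow p-subgroup of G/N. Count the elements of p-power order, the identity included. Then (number of such elements of G/N)/#P̄ ≤ (number of such elements of G)/#P, stated as a cross-multiplied inequality, with equality when N is central. -/
theorem result {G : Type*} [Group G] [Finite G] (p : ℕ) [Fact p.Prime] (N : Subgroup G) [N.Normal]
    (P : Sylow p G) (Pbar : Sylow p (G ⧸ N)) :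
    Nat.card {g : (G ⧸ N) // ∃ k : ℕ, orderOf g = p ^ k} * Nat.card (P : Subgroup G) ≤ Nat.card {g : G // ∃ k : ℕ, orderOf g = p ^ k} * Nat.card (Pbar : Subgroup (G ⧸ N)) ∧
    (N ≤ Subgroup.center G → Nat.card {g : (G ⧸ N) // ∃ k : ℕ, orderOf g = p ^ k} * Nat.card (P : Subgroup G) = Nat.card {g : G // ∃ k : ℕ, orderOf g = p ^ k} * Nat.card (Pbar : Subgroup (G ⧸ N))) := by
  classical
  have hp : p.Prime := Fact.out
  have : Fintype (G ⧸ N) := Fintype.ofFinite _
  have hA : Nat.card (P : Subgroup G) = Nat.card (Pbar : Subgroup (G ⧸ N)) * p ^ (Nat.card N).factorization p := by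
    rw [P.card_eq_multiplicity, Pbar.card_eq_multiplicity, ← pow_add,
      Subgroup.card_eq_card_quotient_mul_card_subgroup N,
      Nat.factorization_mul Nat.card_pos.ne' Nat.card_pos.ne']
    rfl
  have hQ : Nat.card {g : (G ⧸ N) // ∃ k : ℕ, orderOf g = p ^ k}
      = (Finset.univ.filter (fun q : G ⧸ N => ∃ k : ℕ, orderOf q = p ^ k)).card := by
    rw [Nat.card_eq_fintype_card, Fintype.card_subtype]
  have hD := card_pel_eq_sum (p := p) N
  constructor
  · have hlow : (Finset.univ.filter (fun q : G ⧸ N => ∃ k : ℕ, orderOf q = p ^ k)).card • p ^ (Nat.card N).factorization p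
        ≤ ∑ q ∈ Finset.univ.filter (fun q : G ⧸ N => ∃ k : ℕ, orderOf q = p ^ k),
        Nat.card {g : G // (∃ k : ℕ, orderOf g = p ^ k) ∧ (g : G ⧸ N) = q} := by
      apply Finset.card_nsmul_le_sum
      intro q hq
      exact fiber_lower N q (by simpa using hq)
    rw [← hD, ← hQ, smul_eq_mul] at hlow
    rw [hA]
    calc Nat.card {g : (G ⧸ N) // ∃ k : ℕ, orderOf g = p ^ k} * (Nat.card (Pbar : Subgroup (G ⧸ N)) * p ^ (Nat.card N).factorization p)
        = (Nat.card {g : (G ⧸ N) // ∃ k : ℕ, orderOf g = p ^ k} * p ^ (Nat.card N).factorization p) * Nat.card (Pbar : Subgroup (G ⧸ N)) := by ring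
      _ ≤ _ := Nat.mul_le_mul_right _ hlow
  · intro hN
    have heq : ∑ q ∈ Finset.univ.filter (fun q : G ⧸ N => ∃ k : ℕ, orderOf q = p ^ k),
        Nat.card {g : G // (∃ k : ℕ, orderOf g = p ^ k) ∧ (g : G ⧸ N) = q}
        = (Finset.univ.filter (fun q : G ⧸ N => ∃ k : ℕ, orderOf q = p ^ k)).card • p ^ (Nat.card N).factorization p := by
      apply Finset.sum_eq_card_nsmul
      intro q hq
      exact le_antisymm (fiber_upper N hN q) (fiber_lower N q (by simpa using hq))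
    rw [← hD, ← hQ, smul_eq_mul] at heq
    rw [hA, heq]
    ring

end Cfsg.Agent.S4153
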