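import Cfsg.Statements.S4189
import Mathlib
import Cfsg.Agent.S4399
import Cfsg.Agent.Lib.Lead.Class2
import Cfsg.Agent.Lib.Helper5.AutDih5

set_option autoImplicit false
open Cfsg

namespace Cfsg.Agent.S4189

/-- the automorphism group of a generalized quaternion group of order at least 16 is a 2-group -/
theorem aut_quaternion (k : ℕ) : IsPGroup 2 (MulAut (QuaternionGroup (2 ^ (k + 2)))) := by
  haveI : NeZero (2 ^ (k + 2)) := ⟨by positivity⟩
  apply Lib.Helper5.aut_isPGroup_two5 (k + 3) (QuaternionGroup.a 1) (QuaternionGroup.xa 0) _ _ _ 4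
  · intro j
    rw [QuaternionGroup.a_one_pow, QuaternionGroup.a_mul_xa, QuaternionGroup.xa_pow_four]
  · intro hd
    have h1 := Nat.le_of_dvd (by norm_num) hd
    have h2 : 2 ^ 3 ≤ 2 ^ (k + 3) := Nat.pow_le_pow_right (by norm_num) (by omega)
    omega
  · rw [QuaternionGroup.orderOf_a_one, ← pow_succ']
  · rw [Nat.card_eq_fintype_card, QuaternionGroup.card]
    have : (4 : ℕ) = 2 ^ 2 := by norm_num
    rw [this, ← pow_add]; congr 1; omega
  · intro h
    obtain ⟨j, hj⟩ := S4399.exists_nat_pow h
    rw [QuaternionGroup.a_one_pow] at hj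
    exact absurd hj (by simp)

/-- Let P be a finite non-abelian 2-group whose commutator subgroup has index 4 and whose automorphism group is not a 2-group (some automorphism has order that is not a power of 2). Then P is isomorphic to the quaternion group of order 8. -/
theorem result {P : Type*} [Group P] [Finite P] (hP : IsPGroup 2 P) (hna : ¬ IsMulCommutative P) (h4 : (commutator P).index = 4) (haut : ¬ IsPGroup 2 (MulAut P)) : Nonempty (P ≃* QuaternionGroup 2) := by
  have hab : Nat.card (Abelianization P) = 4 := by rw [← h4, Subgroup.index_eq_card]; rfl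
  have hexp : ∀ x : Abelianization P, x ^ 2 = 1 := by
    by_contra hne
    push Not at hne
    obtain ⟨xb, hxb⟩ := hne
    apply hna
    -- xb has order 4, so generates the abelianization
    have hdvd : orderOf xb ∣ 2 ^ 2 := by
      have := orderOf_dvd_natCard xb
      rw [hab] at this
      exact this
    obtain ⟨j, hj, hoj⟩ := (Nat.dvd_prime_pow Nat.prime_two).1 hdvd
    have hj2 : j = 2 := by
      by_contra hlt
      apply hxb
      have : orderOf xb ∣ 2 := by
        rw [hoj]
        have : j = 0 ∨ j = 1 := by omega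
        rcases this with rfl | rfl <;> norm_num
      exact orderOf_dvd_iff_pow_eq_one.1 this
    subst hj2
    have htop : Subgroup.zpowers xb = ⊤ := by
      apply Subgroup.eq_top_of_card_eq
      rw [Nat.card_zpowers, hoj, hab]; norm_num
    obtain ⟨x, hx⟩ : ∃ x : P, Abelianization.of x = xb := QuotientGroup.mk_surjective xb
    have hsup : Subgroup.zpowers x ⊔ commutator P = ⊤ := by
      refine eq_top_iff.2 fun g _ => ?_
      have hg : Abelianization.of g ∈ Subgroup.zpowers xb := by
        rw [htop]; exact Subgroup.mem_top _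
      obtain ⟨i, hi⟩ := S4399.exists_nat_pow hg
      have h2 : (x ^ i)⁻¹ * g ∈ commutator P := by
        rw [← Abelianization.ker_of, MonoidHom.mem_ker, map_mul, map_inv, map_pow, hx, hi,
          inv_mul_cancel]
      have h3 : g = x ^ i * ((x ^ i)⁻¹ * g) := by group
      rw [h3]
      exact Subgroup.mul_mem_sup (Subgroup.pow_mem _ (Subgroup.mem_zpowers x) i) h2
    have hsup2 : Subgroup.zpowers x ⊔ frattini P = ⊤ := by
      refine eq_top_iff.2 ?_
      rw [← hsup]
      exact sup_le_sup_left (Lib.Lead.commutator_le_frattini_of_pGroup hP) _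
    have hx := frattini_nongenerating hsup2
    refine ⟨⟨fun a b => ?_⟩⟩
    have ha : a ∈ Subgroup.zpowers x := by rw [hx]; exact Subgroup.mem_top a
    have hb : b ∈ Subgroup.zpowers x := by rw [hx]; exact Subgroup.mem_top b
    obtain ⟨i, rfl⟩ := S4399.exists_nat_pow ha
    obtain ⟨j, rfl⟩ := S4399.exists_nat_pow hb
    exact (Commute.pow_pow_self x i j).eq
  rcases S4399.result hP hab hexp with h | ⟨k, ⟨e⟩⟩ | ⟨k, hcard, a, b, ha, hb, hrel⟩ | ⟨k, ⟨e⟩⟩
  · exfalso
    apply hna
    exact IsPGroup.isMulCommutative_of_card_eq_prime_sq (p := 2) (by rw [h]; norm_num)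
  · exfalso
    apply haut
    refine Lib.Helper5.autDih_main5 hP (Or.inl ⟨2 ^ (k + 2), ?_, ⟨e⟩⟩)
    have : 2 ^ 2 ≤ 2 ^ (k + 2) := Nat.pow_le_pow_right (by norm_num) (by omega)
    omega
  · exfalso
    apply haut
    refine Lib.Helper5.autDih_main5 hP (Or.inr ⟨k + 3, by omega, hcard, a, b, ha, hb, ?_⟩)
    rw [hrel]
    congr 1
  · rcases k with _ | k
    · exact ⟨e⟩
    · exfalso
      apply haut
      exact (aut_quaternion k).of_equiv (MulAut.congr e).symm

end Cfsg.Agent.S4189
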