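import Mathlib
import Cfsg.Statements.S4218
import Cfsg.Agent.Lib.Helper6.PSolv
import Cfsg.Agent.Lib.Helper6.Index
import Cfsg.Agent.Lib.Helper3.Frat
import Cfsg.Agent.Lib.Helper3.PPrimeCore
import Cfsg.Agent.Lib.Helper2.PComp
import Cfsg.Agent.Lib.Helper4.PCore
import Cfsg.Agent.Lib.Lead.Class2
import Cfsg.Agent.Lib.Lead.CoprimeAction2
import Cfsg.Agent.Lib.Helper7.SylowIndex

set_option autoImplicit false
universe u
open Cfsg

namespace Cfsg.Agent.S4218

open Subgroup
open scoped commutatorElement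
open Cfsg.Agent.Lib.Helper7

theorem relIndex_map_mk_dvd {G : Type*} [Group G] (N A B : Subgroup G) [N.Normal] [A.Normal]
    (hAB : A ≤ B) :
    (A.map (QuotientGroup.mk' N)).relIndex (B.map (QuotientGroup.mk' N)) ∣ A.relIndex B := by
  have e1 : A.map (QuotientGroup.mk' N) = (A ⊔ N).map (QuotientGroup.mk' N) := by
    rw [Subgroup.map_sup, QuotientGroup.map_mk'_self, sup_bot_eq]
  have e2 : B.map (QuotientGroup.mk' N) = (B ⊔ N).map (QuotientGroup.mk' N) := by
    rw [Subgroup.map_sup, QuotientGroup.map_mk'_self, sup_bot_eq]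
  rw [e1, e2, Cfsg.Agent.Lib.Helper6.relIndex_map_mk_of_le N (A ⊔ N) (B ⊔ N) le_sup_right]
  have e3 : B ⊔ N = B ⊔ (A ⊔ N) := by rw [← sup_assoc, sup_eq_left.mpr hAB]
  rw [e3, Subgroup.relIndex_sup_right]
  exact Subgroup.relIndex_dvd_of_le_left B le_sup_left

/-- Quotients of `p`-solvable groups are `p`-solvable. -/
theorem isPSolvable_quotient {G : Type u} [Group G] {p : ℕ} [Fact p.Prime]
    (N : Subgroup G) [N.Normal] (h : Cfsg.IsPSolvable p G) : Cfsg.IsPSolvable p (G ⧸ N) := by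
  obtain ⟨n, H, h0, hlast, hmono, hnorm, hfac⟩ := h
  have hs := QuotientGroup.mk'_surjective N
  refine ⟨n, fun i => (H i).map (QuotientGroup.mk' N), ?_, ?_, ?_, ?_, ?_⟩
  · show (H 0).map _ = ⊥
    rw [h0, Subgroup.map_bot]
  · show (H (Fin.last n)).map _ = ⊤
    rw [hlast]; exact Subgroup.map_top_of_surjective _ hs
  · intro i j hij; exact Subgroup.map_mono (hmono hij)
  · intro i; exact (hnorm i).map _ hs
  · intro i
    haveI := hnorm i.castSucc
    have hdvd : ((H i.castSucc).map (QuotientGroup.mk' N)).relIndex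
        ((H i.succ).map (QuotientGroup.mk' N)) ∣ (H i.castSucc).relIndex (H i.succ) :=
      relIndex_map_mk_dvd N _ _ (hmono (Fin.castSucc_lt_succ).le)
    rcases hfac i with ⟨m, hm⟩ | hc
    · left
      rw [hm] at hdvd
      obtain ⟨j, -, hj⟩ := (Nat.dvd_prime_pow Fact.out).mp hdvd
      exact ⟨j, hj⟩
    · right; exact Nat.Coprime.coprime_dvd_left hdvd hc

/-- Hall–Higman Lemma 1.2.3: in a `p`-solvable group with `O_{p'} = 1`, `C(O_p) ≤ O_p`. -/
theorem hh123 {H : Type u} [Group H] [Finite H] {p : ℕ} [Fact p.Prime]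
    (hps : Cfsg.IsPSolvable p H) (hO : Cfsg.pPrimeCore p H = ⊥) :
    Subgroup.centralizer (Cfsg.pCore p H : Set H) ≤ Cfsg.pCore p H := by
  obtain ⟨n, Hs, h0, hlast, hmono, hnorm, hfac⟩ := hps
  haveI hPn : (Cfsg.pCore p H).Normal := Cfsg.Agent.Lib.Helper4.pCore_normal p H
  have hPp : IsPGroup p (Cfsg.pCore p H) := Cfsg.Agent.Lib.Helper4.pCore_isPGroup p H
  obtain ⟨C, hC⟩ : ∃ C, C = Subgroup.centralizer (Cfsg.pCore p H : Set H) := ⟨_, rfl⟩
  have hCn : C.Normal := by rw [hC]; infer_instance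
  have key : ∀ i : Fin (n + 1), Hs i ⊓ C ≤ Cfsg.pCore p H := by
    intro i
    induction i using Fin.induction with
    | zero => rw [h0, bot_inf_eq]; exact bot_le
    | succ i ih =>
      have hle : Hs i.castSucc ≤ Hs i.succ := hmono (Fin.castSucc_lt_succ).le
      obtain ⟨D₀, hD₀⟩ : ∃ D₀, D₀ = Hs i.castSucc ⊓ C := ⟨_, rfl⟩
      obtain ⟨D, hD⟩ : ∃ D, D = Hs i.succ ⊓ C := ⟨_, rfl⟩
      rw [← hD₀] at ih; rw [← hD]
      have hDn : D.Normal := by
        rw [hD]; haveI := hnorm i.succ; haveI := hCn; infer_instance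
      have hD₀D : D₀ ≤ D := by rw [hD₀, hD]; exact inf_le_inf_right C hle
      have hD₀p : IsPGroup p D₀ := hPp.to_le ih
      have hdvd : D₀.relIndex D ∣ (Hs i.castSucc).relIndex (Hs i.succ) := by
        have e : D₀.relIndex D = (Hs i.castSucc).relIndex D := by
          rw [← Subgroup.inf_relIndex_right (Hs i.castSucc) D]
          congr 1
          rw [hD₀, hD, ← inf_assoc, inf_eq_left.mpr hle]
        rw [e]
        apply Cfsg.Agent.Lib.Helper6.relIndex_dvd_of_normal_in _ _ _ (by rw [hD]; exact inf_le_left)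
        exact le_of_le_of_eq le_top (normalizer_eq_top (H := D)).symm
      have hcardD : Nat.card D = Nat.card D₀ * D₀.relIndex D := by
        have := card_inf_mul_relIndex D₀ D
        rw [inf_eq_left.mpr hD₀D] at this
        exact this.symm
      rcases hfac i with ⟨m, hm⟩ | hc
      · rw [hm] at hdvd
        obtain ⟨j, -, hj⟩ := (Nat.dvd_prime_pow Fact.out).mp hdvd
        obtain ⟨a, ha⟩ := IsPGroup.iff_card.mp hD₀p
        have : IsPGroup p D := IsPGroup.of_card (n := a + j) (by rw [hcardD, ha, hj, pow_add])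
        exact le_sSup ⟨hDn, this⟩
      · have hcop : (D₀.relIndex D).Coprime p := Nat.Coprime.coprime_dvd_left hdvd hc
        obtain ⟨Z, hZ⟩ : ∃ Z : Subgroup ↥D, Z = D₀.subgroupOf D := ⟨_, rfl⟩
        have hZp : IsPGroup p Z := by rw [hZ]; exact hD₀p.comap_subtype
        have hZc : Z ≤ Subgroup.center ↥D := by
          intro z hz
          rw [Subgroup.mem_center_iff]
          intro d
          apply Subtype.ext
          have hz' : (z : H) ∈ Cfsg.pCore p H := ih (by rw [hZ] at hz; exact hz)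
          have hDC : D ≤ C := by rw [hD]; exact inf_le_right
          have hd' : (d : H) ∈ C := hDC d.2
          rw [hC, Subgroup.mem_centralizer_iff] at hd'
          exact (hd' _ hz').symm
        have hmax : ∀ T : Subgroup ↥D, IsPGroup p T → Z ≤ T → T = Z := by
          intro T hT hZT
          symm
          apply Subgroup.eq_of_le_of_card_ge hZT
          obtain ⟨b, hb⟩ := IsPGroup.iff_card.mp hT
          have h1 : Nat.card T ∣ Nat.card ↥D := Subgroup.card_subgroup_dvd_card T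
          have hZcard : Nat.card Z = Nat.card D₀ := by
            rw [hZ]; exact Nat.card_congr (Subgroup.subgroupOfEquivOfLe hD₀D).toEquiv
          rw [hcardD, ← hZcard] at h1
          have h2 : (Nat.card T).Coprime (D₀.relIndex D) := by
            rw [hb]; exact Nat.Coprime.pow_left b hcop.symm
          exact Nat.le_of_dvd Nat.card_pos (h2.dvd_of_dvd_mul_right h1)
        obtain ⟨h1, h2⟩ := Cfsg.Agent.Lib.Helper3.central_sylow_pPrimeCore Z hZp hZc hmax
        have h3 : (Cfsg.pPrimeCore p ↥D).map D.subtype ≤ Cfsg.pPrimeCore p H := by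
          apply Cfsg.Agent.Lib.Helper2.subnormal_pprime_le p _
            ((Cfsg.Agent.Lib.Helper3.pPrimeCore_normal p ↥D).isSubnormal.trans' hDn.isSubnormal)
          rw [← Nat.card_congr (Subgroup.equivMapOfInjective _ D.subtype
            D.subtype_injective).toEquiv]
          exact Cfsg.Agent.Lib.Helper3.pPrimeCore_coprime Fact.out ↥D
        rw [hO] at h3
        have h4 : Cfsg.pPrimeCore p ↥D = ⊥ :=
          (Subgroup.map_eq_bot_iff_of_injective _ D.subtype_injective).mp (le_bot_iff.mp h3)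
        rw [h4, bot_sup_eq] at h2
        intro d hd
        have : (⟨d, hd⟩ : ↥D) ∈ Z := by rw [h2]; exact Subgroup.mem_top _
        rw [hZ] at this
        exact ih this
  intro c hc
  have := key (Fin.last n)
  rw [hlast, top_inf_eq] at this
  exact this (by rw [hC]; exact hc)

/-- the preimage in `P` of the Frattini subgroup of `P/N` -/
def Fr {G : Type u} [Group G] (P N : Subgroup G) [N.Normal] : Subgroup G :=
  ((frattini (↥P ⧸ N.subgroupOf P)).comap (QuotientGroup.mk' (N.subgroupOf P))).map P.subtype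

theorem mem_Fr {G : Type u} [Group G] (P N : Subgroup G) [N.Normal] (x : G) :
    x ∈ Fr P N ↔ ∃ hx : x ∈ P,
      (QuotientGroup.mk' (N.subgroupOf P)) ⟨x, hx⟩ ∈ frattini (↥P ⧸ N.subgroupOf P) := by
  unfold Fr
  rw [Subgroup.mem_map]
  constructor
  · rintro ⟨x', hx', rfl⟩
    exact ⟨x'.2, hx'⟩
  · rintro ⟨hx, h⟩
    exact ⟨⟨x, hx⟩, h, rfl⟩

theorem Fr_le {G : Type u} [Group G] (P N : Subgroup G) [N.Normal] : Fr P N ≤ P :=
  fun x hx => ((mem_Fr P N x).mp hx).1

theorem Fr_normal {G : Type u} [Group G] (P N : Subgroup G) [hN : N.Normal] [hP : P.Normal] :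
    (Fr P N).Normal := by
  constructor
  intro f hf h
  rw [mem_Fr] at hf ⊢
  obtain ⟨hfP, hfr⟩ := hf
  refine ⟨hP.conj_mem f hfP h, ?_⟩
  let φ : ↥P →* ↥P := (MulAut.conjNormal h : MulAut ↥P).toMonoidHom
  have hle : N.subgroupOf P ≤ (N.subgroupOf P).comap φ := by
    intro n hn
    rw [Subgroup.mem_comap, Subgroup.mem_subgroupOf]
    show ((MulAut.conjNormal h : MulAut ↥P) n : G) ∈ N
    rw [MulAut.conjNormal_apply]
    exact hN.conj_mem _ (Subgroup.mem_subgroupOf.mp hn) h
  have hsurj : Function.Surjective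
      (QuotientGroup.map (N.subgroupOf P) (N.subgroupOf P) φ hle) := by
    apply QuotientGroup.map_surjective_of_surjective
    intro u
    obtain ⟨x, rfl⟩ := QuotientGroup.mk_surjective u
    refine ⟨(MulAut.conjNormal h : MulAut ↥P).symm x, ?_⟩
    show QuotientGroup.mk ((MulAut.conjNormal h : MulAut ↥P)
      ((MulAut.conjNormal h : MulAut ↥P).symm x)) = QuotientGroup.mk x
    rw [MulEquiv.apply_symm_apply]
  have h1 := frattini_le_comap_frattini_of_surjective hsurj hfr
  rw [Subgroup.mem_comap] at h1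
  have e : QuotientGroup.map (N.subgroupOf P) (N.subgroupOf P) φ hle
      (QuotientGroup.mk' (N.subgroupOf P) ⟨f, hfP⟩) =
      QuotientGroup.mk' (N.subgroupOf P) ⟨h * f * h⁻¹, hP.conj_mem f hfP h⟩ := by
    show QuotientGroup.mk' (N.subgroupOf P) (φ ⟨f, hfP⟩) = _
    congr 1
  rw [e] at h1
  exact h1

/-- the elements acting trivially on `P/F` -/
def Cc {G : Type u} [Group G] (P F : Subgroup G) [hP : P.Normal] [hF : F.Normal] : Subgroup G where
  carrier := {g | ∀ x ∈ P, g * x * g⁻¹ * x⁻¹ ∈ F}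
  one_mem' := by
    intro x _
    simp
  mul_mem' := by
    intro a b ha hb x hx
    have e : a * b * x * (a * b)⁻¹ * x⁻¹ =
        a * (b * x * b⁻¹ * x⁻¹) * a⁻¹ * (a * x * a⁻¹ * x⁻¹) := by group
    rw [e]
    exact F.mul_mem (hF.conj_mem _ (hb x hx) a) (ha x hx)
  inv_mem' := by
    intro a ha x hx
    have h1 := ha (a⁻¹ * x * a) (by have := hP.conj_mem x hx a⁻¹; rwa [inv_inv] at this)
    have e : a⁻¹ * x * a⁻¹⁻¹ * x⁻¹ = (a * (a⁻¹ * x * a) * a⁻¹ * (a⁻¹ * x * a)⁻¹)⁻¹ := by group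
    rw [e]; exact F.inv_mem h1

theorem Cc_normal {G : Type u} [Group G] (P F : Subgroup G) [hP : P.Normal] [hF : F.Normal] :
    (Cc P F).Normal := by
  constructor
  intro a ha h x hx
  have h1 := ha (h⁻¹ * x * h) (by have := hP.conj_mem x hx h⁻¹; rwa [inv_inv] at this)
  have e : h * a * h⁻¹ * x * (h * a * h⁻¹)⁻¹ * x⁻¹ =
      h * (a * (h⁻¹ * x * h) * a⁻¹ * (h⁻¹ * x * h)⁻¹) * h⁻¹ := by group
  rw [e]
  exact hF.conj_mem _ h1 h

theorem main {G : Type u} [Group G] [Finite G] {p : ℕ} [Fact p.Prime] (N P : Subgroup G)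
    [hN : N.Normal] [hP : P.Normal] (hNP : N ≤ P)
    (hPdef : ∀ x, x ∈ P ↔ QuotientGroup.mk' N x ∈ Cfsg.pCore p (G ⧸ N))
    (hcent : Subgroup.centralizer (Cfsg.pCore p (G ⧸ N) : Set (G ⧸ N)) ≤ Cfsg.pCore p (G ⧸ N))
    (hpow : ∀ k ∈ P, ∃ j : ℕ, k ^ p ^ j ∈ N) (g : G) :
    (∀ x ∈ P, g * x * g⁻¹ * x⁻¹ ∈ Fr P N) ↔ g ∈ P := by
  have hp : p.Prime := Fact.out
  have hQ : IsPGroup p (↥P ⧸ N.subgroupOf P) := by
    intro x
    induction x using QuotientGroup.induction_on with
    | H k =>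
      obtain ⟨j, hj⟩ := hpow k k.2
      refine ⟨j, ?_⟩
      rw [← QuotientGroup.mk_pow, QuotientGroup.eq_one_iff]
      exact hj
  constructor
  swap
  · intro hg x hx
    rw [mem_Fr]
    refine ⟨P.mul_mem (P.mul_mem (P.mul_mem hg hx) (P.inv_mem hg)) (P.inv_mem hx), ?_⟩
    apply Cfsg.Agent.Lib.Lead.commutator_le_frattini_of_pGroup hQ
    have e : (QuotientGroup.mk' (N.subgroupOf P))
        ⟨g * x * g⁻¹ * x⁻¹, P.mul_mem (P.mul_mem (P.mul_mem hg hx) (P.inv_mem hg)) (P.inv_mem hx)⟩ =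
        ⁅(QuotientGroup.mk' (N.subgroupOf P)) ⟨g, hg⟩,
          (QuotientGroup.mk' (N.subgroupOf P)) ⟨x, hx⟩⁆ := by
      rw [← map_commutatorElement]; rfl
    rw [e, _root_.commutator_def]
    exact Subgroup.commutator_mem_commutator (Subgroup.mem_top _) (Subgroup.mem_top _)
  · intro hyp
    haveI hFn : (Fr P N).Normal := Fr_normal P N
    have hgC : g ∈ Cc P (Fr P N) := hyp
    obtain ⟨T, hT⟩ : ∃ T, T = Cfsg.pCore p (G ⧸ N) := ⟨_, rfl⟩
    rw [← hT] at hPdef hcent
    haveI hTn : T.Normal := by rw [hT]; exact Cfsg.Agent.Lib.Helper4.pCore_normal p _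
    have hTp : IsPGroup p T := by rw [hT]; exact Cfsg.Agent.Lib.Helper4.pCore_isPGroup p _
    have hs := QuotientGroup.mk'_surjective N
    have claim1 : ∀ y ∈ Cc P (Fr P N), (orderOf y).Coprime p → y ∈ N := by
      intro y hyC hyo
      obtain ⟨yb, hyb⟩ : ∃ yb, yb = QuotientGroup.mk' N y := ⟨_, rfl⟩
      obtain ⟨A, hA⟩ : ∃ A, A = Subgroup.zpowers yb := ⟨_, rfl⟩
      have hAT : A ≤ normalizer (T : Set (G ⧸ N)) :=
        le_of_le_of_eq le_top (normalizer_eq_top (H := T)).symm
      have hybo : (orderOf yb).Coprime p := by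
        rw [hyb]; exact Nat.Coprime.coprime_dvd_left (orderOf_map_dvd _ y) hyo
      have hcop : (Nat.card A).Coprime (Nat.card T) := by
        rw [hA, Nat.card_zpowers]
        obtain ⟨t, ht⟩ := IsPGroup.iff_card.mp hTp
        rw [ht]; exact Nat.Coprime.pow_right t hybo
      have hsolv : Group.IsSolvable A ∨ Group.IsSolvable T := by
        right
        haveI : Group.IsNilpotent ↥T := hTp.isNilpotent
        infer_instance
      have hcomm : ⁅T, A⁆ ≤ (Fr P N).map (QuotientGroup.mk' N) := by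
        rw [Subgroup.commutator_le]
        intro t ht a ha
        obtain ⟨x, rfl⟩ := hs t
        have hx : x ∈ P := (hPdef x).mpr ht
        rw [hA, Subgroup.mem_zpowers_iff] at ha
        obtain ⟨j, rfl⟩ := ha
        rw [hyb, ← map_zpow, ← map_commutatorElement]
        apply Subgroup.mem_map_of_mem
        have h1 := (Cc P (Fr P N)).zpow_mem hyC j x hx
        have e : ⁅x, y ^ j⁆ = (y ^ j * x * (y ^ j)⁻¹ * x⁻¹)⁻¹ := by
          rw [commutatorElement_def]; group
        rw [e]; exact Subgroup.inv_mem _ h1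
      obtain ⟨X₁, hX₁⟩ : ∃ X₁ : Subgroup ↥P, X₁ = (Subgroup.centralizer (A : Set (G ⧸ N))).comap
          ((QuotientGroup.mk' N).comp P.subtype) := ⟨_, rfl⟩
      have hgen : X₁.map (QuotientGroup.mk' (N.subgroupOf P)) ⊔
          frattini (↥P ⧸ N.subgroupOf P) = ⊤ := by
        rw [eq_top_iff]
        intro u _
        obtain ⟨x', rfl⟩ := QuotientGroup.mk'_surjective (N.subgroupOf P) u
        have hk : QuotientGroup.mk' N (x' : G) ∈ T := (hPdef _).mp x'.2
        obtain ⟨xb, hxb, cb, hcb, hkeq⟩ :=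
          Cfsg.Agent.Lib.Lead.coprime_commutator_decomp A T hAT hcop hsolv _ hk
        obtain ⟨f, hf, rfl⟩ := Subgroup.mem_map.mp (hcomm hxb)
        obtain ⟨c, rfl⟩ := hs cb
        obtain ⟨hcT, hcA⟩ := Subgroup.mem_inf.mp hcb
        have hcP : c ∈ P := (hPdef c).mpr hcT
        have hfP : f ∈ P := Fr_le P N hf
        have e : QuotientGroup.mk' (N.subgroupOf P) x' =
            QuotientGroup.mk' (N.subgroupOf P) ⟨f, hfP⟩ *
              QuotientGroup.mk' (N.subgroupOf P) ⟨c, hcP⟩ := by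
          rw [← map_mul, QuotientGroup.mk'_apply, QuotientGroup.mk'_apply, QuotientGroup.eq,
            Subgroup.mem_subgroupOf]
          have h2 : QuotientGroup.mk' N ((x' : G)⁻¹ * (f * c)) = 1 := by
            rw [map_mul, map_inv, hkeq, map_mul]; group
          exact (QuotientGroup.eq_one_iff _).mp h2
        rw [e]
        apply Subgroup.mul_mem
        · apply Subgroup.mem_sup_right
          exact ((mem_Fr P N f).mp hf).2
        · apply Subgroup.mem_sup_left
          apply Subgroup.mem_map_of_mem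
          rw [hX₁, Subgroup.mem_comap]
          exact hcA
      have hX₂ := frattini_nongenerating hgen
      have hTA : T ≤ Subgroup.centralizer (A : Set (G ⧸ N)) := by
        intro t ht
        obtain ⟨x, rfl⟩ := hs t
        have hx : x ∈ P := (hPdef x).mpr ht
        have h1 : QuotientGroup.mk' (N.subgroupOf P) ⟨x, hx⟩ ∈
            X₁.map (QuotientGroup.mk' (N.subgroupOf P)) := by rw [hX₂]; exact Subgroup.mem_top _
        obtain ⟨c', hc', hceq⟩ := Subgroup.mem_map.mp h1
        rw [QuotientGroup.mk'_apply, QuotientGroup.mk'_apply, QuotientGroup.eq,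
          Subgroup.mem_subgroupOf] at hceq
        have h2 : QuotientGroup.mk' N x = QuotientGroup.mk' N (c' : G) := by
          rw [QuotientGroup.mk'_apply, QuotientGroup.mk'_apply, eq_comm, QuotientGroup.eq]
          exact hceq
        rw [h2]
        rw [hX₁, Subgroup.mem_comap] at hc'
        exact hc'
      have hybT : yb ∈ T := by
        apply hcent
        rw [Subgroup.mem_centralizer_iff]
        intro t ht
        have h1 := Subgroup.mem_centralizer_iff.mp (hTA ht) yb
          (by rw [hA]; exact Subgroup.mem_zpowers yb)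
        exact h1.symm
      obtain ⟨k, hk⟩ := hTp ⟨yb, hybT⟩
      have hk' : yb ^ p ^ k = 1 := by
        have := congrArg Subtype.val hk
        simpa using this
      have h1 : orderOf yb ∣ p ^ k := orderOf_dvd_of_pow_eq_one hk'
      have h2 : orderOf yb = 1 :=
        Nat.eq_one_of_dvd_coprimes (Nat.Coprime.pow_right k hybo) dvd_rfl h1
      rw [orderOf_eq_one_iff, hyb] at h2
      exact (QuotientGroup.eq_one_iff y).mp h2
    have hCp : IsPGroup p ((Cc P (Fr P N)).map (QuotientGroup.mk' N)) := by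
      rintro ⟨u, hu⟩
      obtain ⟨h, hh, rfl⟩ := Subgroup.mem_map.mp hu
      have ho : orderOf h ≠ 0 := (orderOf_pos h).ne'
      obtain ⟨e, m, hm, hem⟩ := Nat.exists_eq_pow_mul_and_not_dvd ho p hp.ne_one
      refine ⟨e, ?_⟩
      apply Subtype.ext
      show (QuotientGroup.mk' N h) ^ p ^ e = 1
      rw [← map_pow]
      apply (QuotientGroup.eq_one_iff _).mpr
      apply claim1 _ (Subgroup.pow_mem _ hh _)
      have hpe : p ^ e ≠ 0 := pow_ne_zero e hp.pos.ne'
      rw [orderOf_pow_of_dvd hpe (Dvd.intro _ hem.symm), hem,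
        Nat.mul_div_cancel_left _ (pow_pos hp.pos e)]
      exact ((Nat.Prime.coprime_iff_not_dvd hp).mpr hm).symm
    have hCn : ((Cc P (Fr P N)).map (QuotientGroup.mk' N)).Normal :=
      (Cc_normal P (Fr P N)).map _ hs
    have hle : (Cc P (Fr P N)).map (QuotientGroup.mk' N) ≤ Cfsg.pCore p (G ⧸ N) :=
      le_sSup ⟨hCn, hCp⟩
    rw [hPdef, hT]
    exact hle (Subgroup.mem_map_of_mem _ hgC)

/-- Let `G` be a finite `p`-solvable group, `N₀ = O_{p'}(G)`, `P₁ = O_{p',p}(G)`, and let `F ≤ P₁` be the preimage of the Frattini subgroup of `P₁/N₀`. Then an element `g` of `G` induces the identity on `P₁/F` by conjugation (that is, `g x g⁻¹ x⁻¹ ∈ F` for all `x ∈ P₁`) if and only if `g ∈ P₁`: the group `G/P₁` acts faithfully on `P₁/F`. -/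
theorem result {G : Type*} [Group G] [Finite G] {p : ℕ} [Fact p.Prime] (hG : Cfsg.IsPSolvable p G) (g : G) : (∀ x ∈ Cfsg.pPrimePCore p G, g * x * g⁻¹ * x⁻¹ ∈ ((frattini (↥(Cfsg.pPrimePCore p G) ⧸ (Cfsg.pPrimeCore p G).subgroupOf (Cfsg.pPrimePCore p G))).comap (QuotientGroup.mk' ((Cfsg.pPrimeCore p G).subgroupOf (Cfsg.pPrimePCore p G)))).map (Cfsg.pPrimePCore p G).subtype) ↔ g ∈ Cfsg.pPrimePCore p G := by
  haveI := Cfsg.Agent.Lib.Helper3.pPrimePCore_normal p G
  have hq : Cfsg.IsPSolvable p (G ⧸ Cfsg.pPrimeCore p G) := isPSolvable_quotient _ hG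
  have hO := Cfsg.Agent.Lib.Helper2.pPrimeCore_quotient_eq_bot p G
  exact main (Cfsg.pPrimeCore p G) (Cfsg.pPrimePCore p G)
    (Cfsg.Agent.Lib.Helper3.pPrimeCore_le_pPrimePCore p G)
    (fun x => Iff.rfl) (hh123 hq hO) (Cfsg.Agent.Lib.Helper3.exists_pow_mem_pPrimeCore p G) g

end Cfsg.Agent.S4218
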