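import Mathlib
import Cfsg.Statements.S4602
import Cfsg.Agent.Lib.Helper6.PSolv
import Cfsg.Agent.Lib.Helper7.SylowIndex
import Cfsg.Agent.Lib.Helper3.PPrimeCore

set_option autoImplicit false
open Cfsg

namespace Cfsg.Agent.S4602

open Subgroup

/-- if `p ∤ |Syl_q(G)|` then every Sylow `p`-subgroup normalizes some Sylow `q`-subgroup -/
theorem exists_normalizes_of_not_dvd {G : Type*} [Group G] [Finite G] (p q : ℕ) [Fact p.Prime]
    [Fact q.Prime] (h : ¬ p ∣ Nat.card (Sylow q G)) (P : Sylow p G) :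
    ∃ Q : Sylow q G, (P : Subgroup G) ≤ normalizer ((Q : Subgroup G) : Set G) := by
  obtain ⟨Q, hQ⟩ := P.2.nonempty_fixed_point_of_prime_not_dvd_card (Sylow q G) h
  exact ⟨Q, ((P : Subgroup G).sylow_mem_fixedPoints_iff).mp hQ⟩

/-- a Sylow `q`-subgroup lies in every normal subgroup of index prime to `q` -/
theorem sylow_le_of_not_dvd_index {G : Type*} [Group G] [Finite G] (q : ℕ) [Fact q.Prime]
    (K : Subgroup G) [K.Normal] (hq : ¬ q ∣ K.index) (Q : Sylow q G) : (Q : Subgroup G) ≤ K := by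
  have hqp : q.Prime := Fact.out
  intro x hx
  obtain ⟨k, hk⟩ := IsPGroup.iff_card.mp Q.2
  have h1 : x ^ (q ^ k) = 1 := by
    have := pow_card_eq_one' (G := ↥(Q : Subgroup G)) (x := ⟨x, hx⟩)
    rw [hk] at this
    exact congrArg Subtype.val this
  have h2 : (QuotientGroup.mk' K x) ^ (q ^ k) = 1 := by rw [← map_pow, h1, map_one]
  have h3 : (QuotientGroup.mk' K x) ^ K.index = 1 := by
    have := pow_card_eq_one' (G := G ⧸ K) (x := QuotientGroup.mk' K x)
    exact this
  have h4 : orderOf (QuotientGroup.mk' K x) ∣ q ^ k := orderOf_dvd_of_pow_eq_one h2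
  have h5 : orderOf (QuotientGroup.mk' K x) ∣ K.index := orderOf_dvd_of_pow_eq_one h3
  have h6 : (q ^ k).Coprime K.index :=
    Nat.Coprime.pow_left k ((Nat.Prime.coprime_iff_not_dvd hqp).mpr hq)
  have h7 := orderOf_eq_one_iff.mp (Nat.eq_one_of_dvd_coprimes h6 h4 h5)
  exact (QuotientGroup.eq_one_iff x).mp h7

theorem backward {G : Type*} [Group G] [Finite G] (p q : ℕ) [Fact p.Prime] [Fact q.Prime]
    (hq : ¬ q ∣ (Cfsg.pPrimeCore p G).index) :
    ∃ (P : Sylow p G) (Q : Sylow q G),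
      (P : Subgroup G) ≤ Subgroup.normalizer ((Q : Subgroup G) : Set G) := by
  have hp : p.Prime := Fact.out
  haveI hKn : (Cfsg.pPrimeCore p G).Normal := Cfsg.Agent.Lib.Helper3.pPrimeCore_normal p G
  obtain ⟨Q⟩ : Nonempty (Sylow q G) := inferInstance
  obtain ⟨P⟩ : Nonempty (Sylow p G) := inferInstance
  have hQK : (Q : Subgroup G) ≤ Cfsg.pPrimeCore p G := sylow_le_of_not_dvd_index q _ hq Q
  have hF : normalizer ((Q : Subgroup G) : Set G) ⊔ Cfsg.pPrimeCore p G = ⊤ :=
    Sylow.normalizer_sup_eq_top' Q hQK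
  have h1 : (normalizer ((Q : Subgroup G) : Set G)).index =
      (normalizer ((Q : Subgroup G) : Set G)).relIndex (Cfsg.pPrimeCore p G) := by
    rw [← Cfsg.Agent.Lib.Helper7.relIndex_sup_eq_of_le_normalizer _ _
      (le_of_le_of_eq le_top (Subgroup.normalizer_eq_top (H := Cfsg.pPrimeCore p G)).symm),
      hF, relIndex_top_right]
  have h2 : ¬ p ∣ Nat.card (Sylow q G) := by
    rw [Q.card_eq_index_normalizer]
    intro hdvd
    have hd : p ∣ (normalizer ((Q : Subgroup G) : Set G)).index := hdvd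
    rw [h1] at hd
    have := hd.trans (relIndex_dvd_card _ _)
    exact (Nat.Prime.coprime_iff_not_dvd hp).mp
      (Cfsg.Agent.Lib.Helper3.pPrimeCore_coprime hp G).symm this
  obtain ⟨Q', hQ'⟩ := exists_normalizes_of_not_dvd p q h2 P
  exact ⟨P, Q', hQ'⟩

theorem forward {G : Type*} [Group G] [Finite G] (p q : ℕ) [Fact p.Prime] [Fact q.Prime]
    (hpq : p ≠ q) (hsolv : Cfsg.IsPSolvable p G) (P : Sylow p G) (Q : Sylow q G)
    (hPQ : (P : Subgroup G) ≤ Subgroup.normalizer ((Q : Subgroup G) : Set G)) :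
    ¬ q ∣ (Cfsg.pPrimeCore p G).index := by
  have hp : p.Prime := Fact.out
  have hq : q.Prime := Fact.out
  obtain ⟨-, -, hdom⟩ := Cfsg.Agent.Lib.Helper6.pcompl_of_isPSolvable hp hsolv
  have hQcop : (Nat.card (Q : Subgroup G)).Coprime p := by
    obtain ⟨k, hk⟩ := IsPGroup.iff_card.mp Q.2
    rw [hk]; exact Nat.Coprime.pow_left k ((Nat.coprime_primes hq hp).mpr (Ne.symm hpq))
  obtain ⟨H, hHcop, ⟨n, hHn⟩, hQH⟩ := hdom (Q : Subgroup G) hQcop
  have hcardG : Nat.card G = Nat.card H * p ^ n := by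
    rw [← hHn]; exact (Subgroup.card_mul_index H).symm
  have hcardP : Nat.card (P : Subgroup G) = p ^ n := by
    obtain ⟨m, hm⟩ := IsPGroup.iff_card.mp P.2
    have hPG : Nat.card G = Nat.card (P : Subgroup G) * (P : Subgroup G).index :=
      (Subgroup.card_mul_index _).symm
    have hcopP : (p ^ n).Coprime (P : Subgroup G).index :=
      Nat.Coprime.pow_left n ((Nat.Prime.coprime_iff_not_dvd hp).mpr P.not_dvd_index)
    have d1 : p ^ n ∣ Nat.card (P : Subgroup G) := by
      have : p ^ n ∣ Nat.card (P : Subgroup G) * (P : Subgroup G).index := by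
        rw [← hPG, hcardG]; exact dvd_mul_left _ _
      exact hcopP.dvd_of_dvd_mul_right this
    have d2 : Nat.card (P : Subgroup G) ∣ p ^ n := by
      have : Nat.card (P : Subgroup G) ∣ Nat.card H * p ^ n := by
        rw [← hcardG]; exact Subgroup.card_subgroup_dvd_card _
      have hc : (Nat.card (P : Subgroup G)).Coprime (Nat.card H) := by
        rw [hm]; exact Nat.Coprime.pow_left m hHcop.symm
      exact hc.dvd_of_dvd_mul_left this
    exact Nat.dvd_antisymm d2 d1
  have hcompl : IsComplement' H (P : Subgroup G) := by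
    apply isComplement'_of_coprime
    · rw [hcardP, hcardG]
    · rw [hcardP]; exact Nat.Coprime.pow_right n hHcop
  have hdecomp : ∀ g : G, ∃ h ∈ H, ∃ u ∈ (P : Subgroup G), g = h * u := by
    intro g
    obtain ⟨⟨h, u⟩, hx⟩ := hcompl.2 g
    exact ⟨h, h.2, u, u.2, hx.symm⟩
  have hncl : Subgroup.normalClosure ((Q : Subgroup G) : Set G) ≤ H := by
    rw [Subgroup.normalClosure, Subgroup.closure_le]
    intro a ha
    rw [Group.mem_conjugatesOfSet_iff] at ha
    obtain ⟨x, hx, hconj⟩ := ha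
    obtain ⟨c, rfl⟩ := isConj_iff.mp hconj
    obtain ⟨h, hh, u, hu, rfl⟩ := hdecomp c
    have e : h * u * x * (h * u)⁻¹ = h * (u * x * u⁻¹) * h⁻¹ := by group
    rw [e]
    have hux : u * x * u⁻¹ ∈ (Q : Subgroup G) := (mem_normalizer_iff.mp (hPQ hu) x).mp hx
    exact H.mul_mem (H.mul_mem hh (hQH hux)) (H.inv_mem hh)
  have hle : Subgroup.normalClosure ((Q : Subgroup G) : Set G) ≤ Cfsg.pPrimeCore p G :=
    Cfsg.Agent.Lib.Helper3.le_pPrimeCore Subgroup.normalClosure_normal
      (Nat.Coprime.coprime_dvd_left (Subgroup.card_dvd_of_le hncl) hHcop)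
  have hQK : (Q : Subgroup G) ≤ Cfsg.pPrimeCore p G := Subgroup.le_normalClosure.trans hle
  intro hdvd
  exact Q.not_dvd_index (hdvd.trans (Subgroup.index_dvd_of_le hQK))

theorem result {G : Type*} [Group G] [Finite G] (p q : ℕ) [Fact p.Prime] [Fact q.Prime] (hpq : p ≠ q) (hsolv : Cfsg.IsPSolvable p G) :
    (∃ (P : Sylow p G) (Q : Sylow q G), (P : Subgroup G) ≤ Subgroup.normalizer ((Q : Subgroup G) : Set G)) ↔ ¬ q ∣ (Cfsg.pPrimeCore p G).index := by
  constructor
  · rintro ⟨P, Q, hPQ⟩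
    exact forward p q hpq hsolv P Q hPQ
  · intro h
    exact backward p q h

end Cfsg.Agent.S4602
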