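import Mathlib
import Cfsg.Statements.S4242
import Cfsg.Agent.Lib.Lead.PNilp
import Cfsg.Agent.Lib.Lead.PNilp3
import Cfsg.Agent.Lib.Helper3.PiCore
import Cfsg.Agent.Lib.Helper6.Index
import Cfsg.Agent.Lib.Helper7.SylowAux
import Cfsg.Agent.Lib.Helper7.SylowIndex
import Cfsg.Agent.S4602

set_option autoImplicit false
open Cfsg

namespace Cfsg.Agent.S4242

open Subgroup Cfsg.Agent.Lib.Helper7

universe u

/-- In a finite nilpotent group a `p`-element and a `p'`-element commute. -/
theorem commute_of_nilpotent {L : Type u} [Group L] [Finite L] (p : ℕ) [Fact p.Prime]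
    (hL : Group.IsNilpotent L) (x g : L) (hx : ∃ k : ℕ, orderOf x = p ^ k)
    (hg : (orderOf g).Coprime p) : x * g = g * x := by
  obtain ⟨P, N, hNn, hNc⟩ := Cfsg.Agent.Lib.Lead.nilpotent_hasNormalPComplement p hL
  have hgN : g ∈ N :=
    Cfsg.Agent.Lib.Lead.mem_of_coprime_of_complement (P : Subgroup L) N P.2 hNc g hg
  haveI hPn : (P : Subgroup L).Normal :=
    Sylow.normal_of_normalizerCondition (Group.normalizerCondition_of_isNilpotent) P
  obtain ⟨P2, hxP2⟩ := exists_mem_sylow_of_orderOf (p := p) x hx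
  have hxP : x ∈ (P : Subgroup L) := by
    obtain ⟨t, ht⟩ := MulAction.exists_smul_eq L P P2
    rw [← ht, mem_sylow_smul_iff] at hxP2
    have h1 := hPn.conj_mem _ hxP2 t
    have e : t * (t⁻¹ * x * t) * t⁻¹ = x := by group
    rwa [e] at h1
  have h1 : x * g * x⁻¹ * g⁻¹ ∈ N := N.mul_mem (hNn.conj_mem g hgN x) (N.inv_mem hgN)
  have h2 : x * g * x⁻¹ * g⁻¹ ∈ (P : Subgroup L) := by
    have e : x * g * x⁻¹ * g⁻¹ = x * (g * x⁻¹ * g⁻¹) := by group
    rw [e]
    exact (P : Subgroup L).mul_mem hxP (hPn.conj_mem _ ((P : Subgroup L).inv_mem hxP) g)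
  have h3 : x * g * x⁻¹ * g⁻¹ = 1 := Subgroup.disjoint_def.mp hNc.disjoint h1 h2
  calc x * g = (x * g * x⁻¹ * g⁻¹) * (g * x) := by group
    _ = g * x := by rw [h3, one_mul]

theorem forward {G : Type u} [Group G] [Finite G] (p : ℕ) [Fact p.Prime] (hpG : p ∣ Nat.card G)
    (hyp : ∀ M : Subgroup G, IsCoatom M → p ∣ Nat.card M → Group.IsNilpotent M)
    (h2 : ¬ Cfsg.IsMinimalNonNilpotent G) (h1 : ¬ Group.IsNilpotent G) :
    ∃ Z K : Subgroup G, Z.Normal ∧ K.Normal ∧ Z ⊓ K = ⊥ ∧ Z ⊔ K = ⊤ ∧ Nat.card Z = p ∧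
          Cfsg.IsMinimalNonNilpotent K ∧ ¬ p ∣ Nat.card K := by
  have hp : p.Prime := Fact.out
  have hsub : ∀ A B : Subgroup G, A ≤ B → Group.IsNilpotent B → Group.IsNilpotent A := by
    intro A B hAB hB
    haveI := hB
    exact Group.nilpotent_of_mulEquiv (Subgroup.subgroupOfEquivOfLe hAB)
  have factA : ∀ L : Subgroup G, L ≠ ⊤ → p ∣ Nat.card L → Group.IsNilpotent L := by
    intro L hL hpL
    obtain ⟨M, hM, hLM⟩ := (eq_top_or_exists_le_coatom L).resolve_left hL
    exact hsub L M hLM (hyp M hM (dvd_trans hpL (Subgroup.card_dvd_of_le hLM)))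
  obtain ⟨H0, hH0, hH0n⟩ : ∃ H : Subgroup G, H ≠ ⊤ ∧ ¬ Group.IsNilpotent H := by
    by_contra hcon
    push Not at hcon
    exact h2 ⟨h1, hcon⟩
  obtain ⟨M0, hM0, hHM0⟩ := (eq_top_or_exists_le_coatom H0).resolve_left hH0
  have hM0n : ¬ Group.IsNilpotent M0 := fun h => hH0n (hsub H0 M0 hHM0 h)
  have hM0p : ¬ p ∣ Nat.card M0 := fun h => hM0n (hyp M0 hM0 h)
  have hM0cop : ∀ m ∈ M0, (orderOf m).Coprime p := by
    intro m hm
    have h3 : orderOf m ∣ Nat.card M0 := by
      have := orderOf_dvd_natCard (⟨m, hm⟩ : M0)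
      rwa [Subgroup.orderOf_mk] at this
    exact Nat.Coprime.coprime_dvd_left h3 ((Nat.Prime.coprime_iff_not_dvd hp).mpr hM0p).symm
  obtain ⟨P⟩ : Nonempty (Sylow p G) := inferInstance
  obtain ⟨n, hn⟩ := IsPGroup.iff_card.mp P.2
  have hn1 : 1 ≤ n := by
    have h6 : 0 < (Nat.card G).factorization p :=
      Nat.Prime.factorization_pos_of_dvd hp Nat.card_pos.ne' hpG
    have h7 := P.card_eq_multiplicity
    rw [hn] at h7
    have := Nat.pow_right_injective hp.two_le h7
    omega
  have hpP : p ∣ Nat.card (P : Subgroup G) := by rw [hn]; exact dvd_pow_self p (by omega)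
  have hpQ : ∀ Q : Subgroup G, Q ≤ (P : Subgroup G) → Q ≠ ⊥ → p ∣ Nat.card Q := by
    intro Q hQP hQb
    obtain ⟨j, hj⟩ := IsPGroup.iff_card.mp (P.2.to_le hQP)
    rw [hj]
    apply dvd_pow_self
    rintro rfl
    rw [pow_zero] at hj
    exact hQb (Subgroup.card_eq_one.mp hj)
  -- elements of M0 ∩ (p-group) are trivial
  have hM0P : ∀ c ∈ M0, c ∈ (P : Subgroup G) → c = 1 := by
    intro c hc hcP
    obtain ⟨k, hk⟩ := orderOf_of_mem_sylow P c hcP
    have h3 := hM0cop c hc
    rw [hk] at h3
    have h4 : orderOf c = 1 := by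
      rw [hk]
      rcases Nat.eq_zero_or_pos k with h0 | hpos
      · rw [h0, pow_zero]
      · exfalso
        have h5 : p ∣ p ^ k := dvd_pow_self p (by omega)
        have := Nat.Coprime.eq_one_of_dvd h3.symm h5
        exact hp.one_lt.ne' this
    exact orderOf_eq_one_iff.mp h4
  -- Frobenius criterion
  have hF : ∀ Q : Subgroup G, Q ≤ (P : Subgroup G) → ∀ g ∈ normalizer (Q : Set G),
      Nat.Coprime (orderOf g) p → g ∈ centralizer (Q : Set G) := by
    intro Q hQP g hgN hgc
    rw [Subgroup.mem_centralizer_iff]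
    intro x hxQ
    have hxo : ∃ k, orderOf x = p ^ k := orderOf_of_mem_sylow P x (hQP hxQ)
    by_cases hQb : Q = ⊥
    · have hx1 : x = 1 := by
        have hxb : x ∈ (⊥ : Subgroup G) := by rw [← hQb]; exact hxQ
        exact Subgroup.mem_bot.mp hxb
      rw [hx1, one_mul, mul_one]
    by_cases hNt : normalizer (Q : Set G) = ⊤
    · have hQn : Q.Normal := Subgroup.normalizer_eq_top_iff.mp hNt
      have hQM : ¬ Q ≤ M0 := fun hle =>
        hM0p (dvd_trans (hpQ Q hQP hQb) (Subgroup.card_dvd_of_le hle))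
      have hsup : M0 ⊔ Q = ⊤ := by
        apply hM0.2
        apply lt_of_le_of_ne le_sup_left
        intro h
        apply hQM
        rw [h]; exact le_sup_right
      have hdvd := Cfsg.Agent.Lib.Helper6.card_sup_dvd_mul Q M0 (by rw [hNt]; exact le_top)
      rw [sup_comm, hsup, Subgroup.card_top] at hdvd
      have hPQ : Q = (P : Subgroup G) := by
        apply Subgroup.eq_of_le_of_card_ge hQP
        have h3 : Nat.card (P : Subgroup G) ∣ Nat.card Q * Nat.card M0 :=
          dvd_trans (Subgroup.card_subgroup_dvd_card _) hdvd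
        have h4 : (Nat.card (P : Subgroup G)).Coprime (Nat.card M0) := by
          rw [hn]
          exact Nat.Coprime.pow_left n ((Nat.Prime.coprime_iff_not_dvd hp).mpr hM0p)
        exact Nat.le_of_dvd Nat.card_pos (h4.dvd_of_dvd_mul_right h3)
      haveI hPn : (P : Subgroup G).Normal := hPQ ▸ hQn
      have hxP : x ∈ (P : Subgroup G) := hQP hxQ
      by_cases hLt : (P : Subgroup G) ⊔ zpowers g = ⊤
      · exfalso
        apply hM0n
        apply Cfsg.Agent.Lib.Lead.isNilpotent_of_comm
        have hcomm : ∀ a b : G, a * b * a⁻¹ * b⁻¹ ∈ (P : Subgroup G) := by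
          intro a b
          have ha : a ∈ zpowers g ⊔ (P : Subgroup G) := by rw [sup_comm, hLt]; trivial
          have hb : b ∈ zpowers g ⊔ (P : Subgroup G) := by rw [sup_comm, hLt]; trivial
          have hzn : zpowers g ≤ normalizer ((P : Subgroup G) : Set G) := by
            rw [Subgroup.normalizer_eq_top_iff.mpr hPn]; exact le_top
          obtain ⟨k1, hk1, u1, hu1, rfl⟩ :=
            Cfsg.Agent.Lib.Helper3.exists_mul_of_mem_sup_of_le_normalizer _ _ hzn ha
          obtain ⟨k2, hk2, u2, hu2, rfl⟩ :=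
            Cfsg.Agent.Lib.Helper3.exists_mul_of_mem_sup_of_le_normalizer _ _ hzn hb
          obtain ⟨i, rfl⟩ := mem_zpowers_iff.mp hk1
          obtain ⟨j, rfl⟩ := mem_zpowers_iff.mp hk2
          rw [← QuotientGroup.eq_one_iff]
          simp only [QuotientGroup.mk_mul, QuotientGroup.mk_inv, QuotientGroup.mk_zpow,
            (QuotientGroup.eq_one_iff u1).mpr hu1, (QuotientGroup.eq_one_iff u2).mpr hu2, mul_one]
          have hc : Commute ((g : G ⧸ (P : Subgroup G)) ^ i) ((g : G ⧸ (P : Subgroup G)) ^ j) :=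
            ((Commute.refl _).zpow_left i).zpow_right j
          rw [hc.eq]; group
        intro a b
        apply Subtype.ext
        have h3 := hcomm a b
        have h4 : (a : G) * b * (a : G)⁻¹ * (b : G)⁻¹ ∈ M0 :=
          M0.mul_mem (M0.mul_mem (M0.mul_mem a.2 b.2) (M0.inv_mem a.2)) (M0.inv_mem b.2)
        have h5 := hM0P _ h4 h3
        rw [Subgroup.coe_mul, Subgroup.coe_mul]
        calc (a : G) * b = ((a : G) * b * (a : G)⁻¹ * (b : G)⁻¹) * (b * a) := by group
          _ = b * a := by rw [h5, one_mul]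
      · have hpL : p ∣ Nat.card ((P : Subgroup G) ⊔ zpowers g : Subgroup G) :=
          dvd_trans hpP (Subgroup.card_dvd_of_le le_sup_left)
        have hLn := factA _ hLt hpL
        have hgL : g ∈ (P : Subgroup G) ⊔ zpowers g :=
          (le_sup_right : zpowers g ≤ _) (mem_zpowers g)
        have hxL : x ∈ (P : Subgroup G) ⊔ zpowers g := (le_sup_left : (P : Subgroup G) ≤ _) hxP
        have h3 := commute_of_nilpotent p hLn ⟨x, hxL⟩ ⟨g, hgL⟩
          (by rw [Subgroup.orderOf_mk]; exact hxo) (by rw [Subgroup.orderOf_mk]; exact hgc)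
        exact congrArg Subtype.val h3
    · have hpN : p ∣ Nat.card (normalizer (Q : Set G)) :=
        dvd_trans (hpQ Q hQP hQb) (Subgroup.card_dvd_of_le le_normalizer)
      have hNn := factA _ hNt hpN
      have h3 := commute_of_nilpotent p hNn ⟨x, le_normalizer hxQ⟩ ⟨g, hgN⟩
        (by rw [Subgroup.orderOf_mk]; exact hxo) (by rw [Subgroup.orderOf_mk]; exact hgc)
      exact congrArg Subtype.val h3
  obtain ⟨K, hKn, hKc⟩ := (Cfsg.Agent.Lib.Lead.frobenius_pnilpotent P).mpr hF
  have hM0K : M0 ≤ K := fun m hm =>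
    Cfsg.Agent.Lib.Lead.mem_of_coprime_of_complement (P : Subgroup G) K P.2 hKc m (hM0cop m hm)
  have hcardG : Nat.card K * Nat.card (P : Subgroup G) = Nat.card G := hKc.card_mul_card
  have hKtop : K ≠ ⊤ := by
    intro h
    rw [h, Subgroup.card_top] at hcardG
    have : Nat.card (P : Subgroup G) = 1 := by
      have h3 : Nat.card G * Nat.card (P : Subgroup G) = Nat.card G * 1 := by rw [hcardG, mul_one]
      exact Nat.eq_of_mul_eq_mul_left Nat.card_pos h3
    rw [hn] at this
    have h4 : p ∣ p ^ n := dvd_pow_self p (by omega)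
    rw [this] at h4
    exact hp.one_lt.ne' (Nat.dvd_one.mp h4)
  have hKM : K = M0 := by
    by_contra hne
    exact hKtop (hM0.2 K (lt_of_le_of_ne hM0K (Ne.symm hne)))
  have hKn' : ¬ Group.IsNilpotent K := by rw [hKM]; exact hM0n
  have hKp : ¬ p ∣ Nat.card K := by rw [hKM]; exact hM0p
  have hKco : IsCoatom K := by rw [hKM]; exact hM0
  have hKcop : ∀ y, (orderOf y).Coprime p → y ∈ K := fun y hy =>
    Cfsg.Agent.Lib.Lead.mem_of_coprime_of_complement (P : Subgroup G) K P.2 hKc y hy
  have hKP : ∀ c ∈ K, c ∈ (P : Subgroup G) → c = 1 := fun c hc hcP =>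
    Subgroup.disjoint_def.mp hKc.disjoint hc hcP
  -- |P| = p
  have hPcard : Nat.card (P : Subgroup G) = p := by
    obtain ⟨x, hx⟩ := exists_prime_orderOf_dvd_card' p hpP
    have hx1 : (x : G) ≠ 1 := by
      intro h
      have h3 : orderOf (x : G) = p := by rw [Subgroup.orderOf_coe]; exact hx
      rw [h, orderOf_one] at h3
      exact hp.one_lt.ne h3
    have hxK : (x : G) ∉ K := fun h => hx1 (hKP _ h x.2)
    have hsup : K ⊔ zpowers (x : G) = ⊤ := by
      apply hKco.2
      apply lt_of_le_of_ne le_sup_left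
      intro h
      apply hxK
      rw [h]; exact (le_sup_right : zpowers (x : G) ≤ _) (mem_zpowers _)
    have hdvd := Cfsg.Agent.Lib.Helper6.card_sup_dvd_mul K (zpowers (x : G))
      (by rw [Subgroup.normalizer_eq_top_iff.mpr hKn]; exact le_top)
    rw [hsup, Subgroup.card_top, Nat.card_zpowers, Subgroup.orderOf_coe, hx, ← hcardG] at hdvd
    have h3 : Nat.card (P : Subgroup G) ∣ p := Nat.dvd_of_mul_dvd_mul_left Nat.card_pos hdvd
    rcases (Nat.dvd_prime hp).mp h3 with h | h
    · rw [h] at hpP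
      exact absurd (Nat.dvd_one.mp hpP) hp.one_lt.ne'
    · exact h
  -- P centralizes K
  have hcent : ∀ u ∈ (P : Subgroup G), ∀ y ∈ K, u * y = y * u := by
    set C : Subgroup G := K ⊓ centralizer ((P : Subgroup G) : Set G) with hC
    have hCK : C = K := by
      apply Subgroup.eq_of_le_of_card_ge inf_le_left
      apply Nat.le_of_dvd Nat.card_pos
      rw [Nat.dvd_iff_prime_pow_dvd_dvd]
      intro q k hq hqk
      by_cases hqp : q = p
      · rcases Nat.eq_zero_or_pos k with h0 | hpos
        · rw [h0, pow_zero]; exact one_dvd _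
        · exfalso
          apply hKp
          rw [← hqp]
          exact dvd_trans (dvd_pow_self q (by omega)) hqk
      · haveI : Fact q.Prime := ⟨hq⟩
        have hqcop : Nat.Coprime q p := (Nat.coprime_primes hq hp).mpr hqp
        obtain ⟨Q0⟩ : Nonempty (Sylow q G) := inferInstance
        have hQK : ∀ Q : Sylow q G, (Q : Subgroup G) ≤ K := by
          intro Q y hy
          obtain ⟨j, hj⟩ := orderOf_of_mem_sylow Q y hy
          apply hKcop
          rw [hj]; exact Nat.Coprime.pow_left j hqcop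
        -- p ∤ number of Sylow q-subgroups
        have hnq : ¬ p ∣ Nat.card (Sylow q G) := by
          rw [Sylow.card_eq_index_normalizer Q0]
          have h3 := Sylow.normalizer_sup_eq_top (Q0.subtype (hQK Q0))
          rw [Sylow.coe_subtype, Subgroup.map_subgroupOf_eq_of_le (hQK Q0)] at h3
          have h4 := relIndex_sup_eq_of_le_normalizer (normalizer ((Q0 : Subgroup G) : Set G)) K
            (by rw [Subgroup.normalizer_eq_top_iff.mpr hKn]; exact le_top)
          rw [h3, Subgroup.relIndex_top_right] at h4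
          intro h5
          have h5' : p ∣ (normalizer ((Q0 : Subgroup G) : Set G)).index := h5
          rw [h4] at h5'
          exact hKp (dvd_trans h5' (Subgroup.relIndex_dvd_card _ _))
        obtain ⟨Q, hPQ⟩ := Cfsg.Agent.S4602.exists_normalizes_of_not_dvd p q hnq P
        have hLt : (Q : Subgroup G) ⊔ (P : Subgroup G) ≠ ⊤ := by
          intro hL
          have hdvd := Cfsg.Agent.Lib.Helper6.card_sup_dvd_mul (Q : Subgroup G) (P : Subgroup G) hPQ
          rw [hL, Subgroup.card_top, ← hcardG] at hdvd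
          have h3 : Nat.card K ∣ Nat.card (Q : Subgroup G) :=
            Nat.dvd_of_mul_dvd_mul_right Nat.card_pos hdvd
          have h4 : (Q : Subgroup G) = K :=
            Subgroup.eq_of_le_of_card_ge (hQK Q) (Nat.le_of_dvd Nat.card_pos h3)
          apply hKn'
          rw [← h4]
          exact Q.2.isNilpotent
        have hpL : p ∣ Nat.card ((Q : Subgroup G) ⊔ (P : Subgroup G) : Subgroup G) :=
          dvd_trans hpP (Subgroup.card_dvd_of_le le_sup_right)
        have hLn := factA _ hLt hpL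
        have hQC : (Q : Subgroup G) ≤ C := by
          intro y hy
          rw [hC, Subgroup.mem_inf]
          refine ⟨hQK Q hy, ?_⟩
          rw [Subgroup.mem_centralizer_iff]
          intro u hu
          obtain ⟨j, hj⟩ := orderOf_of_mem_sylow Q y hy
          have h3 := commute_of_nilpotent p hLn ⟨u, (le_sup_right : (P : Subgroup G) ≤ _) hu⟩
            ⟨y, (le_sup_left : (Q : Subgroup G) ≤ _) hy⟩
            (by rw [Subgroup.orderOf_mk]; exact orderOf_of_mem_sylow P u hu)
            (by rw [Subgroup.orderOf_mk, hj]; exact Nat.Coprime.pow_left j hqcop)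
          exact congrArg Subtype.val h3
        have h5 : q ^ k ∣ Nat.card (Q : Subgroup G) := by
          rw [Q.card_eq_multiplicity]
          have h6 : q ^ k ∣ Nat.card G := dvd_trans hqk (Subgroup.card_subgroup_dvd_card K)
          exact pow_dvd_pow q ((hq.pow_dvd_iff_le_factorization Nat.card_pos.ne').mp h6)
        exact dvd_trans h5 (Subgroup.card_dvd_of_le hQC)
    intro u hu y hy
    have hy' : y ∈ C := by rw [hCK]; exact hy
    rw [hC, Subgroup.mem_inf] at hy'
    exact Subgroup.mem_centralizer_iff.mp hy'.2 u hu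
  -- P abelian
  have hPab : ∀ u ∈ (P : Subgroup G), ∀ v ∈ (P : Subgroup G), u * v = v * u := by
    haveI : IsCyclic (P : Subgroup G) := isCyclic_of_prime_card hPcard
    intro u hu v hv
    have := (IsCyclic.commGroup (α := (P : Subgroup G))).mul_comm ⟨u, hu⟩ ⟨v, hv⟩
    exact congrArg Subtype.val this
  have hPn : (P : Subgroup G).Normal := by
    rw [← Subgroup.normalizer_eq_top_iff, eq_top_iff, ← hKc.sup_eq_top]
    apply sup_le _ le_normalizer
    intro y hy
    rw [mem_normalizer_iff]
    intro u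
    have key : ∀ u ∈ (P : Subgroup G), y * u * y⁻¹ = u := by
      intro u hu
      rw [← hcent u hu y hy]; group
    constructor
    · intro hu; rw [key u hu]; exact hu
    · intro hu
      have h3 := key _ hu
      have h4 : y * u * y⁻¹ = u := mul_left_cancel (mul_right_cancel h3)
      rw [← h4]; exact hu
  refine ⟨P, K, hPn, hKn, ?_, ?_, hPcard, ⟨hKn', ?_⟩, hKp⟩
  · rw [inf_comm]; exact hKc.disjoint.eq_bot
  · rw [sup_comm]; exact hKc.sup_eq_top
  · intro H hH
    set L : Subgroup G := H.map K.subtype with hL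
    have hLK : L ≤ K := by
      rintro _ ⟨y, -, rfl⟩
      exact y.2
    have hLne : L ≠ K := by
      intro h
      apply hH
      rw [eq_top_iff]
      intro y _
      have hy : (y : G) ∈ L := by rw [h]; exact y.2
      obtain ⟨z, hz, hzy⟩ := hy
      have : z = y := Subtype.ext hzy
      rw [← this]; exact hz
    have hPL : (P : Subgroup G) ≤ normalizer (L : Set G) := by
      apply Cfsg.Agent.Lib.Lead.le_normalizer_of_conj_mem
      intro u hu y hy
      have h3 := hcent u hu y (hLK hy)
      rw [h3]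
      have e : y * u * u⁻¹ = y := by group
      rw [e]; exact hy
    have hLt : L ⊔ (P : Subgroup G) ≠ ⊤ := by
      intro hT
      have hdvd := Cfsg.Agent.Lib.Helper6.card_sup_dvd_mul L (P : Subgroup G) hPL
      rw [hT, Subgroup.card_top, ← hcardG] at hdvd
      have h3 : Nat.card K ∣ Nat.card L := Nat.dvd_of_mul_dvd_mul_right Nat.card_pos hdvd
      exact hLne (Subgroup.eq_of_le_of_card_ge hLK (Nat.le_of_dvd Nat.card_pos h3))
    have hpL : p ∣ Nat.card (L ⊔ (P : Subgroup G) : Subgroup G) :=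
      dvd_trans hpP (Subgroup.card_dvd_of_le le_sup_right)
    have hLn := hsub L _ le_sup_left (factA _ hLt hpL)
    haveI := hLn
    exact Group.nilpotent_of_mulEquiv (H.equivMapOfInjective K.subtype K.subtype_injective).symm

theorem backward3 {G : Type u} [Group G] [Finite G] (p : ℕ) [Fact p.Prime]
    (Z K : Subgroup G) (hZn : Z.Normal) (hKn : K.Normal) (hZK : Z ⊓ K = ⊥) (hsup : Z ⊔ K = ⊤)
    (hZc : Nat.card Z = p) (hK : Cfsg.IsMinimalNonNilpotent K) (hKp : ¬ p ∣ Nat.card K)
    (M : Subgroup G) (hM : IsCoatom M) (hpM : p ∣ Nat.card M) : Group.IsNilpotent M := by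
  have hp : p.Prime := Fact.out
  -- Z central
  have hZcent : ∀ z ∈ Z, ∀ y : G, z * y = y * z := by
    haveI : IsCyclic Z := isCyclic_of_prime_card hZc
    have hZab : ∀ u ∈ Z, ∀ v ∈ Z, u * v = v * u := by
      intro u hu v hv
      have := (IsCyclic.commGroup (α := Z)).mul_comm ⟨u, hu⟩ ⟨v, hv⟩
      exact congrArg Subtype.val this
    have hZKc : ∀ u ∈ Z, ∀ k ∈ K, u * k = k * u := by
      intro u hu k hk
      have h1 : u * k * u⁻¹ * k⁻¹ ∈ Z := by
        have e : u * k * u⁻¹ * k⁻¹ = u * (k * u⁻¹ * k⁻¹) := by group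
        rw [e]; exact Z.mul_mem hu (hZn.conj_mem _ (Z.inv_mem hu) k)
      have h2 : u * k * u⁻¹ * k⁻¹ ∈ K := K.mul_mem (hKn.conj_mem k hk u) (K.inv_mem hk)
      have h3 : u * k * u⁻¹ * k⁻¹ = 1 := by
        have : u * k * u⁻¹ * k⁻¹ ∈ Z ⊓ K := Subgroup.mem_inf.mpr ⟨h1, h2⟩
        rw [hZK] at this
        exact Subgroup.mem_bot.mp this
      calc u * k = (u * k * u⁻¹ * k⁻¹) * (k * u) := by group
        _ = k * u := by rw [h3, one_mul]
    intro z hz y
    have hy : y ∈ Z ⊔ K := by rw [hsup]; trivial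
    obtain ⟨u, hu, k, hk, rfl⟩ := Cfsg.Agent.Lib.Helper3.exists_mul_of_mem_sup_of_le_normalizer Z K
      (by rw [Subgroup.normalizer_eq_top_iff.mpr hKn]; exact le_top) hy
    calc z * (u * k) = (z * u) * k := by group
      _ = (u * z) * k := by rw [hZab z hz u hu]
      _ = u * (z * k) := by group
      _ = u * (k * z) := by rw [hZKc z hz k hk]
      _ = u * k * z := by group
  -- card G = p * card K
  have hcardG : Nat.card G = p * Nat.card K := by
    have h1 := Cfsg.Agent.Lib.Helper6.card_sup_dvd_mul Z K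
      (by rw [Subgroup.normalizer_eq_top_iff.mpr hZn]; exact le_top)
    rw [hsup, Subgroup.card_top, hZc] at h1
    -- also p * card K ∣ card G
    have h2 : p ∣ Nat.card G := by rw [← hZc]; exact Subgroup.card_subgroup_dvd_card Z
    have h3 : Nat.card K ∣ Nat.card G := Subgroup.card_subgroup_dvd_card K
    have h4 : p * Nat.card K ∣ Nat.card G :=
      Nat.Coprime.mul_dvd_of_dvd_of_dvd ((Nat.Prime.coprime_iff_not_dvd hp).mpr hKp) h2 h3
    exact Nat.dvd_antisymm h1 h4
  -- Z ≤ M
  have hZM : Z ≤ M := by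
    obtain ⟨x, hx⟩ := exists_prime_orderOf_dvd_card' p hpM
    have hxo : orderOf (x : G) = p := by rw [Subgroup.orderOf_coe]; exact hx
    have hxZ : (x : G) ∈ Z := by
      rw [← QuotientGroup.eq_one_iff]
      have a1 : ((x : G) : G ⧸ Z) ^ p = 1 := by
        rw [← QuotientGroup.mk_pow, ← hxo, pow_orderOf_eq_one]; rfl
      have a2 : ((x : G) : G ⧸ Z) ^ Nat.card K = 1 := by
        have h5 : Nat.card (G ⧸ Z) = Nat.card K := by
          have h6 := Subgroup.card_mul_index Z
          rw [hZc, hcardG] at h6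
          exact Nat.eq_of_mul_eq_mul_left hp.pos h6
        rw [← h5]; exact pow_card_eq_one'
      have a3 : orderOf (((x : G) : G ⧸ Z)) = 1 :=
        Nat.eq_one_of_dvd_coprimes ((Nat.Prime.coprime_iff_not_dvd hp).mpr hKp)
          (orderOf_dvd_of_pow_eq_one a1) (orderOf_dvd_of_pow_eq_one a2)
      exact orderOf_eq_one_iff.mp a3
    have hzx : zpowers (x : G) = Z :=
      Subgroup.eq_of_le_of_card_ge (zpowers_le.mpr hxZ) (by rw [Nat.card_zpowers, hxo, hZc])
    rw [← hzx]
    exact zpowers_le.mpr x.2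
  -- M = Z ⊔ (M ⊓ K)
  have hMeq : M = Z ⊔ (M ⊓ K) := by
    apply le_antisymm
    · intro m hm
      have hm' : m ∈ Z ⊔ K := by rw [hsup]; trivial
      obtain ⟨u, hu, k, hk, rfl⟩ :=
        Cfsg.Agent.Lib.Helper3.exists_mul_of_mem_sup_of_le_normalizer Z K
          (by rw [Subgroup.normalizer_eq_top_iff.mpr hKn]; exact le_top) hm'
      have hkM : k ∈ M := by
        have e : k = u⁻¹ * (u * k) := by group
        rw [e]; exact M.mul_mem (M.inv_mem (hZM hu)) hm
      exact Subgroup.mul_mem _ (Subgroup.mem_sup_left hu)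
        (Subgroup.mem_sup_right (Subgroup.mem_inf.mpr ⟨hkM, hk⟩))
    · exact sup_le hZM inf_le_left
  -- M ⊓ K nilpotent
  have hMKne : M ⊓ K ≠ K := by
    intro h
    have hKM : K ≤ M := by rw [← h]; exact inf_le_left
    apply hM.1
    rw [eq_top_iff, ← hsup]
    exact sup_le hZM hKM
  have hMKn : Group.IsNilpotent (M ⊓ K : Subgroup G) := by
    have h1 : (M ⊓ K).subgroupOf K ≠ ⊤ := by
      intro h
      apply hMKne
      apply le_antisymm inf_le_right
      exact Subgroup.subgroupOf_eq_top.mp h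
    haveI := hK.2 _ h1
    exact Group.nilpotent_of_mulEquiv (Subgroup.subgroupOfEquivOfLe (inf_le_right : M ⊓ K ≤ K))
  haveI := hMKn
  haveI hZnil : Group.IsNilpotent Z := by
    haveI : IsCyclic Z := isCyclic_of_prime_card hZc
    letI := IsCyclic.commGroup (α := Z)
    exact CommGroup.isNilpotent
  -- the product map
  have hcomm : ∀ (m : Z) (n : (M ⊓ K : Subgroup G)),
      Commute (Z.subtype m) ((M ⊓ K : Subgroup G).subtype n) :=
    fun z k => hZcent z.1 z.2 k.1
  have hrange : (MonoidHom.noncommCoprod Z.subtype (M ⊓ K : Subgroup G).subtype hcomm).range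
      = M := by
    rw [MonoidHom.noncommCoprod_range, Subgroup.range_subtype, Subgroup.range_subtype, ← hMeq]
  have hnil : Group.IsNilpotent
      (MonoidHom.noncommCoprod Z.subtype (M ⊓ K : Subgroup G).subtype hcomm).range :=
    Group.nilpotent_of_surjective
      (MonoidHom.noncommCoprod Z.subtype (M ⊓ K : Subgroup G).subtype hcomm).rangeRestrict
      (MonoidHom.rangeRestrict_surjective _)
  rw [hrange] at hnil
  exact hnil

theorem result {G : Type*} [Group G] [Finite G] (p : ℕ) (hp : p.Prime) (hpG : p ∣ Nat.card G) :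
    (∀ M : Subgroup G, IsCoatom M → p ∣ Nat.card M → Group.IsNilpotent M) ↔
      (Group.IsNilpotent G ∨ Cfsg.IsMinimalNonNilpotent G ∨
        ∃ Z K : Subgroup G, Z.Normal ∧ K.Normal ∧ Z ⊓ K = ⊥ ∧ Z ⊔ K = ⊤ ∧ Nat.card Z = p ∧
          Cfsg.IsMinimalNonNilpotent K ∧ ¬ p ∣ Nat.card K) := by
  haveI : Fact p.Prime := ⟨hp⟩
  constructor
  · intro hyp
    by_cases h1 : Group.IsNilpotent G
    · exact Or.inl h1
    by_cases h2 : Cfsg.IsMinimalNonNilpotent G
    · exact Or.inr (Or.inl h2)
    exact Or.inr (Or.inr (forward p hpG hyp h2 h1))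
  · rintro (h | h | ⟨Z, K, hZn, hKn, hZK, hsup, hZc, hK, hKp⟩)
    · intro M _ _
      haveI := h
      infer_instance
    · intro M hM _
      exact h.2 M hM.1
    · intro M hM hpM
      exact backward3 p Z K hZn hKn hZK hsup hZc hK hKp M hM hpM

end Cfsg.Agent.S4242
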