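import Cfsg.Statements.S4251
import Mathlib
import Cfsg.Agent.S1946
import Cfsg.Agent.Lib.Helper3.AlperinP

set_option autoImplicit false
open Cfsg

namespace Cfsg.Agent.S4251

open Cfsg.Agent.Lib.Helper3

theorem le_sup_of_pquotient {G : Type*} [Group G] [Finite G] {p : ℕ} [Fact p.Prime]
    (R C N : Subgroup G) [hn : (C.subgroupOf N).Normal] (hidx : ¬ p ∣ R.relIndex N)
    (hq : IsPGroup p (↥N ⧸ C.subgroupOf N)) : N ≤ R ⊔ C := by
  have hp : p.Prime := Fact.out
  rw [← Subgroup.relIndex_eq_one]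
  have h1 : (R ⊔ C).relIndex N ∣ R.relIndex N := Subgroup.relIndex_dvd_of_le_left N le_sup_left
  have h2 : (R ⊔ C).relIndex N ∣ C.relIndex N := Subgroup.relIndex_dvd_of_le_left N le_sup_right
  obtain ⟨a, ha⟩ := IsPGroup.iff_card.mp hq
  have h3 : C.relIndex N = p ^ a := by
    rw [Subgroup.relIndex, Subgroup.index_eq_card, ha]
  rw [h3] at h2
  obtain ⟨j, -, hj⟩ := (Nat.dvd_prime_pow hp).mp h2
  rcases Nat.eq_zero_or_pos j with h0 | hpos
  · rw [hj, h0, pow_zero]
  · exfalso
    apply hidx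
    exact dvd_trans (by rw [hj]; exact dvd_pow_self p hpos.ne') h1

/-- Let P be a Sylow p-subgroup of a finite group G. Call an intersection H = P ∩ Q with a Sylow p-subgroup Q tame when N_P(H) and N_Q(H) are Sylow p-subgroups of N_G(H). If N_G(H)/C_G(H) is a p-group for every nontrivial tame intersection H = P ∩ Q, then G has a normal p-complement. -/
theorem result {G : Type*} [Group G] [Finite G] (p : ℕ) [Fact p.Prime] (P : Sylow p G)
    (h : ∀ Q : Sylow p G, (P : Subgroup G) ⊓ (Q : Subgroup G) ≠ ⊥ → (¬ p ∣ ((P : Subgroup G) ⊓ Subgroup.normalizer (((P : Subgroup G) ⊓ (Q : Subgroup G) : Subgroup G) : Set G)).relIndex (Subgroup.normalizer (((P : Subgroup G) ⊓ (Q : Subgroup G) : Subgroup G) : Set G)) ∧ ¬ p ∣ ((Q : Subgroup G) ⊓ Subgroup.normalizer (((P : Subgroup G) ⊓ (Q : Subgroup G) : Subgroup G) : Set G)).relIndex (Subgroup.normalizer (((P : Subgroup G) ⊓ (Q : Subgroup G) : Subgroup G) : Set G))) →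
      IsPGroup p (Subgroup.normalizer (((P : Subgroup G) ⊓ (Q : Subgroup G) : Subgroup G) : Set G) ⧸
        (Subgroup.centralizer (((P : Subgroup G) ⊓ (Q : Subgroup G) : Subgroup G) : Set G)).subgroupOf
          (Subgroup.normalizer (((P : Subgroup G) ⊓ (Q : Subgroup G) : Subgroup G) : Set G)))) :
    Cfsg.HasNormalPComplement p G := by
  classical
  have hp : p.Prime := Fact.out
  rw [Cfsg.Agent.S1946.result P]
  intro a ha _ g hg
  have key : ∀ (A : Set G) (g : G), TameChain P A g →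
      ∃ u ∈ (P : Subgroup G), ∀ a ∈ A, g⁻¹ * a * g = u⁻¹ * a * u := by
    intro A g hch
    induction hch with
    | nil A => exact ⟨1, one_mem _, fun a _ => by group⟩
    | cons A Q x g hstep hA _ ih =>
      obtain ⟨u', hu', hu'a⟩ := ih
      obtain ⟨hxN, ht1, ht2, _⟩ := hstep
      have hu₁ : ∃ u₁ ∈ (P : Subgroup G), ∀ a ∈ A, x⁻¹ * a * x = u₁⁻¹ * a * u₁ := by
        by_cases hbot : (P : Subgroup G) ⊓ (Q : Subgroup G) = ⊥
        · refine ⟨1, one_mem _, fun a ha => ?_⟩
          have h1 : a ∈ (P : Subgroup G) ⊓ (Q : Subgroup G) := hA ha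
          rw [hbot] at h1
          have h2 : a = 1 := Subgroup.mem_bot.mp h1
          rw [h2]; group
        · have hq := h Q hbot ⟨ht1, ht2⟩
          have hle := le_sup_of_pquotient
            ((P : Subgroup G) ⊓ Subgroup.normalizer (((P : Subgroup G) ⊓ (Q : Subgroup G) : Subgroup G) : Set G))
            (Subgroup.centralizer (((P : Subgroup G) ⊓ (Q : Subgroup G) : Subgroup G) : Set G))
            (Subgroup.normalizer (((P : Subgroup G) ⊓ (Q : Subgroup G) : Subgroup G) : Set G)) ht1 hq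
          obtain ⟨r, hr, c, hc, hxrc⟩ := exists_mul_of_mem_sup_of_le_normalizer _ _
            (inf_le_right.trans (normalizer_le_normalizer_centralizer _)) (hle hxN)
          refine ⟨r, (Subgroup.mem_inf.mp hr).1, fun a ha => ?_⟩
          have haH : a ∈ (P : Subgroup G) ⊓ (Q : Subgroup G) := hA ha
          have hrN := (Subgroup.mem_inf.mp hr).2
          have h1 : r⁻¹ * a * r ∈ (P : Subgroup G) ⊓ (Q : Subgroup G) := by
            have := (Subgroup.mem_normalizer_iff.mp (inv_mem hrN) a).mp haH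
            rwa [inv_inv] at this
          have h2 := (Subgroup.mem_centralizer_iff.mp hc) _ h1
          rw [hxrc]
          calc (r * c)⁻¹ * a * (r * c) = c⁻¹ * ((r⁻¹ * a * r) * c) := by group
            _ = c⁻¹ * (c * (r⁻¹ * a * r)) := by rw [h2]
            _ = r⁻¹ * a * r := by group
      obtain ⟨u₁, hu₁P, hu₁a⟩ := hu₁
      refine ⟨u₁ * u', mul_mem hu₁P hu', fun a ha => ?_⟩
      have h1 := hu'a (x⁻¹ * a * x) ⟨a, ha, rfl⟩
      calc (x * g)⁻¹ * a * (x * g) = g⁻¹ * (x⁻¹ * a * x) * g := by group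
        _ = u'⁻¹ * (x⁻¹ * a * x) * u' := h1
        _ = u'⁻¹ * (u₁⁻¹ * a * u₁) * u' := by rw [hu₁a a ha]
        _ = (u₁ * u')⁻¹ * a * (u₁ * u') := by group
  have hch := alperin_tame P {a} g⁻¹ (by
    intro b hb
    rw [Set.mem_singleton_iff] at hb
    rw [hb]; exact ha) (by
    rintro _ ⟨b, hb, rfl⟩
    rw [Set.mem_singleton_iff] at hb
    rw [hb]
    show g⁻¹⁻¹ * a * g⁻¹ ∈ (P : Subgroup G)
    rw [inv_inv]; exact hg)
  obtain ⟨u, hu, hua⟩ := key _ _ hch
  refine ⟨u⁻¹, inv_mem hu, ?_⟩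
  have := hua a (Set.mem_singleton a)
  simpa using this

end Cfsg.Agent.S4251
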