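import Cfsg.Statements.S4348
import Mathlib
import Cfsg.Agent.Lib.Helper7.SylowAux

set_option autoImplicit false
open Cfsg

namespace Cfsg.Agent.S4348

open scoped Pointwise
open Cfsg.Agent.Lib.Helper7

theorem normal_pgroup_le_sylow {G : Type*} [Group G] [Finite G] (p : ℕ) [Fact p.Prime]
    (N : Subgroup G) (hN : N.Normal) (hNp : IsPGroup p N) (Q : Sylow p G) : N ≤ Q := by
  obtain ⟨Q₀, hQ₀⟩ := hNp.exists_le_sylow
  obtain ⟨g, hg⟩ := MulAction.exists_smul_eq G Q₀ Q
  intro n hn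
  have h1 : n ∈ (g • Q₀ : Sylow p G) := by
    rw [mem_sylow_smul_iff]
    apply hQ₀
    have := hN.conj_mem n hn g⁻¹
    simpa using this
  rw [hg] at h1
  exact h1

theorem pCore_le_sylow {G : Type*} [Group G] [Finite G] (p : ℕ) [Fact p.Prime] (Q : Sylow p G) :
    Cfsg.pCore p G ≤ Q := by
  unfold Cfsg.pCore
  apply sSup_le
  rintro N ⟨hN, hNp⟩
  exact normal_pgroup_le_sylow p N hN hNp Q

/-- Let G be a finite group, p a prime and P a Sylow p-subgroup of G, and let O_p(G) be the largest normal p-subgroup of G. If P/O_p(G) is cyclic, then some element of p-power order of G lies in exactly one Sylow p-subgroup. -/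
theorem result {G : Type*} [Group G] [Finite G]
    (p : ℕ) [Fact p.Prime] (P : Sylow p G)
    [hn : ((Cfsg.pCore p G).subgroupOf (P : Subgroup G)).Normal]
    (hc : IsCyclic ((P : Subgroup G) ⧸ (Cfsg.pCore p G).subgroupOf (P : Subgroup G))) :
    ∃ x : G, (∃ k : ℕ, orderOf x = p ^ k) ∧ ∃! Q : Sylow p G, x ∈ Q := by
  obtain ⟨gbar, hgbar⟩ := hc.exists_generator
  obtain ⟨x', rfl⟩ := QuotientGroup.mk_surjective gbar
  refine ⟨(x' : G), orderOf_of_mem_sylow P _ x'.2, P, x'.2, ?_⟩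
  intro Q hxQ
  have hle : (P : Subgroup G) ≤ Q := by
    intro y hy
    obtain ⟨k, hk⟩ := Subgroup.mem_zpowers_iff.mp (hgbar (QuotientGroup.mk (⟨y, hy⟩ : (P : Subgroup G))))
    rw [← QuotientGroup.mk_zpow, QuotientGroup.eq] at hk
    rw [Subgroup.mem_subgroupOf] at hk
    have h1 : (((x' ^ k)⁻¹ * (⟨y, hy⟩ : (P : Subgroup G)) : (P : Subgroup G)) : G) = ((x' : G) ^ k)⁻¹ * y := by
      simp
    rw [h1] at hk
    have h2 := pCore_le_sylow p Q hk
    have h3 : y = (x' : G) ^ k * (((x' : G) ^ k)⁻¹ * y) := by group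
    rw [h3]
    exact (Q : Subgroup G).mul_mem ((Q : Subgroup G).zpow_mem hxQ k) h2
  have h4 := P.is_maximal' Q.isPGroup' hle
  exact Sylow.ext h4

end Cfsg.Agent.S4348
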