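import Cfsg.Statements.S4331
import Mathlib
import Cfsg.Agent.Lib.Helper7.Basic
import Cfsg.Agent.Lib.Helper7.SylowAux
import Cfsg.Agent.Lib.Helper7.Subnormal
import Cfsg.Agent.S4348

set_option autoImplicit false
open Cfsg

namespace Cfsg.Agent.S4331

open Cfsg.Agent.Lib.Helper7

/-- The field with nine elements, as `𝔽₃[i]`. -/
abbrev K := QuadraticAlgebra (ZMod 3) (-1) 0

instance instFintypeK : Fintype K :=
  Fintype.ofEquiv (ZMod 3 × ZMod 3) (QuadraticAlgebra.equivProd (-1 : ZMod 3) 0).symm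

/-- `sg e` is the Frobenius (conjugation) if `e`, the identity otherwise. -/
def sg (e : Bool) (x : K) : K := if e then star x else x

theorem mul_ne_zero' : ∀ a b : K, a ≠ 0 → b ≠ 0 → a * b ≠ 0 := by decide
theorem sg_ne_zero : ∀ (e : Bool) (a : K), a ≠ 0 → sg e a ≠ 0 := by decide
theorem pow7_ne_zero : ∀ a : K, a ≠ 0 → a ^ 7 ≠ 0 := by decide
theorem pow7_mul : ∀ a : K, a ≠ 0 → a ^ 7 * a = 1 := by decide

/-- The group `AΓL₁(9)` of semilinear affine maps `x ↦ u * σ^e(x) + v` of `𝔽₉`. -/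
structure AG where
  v : K
  u : K
  e : Bool
  hu : u ≠ 0
deriving DecidableEq

theorem AG.ext' {x y : AG} (h1 : x.v = y.v) (h2 : x.u = y.u) (h3 : x.e = y.e) : x = y := by
  cases x; cases y
  simp only at h1 h2 h3
  subst h1 h2 h3
  rfl

instance : Mul AG :=
  ⟨fun x y => ⟨x.v + x.u * sg x.e y.v, x.u * sg x.e y.u, xor x.e y.e, mul_ne_zero' _ _ x.hu (sg_ne_zero _ _ y.hu)⟩⟩

instance : One AG := ⟨⟨0, 1, false, by decide⟩⟩

instance : Inv AG :=
  ⟨fun x => ⟨sg x.e (-(x.u ^ 7 * x.v)), sg x.e (x.u ^ 7), x.e, sg_ne_zero _ _ (pow7_ne_zero _ x.hu)⟩⟩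

theorem mul_v (x y : AG) : (x * y).v = x.v + x.u * sg x.e y.v := rfl
theorem mul_u (x y : AG) : (x * y).u = x.u * sg x.e y.u := rfl
theorem mul_e (x y : AG) : (x * y).e = xor x.e y.e := rfl
theorem one_v : (1 : AG).v = 0 := rfl
theorem one_u : (1 : AG).u = 1 := rfl
theorem one_e : (1 : AG).e = false := rfl
theorem inv_v (x : AG) : (x⁻¹).v = sg x.e (-(x.u ^ 7 * x.v)) := rfl
theorem inv_u (x : AG) : (x⁻¹).u = sg x.e (x.u ^ 7) := rfl
theorem inv_e (x : AG) : (x⁻¹).e = x.e := rfl

instance : Group AG :=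
  Group.ofLeftAxioms
    (by
      intro x y z
      apply AG.ext'
      · rw [mul_v, mul_v, mul_v, mul_v, mul_u, mul_e]
        cases x.e <;> cases y.e <;> simp [sg, mul_add, star_mul'] <;> ring
      · rw [mul_u, mul_u, mul_u, mul_u, mul_e]
        cases x.e <;> cases y.e <;> simp [sg, star_mul'] <;> ring
      · rw [mul_e, mul_e, mul_e, mul_e]
        cases x.e <;> cases y.e <;> cases z.e <;> rfl)
    (by
      intro x
      apply AG.ext'
      · rw [mul_v, one_v, one_u, one_e]; simp [sg]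
      · rw [mul_u, one_u, one_e]; simp [sg]
      · rw [mul_e, one_e]; simp)
    (by
      intro x
      apply AG.ext'
      · rw [mul_v, inv_v, inv_u, inv_e, one_v]
        cases x.e <;> simp [sg, star_mul'] 
      · rw [mul_u, inv_u, inv_e, one_u]
        cases h : x.e
        · simp only [sg, Bool.false_eq_true, if_false]
          exact pow7_mul _ x.hu
        · simp only [sg, if_true, star_star]
          rw [← star_mul', pow7_mul _ x.hu, star_one]
      · rw [mul_e, inv_e, one_e]; simp)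

instance : Fintype AG :=
  Fintype.ofEquiv {p : K × K × Bool // p.2.1 ≠ 0}
    { toFun := fun p => ⟨p.1.1, p.1.2.1, p.1.2.2, p.2⟩
      invFun := fun x => ⟨(x.v, x.u, x.e), x.hu⟩
      left_inv := fun p => rfl
      right_inv := fun x => rfl }


/-- The Frobenius involution. -/
def fr : AG := ⟨0, 1, true, by decide⟩

/-- A translation. -/
def tr : AG := ⟨⟨0, 1⟩, 1, false, by decide⟩

theorem fr_sq : fr ^ 2 = 1 := by decide
theorem fr_ne : fr ≠ 1 := by decide
theorem comm_ne : tr * fr * tr⁻¹ * fr⁻¹ ≠ 1 := by decide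
theorem comm_cube : (tr * fr * tr⁻¹ * fr⁻¹) ^ 3 = 1 := by decide

set_option maxRecDepth 100000 in
theorem pow16 : ∀ x : AG, x.v = 0 → x ^ 16 = 1 := by decide +kernel


set_option maxRecDepth 1000000 in
theorem hdec : ∀ c : AG, ∃ x : AG, (x * c * x⁻¹ * fr = fr * (x * c * x⁻¹)) ∨ (x * c * x⁻¹).v = 0 := by
  decide +kernel


/-- The stabilizer of `0`: the semilinear maps `ΓL₁(9)`, a group of order 16. -/
def T : Subgroup AG where
  carrier := {x | x.v = 0}
  mul_mem' := by
    intro x y hx hy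
    show (x * y).v = 0
    have hx' : x.v = 0 := hx
    have hy' : y.v = 0 := hy
    rw [mul_v, hx', hy']
    cases x.e <;> simp [sg]
  one_mem' := rfl
  inv_mem' := by
    intro x hx
    show (x⁻¹).v = 0
    have hx' : x.v = 0 := hx
    rw [inv_v, hx']
    cases x.e <;> simp [sg]

theorem mem_T (x : AG) : x ∈ T ↔ x.v = 0 := Iff.rfl

theorem isPGroup_of_le_T (L : Subgroup AG) (hL : L ≤ T) : IsPGroup 2 L := by
  intro y
  refine ⟨4, ?_⟩
  apply Subtype.ext
  rw [Subgroup.coe_pow]
  exact pow16 y.1 (hL y.2)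

/-- The projection onto the linear part. -/
def proj : AG →* T where
  toFun x := ⟨⟨0, x.u, x.e, x.hu⟩, rfl⟩
  map_one' := rfl
  map_mul' := by
    intro x y
    apply Subtype.ext
    apply AG.ext'
    · show (0 : K) = 0 + x.u * sg x.e 0
      cases x.e <;> simp [sg]
    · rfl
    · rfl

theorem solvable : Group.IsSolvable AG := by
  haveI : Fact (Nat.Prime 2) := ⟨Nat.prime_two⟩
  haveI : Group.IsNilpotent T := (isPGroup_of_le_T T le_rfl).isNilpotent
  haveI : Group.IsSolvable T := inferInstance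
  haveI : Group.IsSolvable proj.ker := by
    apply Group.isSolvable_of_comm
    rintro ⟨a, ha⟩ ⟨b, hb⟩
    apply Subtype.ext
    have ha' : proj a = 1 := ha
    have hb' : proj b = 1 := hb
    have hau : a.u = 1 := congrArg (fun t : T => t.1.u) ha'
    have hae : a.e = false := congrArg (fun t : T => t.1.e) ha'
    have hbu : b.u = 1 := congrArg (fun t : T => t.1.u) hb'
    have hbe : b.e = false := congrArg (fun t : T => t.1.e) hb'
    show a * b = b * a
    apply AG.ext'
    · rw [mul_v, mul_v, hau, hae, hbu, hbe]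
      simp [sg, add_comm]
    · rw [mul_u, mul_u, hau, hae, hbu, hbe]
    · rw [mul_e, mul_e, hae, hbe]
  exact Group.isSolvable_of_ker_le_range proj.ker.subtype proj (by rw [Subgroup.range_subtype])

theorem card_two : Nat.card (Subgroup.zpowers fr) = 2 := by
  haveI : Fact (Nat.Prime 2) := ⟨Nat.prime_two⟩
  rw [Nat.card_zpowers]
  exact orderOf_eq_prime fr_sq fr_ne

theorem class_cond (c : AG) : ∃ g : AG, IsConj c g ∧
    ((Subgroup.zpowers fr).subgroupOf (Subgroup.zpowers fr ⊔ Subgroup.zpowers g)).IsSubnormal := by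
  obtain ⟨x, hx⟩ := hdec c
  refine ⟨x * c * x⁻¹, isConj_iff.mpr ⟨x, rfl⟩, ?_⟩
  rcases hx with hx | hx
  · apply isSubnormal_zpowers_subgroupOf_of_le_centralizer
    apply sup_le
    · rw [Subgroup.zpowers_le, Subgroup.mem_centralizer_singleton_iff]
    · rw [Subgroup.zpowers_le, Subgroup.mem_centralizer_singleton_iff]
      exact hx
  · have hle : Subgroup.zpowers fr ⊔ Subgroup.zpowers (x * c * x⁻¹) ≤ T :=
      sup_le (Subgroup.zpowers_le.mpr (rfl : fr.v = 0)) (Subgroup.zpowers_le.mpr hx)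
    haveI : Fact (Nat.Prime 2) := ⟨Nat.prime_two⟩
    haveI := (isPGroup_of_le_T _ hle).isNilpotent
    exact isSubnormal_of_isNilpotent _

theorem not_le_pCore : ¬ Subgroup.zpowers fr ≤ Cfsg.pCore 2 AG := by
  intro h
  haveI : Fact (Nat.Prime 2) := ⟨Nat.prime_two⟩
  haveI : Fact (Nat.Prime 3) := ⟨Nat.prime_three⟩
  obtain ⟨P⟩ : Nonempty (Sylow 2 AG) := inferInstance
  have h1 : fr ∈ (P : Subgroup AG) := Cfsg.Agent.S4348.pCore_le_sylow 2 P (h (Subgroup.mem_zpowers fr))
  have h2 : fr ∈ ((tr⁻¹ • P : Sylow 2 AG) : Subgroup AG) :=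
    Cfsg.Agent.S4348.pCore_le_sylow 2 _ (h (Subgroup.mem_zpowers fr))
  have h3 : tr * fr * tr⁻¹ ∈ (P : Subgroup AG) := by
    have h3' := (mem_sylow_smul_iff tr⁻¹ fr P).mp h2
    rwa [inv_inv] at h3'
  have h4 : tr * fr * tr⁻¹ * fr⁻¹ ∈ (P : Subgroup AG) := Subgroup.mul_mem _ h3 (Subgroup.inv_mem _ h1)
  have ho : orderOf (tr * fr * tr⁻¹ * fr⁻¹) = 3 := orderOf_eq_prime comm_cube comm_ne
  obtain ⟨k, hk⟩ := P.isPGroup' ⟨_, h4⟩
  have hk' : (tr * fr * tr⁻¹ * fr⁻¹) ^ 2 ^ k = 1 := by
    have h5 := congrArg Subtype.val hk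
    simpa using h5
  have hdvd : 3 ∣ 2 ^ k := by
    rw [← ho]
    exact orderOf_dvd_of_pow_eq_one hk'
  have h6 := Nat.Prime.dvd_of_dvd_pow Nat.prime_three hdvd
  omega

/-- There is a finite solvable group G with a subgroup A of order 2 such that every conjugacy class of G contains an element g for which A is subnormal in the subgroup generated by A and g, and yet A is not contained in O_2(G). (So the corresponding criteria for odd primes fail at the prime 2, even for solvable groups.) -/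
theorem result :
    ∃ (G : Type) (_ : Group G) (_ : Finite G) (A : Subgroup G), Group.IsSolvable G ∧ Nat.card A = 2 ∧
      (∀ c : G, ∃ g : G, IsConj c g ∧ (A.subgroupOf (A ⊔ Subgroup.zpowers g)).IsSubnormal) ∧
      ¬ A ≤ Cfsg.pCore 2 G :=
  ⟨AG, inferInstance, inferInstance, Subgroup.zpowers fr, solvable, card_two, class_cond, not_le_pCore⟩

end Cfsg.Agent.S4331
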