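import Cfsg.Statements.S4347
import Mathlib
import Cfsg.Agent.Lib.Helper7.SylowAux

set_option autoImplicit false
open Cfsg

namespace Cfsg.Agent.S4347

open scoped Pointwise
open Cfsg.Agent.Lib.Helper7

/-- Let G be a finite group and p a prime. Say a Sylow p-subgroup Q is redundant when every element of p-power order lies in some Sylow p-subgroup other than Q. Then G has no redundant Sylow p-subgroup if and only if some element of p-power order lies in exactly one Sylow p-subgroup. -/
theorem result {G : Type*} [Group G] [Finite G]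
    (p : ℕ) [Fact p.Prime] :
    (¬ ∃ Q : Sylow p G, ∀ x : G, (∃ k : ℕ, orderOf x = p ^ k) → ∃ P : Sylow p G, P ≠ Q ∧ x ∈ P) ↔
      ∃ x : G, (∃ k : ℕ, orderOf x = p ^ k) ∧ ∃! P : Sylow p G, x ∈ P := by
  constructor
  · intro h
    push Not at h
    obtain ⟨x, hx, hxQ⟩ := h (default : Sylow p G)
    refine ⟨x, hx, ?_⟩
    obtain ⟨Q, hQ⟩ := exists_mem_sylow_of_orderOf x hx
    have hQd : Q = default := by
      by_contra hne
      exact hxQ Q hne hQ
    refine ⟨Q, hQ, ?_⟩
    intro P hP
    by_contra hne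
    exact hxQ P (by rw [← hQd]; exact hne) hP
  · rintro ⟨x, hx, P₀, hP₀, huniq⟩ ⟨Q, hQ⟩
    obtain ⟨g, hg⟩ := MulAction.exists_smul_eq G P₀ Q
    obtain ⟨k, hk⟩ := hx
    obtain ⟨P, hPQ, hyP⟩ := hQ (g * x * g⁻¹) ⟨k, by rw [orderOf_conj_eq]; exact hk⟩
    have h1 : x ∈ (g⁻¹ • P : Sylow p G) := by
      rw [mem_sylow_smul_iff, inv_inv]
      exact hyP
    have h2 := huniq _ h1
    apply hPQ
    rw [← hg, ← h2, smul_smul, mul_inv_cancel, one_smul]

end Cfsg.Agent.S4347
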