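import Cfsg.Statements.S5185
import Mathlib
import Cfsg.Agent.Lib.Helper8.EssPSq
import Cfsg.Agent.Lib.Helper8.FusionMisc

set_option autoImplicit false
universe u
open Cfsg

namespace Cfsg.Agent.S5185

/-- Let F be a saturated fusion system over a finite p-group S and H an essential subgroup of order p². Then H is elementary abelian (isomorphic to C_p × C_p) and its F-automorphism group contains a subgroup isomorphic to SL(2,p). -/
theorem result {Ω : Type u} [Group Ω] {S : Subgroup Ω} [Finite S] (p : ℕ) [Fact p.Prime] (hS : IsPGroup p S)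
    (F : Cfsg.FusionSystem S) (hF : F.IsSaturated p) (H : Subgroup Ω) (hH : F.IsEssential p H) (hcard : Nat.card H = p ^ 2) :
    Cfsg.IsElementaryAbelian p H ∧
      ∃ K : Subgroup ↥(F.autGroup H), Nonempty (↥K ≃* Matrix.SpecialLinearGroup (Fin 2) (ZMod p)) := by
  obtain ⟨hcen, hfn, hN, E, hE⟩ := hH
  have hHS : H ≤ S := hcen.1
  have hfinH : Finite H := Cfsg.Agent.Lib.Helper8.finite_of_le_fs hHS
  have hfinX : Finite (F.autGroup H) := Cfsg.Agent.Lib.Helper8.finite_autGroup F hHS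
  have hcomm : ∀ a b : H, a * b = b * a := IsPGroup.commutative_of_card_eq_prime_sq hcard
  have hInn : (Inn H).subgroupOf (F.autGroup H) = ⊥ := by
    rw [eq_bot_iff]
    intro x hx
    rw [Subgroup.mem_subgroupOf] at hx
    obtain ⟨h, hh⟩ := hx
    rw [Subgroup.mem_bot]
    apply Subtype.ext
    rw [← hh]
    ext y
    show ((h * y * h⁻¹ : H) : Ω) = y
    rw [hcomm h y, mul_inv_cancel_right]
  have hcore0 : pCore p (F.autGroup H ⧸ (Inn H).subgroupOf (F.autGroup H)) = ⊥ :=
    Cfsg.Agent.Lib.Helper8.pCore_eq_bot_of_stronglyPEmbedded p E hE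
  have hp : p ∣ Nat.card (F.autGroup H) :=
    dvd_trans hE.1 (Subgroup.card_quotient_dvd_card _)
  have hcore : ∀ N : Subgroup (F.autGroup H), N.Normal → IsPGroup p N → N = ⊥ := by
    intro N hNn hNp
    have h1 : N.map (QuotientGroup.mk' ((Inn H).subgroupOf (F.autGroup H))) ≤ pCore p _ :=
      Cfsg.Agent.Lib.Helper8.le_pCore8 (hNn.map _ (QuotientGroup.mk'_surjective _)) (hNp.map _)
    rw [hcore0] at h1
    rw [eq_bot_iff]
    intro x hx
    have h2 : QuotientGroup.mk' ((Inn H).subgroupOf (F.autGroup H)) x ∈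
        (⊥ : Subgroup (F.autGroup H ⧸ (Inn H).subgroupOf (F.autGroup H))) := h1 ⟨x, hx, rfl⟩
    rw [Subgroup.mem_bot] at h2
    have h3 : x ∈ (Inn H).subgroupOf (F.autGroup H) := (QuotientGroup.eq_one_iff x).1 h2
    rwa [hInn] at h3
  obtain ⟨-, hexp, P, Q, hPQ⟩ :=
    Cfsg.Agent.Lib.Helper8.mulAut_order_p_sq8 p H hcard (F.autGroup H) hp hcore
  obtain ⟨ε, hε⟩ := Cfsg.Agent.Lib.Helper8.exists_mulAut_gl2_8 p H hcard hcomm hexp
  refine ⟨⟨⟨⟨fun a b => hcomm a b⟩⟩, fun a ha => ?_⟩, ?_⟩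
  · have := hexp ⟨a, ha⟩
    exact congrArg Subtype.val this
  · exact Cfsg.Agent.Lib.Helper8.exists_sl2_of_two_sylow8 p (ε.comp (F.autGroup H).subtype)
      (hε.comp Subtype.val_injective) P Q hPQ

end Cfsg.Agent.S5185
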