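import Cfsg.Statements.S5186
import Mathlib
import Cfsg.Agent.Lib.Helper8.P3a
import Cfsg.Agent.Lib.Helper8.P3b

set_option autoImplicit false
universe u
open Cfsg

namespace Cfsg.Agent.S5186

/-- Let F be a saturated fusion system over a finite p-group S and H an essential subgroup of order p³. Then H is elementary abelian, or p is odd and H is extraspecial of exponent p, or p = 2 and H is the quaternion group of order 8. -/
theorem result {Ω : Type u} [Group Ω] {S : Subgroup Ω} [Finite S] (p : ℕ) [Fact p.Prime] (hS : IsPGroup p S)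
    (F : Cfsg.FusionSystem S) (hF : F.IsSaturated p) (H : Subgroup Ω) (hH : F.IsEssential p H) (hcard : Nat.card H = p ^ 3) :
    Cfsg.IsElementaryAbelian p H ∨ (Odd p ∧ Cfsg.IsExtraspecial p ↥H ∧ ∀ x ∈ H, x ^ p = 1) ∨
      (p = 2 ∧ Nonempty (↥H ≃* QuaternionGroup 2)) := by
  haveI : Finite ↥H := Nat.finite_of_card_ne_zero (by
    rw [hcard]; exact pow_ne_zero 3 (Fact.out : p.Prime).pos.ne')
  rcases Cfsg.Agent.Lib.Helper8.p3_classify8 (P := ↥H) p hcard with h | h | h | h
  · left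
    exact ⟨⟨⟨fun a b => h.1 a b⟩⟩, fun a ha => congrArg Subtype.val (h.2 ⟨a, ha⟩)⟩
  · right; left
    exact ⟨h.1, h.2.1, fun x hx => congrArg Subtype.val (h.2.2 ⟨x, hx⟩)⟩
  · right; right; exact h
  · exfalso
    obtain ⟨C₁, C₂, h12, hc1, hc2, hch1, hch2⟩ := h
    obtain ⟨U, hUn, hUp, hU⟩ :=
      Cfsg.Agent.Lib.Helper8.chain_pclosed8 p C₁ C₂ h12 hc1 hc2 hcard hch1 hch2
    exact Cfsg.Agent.Lib.Helper8.essential_not_pclosed8 p F H hH U hUn hUp hU

end Cfsg.Agent.S5186
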