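import Cfsg.Statements.S5188
import Mathlib
import Cfsg.Agent.Lib.Helper8.P4e
import Cfsg.Agent.Lib.Helper8.Fusion

set_option autoImplicit false
universe u
open Cfsg

namespace Cfsg.Agent.S5188

/-- Let F be a saturated fusion system over a finite p-group S and H an essential subgroup of order p⁴. Then H is isomorphic to one of: C_p⁴ or C_{p²} × C_p × C_p (any p); C_{p²} × C_{p²} with p ∈ {2, 3}; p^{1+2}_+ × C_p with p odd (the direct product of an extraspecial group of order p³ and exponent p with a group of order p); Q₈ × C₂ (p = 2); or the non-abelian group of order p⁴ of exponent p² whose centre is cyclic of order p² (the central product of an extraspecial group of order p³ with a cyclic group of order p²; for p = 2 this is D₈ ∘ C₄). -/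
theorem result {Ω : Type u} [Group Ω] {S : Subgroup Ω} [Finite S] (p : ℕ) [Fact p.Prime] (hS : IsPGroup p S)
    (F : Cfsg.FusionSystem S) (hF : F.IsSaturated p) (H : Subgroup Ω) (hH : F.IsEssential p H) (hcard : Nat.card H = p ^ 4) :
    Cfsg.IsElementaryAbelian p H ∨
      Nonempty (↥H ≃* Multiplicative (ZMod (p ^ 2) × ZMod p × ZMod p)) ∨
      ((p = 2 ∨ p = 3) ∧ Nonempty (↥H ≃* Multiplicative (ZMod (p ^ 2) × ZMod (p ^ 2)))) ∨
      (Odd p ∧ ∃ (E : Type) (_ : Group E) (_ : Finite E), Cfsg.IsExtraspecial p E ∧ Nat.card E = p ^ 3 ∧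
        (∀ x : E, x ^ p = 1) ∧ Nonempty (↥H ≃* E × Multiplicative (ZMod p))) ∨
      (p = 2 ∧ Nonempty (↥H ≃* QuaternionGroup 2 × Multiplicative (ZMod 2))) ∨
      (¬ IsMulCommutative ↥H ∧ (∀ x ∈ H, x ^ (p ^ 2) = 1) ∧ IsCyclic ↥(Subgroup.center ↥H) ∧
        Nat.card (Subgroup.center ↥H) = p ^ 2) := by
  have hHS : H ≤ S := hH.1.1
  haveI : Finite ↥H := Cfsg.Agent.Lib.Helper8.finite_of_le_fs hHS
  by_cases hc : ∀ a b : ↥H, a * b = b * a
  · rcases Cfsg.Agent.Lib.Helper8.abel_p4_cases8' hc p hcard with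
      ⟨K, hKn, hKp, hK⟩ | hexp | h211 | h22
    · exact (Cfsg.Agent.Lib.Helper8.essential_abelian_not8 p F H hH hc K hKn hKp hK).elim
    · left
      exact ⟨⟨⟨fun a b => hc a b⟩⟩, fun a ha => congrArg Subtype.val (hexp ⟨a, ha⟩)⟩
    · right; left; exact h211
    · right; right; left; exact h22
  · have hchain : Cfsg.Agent.Lib.Helper8.HasCharChain4_8 p ↥H → False := by
      intro hch
      obtain ⟨U, hUn, hUp, hU⟩ := Cfsg.Agent.Lib.Helper8.chain4_pclosed8 p hcard hch
      exact Cfsg.Agent.Lib.Helper8.essential_not_pclosed8 p F H hH U hUn hUp hU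
    have hnab' : ¬ IsMulCommutative ↥H := fun h => hc (fun a b => h.is_comm.comm a b)
    rcases Cfsg.Agent.Lib.Helper8.p4_nonab_center8 p hcard hc with hZ | hZ
    · exact (hchain (Cfsg.Agent.Lib.Helper8.p4_center_p8 p hcard hZ)).elim
    · rcases Cfsg.Agent.Lib.Helper8.p4_center_p2_8 p hcard hZ hc with
        hch | ⟨hexp2, hcyc⟩ | ⟨hodd, hexp, E, ⟨e⟩⟩ | ⟨h2, hq⟩
      · exact (hchain hch).elim
      · right; right; right; right; right
        exact ⟨hnab', fun x hx => congrArg Subtype.val (hexp2 ⟨x, hx⟩), hcyc, hZ⟩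
      · right; right; right; left
        exact ⟨hodd, Cfsg.Agent.Lib.Helper8.extraspecial_model8 p hcard hc hexp E e⟩
      · right; right; right; right; left
        exact ⟨h2, hq⟩

end Cfsg.Agent.S5188
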