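import Cfsg.Statements.S5191
import Mathlib
import Cfsg.Agent.Lib.Helper8.GroupFusion4

set_option autoImplicit false
open Cfsg

namespace Cfsg.Agent.S5191

/-- Fusion in a finite group G and in its quotient by O_{p'}(G) agree. Let S be a Sylow p-subgroup of G, N = O_{p'}(G) and P ≤ S. If an element of G/N conjugates the image of P into the image of S, then some element g of G conjugates P into S and induces the same map on P modulo N. (Together with the injectivity of S → G/N this says that g ↦ gN induces an isomorphism of the fusion system of G on S with that of G/N on SN/N.) -/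
theorem result {G : Type*} [Group G] [Finite G] {p : ℕ} [Fact p.Prime]
    [hN : (Cfsg.pPrimeCore p G).Normal] (S : Sylow p G) (P : Subgroup G) (hP : P ≤ (S : Subgroup G))
    (γ : G ⧸ Cfsg.pPrimeCore p G)
    (hγ : ∀ x ∈ P, γ * QuotientGroup.mk x * γ⁻¹ ∈ ((S : Subgroup G).map (QuotientGroup.mk' (Cfsg.pPrimeCore p G)))) :
    ∃ g : G, ∀ x ∈ P, g * x * g⁻¹ ∈ S ∧
      (QuotientGroup.mk (g * x * g⁻¹) : G ⧸ Cfsg.pPrimeCore p G) = γ * QuotientGroup.mk x * γ⁻¹ := by
  classical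
  obtain ⟨k, rfl⟩ := QuotientGroup.mk_surjective γ
  have hV : Cfsg.Agent.Lib.Helper8.conjSub k P ≤ (S : Subgroup G) ⊔ Cfsg.pPrimeCore p G := by
    rintro _ ⟨x, hx, rfl⟩
    obtain ⟨t, ht, hte⟩ := hγ x hx
    have h3 : t⁻¹ * (k * x * k⁻¹) ∈ Cfsg.pPrimeCore p G := by
      rw [← QuotientGroup.eq_one_iff, QuotientGroup.mk_mul, QuotientGroup.mk_inv]
      have : (QuotientGroup.mk t : G ⧸ Cfsg.pPrimeCore p G) = QuotientGroup.mk (k * x * k⁻¹) := by
        rw [QuotientGroup.mk_mul, QuotientGroup.mk_mul, QuotientGroup.mk_inv]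
        exact hte
      rw [this, inv_mul_cancel]
    have h4 : k * x * k⁻¹ = t * (t⁻¹ * (k * x * k⁻¹)) := by group
    show k * x * k⁻¹ ∈ (S : Subgroup G) ⊔ Cfsg.pPrimeCore p G
    rw [h4]
    exact Subgroup.mul_mem _ (Subgroup.mem_sup_left ht) (Subgroup.mem_sup_right h3)
  have hVp : IsPGroup p (Cfsg.Agent.Lib.Helper8.conjSub k P) := (S.isPGroup'.to_le hP).map _
  obtain ⟨n, hn, hnV⟩ := Cfsg.Agent.Lib.Helper8.exists_conj_normal_le_sylow S
    (Cfsg.pPrimeCore p G) hV hVp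
  refine ⟨n * k, ?_⟩
  intro x hx
  have e : n * k * x * (n * k)⁻¹ = n * (k * x * k⁻¹) * n⁻¹ := by group
  refine ⟨?_, ?_⟩
  · rw [e]
    exact hnV (Cfsg.Agent.Lib.Helper8.conj_mem_conjSub (Cfsg.Agent.Lib.Helper8.conj_mem_conjSub hx))
  · have hn1 : (QuotientGroup.mk n : G ⧸ Cfsg.pPrimeCore p G) = 1 :=
      (QuotientGroup.eq_one_iff n).2 hn
    rw [e, QuotientGroup.mk_mul, QuotientGroup.mk_mul, QuotientGroup.mk_inv, hn1, one_mul, inv_one,
      mul_one, QuotientGroup.mk_mul, QuotientGroup.mk_mul, QuotientGroup.mk_inv]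

end Cfsg.Agent.S5191
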