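import Cfsg.Statements.S5600
import Mathlib
import Cfsg.Agent.Lib.Helper9.M24Pack
import Cfsg.Agent.Lib.Helper9.M24Fix
import Cfsg.Agent.S5614

set_option autoImplicit false
open scoped Pointwise
open Cfsg

namespace Cfsg.Agent.S5600

open Cfsg.Agent.Lib.Helper9
open Cfsg
open Cfsg.Agent.S5614
open scoped Pointwise

def Ktet : Subgroup (Equiv.Perm GolayPt) :=
  M24 ⊓ MulAction.stabilizer (Equiv.Perm GolayPt) (mset 15)

theorem card_Ktet : Nat.card Ktet = 23040 := tetA.2

theorem memKtet (l : List ℕ) (hl : isM24L l = true) (h : (actM l 0 15 == 15) = true) :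
    permL l ∈ Ktet :=
  ⟨permL_mem_M24 hl, stab_mset_of_eq (isPermL_of_isM24L hl) _ (beq_iff_eq.mp h)⟩

def gensKtet : List (List ℕ) :=
  [[0, 3, 1, 2, 14, 21, 10, 5, 22, 7, 23, 4, 17, 19, 20, 9, 6, 13, 8, 11, 16, 15, 12, 18],
   [1, 3, 0, 2, 16, 4, 17, 15, 11, 5, 19, 14, 8, 18, 12, 22, 9, 10, 21, 6, 13, 20, 23, 7],
   [2, 1, 0, 3, 19, 10, 5, 16, 9, 14, 15, 17, 8, 21, 4, 22, 6, 12, 13, 11, 18, 20, 23, 7],
   [1, 0, 3, 2, 22, 23, 16, 11, 10, 15, 6, 19, 9, 18, 14, 7, 4, 5, 21, 12, 20, 13, 8, 17]]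

theorem gensKtet_ok : gensKtet.all (fun l => isM24L l && (actM l 0 15 == 15)) = true := by
  decide +kernel

def hs_X : ℕ := 0x82000f80400f80002f40080f40020f40004f30000f24000f20200f14000f10200f09000f08800f08010f04200f02400f02002f01800f01010f00810f00402f00140f00108f00101f000a0f00084f00048f00041f00024f00009f

def hs_P : ℕ := 0x2001a03000901001903000001000c02000c00000902001301001402001701001702000002000203001a00001d00000601000101000001000603001900000000001801001c01000902001000001200000102000900000c000000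

def hs_D : ℕ := 0x20203010202020404030301030203030301030301030302030203020200

def hs_levels : List (ℕ × List (List ℕ)) :=
  [(0, [[0, 1, 2, 3, 4, 5, 6, 7, 8, 9, 10, 11, 12, 13, 14, 15, 16, 17, 18, 19, 20, 21, 22, 23],
      [1, 3, 0, 2, 4, 19, 21, 7, 6, 20, 12, 13, 10, 17, 16, 9, 22, 15, 23, 11, 5, 14, 18, 8],
      [2, 3, 0, 1, 4, 17, 9, 7, 8, 6, 10, 22, 12, 18, 23, 15, 16, 5, 13, 19, 21, 20, 11, 14],
      [3, 1, 2, 0, 4, 19, 20, 7, 9, 21, 12, 18, 10, 5, 16, 6, 11, 15, 14, 22, 17, 23, 13, 8]]),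
   (1, [[0, 1, 2, 3, 4, 5, 6, 7, 8, 9, 10, 11, 12, 13, 14, 15, 16, 17, 18, 19, 20, 21, 22, 23],
      [0, 2, 1, 3, 4, 15, 20, 7, 6, 21, 12, 18, 10, 23, 8, 9, 22, 19, 17, 11, 14, 5, 13, 16],
      [0, 3, 1, 2, 4, 15, 22, 7, 18, 9, 10, 6, 12, 23, 8, 21, 20, 16, 14, 13, 17, 5, 11, 19]]),
   (5, [[0, 1, 2, 3, 4, 5, 6, 7, 8, 9, 10, 11, 12, 13, 14, 15, 16, 17, 18, 19, 20, 21, 22, 23],
      [0, 1, 2, 3, 4, 6, 5, 7, 18, 14, 10, 23, 12, 15, 9, 13, 21, 22, 8, 20, 19, 16, 17, 11],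
      [0, 1, 3, 2, 4, 8, 6, 7, 5, 22, 12, 11, 10, 13, 16, 23, 14, 19, 18, 17, 21, 20, 9, 15],
      [0, 1, 2, 3, 4, 9, 14, 7, 20, 5, 10, 17, 12, 16, 6, 21, 13, 11, 19, 18, 8, 15, 23, 22],
      [0, 1, 2, 3, 7, 11, 14, 4, 18, 5, 12, 17, 10, 19, 22, 13, 21, 9, 16, 20, 15, 8, 23, 6],
      [0, 1, 3, 2, 7, 13, 17, 4, 6, 5, 10, 14, 12, 16, 20, 11, 9, 21, 19, 22, 15, 8, 23, 18],
      [0, 1, 2, 3, 4, 14, 9, 7, 19, 6, 10, 22, 12, 21, 5, 16, 15, 23, 20, 8, 18, 13, 11, 17],
      [0, 1, 3, 2, 7, 15, 22, 4, 5, 6, 10, 9, 12, 21, 19, 23, 14, 16, 20, 17, 13, 18, 11, 8],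
      [0, 1, 3, 2, 4, 16, 22, 7, 17, 6, 12, 9, 10, 20, 8, 14, 23, 15, 21, 5, 18, 13, 11, 19],
      [0, 1, 2, 3, 4, 17, 22, 7, 16, 11, 10, 9, 12, 20, 23, 19, 8, 5, 21, 15, 13, 18, 6, 14],
      [0, 1, 3, 2, 4, 18, 5, 7, 6, 17, 12, 23, 10, 15, 21, 11, 9, 20, 8, 22, 16, 19, 14, 13],
      [0, 1, 3, 2, 4, 19, 9, 7, 14, 11, 12, 22, 10, 21, 15, 17, 5, 8, 20, 23, 13, 18, 6, 16],
      [0, 1, 3, 2, 7, 20, 5, 4, 22, 17, 10, 23, 12, 8, 13, 9, 11, 18, 15, 6, 19, 16, 14, 21],
      [0, 1, 3, 2, 7, 21, 23, 4, 9, 14, 10, 5, 12, 15, 18, 22, 6, 13, 8, 11, 16, 19, 17, 20],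
      [0, 1, 2, 3, 4, 22, 17, 7, 21, 23, 10, 14, 12, 19, 11, 20, 18, 6, 16, 13, 15, 8, 5, 9],
      [0, 1, 2, 3, 7, 23, 9, 4, 8, 6, 12, 22, 10, 20, 17, 15, 16, 14, 21, 19, 13, 18, 11, 5]]),
   (2, [[0, 1, 2, 3, 4, 5, 6, 7, 8, 9, 10, 11, 12, 13, 14, 15, 16, 17, 18, 19, 20, 21, 22, 23],
      [0, 1, 3, 2, 4, 5, 18, 7, 8, 21, 12, 13, 10, 11, 17, 15, 19, 14, 6, 16, 22, 9, 20, 23]]),
   (4, [[0, 1, 2, 3, 4, 5, 6, 7, 8, 9, 10, 11, 12, 13, 14, 15, 16, 17, 18, 19, 20, 21, 22, 23],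
      [0, 1, 2, 3, 7, 5, 22, 4, 15, 11, 12, 9, 10, 21, 14, 8, 19, 17, 20, 16, 18, 13, 6, 23]])]

set_option maxHeartbeats 40000000 in
theorem hs : (orbS Ktet (mset 159)).ncard = 30 ∧
    Nat.card ↥(Ktet ⊓ MulAction.stabilizer (Equiv.Perm GolayPt) (mset 159)) = 768 := by
  have h := orb1_exact Ktet 23040 card_Ktet (fun l => actM l 0 15 == 15) memKtet
    gensKtet gensKtet_ok hs_X hs_P hs_D 30 0 159 (by decide +kernel)
    (by decide +kernel) (by decide +kernel) hs_levels (by decide +kernel) (by decide +kernel)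
  have e : chainProd hs_levels = 768 := by decide +kernel
  rw [e] at h
  exact h

def hu_X : ℕ := 0xc0000fa0000f90000f88000f84000f81000f80800f80200f80100f80080f80040f80020f80010f80008f80004f80001f60000f50000f48000f44000f42000f41000f40800f40400f40200f40100f40040f40010f40008f40002f40001f28000f22000f21000f20800f20400f20100f20080f20040f20020f20010f20008f20004f20002f20001f18000f12000f11000f10800f10400f10100f10080f10040f10020f10010f10008f10004f10002f10001f0c000f0a000f08400f08200f08100f08080f08040f08020f08008f08004f08002f08001f06000f05000f04800f04400f04100f04080f04040f04020f04010f04008f04004f04002f04001f03000f02800f02200f02100f02080f02040f02020f02010f02008f02004f02001f01400f01200f01100f01080f01040f01020f01008f01004f01002f01001f00c00f00a00f00900f00880f00840f00820f00808f00804f00802f00801f00600f00500f00480f00440f00420f00410f00408f00404f00401f00300f00280f00240f00220f00210f00208f00204f00202f00201f00180f00120f00110f00104f00102f000c0f00090f00088f00082f00081f00060f00050f00044f00042f00030f00028f00022f00021f00018f00014f00012f00011f0000cf0000af00006f00005f00003f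

def hu_P : ℕ := 0x3000002008700002902008101008701008103000a02008c01008800005e01008b02008400005201009f03000d00001503004c03006500001f02006f02003301002d03000901003301006f00008401004a03008103002d03004103003703005303009b01004c03005100000003006401005003005003005401005400000a02003f02001d02002c00002c00002b01007300007c02007801007c03006800002503006d03008e03006f00004000002602007c02006503009601001501006b00008700006102000000003503003302003703004701000d03009802006802006b03002c00009f01001f03001f01003f02006d01009800009a00009200009600006d01000400004801002503009200001702001403009f02009601005b03009a00006501006503005b00007200006701003702009202003a00006801000000007301006801002602005e01004301003a01009201005c00007603003b03007c00008103002602000a00002d00004c01009600003703004000008b02006400004202005001006d02009b00004b01006a02005502006302004400008c03005e02004200005b00006402009c02005b01000601004b01004801006303004401003e01009a01003b00003300005102003e02001702002b00003b03004a030046020040000000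

def hu_D : ℕ := 0x1040503040304040402040405020404040304030304040303040503040502050504050104040403030404050303040402040204030304030404020303040404050105030204040504040302040404030504030303040403030305020303040303030405020304040104040402040403040503020304040404030204040404040305040404040304020403040403040404040304040303050403040305040400

def hu_levels : List (ℕ × List (List ℕ)) :=
  [(0, [[0, 1, 2, 3, 4, 5, 6, 7, 8, 9, 10, 11, 12, 13, 14, 15, 16, 17, 18, 19, 20, 21, 22, 23],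
      [1, 2, 3, 0, 4, 5, 18, 10, 15, 13, 7, 20, 12, 22, 23, 16, 19, 17, 11, 8, 6, 9, 21, 14],
      [2, 3, 1, 0, 5, 4, 22, 23, 16, 11, 17, 6, 14, 21, 12, 19, 15, 10, 13, 8, 18, 20, 9, 7],
      [3, 2, 1, 0, 5, 4, 20, 23, 19, 13, 14, 18, 17, 9, 10, 16, 15, 12, 11, 8, 6, 22, 21, 7]]),
   (1, [[0, 1, 2, 3, 4, 5, 6, 7, 8, 9, 10, 11, 12, 13, 14, 15, 16, 17, 18, 19, 20, 21, 22, 23],
      [0, 2, 1, 3, 4, 5, 20, 12, 8, 18, 10, 13, 7, 11, 14, 16, 15, 23, 9, 19, 6, 22, 21, 17],
      [0, 3, 2, 1, 5, 4, 6, 14, 8, 22, 23, 11, 17, 13, 7, 19, 16, 12, 20, 15, 18, 21, 9, 10]]),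
   (4, [[0, 1, 2, 3, 4, 5, 6, 7, 8, 9, 10, 11, 12, 13, 14, 15, 16, 17, 18, 19, 20, 21, 22, 23],
      [0, 1, 2, 3, 5, 4, 21, 23, 8, 18, 14, 13, 17, 11, 10, 15, 16, 12, 9, 19, 22, 6, 20, 7]]),
   (2, [[0, 1, 2, 3, 4, 5, 6, 7, 8, 9, 10, 11, 12, 13, 14, 15, 16, 17, 18, 19, 20, 21, 22, 23],
      [0, 1, 3, 2, 4, 5, 18, 7, 8, 21, 12, 13, 10, 11, 17, 15, 19, 14, 6, 16, 22, 9, 20, 23]]),
   (6, [[0, 1, 2, 3, 4, 5, 6, 7, 8, 9, 10, 11, 12, 13, 14, 15, 16, 17, 18, 19, 20, 21, 22, 23],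
      [0, 1, 2, 3, 4, 5, 16, 10, 13, 19, 12, 8, 7, 11, 23, 20, 21, 14, 9, 18, 22, 6, 15, 17],
      [0, 1, 2, 3, 4, 5, 21, 12, 11, 18, 7, 13, 10, 8, 17, 22, 6, 23, 19, 9, 15, 16, 20, 14]])]

set_option maxHeartbeats 40000000 in
theorem hu : (orbS Ktet (mset 63)).ncard = 160 ∧
    Nat.card ↥(Ktet ⊓ MulAction.stabilizer (Equiv.Perm GolayPt) (mset 63)) = 144 := by
  have h := orb1_exact Ktet 23040 card_Ktet (fun l => actM l 0 15 == 15) memKtet
    gensKtet gensKtet_ok hu_X hu_P hu_D 160 0 63 (by decide +kernel)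
    (by decide +kernel) (by decide +kernel) hu_levels (by decide +kernel) (by decide +kernel)
  have e : chainProd hu_levels = 144 := by decide +kernel
  rw [e] at h
  exact h

def Khu : Subgroup (Equiv.Perm GolayPt) :=
  Ktet ⊓ MulAction.stabilizer (Equiv.Perm GolayPt) (mset 63)

theorem card_Khu : Nat.card Khu = 144 := hu.2

theorem memKhu (l : List ℕ) (hl : isM24L l = true) (h : (actM l 0 15 == 15 && actM l 0 63 == 63) = true) :
    permL l ∈ Khu := by
  rw [Bool.and_eq_true] at h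
  exact ⟨memKtet l hl h.1, stab_mset_of_eq (isPermL_of_isM24L hl) _ (beq_iff_eq.mp h.2)⟩

def gensKhu : List (List ℕ) :=
  [[0, 3, 1, 2, 4, 5, 22, 10, 8, 6, 12, 11, 7, 13, 17, 19, 15, 23, 21, 16, 18, 20, 9, 14],
   [3, 1, 2, 0, 4, 5, 6, 7, 18, 11, 12, 9, 10, 19, 23, 20, 21, 17, 8, 13, 15, 16, 22, 14],
   [3, 1, 0, 2, 5, 4, 13, 17, 19, 21, 23, 18, 14, 9, 7, 15, 8, 10, 6, 16, 22, 11, 20, 12]]

theorem gensKhu_ok : gensKhu.all (fun l => isM24L l && (actM l 0 15 == 15 && actM l 0 63 == 63)) = true := by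
  decide +kernel

def hC : List ℕ := [12, 7, 1, 0, 20, 10, 17, 14, 8, 5, 23, 18, 13, 19, 4, 6, 16, 2, 15, 22, 11, 9, 21, 3]

theorem hC_ok : (isM24L hC && actM hC 0 8536078 == 159) = true := by decide +kernel

def L144_big : ℕ := 0xbdab49ca307b9ac5a928398a418820bd90f94dcda46073293562ca418022bd670b3e29339076b28b548a408c40bd5667d9c88452a932933b4a408043bd136819d37c56a6b2a83c8a410c20bd10f3422bb3a67932a9534a410023bcec9a9a349396a41e0d63ca410460bcdb2355cb4c68c79e16520a410061bcac942dcf9c4caab1b03d0a400462bca135a2264b9e7a31b6554a400861bc2954c9d6345ac41e6b53ca418440bc1669262dabaca79e74620a418041bbeb45b5c6b464c99d09540a400823bbd366ae32a38ca81d1564ca400c22bb5e84ce365ba07ab246550a418402bb4cb9a5d0446caa324f3d4a418801bae4d8563343a8cb28cf3a4a410c01bade8ac1d46c6674a8d2658a410403ba613a3dd5945075aacd618a408860ba5b27d2289baac32ad03aca408062ba24db51c95c6ac81de654ca408c02ba0cba5a356b92a99df2640a408803b9a954362f83a4c4a9733d8a400443b9a706a1d2ac5e7b2974624a400c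418da6fac2f2a390c59ccd524a410c208d9b4855c87de4a49cd362ca4100238d6c69a6ef839676aa48650a4184408d5104cdcb35deca2a563b4a4180418d26f5a1c9b5e0caa9a63c8a400c228d0d642ef07b927929b3654a4008238ceb2b52e64b9aa431eb3c0a4088608cd69a59cd95cc7831f5520a4080628c9f3341d64dd0c6aaab3d0a4104608c96981ae89bac7a2aaf634a4100618c2c66add4add279b11253ca4004438c2555b6e933a8a7b1163cca400c418bdb44caebb3aaa832663a0a4180228bcd6925d5a5d674326d540a4188208b608b3dc65de6c92a893d4a4088038b52b7daf3438c7aaa90648a408c028ae8d9c9cf45eaa31d30658a4184028ae0894ef56b9ecb1d34518a4188018a6b2435d09de8ab1d6f618a4008618a5f36a2f493a0c31d75558a4004628a28d356f65ba4a9b2093bca4104038a12ba99d26dec77b21454ca410c0189a557d1d385daa59ec8624a408c4089910a3eedaba6c49ed252ca40804375a54436f37c6a733170524a400c2275a0f6a235a5e6a4b172398a400823755f05a2f63466a91da9650a4004437552642e3385ecca1daf548a400c417520f4cee6b450a69e4b654a418820751769a6287dccca9e50534a41802274e925b6364dea78290663ca40046274cc96aef5946cc7a91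43c0a40086174913b3eeb4c60aa9e86634a408062748c97da309dd6c69e88554a408860741b5b522b35e479a9e9620a40804374126a5af2ac56c429ed3cca408c4073e5435629b5da742a0b64ca410c2073d76a9aeda452c9aa123a0a410023736cb81a2f45d2c91eb3550a41040373668342e95c5eaa1eb6648a410c0172ead7d2f0446474b2d3518a40880372e68a3e326de0a332d53a4a408c0272692856ef9c5a75b0c8558a41046072513ac22d95deab30d43aca410061722cb926f46c4cc82a753bca418402722ad4ca265de877aa76640a418801719f094e34add0a5b12d3d8a418440719b59cae884687b312f52ca41804165ab4434f07aa574b973898850082365a6f6a152a1e1133975ba48500c22655267d95381d6e6de888c88508c4065510b3ceb32a7195e8973485080436526f340e9b29116deab7488510c20651768194879d2e95eb38b4851002364db2b514b49eb7845e6720850806264cc9a58f59296e445edbc08508860649f35a0f64aa11adda67508500462648c942d5099ecea5daf8d48500861642955b55631e579c50973c8500443641266acf2aaace7c514bcc8500c4163eb44c946b1db74466b740851882063d76924eda28ce84675ba08518022636cb9a54f41cceade508d08518402636084cce6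5a9f1a5e56754851880162e4d7d0f342ab733ad08a48508c0262e08a3d5569e714bad2b988508803625f3ac15491d115b8cdbd88510460625b2854e89aa97b38cf8ac8510061622cba98f46a92e9c612bbc85104036224d3554959e977c61674c8510c0161a959c8ef829b75b9288d885184406191094d4da9df1b3934bac851804155a0f94cf5a310e5dd2d8988518820559b49c98879eb135d3072c8518022555f04cd9631d0e6c64bbd08518440555669a4e8832d7a464f73485180415520f5a186b1e6e945a9bd485008235513642cf37b0d7ac5b07488500c2254ec96ad9491cd7839158bc850046254eb25b4e64b2917b916bc0850086154ac9818ef9b1776c6a87508510460549133418b49deea46b6bb4851006154255b50e9331b1439ebbcc8508c4054166a598da9d379b9f28a0850804353db4354ebb32519ba09ba0851002353d36a9992a1d7743a0d8cc8510c2053668b3d8959e0eac686bc88508c02534cb7d8f04313794693754850880352e8d8558f41e514dcd3758851040352e68ac0f26b1eeb5cd48a48510c01526b27d19099db15dec8718850886052513a3ced9320e35ed58ac85080625228d4c8f65b2b183a66bbc8518402520cb9259569ed77ba748c0851880151a554359381e91b5d6f7248500c415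19f06a0f4ab26e4dd728d885004433da54855537b1ae5c4c8ba48510c203d90fac18da2a774c4d272c85100233d6c642d8f82931939b3bd085004433d6705a149331f7a39b68c88500c413d10f4cd4bb3217aba468b485180223d0d69a5907a9716ba48bd485188203ce92355964a9ae45e0b8bc85104603cd69a994d932d17de1472085100613ca13b3d464b1176ba8b8d485088603c9697d9889a8d1aba90bb485080623c2c692554ab17145e6d73c85184403c1b54c98b32a8e7de768a085180413be545b589b2aae85d068cc8500c223bcd66ad55a31319dd1274085008233b5e8341565b27793aa98d085104033b52b8199342ad1a3aafbc88510c013aead9c9504328eb452fb9885188013ade894d946aa173453575885184023a6924354f9b2ae34570bd885004623a6136a195929f7b457471885008613a2adb51865aa4e9dde98c085088033a12ba59526b0d185df574c8508c0239a70a3d92aa9175c6cd7248508c40399b57d1488324e4c6d3bac8508043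

def L144 : List (List ℕ) := listOfBig L144_big 144

theorem L144_chk : ∀ l ∈ L144, (isM24L l && (actM l 0 15 == 15 && actM l 0 63 == 63)) = true :=
  listOfBig_all L144_big 144 (fun l => isM24L l && (actM l 0 15 == 15 && actM l 0 63 == 63)) (by decide +kernel)

theorem L144_nodup : L144.Nodup :=
  listOfBig_nodup _ _ (by decide +kernel) (by decide +kernel)

def fix3 : List (List ℕ) :=
  [[0, 1, 2, 3, 4, 5, 21, 12, 11, 18, 7, 13, 10, 8, 17, 22, 6, 23, 19, 9, 15, 16, 20, 14],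
   [0, 1, 2, 3, 4, 5, 16, 10, 13, 19, 12, 8, 7, 11, 23, 20, 21, 14, 9, 18, 22, 6, 15, 17],
   [0, 1, 2, 3, 4, 5, 6, 7, 8, 9, 10, 11, 12, 13, 14, 15, 16, 17, 18, 19, 20, 21, 22, 23]]

theorem L144_fix : ∀ l ∈ L144, ((List.range 24).all (fun i => !((63 : ℕ).testBit i) || l.getD i 0 == i) →
    l ∈ fix3) :=
  fun l hl => by
    have := listOfBig_all L144_big 144 (fun l => !((List.range 24).all
      (fun i => !((63 : ℕ).testBit i) || l.getD i 0 == i)) || fix3.contains l) (by decide +kernel) l hl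
    intro h
    rw [h] at this
    simpa using this

theorem fix3_chk : fix3.all (fun l => isM24L l && (List.range 24).all
    (fun i => !((63 : ℕ).testBit i) || l.getD i 0 == i)) = true := by decide +kernel

def swS : List (List ℕ) :=
  [[5, 2, 1, 3, 18, 0, 6, 16, 21, 19, 22, 20, 12, 13, 14, 15, 7, 17, 4, 9, 11, 8, 10, 23],
   [5, 3, 2, 1, 18, 0, 15, 12, 13, 7, 16, 21, 22, 20, 14, 4, 11, 17, 6, 8, 19, 10, 9, 23],
   [5, 14, 2, 3, 7, 0, 12, 11, 19, 4, 22, 9, 10, 20, 1, 18, 15, 17, 21, 13, 8, 16, 6, 23],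
   [5, 17, 2, 3, 20, 0, 19, 12, 11, 9, 13, 8, 7, 10, 14, 15, 16, 1, 21, 6, 4, 18, 22, 23],
   [5, 23, 2, 3, 11, 0, 16, 9, 13, 4, 20, 7, 18, 15, 14, 21, 22, 17, 10, 6, 12, 8, 19, 1],
   [5, 1, 3, 2, 9, 0, 19, 21, 11, 20, 15, 6, 7, 22, 14, 13, 4, 17, 12, 8, 16, 18, 10, 23],
   [5, 1, 14, 3, 13, 0, 22, 21, 9, 8, 10, 15, 12, 4, 2, 11, 19, 17, 18, 16, 20, 7, 6, 23],
   [5, 1, 17, 3, 22, 0, 19, 20, 18, 15, 21, 4, 11, 8, 14, 6, 13, 2, 16, 9, 10, 7, 12, 23],
   [5, 1, 23, 3, 12, 0, 9, 6, 15, 10, 7, 22, 11, 21, 14, 13, 20, 17, 19, 16, 18, 8, 4, 2],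
   [5, 1, 2, 14, 22, 0, 12, 20, 18, 8, 9, 7, 13, 15, 3, 6, 11, 17, 10, 21, 16, 4, 19, 23],
   [5, 1, 2, 17, 11, 0, 6, 9, 21, 7, 10, 4, 12, 15, 14, 13, 19, 3, 20, 16, 18, 8, 22, 23],
   [5, 1, 2, 23, 22, 0, 20, 19, 13, 21, 15, 4, 11, 16, 14, 7, 18, 17, 8, 10, 9, 6, 12, 3],
   [5, 1, 2, 3, 11, 0, 10, 13, 9, 20, 4, 6, 8, 22, 17, 21, 15, 14, 16, 7, 12, 18, 19, 23],
   [5, 1, 2, 3, 9, 0, 8, 7, 6, 4, 15, 11, 21, 22, 23, 10, 20, 17, 18, 19, 16, 12, 13, 14],
   [5, 1, 2, 3, 15, 0, 10, 9, 16, 6, 7, 19, 21, 8, 14, 22, 18, 23, 13, 12, 4, 11, 20, 17]]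

def swU : List (List ℕ) :=
  [[1, 0, 2, 3, 4, 5, 6, 10, 20, 9, 7, 22, 12, 15, 14, 13, 21, 23, 19, 18, 8, 16, 11, 17],
   [2, 1, 0, 3, 4, 5, 8, 7, 6, 19, 12, 16, 10, 21, 14, 22, 11, 23, 18, 9, 20, 13, 15, 17],
   [3, 1, 2, 0, 4, 5, 21, 12, 19, 13, 10, 18, 7, 9, 14, 15, 16, 23, 11, 8, 22, 6, 20, 17],
   [4, 1, 2, 3, 0, 5, 6, 12, 14, 18, 10, 23, 7, 17, 8, 22, 21, 13, 9, 19, 20, 16, 15, 11],
   [5, 1, 2, 3, 4, 0, 16, 13, 10, 18, 8, 12, 11, 7, 14, 20, 6, 23, 9, 19, 15, 21, 22, 17],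
   [0, 2, 1, 3, 4, 5, 15, 10, 11, 19, 7, 8, 12, 13, 17, 6, 22, 14, 18, 9, 21, 20, 16, 23],
   [0, 3, 2, 1, 4, 5, 21, 10, 8, 20, 7, 13, 12, 11, 23, 19, 16, 17, 22, 15, 9, 6, 18, 14],
   [0, 4, 2, 3, 1, 5, 6, 7, 8, 19, 12, 13, 10, 11, 20, 23, 21, 22, 18, 9, 14, 16, 17, 15],
   [0, 5, 2, 3, 4, 1, 21, 20, 13, 19, 15, 11, 22, 8, 14, 10, 16, 23, 18, 9, 7, 6, 12, 17],
   [0, 1, 3, 2, 4, 5, 9, 10, 13, 6, 7, 11, 12, 8, 14, 20, 18, 23, 16, 21, 15, 19, 22, 17],
   [0, 1, 4, 3, 2, 5, 23, 12, 13, 19, 10, 11, 7, 8, 16, 15, 14, 21, 18, 9, 22, 17, 20, 6],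
   [0, 1, 5, 3, 4, 2, 12, 21, 11, 9, 16, 8, 6, 13, 14, 15, 10, 23, 19, 18, 22, 7, 20, 17],
   [0, 1, 2, 4, 3, 5, 6, 10, 11, 14, 7, 8, 12, 13, 9, 15, 21, 19, 23, 17, 22, 16, 20, 18],
   [0, 1, 2, 5, 4, 3, 6, 18, 8, 12, 19, 13, 9, 11, 14, 22, 21, 23, 7, 10, 20, 16, 15, 17],
   [0, 1, 2, 3, 5, 4, 6, 17, 13, 9, 23, 11, 14, 8, 12, 20, 21, 7, 19, 18, 15, 16, 22, 10]]

def swChk (E : ℕ) (sw : List (List ℕ)) : Bool :=
  sw.all (fun l => isM24L l && actM l 0 E == E) &&
  (List.range 24).all (fun i => (List.range 24).all (fun j =>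
    !(E.testBit i && E.testBit j && i != j) ||
    sw.any (fun l => l.getD i 0 == j && l.getD j 0 == i &&
      (List.range 24).all (fun k => !(E.testBit k) || k == i || k == j || l.getD k 0 == k))))

theorem swS_ok : swChk 8536078 swS = true := by decide +kernel

theorem swU_ok : swChk 63 swU = true := by decide +kernel

theorem Eu_not_oct : allBelow (fun n => !(pc 24 (cw n) == 8 && (cw n &&& 63) == 63)) 4096 = true := by
  decide +kernel

theorem sw_spec {E : ℕ} {sw : List (List ℕ)} (h : swChk E sw = true) (i j : ℕ) (hi : i < 24)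
    (hj : j < 24) (hEi : E.testBit i = true) (hEj : E.testBit j = true) (hij : i ≠ j) :
    ∃ l ∈ sw, isM24L l = true ∧ actM l 0 E = E ∧ l.getD i 0 = j ∧ l.getD j 0 = i ∧
      ∀ k < 24, E.testBit k = true → k ≠ i → k ≠ j → l.getD k 0 = k := by
  unfold swChk at h
  rw [Bool.and_eq_true] at h
  obtain ⟨h1, h2⟩ := h
  rw [List.all_eq_true] at h1 h2
  have h3 := h2 i (List.mem_range.mpr hi)
  rw [List.all_eq_true] at h3
  have h4 := h3 j (List.mem_range.mpr hj)
  have hcond : (E.testBit i && E.testBit j && i != j) = true := by simp [hEi, hEj, hij]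
  rw [hcond] at h4
  simp only [Bool.not_true, Bool.false_or, List.any_eq_true] at h4
  obtain ⟨l, hl, hl'⟩ := h4
  have hm := h1 l hl
  simp only [Bool.and_eq_true, beq_iff_eq, List.all_eq_true, List.mem_range, Bool.or_eq_true,
    Bool.not_eq_true'] at hl' hm
  refine ⟨l, hl, hm.1, hm.2, hl'.1.1, hl'.1.2, ?_⟩
  intro k hk hEk hki hkj
  rcases hl'.2 k hk with ((h | h) | h) | h
  · rw [hEk] at h; exact absurd h (by simp)
  · exact absurd h hki
  · exact absurd h hkj
  · exact h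

theorem stabL (E : ℕ) : ∀ g ∈ M24 ⊓ MulAction.stabilizer (Equiv.Perm GolayPt) (mset E),
    ∀ x, g x ∈ mset E ↔ x ∈ mset E :=
  fun g hg x => (smul_finset_eq_iff g _).mp hg.2 x

theorem range_top (E : ℕ) (sw : List (List ℕ)) (h : swChk E sw = true) :
    (restrictHom (M24 ⊓ MulAction.stabilizer (Equiv.Perm GolayPt) (mset E)) (mset E)
      (stabL E)).range = ⊤ := by
  rw [eq_top_iff, ← Equiv.Perm.closure_isSwap, Subgroup.closure_le]
  rintro σ ⟨a, b, hab, rfl⟩
  have hia := mem_mset.mp a.2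
  have hib := mem_mset.mp b.2
  have hne : ptIdx a.1 ≠ ptIdx b.1 := fun e => hab (Subtype.ext (ptIdx_injective e))
  obtain ⟨l, hl, hm, hst, hij, hji, hk⟩ :=
    sw_spec h (ptIdx a.1) (ptIdx b.1) (ptIdx_lt _) (ptIdx_lt _) hia hib hne
  have hp := isPermL_of_isM24L hm
  have hmem : permL l ∈ M24 ⊓ MulAction.stabilizer (Equiv.Perm GolayPt) (mset E) :=
    ⟨permL_mem_M24 hm, stab_mset_of_eq hp _ hst⟩
  show Equiv.swap a b ∈ (restrictHom _ (mset E) (stabL E)).range
  rw [MonoidHom.mem_range]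
  refine ⟨⟨permL l, hmem⟩, ?_⟩
  apply Equiv.ext
  intro x
  apply Subtype.ext
  rw [restrictHom_apply]
  show permL l x.1 = _
  rw [permL_apply hp]
  unfold listFun
  by_cases hxa : x = a
  · rw [hxa, Equiv.swap_apply_left, hij, ptOf_ptIdx]
  · by_cases hxb : x = b
    · rw [hxb, Equiv.swap_apply_right, hji, ptOf_ptIdx]
    · rw [Equiv.swap_apply_of_ne_of_ne hxa hxb,
        hk (ptIdx x.1) (ptIdx_lt _) (mem_mset.mp x.2)
          (fun e => hxa (Subtype.ext (ptIdx_injective e)))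
          (fun e => hxb (Subtype.ext (ptIdx_injective e))), ptOf_ptIdx]

theorem base_ext (E : ℕ) (sw : List (List ℕ)) (h : swChk E sw = true) (τ : Equiv.Perm GolayPt)
    (hτ : ∀ p, τ p ∈ mset E ↔ p ∈ mset E) : ∃ g ∈ M24, ∀ p ∈ mset E, g p = τ p := by
  have hr := range_top E sw h
  have hmem : τ.subtypePerm hτ ∈ (restrictHom _ (mset E) (stabL E)).range := by
    rw [hr]; exact Subgroup.mem_top _
  obtain ⟨g, hg⟩ := hmem
  refine ⟨g.1, g.2.1, ?_⟩
  intro p hp
  have := congrArg (fun σ : Equiv.Perm ↥(mset E) => (σ ⟨p, hp⟩ : GolayPt)) hg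
  exact this

theorem ext_transport (E0 : Finset GolayPt)
    (hB : ∀ τ : Equiv.Perm GolayPt, (∀ p, τ p ∈ E0 ↔ p ∈ E0) → ∃ g ∈ M24, ∀ p ∈ E0, g p = τ p)
    (a : Equiv.Perm GolayPt) (ha : a ∈ M24) (σ : Equiv.Perm ↥(a • E0)) :
    ∃ g ∈ M24, ∀ p : ↥(a • E0), g p = σ p := by
  have key : ∀ q, q ∈ a • E0 ↔ a⁻¹ q ∈ E0 := by
    intro q
    rw [← Finset.smul_mem_smul_finset_iff a⁻¹, inv_smul_smul]
    rfl
  have hτ : ∀ p, (a⁻¹ * Equiv.Perm.ofSubtype σ * a) p ∈ E0 ↔ p ∈ E0 := by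
    intro p
    simp only [Equiv.Perm.coe_mul, Function.comp_apply]
    rw [← key]
    by_cases hp : p ∈ E0
    · have hap : a p ∈ a • E0 := Finset.smul_mem_smul_finset hp
      rw [Equiv.Perm.ofSubtype_apply_of_mem σ hap]
      exact ⟨fun _ => hp, fun _ => (σ ⟨a p, hap⟩).2⟩
    · have hap : a p ∉ a • E0 := by
        intro h
        apply hp
        have := (key (a p)).mp h
        simpa using this
      rw [Equiv.Perm.ofSubtype_apply_of_not_mem σ hap]
      exact ⟨fun h => absurd h hap, fun h => absurd h hp⟩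
  obtain ⟨g0, hg0, hagree⟩ := hB _ hτ
  refine ⟨a * g0 * a⁻¹, M24.mul_mem (M24.mul_mem ha hg0) (M24.inv_mem ha), ?_⟩
  intro p
  have hp' : a⁻¹ p.1 ∈ E0 := (key p.1).mp p.2
  simp only [Equiv.Perm.coe_mul, Function.comp_apply]
  rw [hagree _ hp']
  simp only [Equiv.Perm.coe_mul, Function.comp_apply]
  have e : ∀ q : GolayPt, a (a⁻¹ q) = q := fun q => by simp
  rw [e, e, Equiv.Perm.ofSubtype_apply_of_mem σ p.2]

theorem card_fix_transport (E0 : Finset GolayPt) (a : Equiv.Perm GolayPt) (ha : a ∈ M24) :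
    Nat.card {g : Equiv.Perm GolayPt // g ∈ M24 ∧ ∀ p ∈ a • E0, g p = p} =
      Nat.card {g : Equiv.Perm GolayPt // g ∈ M24 ∧ ∀ p ∈ E0, g p = p} := by
  apply Nat.card_congr
  exact Equiv.subtypeEquiv (MulAut.conj a⁻¹).toEquiv (fun g => by
    show (g ∈ M24 ∧ ∀ p ∈ a • E0, g p = p) ↔
      (a⁻¹ * g * a⁻¹⁻¹ ∈ M24 ∧ ∀ p ∈ E0, (a⁻¹ * g * a⁻¹⁻¹) p = p)
    rw [inv_inv]
    constructor
    · rintro ⟨hg, hfix⟩
      refine ⟨M24.mul_mem (M24.mul_mem (M24.inv_mem ha) hg) ha, ?_⟩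
      intro p hp
      simp only [Equiv.Perm.coe_mul, Function.comp_apply]
      rw [hfix (a p) (Finset.smul_mem_smul_finset hp)]
      simp
    · rintro ⟨hg, hfix⟩
      refine ⟨?_, ?_⟩
      · have : g = a * (a⁻¹ * g * a) * a⁻¹ := by group
        rw [this]
        exact M24.mul_mem (M24.mul_mem ha hg) (M24.inv_mem ha)
      · intro q hq
        obtain ⟨p, hp, rfl⟩ := Finset.mem_smul_finset.mp hq
        have h1 := hfix p hp
        simp only [Equiv.Perm.coe_mul, Function.comp_apply] at h1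
        have h2 := congrArg a h1
        simpa using h2)

theorem card_stab_conj (x : Finset GolayPt) (a : Equiv.Perm GolayPt) (ha : a ∈ M24) :
    Nat.card ↥(M24 ⊓ MulAction.stabilizer (Equiv.Perm GolayPt) (a • x)) =
      Nat.card ↥(M24 ⊓ MulAction.stabilizer (Equiv.Perm GolayPt) x) := by
  apply Nat.card_congr
  exact
    { toFun := fun g => ⟨a⁻¹ * g.1 * a, M24.mul_mem (M24.mul_mem (M24.inv_mem ha) g.2.1) ha, by
        have h2 : g.1 • a • x = a • x := g.2.2
        show (a⁻¹ * g.1 * a) • x = x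
        rw [mul_smul, mul_smul, h2, inv_smul_smul]⟩
      invFun := fun g => ⟨a * g.1 * a⁻¹, M24.mul_mem (M24.mul_mem ha g.2.1) (M24.inv_mem ha), by
        have h2 : g.1 • x = x := g.2.2
        show (a * g.1 * a⁻¹) • a • x = a • x
        rw [mul_smul, mul_smul, inv_smul_smul, h2]⟩
      left_inv := fun g => by
        apply Subtype.ext
        show a * (a⁻¹ * g.1 * a) * a⁻¹ = g.1
        group
      right_inv := fun g => by
        apply Subtype.ext
        show a⁻¹ * (a * g.1 * a⁻¹) * a = g.1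
        group }

theorem card_subtype_list (P : Equiv.Perm GolayPt → Prop) (L : List (List ℕ))
    (hperm : ∀ l ∈ L, isPermL l = true) (hnd : L.Nodup)
    (h1 : ∀ g, P g → ∃ l ∈ L, g = permL l) (h2 : ∀ l ∈ L, P (permL l)) :
    Nat.card {g : Equiv.Perm GolayPt // P g} = L.length := by
  classical
  have hinj : Set.InjOn permL (L.toFinset : Set (List ℕ)) := by
    intro a ha b hb e
    simp only [Finset.mem_coe, List.mem_toFinset] at ha hb
    exact permL_inj (hperm a ha) (hperm b hb) e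
  have hset : {g : Equiv.Perm GolayPt | P g} =
      ((L.toFinset.image permL : Finset (Equiv.Perm GolayPt)) : Set (Equiv.Perm GolayPt)) := by
    ext g
    simp only [Set.mem_setOf_eq, Finset.coe_image, Set.mem_image, Finset.mem_coe,
      List.mem_toFinset]
    constructor
    · intro hg
      obtain ⟨l, hl, rfl⟩ := h1 g hg
      exact ⟨l, hl, rfl⟩
    · rintro ⟨l, hl, rfl⟩
      exact h2 l hl
  calc Nat.card {g : Equiv.Perm GolayPt // P g}
      = ({g : Equiv.Perm GolayPt | P g}).ncard := (Nat.card_coe_set_eq _)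
    _ = L.length := by
        rw [hset, Set.ncard_coe_finset, Finset.card_image_of_injOn hinj,
          List.toFinset_card_of_nodup hnd]

theorem smul_eq_of_fix {g : Equiv.Perm GolayPt} {s : Finset GolayPt} (h : ∀ p ∈ s, g p = p) :
    g • s = s := by
  ext q
  rw [Finset.mem_smul_finset]
  constructor
  · rintro ⟨p, hp, rfl⟩
    show g p ∈ s
    rw [h p hp]; exact hp
  · intro hq
    exact ⟨q, hq, h q hq⟩

/-! ### The special hexad -/

theorem cardS : Nat.card {g : Equiv.Perm GolayPt // g ∈ M24 ∧ ∀ p ∈ mset 8536078, g p = p} = 16 := by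
  have hok := fixE16_ok
  rw [List.all_eq_true] at hok
  have h := card_subtype_list (fun g => g ∈ M24 ∧ ∀ p ∈ mset 8536078, g p = p) fixE16
    (fun l hl => by
      have := hok l hl
      rw [Bool.and_eq_true] at this
      exact isPermL_of_isM24L this.1)
    (by decide)
    (fun g hg => fixE_eq g hg.1 hg.2)
    (fun l hl => by
      have := hok l hl
      rw [Bool.and_eq_true, decide_eq_true_eq] at this
      exact ⟨permL_mem_M24 this.1, permL_fix_of_list (isPermL_of_isM24L this.1) _ this.2⟩)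
  rw [h]
  rfl

theorem baseS : ∀ τ : Equiv.Perm GolayPt, (∀ p, τ p ∈ mset 8536078 ↔ p ∈ mset 8536078) →
    ∃ g ∈ M24, ∀ p ∈ mset 8536078, g p = τ p :=
  base_ext 8536078 swS swS_ok

/-! ### The umbral hexad -/

theorem L144_mem : ∀ l ∈ L144, isPermL l = true ∧ permL l ∈ Khu := by
  intro l hl
  have h' := L144_chk l hl
  rw [Bool.and_eq_true] at h'
  exact ⟨isPermL_of_isM24L h'.1, memKhu l h'.1 h'.2⟩

theorem Khu_list : ∀ g ∈ Khu, ∃ l ∈ L144, g = permL l :=
  subgroup_eq_list Khu L144 144 card_Khu L144_mem L144_nodup (length_listOfBig _ _)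

theorem cardU : Nat.card {g : Equiv.Perm GolayPt // g ∈ M24 ∧ ∀ p ∈ mset 63, g p = p} = 3 := by
  have hok := fix3_chk
  rw [List.all_eq_true] at hok
  have h := card_subtype_list (fun g => g ∈ M24 ∧ ∀ p ∈ mset 63, g p = p) fix3
    (fun l hl => by
      have := hok l hl
      rw [Bool.and_eq_true] at this
      exact isPermL_of_isM24L this.1)
    (by decide)
    (fun g hg => by
      have hmem : g ∈ Khu := by
        refine ⟨⟨hg.1, ?_⟩, ?_⟩
        · exact smul_eq_of_fix (fun p hp => hg.2 p (mset_subset_of_and (by decide) hp))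
        · exact smul_eq_of_fix hg.2
      obtain ⟨l, hl, rfl⟩ := Khu_list g hmem
      refine ⟨l, L144_fix l hl ?_, rfl⟩
      have hp := (L144_mem l hl).1
      rw [List.all_eq_true]
      intro i hi
      rw [List.mem_range] at hi
      by_cases hb : (63 : ℕ).testBit i = true
      · have hfix := hg.2 (ptOf i) (by rw [mem_mset, ptIdx_ptOf hi]; exact hb)
        rw [permL_ptOf hp hi] at hfix
        have := ptOf_injOn (getD_lt_of_isPermL hp hi) hi hfix
        rw [Bool.or_eq_true]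
        right
        rw [beq_iff_eq]
        exact this
      · rw [Bool.or_eq_true]
        left
        rw [Bool.not_eq_true']
        exact (Bool.not_eq_true _).mp hb)
    (fun l hl => by
      have := hok l hl
      rw [Bool.and_eq_true, List.all_eq_true] at this
      refine ⟨permL_mem_M24 this.1, permL_fix_of_list (isPermL_of_isM24L this.1) _ ?_⟩
      intro i hi
      have h3 := this.2 i.val (List.mem_range.mpr i.isLt)
      simpa [hi] using h3)
  rw [h]
  rfl

theorem baseU : ∀ τ : Equiv.Perm GolayPt, (∀ p, τ p ∈ mset 63 ↔ p ∈ mset 63) →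
    ∃ g ∈ M24, ∀ p ∈ mset 63, g p = τ p :=
  base_ext 63 swU swU_ok

theorem card_stabU :
    Nat.card ↥(M24 ⊓ MulAction.stabilizer (Equiv.Perm GolayPt) (mset 63)) = 2160 := by
  have hr := range_top 63 swU swU_ok
  have h1 := Subgroup.card_mul_index
    (restrictHom (M24 ⊓ MulAction.stabilizer (Equiv.Perm GolayPt) (mset 63)) (mset 63)
      (stabL 63)).ker
  rw [Subgroup.index_ker, hr, Subgroup.card_top, card_perm_coe, card_mset] at h1
  have hker : Nat.card ↥(restrictHom (M24 ⊓ MulAction.stabilizer (Equiv.Perm GolayPt) (mset 63))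
      (mset 63) (stabL 63)).ker = 3 := by
    rw [← cardU]
    apply Nat.card_congr
    exact
      { toFun := fun x => ⟨x.1.1, x.1.2.1, (restrictHom_eq_one_iff _ _ _ x.1).mp x.2⟩
        invFun := fun y => ⟨⟨y.1, y.2.1, smul_eq_of_fix y.2.2⟩,
          (restrictHom_eq_one_iff _ _ _ _).mpr y.2.2⟩
        left_inv := fun _ => rfl
        right_inv := fun _ => rfl }
  rw [hker] at h1
  rw [← h1]
  decide

theorem umbral_no_oct (a : Equiv.Perm GolayPt) (ha : a ∈ M24) (o : Finset GolayPt)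
    (ho : o ∈ octads) (hsub : a • mset 63 ⊆ o) : False := by
  have ho' := smul_mem_octads (M24.inv_mem ha) ho
  have hsub' : mset 63 ⊆ a⁻¹ • o := by
    have := Finset.smul_finset_subset_smul_finset (a := a⁻¹) hsub
    rwa [inv_smul_smul] at this
  obtain ⟨n, hn, hpc, he⟩ := (mem_octads_iff _).mp ho'
  rw [he] at hsub'
  have h1 : mset (cw n &&& 63) = mset 63 := by
    rw [mset_and]
    exact Finset.inter_eq_right.mpr hsub'
  have h2 := mset_injOn (lt_of_le_of_lt Nat.and_le_right (by norm_num)) (by norm_num) h1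
  have h3 := allBelow_spec _ _ Eu_not_oct n hn
  simp [hpc, h2] at h3

/-! ### Reduction to the two representatives -/

theorem ncard_S6_le : {E : Finset GolayPt | E.card = 6 ∧ mset 15 ⊆ E}.ncard ≤ 190 := by
  classical
  have hsub : {E : Finset GolayPt | E.card = 6 ∧ mset 15 ⊆ E} ⊆
      ((((Finset.univ : Finset GolayPt) \ mset 15).powersetCard 2).image
        (fun s => mset 15 ∪ s) : Finset (Finset GolayPt)) := by
    rintro E ⟨hc, hs⟩
    simp only [Finset.coe_image, Set.mem_image, Finset.mem_coe, Finset.mem_powersetCard]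
    refine ⟨E \ mset 15, ⟨Finset.sdiff_subset_sdiff (Finset.subset_univ _) (le_refl _), ?_⟩,
      Finset.union_sdiff_of_subset hs⟩
    rw [Finset.card_sdiff_of_subset hs, hc, card_mset]
    decide
  have h1 := Set.ncard_le_ncard hsub (Finset.finite_toSet _)
  rw [Set.ncard_coe_finset] at h1
  have h2 : ((((Finset.univ : Finset GolayPt) \ mset 15).powersetCard 2).image
      (fun s => mset 15 ∪ s)).card ≤ 190 := by
    refine le_trans Finset.card_image_le ?_
    rw [Finset.card_powersetCard, Finset.card_sdiff_of_subset (Finset.subset_univ _),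
      Finset.card_univ, card_golayPt', card_mset]
    decide
  exact le_trans h1 h2

theorem S6_cover {E : Finset GolayPt} (hc : E.card = 6) (hsub : mset 15 ⊆ E) :
    E ∈ orbS Ktet (mset 159) ∨ E ∈ orbS Ktet (mset 63) := by
  have hfin : {E : Finset GolayPt | E.card = 6 ∧ mset 15 ⊆ E}.Finite := Set.toFinite _
  have h := cover_of_orbits Ktet {E : Finset GolayPt | E.card = 6 ∧ mset 15 ⊆ E} hfin
    (fun g hg s hs' => by
      have hg2 : g • mset 15 = mset 15 := hg.2
      refine ⟨by rw [Finset.card_smul_finset]; exact hs'.1, ?_⟩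
      rw [← hg2]
      exact Finset.smul_finset_subset_smul_finset hs'.2)
    [mset 159, mset 63]
    (by
      intro x hx
      simp only [List.mem_cons, List.not_mem_nil, or_false] at hx
      rcases hx with rfl | rfl
      · exact ⟨by rw [card_mset]; decide, mset_subset_of_and (by decide)⟩
      · exact ⟨by rw [card_mset]; decide, mset_subset_of_and (by decide)⟩)
    (by simp only [List.map_cons, List.map_nil]; rw [hs.1, hu.1]; decide)
    (by
      simp only [List.map_cons, List.map_nil, List.sum_cons, List.sum_nil]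
      rw [hs.1, hu.1]
      exact ncard_S6_le) E ⟨hc, hsub⟩
  obtain ⟨x, hx, hmem⟩ := h
  simp only [List.mem_cons, List.not_mem_nil, or_false] at hx
  rcases hx with rfl | rfl
  · exact Or.inl hmem
  · exact Or.inr hmem

theorem exists_rep (E : Finset GolayPt) (hE : E.card = 6) :
    ∃ a ∈ M24, E = a • mset 8536078 ∨ E = a • mset 63 := by
  obtain ⟨T, hT, hTc⟩ := Finset.exists_subset_card_eq (s := E) (n := 4) (by rw [hE]; norm_num)
  obtain ⟨g, hg, rfl⟩ := exists_smul_eq_tetrad hTc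
  have hsub : mset 15 ⊆ g⁻¹ • E := by
    have := Finset.smul_finset_subset_smul_finset (a := g⁻¹) hT
    rwa [inv_smul_smul] at this
  rcases S6_cover (by rw [Finset.card_smul_finset]; exact hE) hsub with ⟨k, hk, hk'⟩ | ⟨k, hk, hk'⟩
  · have hok := hC_ok
    rw [Bool.and_eq_true, beq_iff_eq] at hok
    have hp := isPermL_of_isM24L hok.1
    refine ⟨g * k * permL hC, M24.mul_mem (M24.mul_mem hg hk.1) (permL_mem_M24 hok.1), Or.inl ?_⟩
    rw [mul_smul, mul_smul, permL_smul_mset hp, hok.2, hk', smul_inv_smul]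
  · refine ⟨g * k, M24.mul_mem hg hk.1, Or.inr ?_⟩
    rw [mul_smul, hk', smul_inv_smul]

/-- Although the group of the length-24 code is only 5-transitive on the 24 points, it induces the full symmetric group on every 6-element subset: every permutation of a 6-set E is the restriction of an element of the group mapping E to itself. The pointwise stabiliser of E has order 16 when E lies in an octad and order 3 otherwise; in the latter case the setwise stabiliser of E has order 2160. -/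
theorem result (E : Finset Cfsg.GolayPt) (hE : E.card = 6) : (∀ σ : Equiv.Perm ↥E, ∃ g ∈ Cfsg.M24, ∀ p : ↥E, g p = σ p) ∧ ((∃ o ∈ Cfsg.octads, E ⊆ o) → Nat.card {g : Equiv.Perm Cfsg.GolayPt // g ∈ Cfsg.M24 ∧ ∀ p ∈ E, g p = p} = 16) ∧ ((¬ ∃ o ∈ Cfsg.octads, E ⊆ o) → Nat.card {g : Equiv.Perm Cfsg.GolayPt // g ∈ Cfsg.M24 ∧ ∀ p ∈ E, g p = p} = 3 ∧ Nat.card ↥(MulAction.stabilizer Cfsg.M24 E) = 2160) := by
  obtain ⟨a, ha, rfl | rfl⟩ := exists_rep E hE
  · refine ⟨ext_transport _ baseS a ha, fun _ => ?_, fun hno => ?_⟩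
    · rw [card_fix_transport _ a ha]
      exact cardS
    · exfalso
      apply hno
      exact ⟨a • mset 8536111, smul_mem_octads ha mset_o0_mem,
        Finset.smul_finset_subset_smul_finset (mset_subset_of_and (by decide))⟩
  · refine ⟨ext_transport _ baseU a ha, fun hoct => ?_, fun _ => ⟨?_, ?_⟩⟩
    · exfalso
      obtain ⟨o, ho, hsub⟩ := hoct
      exact umbral_no_oct a ha o ho hsub
    · rw [card_fix_transport _ a ha]
      exact cardU
    · rw [card_stab_sub, card_stab_conj _ a ha]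
      exact card_stabU

end Cfsg.Agent.S5600
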