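import Cfsg.Statements.S5604
import Mathlib
import Cfsg.Agent.Lib.Helper9.M24Conj
import Cfsg.Agent.Lib.Helper9.M24Syl2
import Cfsg.Agent.Lib.Helper9.M24List
import Cfsg.Agent.Lib.Helper9.M24Trio
import Cfsg.Agent.Lib.Helper9.M24Stab
import Cfsg.Agent.Lib.Helper9.M24Tab

set_option autoImplicit false
open scoped Pointwise
open Cfsg

namespace Cfsg.Agent.S5604

open Cfsg.Agent.Lib.Helper9
open Cfsg
open scoped Pointwise

/-- An element of order seven fixing the base trio. -/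
def g7 : List ℕ := [2, 5, 17, 1, 15, 0, 6, 18, 16, 7, 8, 22, 20, 9, 3, 21, 13, 14, 10, 19, 11, 12, 4, 23]

theorem g7_M24 : isM24L g7 = true := by decide +kernel

def tr3A_X : ℕ := 0xc40000c10000c02000c00400c00200c00100c00080c00040a40000a10000a02000a00400a00200a00100a00080a000409400009100009020009004009002009001009000809000408c000089000088200088040088020088010088008088004084800084100084080084001081800081100081080081001080a000808400808200808100808080808040803000802800802010801400801200801100801080801040800c00800a008009008008808008408004108002108001108000908000504600004440004400204400084400044400024400014300004220004204004202004201004200804200404140004100204100084100044100024100014060004044004042004041004040804040404020204020084020044020024020014004204004084004044004024004014002204002084002044002024002014001204001084001044001024001014000a04000884000844000824000814000604000484000444000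424000412600002440002400202400082400042400022400012300002220002204002202002201002200802200402140002100202100082100042100022100012060002044002042002041002040802040402020202020082020042020022020012004202004082004042004022004012002202002082002042002022002012001202001082001042001022001012000a02000882000842000822000812000602000482000442000422000411600001440001400201400081400041400021400011300001220001204001202001201001200801200401140001100201100081100041100021100011060001044001042001041001040801040401020201020081020041020021020011004201004081004041004021004011002201002081002041002021002011001201001081001041001021001011000a01000881000841000821000811000601000481000441000421000410e00000c40000c00200c00080c00040c00020c00010b00000a20000a04000a02000a01000a00800a0040094000090020090008090004090002090001086000084400084200084100084080084040082020082008082004082002082001080420080408080404080402080401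0802200802080802040802020802010801200801080801040801020801010800a008008808008408008208008108006008004808004408004208004106800006100006080006001004c00004802004800804800404800204800104500004480004401004102004100804100404100204100104082004080804080404080204080104003004001804001404001204001103800003100003080003001002a000028400028200028100028080028040023000022800022010021400021200021100021080021040020c00020a0002090002088002084002041002021002011002009002005001c00001802001800801800401800201800101500001480001401001102001100801100401100201100101082001080801080401080201080101003001001801001401001201001100e00000c40000c20000c10000c08000c04000a02000a00800a00400a00200a0010084200084080084040084020084010082200082080082040082020082010081200081080081040081020081010080a0008088008084008082008081008060008048008044008042008041007000006800006010005400005200005100005080005040004c00004a0000490000488000484000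44100042100041100040900040500030200030080030040030020030010028200028080028040028020028010020300020180020140020120020110014200014080014040014020014010012200012080012040012020012010011200011080011040011020011010010a0001088001084001082001081001060001048001044001042001041000c20000c08000c04000c02000c01000a20000a08000a04000a02000a010009200009080009040009020009010008a00008880008840008820008810008600008480008440008420008410004300004180004140004120004110002300002180002140002120002110001300001180001140001120001110000b0000098000094000092000091000070000058000054000052000051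

def tr3A_P : ℕ := 0xbf00017f0001b70001470000b80100840201bb02014b0200a401004602010602009702017600005500004b02013e00008801002d0001a40100b100005300005800004e0000fc0101660101640001fd01017e0101720101680001cf0001e002007302007d01012e00008900016a01001401012c00016d0200e702002002015702000702018f02011f0001a30200fb0001a50100ac00005201001800004d0000fb00013b00006a02004d00006901012d0001350101aa00005902018a0000fd0100870000df0200d70200db01007d0000bd0200df0100850001b20100bf0000ad0200c40000a800010a0001870200cf0200d50201de0200d20200de0001bf0100df0100db0000de0201bc0100d70201120001b401007e0100740201170100ba0200d40201dd0100bb0100bc01008a0000af0201f702018501008c0000c20000b401007f01007501007a0101d20000aa0000ac0201bd0000a901006d00010c0201ef00010d02014f0200a20200a50000a201009c00008000007b01003e0100550201040200950201740100590000000100560100ce02009b0200a100016402009e0200c20201070100de0100d50100d20000c40100cf00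01ac02010900019c01003a00018d0200960100c200012c00012700011d0000950100a101006701006500001e00009a01009e0000460000410000370201ad00000a0000140101cb0000050001040000ea01004202014001003d00006f0200790000a50100970201d400007e0200bc0001530200ea0100b801006a02000a0201920201220100c90001770100950201cc01001e0100230001bc0100dd0100d402000d0101dd0100ca0200eb01009800019f00019a02010c0200240200610201c70200270100af00009800002601006201006001006101001d02005c0201c202000e0100270201930201a80201fa0201960101c70001070100960100290000f20100240001d20200830200810001d40001d60200840200be0200460200f40001e802016402001402019c0001e00001f70200470101740201ce0101550001f10001ff0001ef0201670001de0101f702012f0101530001fa0101620001fb01015d02002e02006301017d01017b0200b10001d90001c701017101016f02017e0101540001cc0001ce0200180001cb0001d80101f60201fc0101f10201b602012d01017501016001015602014600006d01004d00008a02006c0000d70000a30101060201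d30200750200bb0100c602008802006f0000a402008d0100110100070200bd0000a701013e00008e01011f0200bf02006d02008a00008400007f00007502003701004b0200550001540100fc02001e0201550200050101e502011d01004e0001a60101a40100b701006902000f0101cf0000e201014701013b02004b0101ed0101320101b700001d0200000101fd02011802003a0001750200650201cb0001600100ea0100c401014900018501000002006701000f01000501000a01011802006b00017201011d00016f0001780101ac00016800016301019201011400014a0000ca0200080201900001120200e60001930100f200019800018e01010a02006000012d01010b00011e02015602016f0201f10100ff02017b00009b00003d0000470000420200a90101e00201a70101e30201910000060100e10000eb0100f00201210100eb0200f20200fc0001bd00014b0201620200120000c60100c50200530000d40000d50201a401014a0101bf0201530101bd0000c802011b0200f00100930201e301000800018f01011b0001a80201e50001a90001a70200e10001960201e000019b02010a00013e02006200012e0100a900011f00009702017101005d02016301005c00009c00003e01001302001301000e0101c00201a90201fb02019b0000070100010201390201eb01000602014502005102006a0101450001390200b80000a000006101013902016d02017f0000a10200690201cf0101210000650101e800005c0201fd0201a50201b701011901013d0201ed0201350201470101b202005f00013002001d0101b40101a60000270101a90201540101a800009e0101b001019b0000450101960000940201a60000180000130201b20201190101ad0201e801018e010193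

def tr3A_D : ℕ := 0x606040505030607040607050607030604060506050606050605050604060600060504060705050507060605060506060505070402060606020506060706060605060304050606060306070307020606050605030606040305030404050707050505070505040506060406050206060505040605060506070506050607060607050505060406070504050504060305050306040606060705040507040504060505070506060606060503040504070606060706050605050504050606070607050505050605060508050605060605060506030504060606060606050706050304040503060506040506070806070306060706050506010507050605040705050605070504050606070606050606030604060605060403060706040706060604060502050603070707020704040604070605060706070506050503050206030706050505040604060405060505060705060306060406040506060605030604030606040605040606050404040604060607070606050604050304070502060607060404040605050607070601060507060505050405040504070506040605050505060605040606050505050606040605060505010602060604060505060606050606050506070506060506060606070606070605070606050604050604050605050504050606060503070606040405050604050706060507040405030506060503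

def tr3A_levels : List (ℕ × List (List ℕ)) :=
  [(0, [[0, 1, 2, 3, 4, 5, 6, 7, 8, 9, 10, 11, 12, 13, 14, 15, 16, 17, 18, 19, 20, 21, 22, 23],
      [1, 14, 5, 17, 8, 3, 19, 4, 12, 22, 21, 18, 9, 11, 2, 16, 20, 0, 15, 6, 7, 13, 10, 23],
      [2, 5, 17, 1, 15, 0, 6, 18, 16, 7, 8, 22, 20, 9, 3, 21, 13, 14, 10, 19, 11, 12, 4, 23],
      [3, 14, 2, 5, 20, 0, 6, 8, 18, 9, 16, 12, 21, 10, 17, 15, 13, 1, 7, 19, 22, 11, 4, 23],
      [4, 11, 15, 20, 0, 22, 6, 7, 8, 9, 10, 1, 14, 13, 12, 2, 16, 21, 18, 23, 3, 17, 5, 19],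
      [5, 1, 14, 2, 16, 17, 19, 4, 11, 12, 15, 8, 10, 22, 3, 18, 21, 0, 20, 6, 9, 13, 7, 23],
      [7, 9, 16, 10, 21, 8, 23, 14, 2, 5, 3, 15, 4, 17, 13, 22, 1, 18, 0, 19, 20, 12, 11, 6],
      [8, 18, 16, 7, 11, 10, 23, 0, 14, 5, 17, 12, 15, 1, 9, 22, 3, 13, 2, 19, 21, 4, 20, 6],
      [9, 10, 18, 7, 2, 16, 19, 11, 20, 12, 21, 3, 0, 15, 13, 14, 22, 8, 4, 23, 17, 1, 5, 6],
      [10, 18, 9, 16, 3, 13, 19, 11, 12, 15, 22, 14, 17, 20, 7, 2, 4, 8, 21, 23, 5, 1, 0, 6],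
      [11, 12, 22, 21, 8, 20, 23, 0, 14, 5, 17, 18, 9, 1, 15, 16, 3, 4, 2, 6, 7, 13, 10, 19],
      [12, 22, 11, 20, 18, 15, 23, 0, 5, 1, 3, 16, 7, 14, 21, 8, 2, 4, 17, 6, 10, 13, 9, 19],
      [13, 16, 10, 7, 4, 18, 23, 2, 5, 3, 17, 22, 11, 0, 8, 20, 14, 9, 1, 19, 21, 15, 12, 6],
      [14, 5, 1, 3, 18, 2, 19, 4, 22, 11, 20, 16, 7, 12, 17, 8, 15, 0, 21, 6, 10, 13, 9, 23],
      [15, 22, 21, 11, 2, 4, 6, 18, 16, 7, 8, 5, 3, 9, 20, 17, 13, 12, 10, 23, 1, 14, 0, 19],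
      [16, 8, 18, 9, 22, 7, 23, 0, 1, 14, 2, 11, 20, 5, 10, 12, 17, 13, 3, 19, 15, 4, 21, 6],
      [17, 1, 3, 14, 21, 0, 6, 16, 8, 10, 18, 11, 15, 7, 2, 20, 13, 5, 9, 19, 12, 22, 4, 23],
      [18, 7, 13, 8, 12, 16, 23, 3, 17, 0, 1, 21, 15, 14, 9, 4, 5, 10, 2, 19, 11, 20, 22, 6],
      [20, 12, 15, 22, 3, 4, 6, 8, 18, 9, 16, 14, 17, 10, 21, 2, 13, 11, 7, 23, 5, 1, 0, 19],
      [21, 15, 22, 20, 17, 11, 6, 18, 9, 16, 10, 2, 0, 7, 4, 5, 8, 12, 13, 23, 3, 14, 1, 19],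
      [22, 11, 12, 15, 16, 21, 23, 0, 1, 14, 2, 8, 10, 5, 20, 18, 17, 4, 3, 6, 9, 13, 7, 19]]),
   (4, [[0, 1, 2, 3, 4, 5, 6, 7, 8, 9, 10, 11, 12, 13, 14, 15, 16, 17, 18, 19, 20, 21, 22, 23],
      [0, 1, 2, 3, 13, 5, 19, 21, 11, 15, 20, 8, 18, 4, 14, 9, 22, 17, 12, 6, 10, 7, 16, 23]]),
   (1, [[0, 1, 2, 3, 4, 5, 6, 7, 8, 9, 10, 11, 12, 13, 14, 15, 16, 17, 18, 19, 20, 21, 22, 23],
      [0, 5, 3, 17, 4, 14, 6, 9, 16, 10, 7, 22, 11, 13, 1, 20, 18, 2, 8, 19, 21, 15, 12, 23],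
      [0, 14, 17, 2, 4, 1, 6, 10, 18, 7, 9, 12, 22, 13, 5, 21, 8, 3, 16, 19, 15, 20, 11, 23]])]

set_option maxHeartbeats 40000000 in
theorem tr3A : (orbS Ktrio (mset 8912960)).ncard = 512 ∧
    Nat.card ↥(Ktrio ⊓ MulAction.stabilizer (Equiv.Perm GolayPt) (mset 8912960)) = 126 := by
  have h := orb1_exact Ktrio 64512 card_Ktrio (fun l => sameSet (T0l.map (actM l 0)) T0l) memKtrio
    gensKtrio gensKtrio_ok tr3A_X tr3A_P tr3A_D 512 480 8912960 (by decide +kernel)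
    (by decide +kernel) (by decide +kernel) tr3A_levels (by decide +kernel) (by decide +kernel)
  have e : chainProd tr3A_levels = 126 := by decide +kernel
  rw [e] at h
  exact h

def Ktr3 : Subgroup (Equiv.Perm GolayPt) :=
  Ktrio ⊓ MulAction.stabilizer (Equiv.Perm GolayPt) (mset 8912960)

theorem card_Ktr3 : Nat.card Ktr3 = 126 := tr3A.2

theorem memKtr3 (l : List ℕ) (hl : isM24L l = true) (h : (sameSet (T0l.map (actM l 0)) T0l && actM l 0 8912960 == 8912960) = true) :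
    permL l ∈ Ktr3 := by
  rw [Bool.and_eq_true] at h
  exact ⟨memKtrio l hl h.1, stab_mset_of_eq (isPermL_of_isM24L hl) _ (beq_iff_eq.mp h.2)⟩

def gensKtr3 : List (List ℕ) :=
  [[9, 16, 7, 8, 15, 13, 23, 14, 5, 17, 1, 22, 20, 2, 10, 21, 0, 18, 3, 19, 11, 12, 4, 6],
   [18, 7, 13, 8, 12, 16, 23, 3, 17, 0, 1, 21, 15, 14, 9, 4, 5, 10, 2, 19, 11, 20, 22, 6],
   [9, 10, 18, 7, 15, 16, 23, 1, 3, 14, 17, 20, 4, 2, 13, 12, 5, 8, 0, 19, 21, 11, 22, 6],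
   [1, 2, 0, 5, 8, 14, 19, 21, 15, 4, 22, 9, 10, 11, 3, 13, 12, 17, 20, 6, 16, 7, 18, 23]]

theorem gensKtr3_ok : gensKtr3.all (fun l => isM24L l && (sameSet (T0l.map (actM l 0)) T0l && actM l 0 8912960 == 8912960)) = true := by
  decide +kernel

def z7_X : ℕ := 0xbbe969a069604eb2424d518552b811bb2cf9b4b258144aa507819d410623b918b9a9cda8d34b20f09180f0c4a2

def z7_P : ℕ := 0x20000010000000000

def z7_D : ℕ := 0x10100

def z7_levels : List (ℕ × List (List ℕ)) :=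
  [(0, [[0, 1, 2, 3, 4, 5, 6, 7, 8, 9, 10, 11, 12, 13, 14, 15, 16, 17, 18, 19, 20, 21, 22, 23],
      [1, 14, 5, 17, 11, 3, 6, 13, 18, 16, 7, 12, 15, 8, 2, 22, 10, 0, 9, 19, 21, 4, 20, 23],
      [2, 5, 17, 1, 9, 0, 19, 12, 22, 21, 11, 16, 10, 15, 3, 7, 4, 14, 20, 6, 8, 18, 13, 23],
      [3, 17, 1, 2, 10, 14, 19, 22, 21, 11, 15, 7, 13, 20, 0, 8, 12, 5, 4, 6, 9, 16, 18, 23],
      [4, 11, 15, 20, 0, 22, 6, 7, 8, 9, 10, 1, 14, 13, 12, 2, 16, 21, 18, 23, 3, 17, 5, 19],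
      [5, 3, 0, 14, 22, 1, 6, 9, 10, 13, 18, 20, 21, 16, 17, 4, 8, 2, 7, 19, 12, 15, 11, 23],
      [7, 13, 18, 16, 17, 9, 19, 20, 4, 12, 22, 0, 1, 21, 8, 14, 15, 10, 11, 23, 5, 3, 2, 6],
      [8, 18, 16, 7, 1, 10, 19, 4, 12, 22, 21, 14, 2, 11, 9, 5, 20, 13, 15, 23, 17, 0, 3, 6],
      [9, 16, 7, 8, 15, 13, 23, 14, 5, 17, 1, 22, 20, 2, 10, 21, 0, 18, 3, 19, 11, 12, 4, 6],
      [10, 7, 8, 9, 20, 18, 23, 5, 17, 1, 2, 21, 4, 3, 13, 11, 14, 16, 0, 19, 15, 22, 12, 6],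
      [11, 12, 22, 21, 1, 20, 6, 13, 18, 16, 7, 14, 2, 8, 15, 5, 10, 4, 9, 23, 17, 0, 3, 19],
      [12, 15, 20, 4, 18, 21, 23, 1, 2, 3, 0, 9, 16, 14, 22, 10, 17, 11, 5, 6, 13, 8, 7, 19],
      [13, 8, 9, 10, 0, 16, 19, 21, 11, 15, 20, 1, 14, 4, 18, 2, 22, 7, 12, 23, 3, 17, 5, 6],
      [14, 2, 3, 0, 18, 17, 19, 11, 15, 20, 4, 9, 16, 12, 5, 10, 21, 1, 22, 6, 13, 8, 7, 23],
      [15, 22, 21, 11, 2, 4, 6, 18, 16, 7, 8, 5, 3, 9, 20, 17, 13, 12, 10, 23, 1, 14, 0, 19],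
      [16, 10, 13, 18, 22, 8, 23, 2, 3, 0, 14, 20, 21, 5, 7, 4, 1, 9, 17, 19, 12, 15, 11, 6],
      [17, 0, 14, 5, 21, 2, 6, 10, 13, 18, 16, 4, 11, 7, 1, 12, 9, 3, 8, 19, 22, 20, 15, 23],
      [18, 9, 10, 13, 14, 7, 19, 11, 15, 20, 4, 2, 5, 12, 16, 3, 21, 8, 22, 23, 0, 1, 17, 6],
      [20, 21, 11, 15, 10, 12, 23, 5, 17, 1, 2, 7, 13, 3, 4, 8, 14, 22, 0, 6, 9, 16, 18, 19],
      [21, 4, 12, 22, 17, 15, 6, 10, 13, 18, 16, 0, 1, 7, 11, 14, 9, 20, 8, 23, 5, 3, 2, 19],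
      [22, 20, 4, 12, 16, 11, 23, 2, 3, 0, 14, 10, 7, 5, 21, 13, 1, 15, 17, 6, 18, 9, 8, 19]]),
   (4, [[0, 1, 2, 3, 4, 5, 6, 7, 8, 9, 10, 11, 12, 13, 14, 15, 16, 17, 18, 19, 20, 21, 22, 23],
      [0, 1, 2, 3, 13, 5, 19, 21, 11, 15, 20, 8, 18, 4, 14, 9, 22, 17, 12, 6, 10, 7, 16, 23]])]

set_option maxHeartbeats 40000000 in
theorem z7 : (orbS Ktr3 (⟨permL g7⟩ : CP)).ncard = 3 ∧
    Nat.card ↥(Ktr3 ⊓ MulAction.stabilizer (Equiv.Perm GolayPt) (⟨permL g7⟩ : CP)) = 42 := by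
  have h := orbC_exact Ktr3 126 card_Ktr3 (fun l => sameSet (T0l.map (actM l 0)) T0l && actM l 0 8912960 == 8912960) memKtr3
    gensKtr3 gensKtr3_ok z7_X z7_P z7_D 3 0 g7 (by decide) (by decide +kernel)
    (by decide +kernel) (by decide +kernel) z7_levels (by decide +kernel) (by decide +kernel)
  have e : chainProd z7_levels = 42 := by decide +kernel
  rw [e] at h
  exact h

noncomputable def Kz7 : Subgroup (Equiv.Perm GolayPt) :=
  Ktr3 ⊓ MulAction.stabilizer (Equiv.Perm GolayPt) (⟨permL g7⟩ : CP)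

theorem card_Kz7 : Nat.card Kz7 = 42 := z7.2

theorem memKz7 (l : List ℕ) (hl : isM24L l = true) (h : (sameSet (T0l.map (actM l 0)) T0l && actM l 0 8912960 == 8912960 && compL l g7 == compL g7 l) = true) :
    permL l ∈ Kz7 :=
  memCent Ktr3 (fun l => sameSet (T0l.map (actM l 0)) T0l && actM l 0 8912960 == 8912960) memKtr3 g7 (by decide) l hl h

def gensKz7 : List (List ℕ) :=
  [[10, 7, 8, 9, 3, 18, 19, 22, 21, 11, 15, 17, 0, 20, 13, 1, 12, 16, 4, 23, 2, 5, 14, 6],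
   [15, 22, 21, 11, 2, 4, 6, 18, 16, 7, 8, 5, 3, 9, 20, 17, 13, 12, 10, 23, 1, 14, 0, 19],
   [15, 22, 21, 11, 2, 4, 6, 18, 16, 7, 8, 5, 3, 9, 20, 17, 13, 12, 10, 23, 1, 14, 0, 19]]

theorem gensKz7_ok : gensKz7.all (fun l => isM24L l && (sameSet (T0l.map (actM l 0)) T0l && actM l 0 8912960 == 8912960 && compL l g7 == compL g7 l)) = true := by
  decide +kernel

/-- The powers of `g7`. -/
def L7 : List (List ℕ) :=
  [[0, 1, 2, 3, 4, 5, 6, 7, 8, 9, 10, 11, 12, 13, 14, 15, 16, 17, 18, 19, 20, 21, 22, 23],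
   [2, 5, 17, 1, 15, 0, 6, 18, 16, 7, 8, 22, 20, 9, 3, 21, 13, 14, 10, 19, 11, 12, 4, 23],
   [17, 0, 14, 5, 21, 2, 6, 10, 13, 18, 16, 4, 11, 7, 1, 12, 9, 3, 8, 19, 22, 20, 15, 23],
   [14, 2, 3, 0, 12, 17, 6, 8, 9, 10, 13, 15, 22, 18, 5, 20, 7, 1, 16, 19, 4, 11, 21, 23],
   [3, 17, 1, 2, 20, 14, 6, 16, 7, 8, 9, 21, 4, 10, 0, 11, 18, 5, 13, 19, 15, 22, 12, 23],
   [1, 14, 5, 17, 11, 3, 6, 13, 18, 16, 7, 12, 15, 8, 2, 22, 10, 0, 9, 19, 21, 4, 20, 23],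
   [5, 3, 0, 14, 22, 1, 6, 9, 10, 13, 18, 20, 21, 16, 17, 4, 8, 2, 7, 19, 12, 15, 11, 23]]

theorem L7_ok : listOK L7 = true := by decide +kernel

theorem L7_nodup : L7.Nodup := by decide +kernel

theorem L7_M24 : L7.all isM24L = true := by decide +kernel

theorem L7_len : L7.length = 7 := by decide

theorem L7_fix : ∀ l ∈ L7, l = idL ∨
    ∀ i : Fin 24, (8912960 : ℕ).testBit i.val = decide (l.getD i.val 0 = i.val) := by
  decide +kernel

theorem L7_T0 : L7.all (fun l => sameSet (T0l.map (actM l 0)) T0l) = true := by decide +kernel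

set_option maxHeartbeats 40000000 in
theorem L7_trios : L7.all (fun l => l == idL ||
    cntB (fun i => sameSet ((decK 3 trioA_X i).map (actM l 0)) (decK 3 trioA_X i)) 3795 == 1) =
      true := by
  decide +kernel

theorem L7_perm {l : List ℕ} (hl : l ∈ L7) : isPermL l = true :=
  isPermL_of_isM24L (List.all_eq_true.mp L7_M24 l hl)

/-- The subgroup of order seven. -/
def P7 : Subgroup (Equiv.Perm GolayPt) := listSub L7 L7_ok

theorem card_P7 : Nat.card P7 = 7 := by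
  have := card_listSub L7 L7_ok L7_nodup
  rw [L7_len] at this
  exact this

theorem P7_le : P7 ≤ M24 := by
  intro g hg
  obtain ⟨l, hl, rfl⟩ := mem_listSub.mp hg
  exact permL_mem_M24 (List.all_eq_true.mp L7_M24 l hl)

theorem fix_L7 {l : List ℕ} (hl : l ∈ L7) (hne : l ≠ idL) :
    (Finset.univ.filter fun p => permL l p = p) = mset 8912960 :=
  fix_eq_mset (L7_perm hl) 8912960 ((L7_fix l hl).resolve_left hne)

theorem L7_T0_fix {l : List ℕ} (hl : l ∈ L7) : permL l • obj T0l = obj T0l :=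
  MulAction.mem_stabilizer_iff.mp
    (stab_obj_of_sameSet (L7_perm hl) T0l (List.all_eq_true.mp L7_T0 l hl))

theorem L7_trio_unique {l : List ℕ} (hl : l ∈ L7) (hne : l ≠ idL)
    {T : Finset (Finset GolayPt)} (hT : T ∈ trios) (hfix : permL l • T = T) : T = obj T0l := by
  have h1 := List.all_eq_true.mp L7_trios l hl
  rw [Bool.or_eq_true, beq_iff_eq, beq_iff_eq] at h1
  have h2 := h1.resolve_left hne
  have h3 := trios_count (L7_perm hl)
  rw [h2] at h3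
  obtain ⟨a, ha⟩ := Set.ncard_eq_one.mp h3
  have m1 : T ∈ {T : Finset (Finset GolayPt) | T ∈ trios ∧ permL l • T = T} := ⟨hT, hfix⟩
  have m2 : obj T0l ∈ {T : Finset (Finset GolayPt) | T ∈ trios ∧ permL l • T = T} :=
    ⟨mem_trios_T0, L7_T0_fix hl⟩
  rw [ha, Set.mem_singleton_iff] at m1 m2
  exact m1.trans m2.symm

theorem mem_Ktr3_of_conj {n : Equiv.Perm GolayPt} (hn : n ∈ M24) {l l' : List ℕ} (hl : l ∈ L7)
    (hne : l ≠ idL) (hl' : l' ∈ L7) (hne' : l' ≠ idL) (h : n * permL l * n⁻¹ = permL l') :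
    n ∈ Ktr3 := by
  refine ⟨⟨hn, ?_⟩, ?_⟩
  · apply MulAction.mem_stabilizer_iff.mpr
    apply L7_trio_unique hl' hne' (smul_mem_trios hn mem_trios_T0)
    rw [← h, ← mul_smul]
    have e : n * permL l * n⁻¹ * n = n * permL l := by group
    rw [e, mul_smul, L7_T0_fix hl]
  · apply MulAction.mem_stabilizer_iff.mpr
    have := fix_conj n (permL l)
    rw [h, fix_L7 hl hne, fix_L7 hl' hne'] at this
    exact this.symm

/-- The centraliser of `g7`. -/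
def C42 : List (List ℕ) :=
  [[9, 16, 7, 8, 2, 13, 19, 12, 22, 21, 11, 5, 3, 15, 10, 17, 4, 18, 20, 23, 1, 14, 0, 6],
   [16, 10, 13, 18, 5, 8, 19, 15, 20, 4, 12, 3, 17, 22, 7, 0, 11, 9, 21, 23, 14, 2, 1, 6],
   [7, 13, 18, 16, 17, 9, 19, 20, 4, 12, 22, 0, 1, 21, 8, 14, 15, 10, 11, 23, 5, 3, 2, 6],
   [8, 18, 16, 7, 1, 10, 19, 4, 12, 22, 21, 14, 2, 11, 9, 5, 20, 13, 15, 23, 17, 0, 3, 6],
   [9, 16, 7, 8, 15, 13, 23, 14, 5, 17, 1, 22, 20, 2, 10, 21, 0, 18, 3, 19, 11, 12, 4, 6],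
   [13, 8, 9, 10, 0, 16, 19, 21, 11, 15, 20, 1, 14, 4, 18, 2, 22, 7, 12, 23, 3, 17, 5, 6],
   [16, 10, 13, 18, 22, 8, 23, 2, 3, 0, 14, 20, 21, 5, 7, 4, 1, 9, 17, 19, 12, 15, 11, 6],
   [10, 7, 8, 9, 20, 18, 23, 5, 17, 1, 2, 21, 4, 3, 13, 11, 14, 16, 0, 19, 15, 22, 12, 6],
   [10, 7, 8, 9, 3, 18, 19, 22, 21, 11, 15, 17, 0, 20, 13, 1, 12, 16, 4, 23, 2, 5, 14, 6],
   [7, 13, 18, 16, 21, 9, 23, 3, 0, 14, 5, 4, 11, 17, 8, 12, 2, 10, 1, 19, 22, 20, 15, 6],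
   [18, 9, 10, 13, 14, 7, 19, 11, 15, 20, 4, 2, 5, 12, 16, 3, 21, 8, 22, 23, 0, 1, 17, 6],
   [8, 18, 16, 7, 11, 10, 23, 0, 14, 5, 17, 12, 15, 1, 9, 22, 3, 13, 2, 19, 21, 4, 20, 6],
   [18, 9, 10, 13, 12, 7, 23, 1, 2, 3, 0, 15, 22, 14, 16, 20, 17, 8, 5, 19, 4, 11, 21, 6],
   [13, 8, 9, 10, 4, 16, 23, 17, 1, 2, 3, 11, 12, 0, 18, 15, 5, 7, 14, 19, 20, 21, 22, 6],
   [15, 22, 21, 11, 2, 4, 6, 18, 16, 7, 8, 5, 3, 9, 20, 17, 13, 12, 10, 23, 1, 14, 0, 19],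
   [22, 20, 4, 12, 5, 11, 6, 9, 10, 13, 18, 3, 17, 16, 21, 0, 8, 15, 7, 23, 14, 2, 1, 19],
   [21, 4, 12, 22, 17, 15, 6, 10, 13, 18, 16, 0, 1, 7, 11, 14, 9, 20, 8, 23, 5, 3, 2, 19],
   [11, 12, 22, 21, 1, 20, 6, 13, 18, 16, 7, 14, 2, 8, 15, 5, 10, 4, 9, 23, 17, 0, 3, 19],
   [4, 11, 15, 20, 0, 22, 6, 7, 8, 9, 10, 1, 14, 13, 12, 2, 16, 21, 18, 23, 3, 17, 5, 19],
   [12, 15, 20, 4, 18, 21, 23, 1, 2, 3, 0, 9, 16, 14, 22, 10, 17, 11, 5, 6, 13, 8, 7, 19],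
   [22, 20, 4, 12, 16, 11, 23, 2, 3, 0, 14, 10, 7, 5, 21, 13, 1, 15, 17, 6, 18, 9, 8, 19],
   [21, 4, 12, 22, 7, 15, 23, 3, 0, 14, 5, 13, 8, 17, 11, 18, 2, 20, 1, 6, 16, 10, 9, 19],
   [11, 12, 22, 21, 8, 20, 23, 0, 14, 5, 17, 18, 9, 1, 15, 16, 3, 4, 2, 6, 7, 13, 10, 19],
   [15, 22, 21, 11, 9, 4, 23, 14, 5, 17, 1, 16, 10, 2, 20, 7, 0, 12, 3, 6, 8, 18, 13, 19],
   [20, 21, 11, 15, 3, 12, 6, 16, 7, 8, 9, 17, 0, 10, 4, 1, 18, 22, 13, 23, 2, 5, 14, 19],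
   [4, 11, 15, 20, 13, 22, 23, 17, 1, 2, 3, 8, 18, 0, 12, 9, 5, 21, 14, 6, 10, 7, 16, 19],
   [12, 15, 20, 4, 14, 21, 6, 8, 9, 10, 13, 2, 5, 18, 22, 3, 7, 11, 16, 23, 0, 1, 17, 19],
   [20, 21, 11, 15, 10, 12, 23, 5, 17, 1, 2, 7, 13, 3, 4, 8, 14, 22, 0, 6, 9, 16, 18, 19],
   [2, 5, 17, 1, 15, 0, 6, 18, 16, 7, 8, 22, 20, 9, 3, 21, 13, 14, 10, 19, 11, 12, 4, 23],
   [14, 2, 3, 0, 18, 17, 19, 11, 15, 20, 4, 9, 16, 12, 5, 10, 21, 1, 22, 6, 13, 8, 7, 23],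
   [5, 3, 0, 14, 16, 1, 19, 15, 20, 4, 12, 10, 7, 22, 17, 13, 11, 2, 21, 6, 18, 9, 8, 23],
   [17, 0, 14, 5, 7, 2, 19, 20, 4, 12, 22, 13, 8, 21, 1, 18, 15, 3, 11, 6, 16, 10, 9, 23],
   [1, 14, 5, 17, 8, 3, 19, 4, 12, 22, 21, 18, 9, 11, 2, 16, 20, 0, 15, 6, 7, 13, 10, 23],
   [5, 3, 0, 14, 22, 1, 6, 9, 10, 13, 18, 20, 21, 16, 17, 4, 8, 2, 7, 19, 12, 15, 11, 23],
   [3, 17, 1, 2, 20, 14, 6, 16, 7, 8, 9, 21, 4, 10, 0, 11, 18, 5, 13, 19, 15, 22, 12, 23],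
   [2, 5, 17, 1, 9, 0, 19, 12, 22, 21, 11, 16, 10, 15, 3, 7, 4, 14, 20, 6, 8, 18, 13, 23],
   [17, 0, 14, 5, 21, 2, 6, 10, 13, 18, 16, 4, 11, 7, 1, 12, 9, 3, 8, 19, 22, 20, 15, 23],
   [0, 1, 2, 3, 13, 5, 19, 21, 11, 15, 20, 8, 18, 4, 14, 9, 22, 17, 12, 6, 10, 7, 16, 23],
   [3, 17, 1, 2, 10, 14, 19, 22, 21, 11, 15, 7, 13, 20, 0, 8, 12, 5, 4, 6, 9, 16, 18, 23],
   [1, 14, 5, 17, 11, 3, 6, 13, 18, 16, 7, 12, 15, 8, 2, 22, 10, 0, 9, 19, 21, 4, 20, 23],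
   [14, 2, 3, 0, 12, 17, 6, 8, 9, 10, 13, 15, 22, 18, 5, 20, 7, 1, 16, 19, 4, 11, 21, 23],
   [0, 1, 2, 3, 4, 5, 6, 7, 8, 9, 10, 11, 12, 13, 14, 15, 16, 17, 18, 19, 20, 21, 22, 23]]

theorem C42_chk : C42.all (fun l => isM24L l && (sameSet (T0l.map (actM l 0)) T0l && actM l 0 8912960 == 8912960 && compL l g7 == compL g7 l)) = true := by decide +kernel

theorem C42_nodup : C42.Nodup := by decide +kernel

theorem C42_len : C42.length = 42 := by decide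

theorem C42_perm {l : List ℕ} (hl : l ∈ C42) : isM24L l = true := by
  have := List.all_eq_true.mp C42_chk l hl
  rw [Bool.and_eq_true] at this
  exact this.1

theorem C42_mem {l : List ℕ} (hl : l ∈ C42) : permL l ∈ Kz7 := by
  have := List.all_eq_true.mp C42_chk l hl
  rw [Bool.and_eq_true] at this
  exact memKz7 l this.1 this.2

theorem Kz7_list : ∀ g ∈ Kz7, ∃ l ∈ C42, g = permL l :=
  subgroup_eq_list Kz7 C42 42 card_Kz7
    (fun l hl => ⟨isPermL_of_isM24L (C42_perm hl), C42_mem hl⟩) C42_nodup C42_len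

theorem C42_comm : C42.all (fun c => L7.all (fun h => compL h c == compL c h)) = true := by
  decide +kernel

/-- The normaliser of the subgroup generated by `g7`. -/
def N126 : List (List ℕ) :=
  [[10, 18, 9, 16, 3, 13, 19, 11, 12, 15, 22, 14, 17, 20, 7, 2, 4, 8, 21, 23, 5, 1, 0, 6],
   [7, 8, 10, 18, 17, 13, 19, 22, 11, 20, 12, 1, 2, 21, 9, 3, 4, 16, 15, 23, 14, 5, 0, 6],
   [9, 16, 7, 8, 2, 13, 19, 12, 22, 21, 11, 5, 3, 15, 10, 17, 4, 18, 20, 23, 1, 14, 0, 6],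
   [16, 10, 13, 18, 5, 8, 19, 15, 20, 4, 12, 3, 17, 22, 7, 0, 11, 9, 21, 23, 14, 2, 1, 6],
   [13, 18, 7, 9, 0, 8, 19, 20, 12, 21, 15, 14, 5, 4, 16, 17, 11, 10, 22, 23, 2, 3, 1, 6],
   [7, 9, 16, 10, 17, 8, 19, 12, 15, 22, 20, 2, 0, 21, 13, 5, 11, 18, 4, 23, 3, 14, 1, 6],
   [18, 16, 8, 10, 14, 9, 19, 4, 22, 11, 20, 5, 17, 12, 7, 1, 15, 13, 21, 23, 3, 0, 2, 6],
   [7, 13, 18, 16, 17, 9, 19, 20, 4, 12, 22, 0, 1, 21, 8, 14, 15, 10, 11, 23, 5, 3, 2, 6],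
   [8, 10, 7, 13, 1, 9, 19, 22, 20, 21, 4, 3, 14, 11, 18, 17, 15, 16, 12, 23, 0, 5, 2, 6],
   [8, 18, 16, 7, 1, 10, 19, 4, 12, 22, 21, 14, 2, 11, 9, 5, 20, 13, 15, 23, 17, 0, 3, 6],
   [16, 7, 9, 13, 5, 10, 19, 12, 21, 15, 4, 17, 1, 22, 8, 2, 20, 18, 11, 23, 0, 14, 3, 6],
   [9, 13, 8, 18, 2, 10, 19, 21, 4, 11, 12, 0, 5, 15, 16, 1, 20, 7, 22, 23, 14, 17, 3, 6],
   [10, 18, 9, 16, 20, 13, 23, 1, 14, 2, 5, 12, 21, 3, 7, 15, 0, 8, 17, 19, 22, 11, 4, 6],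
   [9, 16, 7, 8, 15, 13, 23, 14, 5, 17, 1, 22, 20, 2, 10, 21, 0, 18, 3, 19, 11, 12, 4, 6],
   [7, 8, 10, 18, 21, 13, 23, 5, 1, 3, 14, 11, 15, 17, 9, 20, 0, 16, 2, 19, 12, 22, 4, 6],
   [9, 10, 18, 7, 2, 16, 19, 11, 20, 12, 21, 3, 0, 15, 13, 14, 22, 8, 4, 23, 17, 1, 5, 6],
   [18, 7, 13, 8, 14, 16, 19, 20, 21, 4, 11, 17, 2, 12, 9, 0, 22, 10, 15, 23, 1, 3, 5, 6],
   [13, 8, 9, 10, 0, 16, 19, 21, 11, 15, 20, 1, 14, 4, 18, 2, 22, 7, 12, 23, 3, 17, 5, 6],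
   [7, 9, 16, 10, 21, 8, 23, 14, 2, 5, 3, 15, 4, 17, 13, 22, 1, 18, 0, 19, 20, 12, 11, 6],
   [16, 10, 13, 18, 22, 8, 23, 2, 3, 0, 14, 20, 21, 5, 7, 4, 1, 9, 17, 19, 12, 15, 11, 6],
   [13, 18, 7, 9, 4, 8, 23, 3, 14, 17, 2, 12, 22, 0, 16, 21, 1, 10, 5, 19, 15, 20, 11, 6],
   [13, 16, 10, 7, 4, 18, 23, 2, 5, 3, 17, 22, 11, 0, 8, 20, 14, 9, 1, 19, 21, 15, 12, 6],
   [8, 9, 13, 16, 11, 18, 23, 17, 2, 0, 5, 15, 20, 1, 10, 4, 14, 7, 3, 19, 22, 21, 12, 6],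
   [10, 7, 8, 9, 20, 18, 23, 5, 17, 1, 2, 21, 4, 3, 13, 11, 14, 16, 0, 19, 15, 22, 12, 6],
   [13, 16, 10, 7, 0, 18, 19, 15, 22, 20, 21, 5, 1, 4, 8, 3, 12, 9, 11, 23, 17, 2, 14, 6],
   [10, 7, 8, 9, 3, 18, 19, 22, 21, 11, 15, 17, 0, 20, 13, 1, 12, 16, 4, 23, 2, 5, 14, 6],
   [8, 9, 13, 16, 1, 18, 19, 21, 15, 4, 22, 2, 3, 11, 10, 0, 12, 7, 20, 23, 5, 17, 14, 6],
   [18, 16, 8, 10, 12, 9, 23, 0, 5, 1, 3, 22, 21, 14, 7, 11, 2, 13, 17, 19, 20, 4, 15, 6],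
   [7, 13, 18, 16, 21, 9, 23, 3, 0, 14, 5, 4, 11, 17, 8, 12, 2, 10, 1, 19, 22, 20, 15, 6],
   [8, 10, 7, 13, 11, 9, 23, 5, 3, 17, 0, 20, 12, 1, 18, 21, 2, 16, 14, 19, 4, 22, 15, 6],
   [16, 8, 18, 9, 5, 7, 19, 4, 11, 12, 15, 1, 3, 22, 10, 14, 21, 13, 20, 23, 2, 0, 17, 6],
   [18, 9, 10, 13, 14, 7, 19, 11, 15, 20, 4, 2, 5, 12, 16, 3, 21, 8, 22, 23, 0, 1, 17, 6],
   [10, 13, 16, 8, 3, 7, 19, 15, 4, 22, 11, 0, 14, 20, 18, 5, 21, 9, 12, 23, 1, 2, 17, 6],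
   [8, 18, 16, 7, 11, 10, 23, 0, 14, 5, 17, 12, 15, 1, 9, 22, 3, 13, 2, 19, 21, 4, 20, 6],
   [16, 7, 9, 13, 22, 10, 23, 14, 17, 2, 0, 21, 11, 5, 8, 15, 3, 18, 1, 19, 4, 12, 20, 6],
   [9, 13, 8, 18, 15, 10, 23, 17, 0, 1, 14, 4, 22, 2, 16, 11, 3, 7, 5, 19, 12, 21, 20, 6],
   [16, 8, 18, 9, 22, 7, 23, 0, 1, 14, 2, 11, 20, 5, 10, 12, 17, 13, 3, 19, 15, 4, 21, 6],
   [18, 9, 10, 13, 12, 7, 23, 1, 2, 3, 0, 15, 22, 14, 16, 20, 17, 8, 5, 19, 4, 11, 21, 6],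
   [10, 13, 16, 8, 20, 7, 23, 2, 0, 5, 1, 4, 12, 3, 18, 22, 17, 9, 14, 19, 11, 15, 21, 6],
   [9, 10, 18, 7, 15, 16, 23, 1, 3, 14, 17, 20, 4, 2, 13, 12, 5, 8, 0, 19, 21, 11, 22, 6],
   [18, 7, 13, 8, 12, 16, 23, 3, 17, 0, 1, 21, 15, 14, 9, 4, 5, 10, 2, 19, 11, 20, 22, 6],
   [13, 8, 9, 10, 4, 16, 23, 17, 1, 2, 3, 11, 12, 0, 18, 15, 5, 7, 14, 19, 20, 21, 22, 6],
   [20, 12, 15, 22, 3, 4, 6, 8, 18, 9, 16, 14, 17, 10, 21, 2, 13, 11, 7, 23, 5, 1, 0, 19],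
   [21, 11, 20, 12, 17, 4, 6, 16, 8, 10, 18, 1, 2, 7, 15, 3, 13, 22, 9, 23, 14, 5, 0, 19],
   [15, 22, 21, 11, 2, 4, 6, 18, 16, 7, 8, 5, 3, 9, 20, 17, 13, 12, 10, 23, 1, 14, 0, 19],
   [22, 20, 4, 12, 5, 11, 6, 9, 10, 13, 18, 3, 17, 16, 21, 0, 8, 15, 7, 23, 14, 2, 1, 19],
   [4, 12, 21, 15, 0, 11, 6, 10, 18, 7, 9, 14, 5, 13, 22, 17, 8, 20, 16, 23, 2, 3, 1, 19],
   [21, 15, 22, 20, 17, 11, 6, 18, 9, 16, 10, 2, 0, 7, 4, 5, 8, 12, 13, 23, 3, 14, 1, 19],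
   [12, 22, 11, 20, 14, 15, 6, 13, 16, 8, 10, 5, 17, 18, 21, 1, 9, 4, 7, 23, 3, 0, 2, 19],
   [21, 4, 12, 22, 17, 15, 6, 10, 13, 18, 16, 0, 1, 7, 11, 14, 9, 20, 8, 23, 5, 3, 2, 19],
   [11, 20, 21, 4, 1, 15, 6, 16, 10, 7, 13, 3, 14, 8, 12, 17, 9, 22, 18, 23, 0, 5, 2, 19],
   [11, 12, 22, 21, 1, 20, 6, 13, 18, 16, 7, 14, 2, 8, 15, 5, 10, 4, 9, 23, 17, 0, 3, 19],
   [22, 21, 15, 4, 5, 20, 6, 18, 7, 9, 13, 17, 1, 16, 11, 2, 10, 12, 8, 23, 0, 14, 3, 19],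
   [15, 4, 11, 12, 2, 20, 6, 7, 13, 8, 18, 0, 5, 9, 22, 1, 10, 21, 16, 23, 14, 17, 3, 19],
   [15, 20, 12, 21, 2, 22, 6, 8, 10, 18, 7, 3, 0, 9, 4, 14, 16, 11, 13, 23, 17, 1, 5, 19],
   [12, 21, 4, 11, 14, 22, 6, 10, 7, 13, 8, 17, 2, 18, 15, 0, 16, 20, 9, 23, 1, 3, 5, 19],
   [4, 11, 15, 20, 0, 22, 6, 7, 8, 9, 10, 1, 14, 13, 12, 2, 16, 21, 18, 23, 3, 17, 5, 19],
   [12, 15, 20, 4, 18, 21, 23, 1, 2, 3, 0, 9, 16, 14, 22, 10, 17, 11, 5, 6, 13, 8, 7, 19],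
   [20, 4, 22, 11, 10, 21, 23, 2, 0, 5, 1, 13, 18, 3, 12, 16, 17, 15, 14, 6, 8, 9, 7, 19],
   [22, 11, 12, 15, 16, 21, 23, 0, 1, 14, 2, 8, 10, 5, 20, 18, 17, 4, 3, 6, 9, 13, 7, 19],
   [22, 20, 4, 12, 16, 11, 23, 2, 3, 0, 14, 10, 7, 5, 21, 13, 1, 15, 17, 6, 18, 9, 8, 19],
   [4, 12, 21, 15, 13, 11, 23, 3, 14, 17, 2, 18, 16, 0, 22, 7, 1, 20, 5, 6, 9, 10, 8, 19],
   [21, 15, 22, 20, 7, 11, 23, 14, 2, 5, 3, 9, 13, 17, 4, 16, 1, 12, 0, 6, 10, 18, 8, 19],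
   [21, 4, 12, 22, 7, 15, 23, 3, 0, 14, 5, 13, 8, 17, 11, 18, 2, 20, 1, 6, 16, 10, 9, 19],
   [12, 22, 11, 20, 18, 15, 23, 0, 5, 1, 3, 16, 7, 14, 21, 8, 2, 4, 17, 6, 10, 13, 9, 19],
   [11, 20, 21, 4, 8, 15, 23, 5, 3, 17, 0, 10, 18, 1, 12, 7, 2, 22, 14, 6, 13, 16, 9, 19],
   [15, 4, 11, 12, 9, 20, 23, 17, 0, 1, 14, 13, 16, 2, 22, 8, 3, 21, 5, 6, 18, 7, 10, 19],
   [11, 12, 22, 21, 8, 20, 23, 0, 14, 5, 17, 18, 9, 1, 15, 16, 3, 4, 2, 6, 7, 13, 10, 19],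
   [22, 21, 15, 4, 16, 20, 23, 14, 17, 2, 0, 7, 8, 5, 11, 9, 3, 12, 1, 6, 13, 18, 10, 19],
   [20, 12, 15, 22, 10, 4, 23, 1, 14, 2, 5, 18, 7, 3, 21, 9, 0, 11, 17, 6, 16, 8, 13, 19],
   [21, 11, 20, 12, 7, 4, 23, 5, 1, 3, 14, 8, 9, 17, 15, 10, 0, 22, 2, 6, 18, 16, 13, 19],
   [15, 22, 21, 11, 9, 4, 23, 14, 5, 17, 1, 16, 10, 2, 20, 7, 0, 12, 3, 6, 8, 18, 13, 19],
   [4, 22, 20, 21, 0, 12, 6, 9, 16, 10, 7, 5, 1, 13, 11, 3, 18, 15, 8, 23, 17, 2, 14, 19],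
   [20, 21, 11, 15, 3, 12, 6, 16, 7, 8, 9, 17, 0, 10, 4, 1, 18, 22, 13, 23, 2, 5, 14, 19],
   [11, 15, 4, 22, 1, 12, 6, 7, 9, 13, 16, 2, 3, 8, 20, 0, 18, 21, 10, 23, 5, 17, 14, 19],
   [4, 11, 15, 20, 13, 22, 23, 17, 1, 2, 3, 8, 18, 0, 12, 9, 5, 21, 14, 6, 10, 7, 16, 19],
   [15, 20, 12, 21, 9, 22, 23, 1, 3, 14, 17, 10, 13, 2, 4, 18, 5, 11, 0, 6, 7, 8, 16, 19],
   [12, 21, 4, 11, 18, 22, 23, 3, 17, 0, 1, 7, 9, 14, 15, 13, 5, 20, 2, 6, 8, 10, 16, 19],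
   [22, 11, 12, 15, 5, 21, 6, 13, 8, 18, 9, 1, 3, 16, 20, 14, 7, 4, 10, 23, 2, 0, 17, 19],
   [12, 15, 20, 4, 14, 21, 6, 8, 9, 10, 13, 2, 5, 18, 22, 3, 7, 11, 16, 23, 0, 1, 17, 19],
   [20, 4, 22, 11, 3, 21, 6, 9, 13, 16, 8, 0, 14, 10, 12, 5, 7, 15, 18, 23, 1, 2, 17, 19],
   [11, 15, 4, 22, 8, 12, 23, 17, 2, 0, 5, 9, 10, 1, 20, 13, 14, 21, 3, 6, 16, 7, 18, 19],
   [4, 22, 20, 21, 13, 12, 23, 2, 5, 3, 17, 16, 8, 0, 11, 10, 14, 15, 1, 6, 7, 9, 18, 19],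
   [20, 21, 11, 15, 10, 12, 23, 5, 17, 1, 2, 7, 13, 3, 4, 8, 14, 22, 0, 6, 9, 16, 18, 19],
   [3, 14, 2, 5, 20, 0, 6, 8, 18, 9, 16, 12, 21, 10, 17, 15, 13, 1, 7, 19, 22, 11, 4, 23],
   [2, 5, 17, 1, 15, 0, 6, 18, 16, 7, 8, 22, 20, 9, 3, 21, 13, 14, 10, 19, 11, 12, 4, 23],
   [17, 1, 3, 14, 21, 0, 6, 16, 8, 10, 18, 11, 15, 7, 2, 20, 13, 5, 9, 19, 12, 22, 4, 23],
   [14, 2, 3, 0, 18, 17, 19, 11, 15, 20, 4, 9, 16, 12, 5, 10, 21, 1, 22, 6, 13, 8, 7, 23],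
   [3, 0, 5, 1, 10, 17, 19, 15, 4, 22, 11, 13, 18, 20, 14, 16, 21, 2, 12, 6, 8, 9, 7, 23],
   [5, 1, 14, 2, 16, 17, 19, 4, 11, 12, 15, 8, 10, 22, 3, 18, 21, 0, 20, 6, 9, 13, 7, 23],
   [5, 3, 0, 14, 16, 1, 19, 15, 20, 4, 12, 10, 7, 22, 17, 13, 11, 2, 21, 6, 18, 9, 8, 23],
   [0, 14, 17, 2, 13, 1, 19, 20, 12, 21, 15, 18, 16, 4, 5, 7, 11, 3, 22, 6, 9, 10, 8, 23],
   [17, 2, 5, 3, 7, 1, 19, 12, 15, 22, 20, 9, 13, 21, 0, 16, 11, 14, 4, 6, 10, 18, 8, 23],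
   [17, 0, 14, 5, 7, 2, 19, 20, 4, 12, 22, 13, 8, 21, 1, 18, 15, 3, 11, 6, 16, 10, 9, 23],
   [14, 5, 1, 3, 18, 2, 19, 4, 22, 11, 20, 16, 7, 12, 17, 8, 15, 0, 21, 6, 10, 13, 9, 23],
   [1, 3, 17, 0, 8, 2, 19, 22, 20, 21, 4, 10, 18, 11, 14, 7, 15, 5, 12, 6, 13, 16, 9, 23],
   [2, 0, 1, 14, 9, 3, 19, 21, 4, 11, 12, 13, 16, 15, 5, 8, 20, 17, 22, 6, 18, 7, 10, 23],
   [1, 14, 5, 17, 8, 3, 19, 4, 12, 22, 21, 18, 9, 11, 2, 16, 20, 0, 15, 6, 7, 13, 10, 23],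
   [5, 17, 2, 0, 16, 3, 19, 12, 21, 15, 4, 7, 8, 22, 1, 9, 20, 14, 11, 6, 13, 18, 10, 23],
   [17, 2, 5, 3, 21, 1, 6, 18, 9, 16, 10, 15, 4, 7, 0, 22, 8, 14, 13, 19, 20, 12, 11, 23],
   [5, 3, 0, 14, 22, 1, 6, 9, 10, 13, 18, 20, 21, 16, 17, 4, 8, 2, 7, 19, 12, 15, 11, 23],
   [0, 14, 17, 2, 4, 1, 6, 10, 18, 7, 9, 12, 22, 13, 5, 21, 8, 3, 16, 19, 15, 20, 11, 23],
   [0, 5, 3, 17, 4, 14, 6, 9, 16, 10, 7, 22, 11, 13, 1, 20, 18, 2, 8, 19, 21, 15, 12, 23],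
   [1, 2, 0, 5, 11, 14, 6, 7, 9, 13, 16, 15, 20, 8, 3, 4, 18, 17, 10, 19, 22, 21, 12, 23],
   [3, 17, 1, 2, 20, 14, 6, 16, 7, 8, 9, 21, 4, 10, 0, 11, 18, 5, 13, 19, 15, 22, 12, 23],
   [3, 14, 2, 5, 10, 0, 19, 11, 12, 15, 22, 18, 7, 20, 17, 9, 4, 1, 21, 6, 16, 8, 13, 23],
   [17, 1, 3, 14, 7, 0, 19, 22, 11, 20, 12, 8, 9, 21, 2, 10, 4, 5, 15, 6, 18, 16, 13, 23],
   [2, 5, 17, 1, 9, 0, 19, 12, 22, 21, 11, 16, 10, 15, 3, 7, 4, 14, 20, 6, 8, 18, 13, 23],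
   [14, 5, 1, 3, 12, 2, 6, 13, 16, 8, 10, 22, 21, 18, 17, 11, 9, 0, 7, 19, 20, 4, 15, 23],
   [17, 0, 14, 5, 21, 2, 6, 10, 13, 18, 16, 4, 11, 7, 1, 12, 9, 3, 8, 19, 22, 20, 15, 23],
   [1, 3, 17, 0, 11, 2, 6, 16, 10, 7, 13, 20, 12, 8, 14, 21, 9, 5, 18, 19, 4, 22, 15, 23],
   [0, 1, 2, 3, 13, 5, 19, 21, 11, 15, 20, 8, 18, 4, 14, 9, 22, 17, 12, 6, 10, 7, 16, 23],
   [2, 3, 14, 17, 9, 5, 19, 11, 20, 12, 21, 10, 13, 15, 0, 18, 22, 1, 4, 6, 7, 8, 16, 23],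
   [14, 17, 0, 1, 18, 5, 19, 20, 21, 4, 11, 7, 9, 12, 2, 13, 22, 3, 15, 6, 8, 10, 16, 23],
   [1, 2, 0, 5, 8, 14, 19, 21, 15, 4, 22, 9, 10, 11, 3, 13, 12, 17, 20, 6, 16, 7, 18, 23],
   [0, 5, 3, 17, 13, 14, 19, 15, 22, 20, 21, 16, 8, 4, 1, 10, 12, 2, 11, 6, 7, 9, 18, 23],
   [3, 17, 1, 2, 10, 14, 19, 22, 21, 11, 15, 7, 13, 20, 0, 8, 12, 5, 4, 6, 9, 16, 18, 23],
   [1, 14, 5, 17, 11, 3, 6, 13, 18, 16, 7, 12, 15, 8, 2, 22, 10, 0, 9, 19, 21, 4, 20, 23],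
   [5, 17, 2, 0, 22, 3, 6, 18, 7, 9, 13, 21, 11, 16, 1, 15, 10, 14, 8, 19, 4, 12, 20, 23],
   [2, 0, 1, 14, 15, 3, 6, 7, 13, 8, 18, 4, 22, 9, 5, 11, 10, 17, 16, 19, 12, 21, 20, 23],
   [5, 1, 14, 2, 22, 17, 6, 13, 8, 18, 9, 11, 20, 16, 3, 12, 7, 0, 10, 19, 15, 4, 21, 23],
   [14, 2, 3, 0, 12, 17, 6, 8, 9, 10, 13, 15, 22, 18, 5, 20, 7, 1, 16, 19, 4, 11, 21, 23],
   [3, 0, 5, 1, 20, 17, 6, 9, 13, 16, 8, 4, 12, 10, 14, 22, 7, 2, 18, 19, 11, 15, 21, 23],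
   [2, 3, 14, 17, 15, 5, 6, 8, 10, 18, 7, 20, 4, 9, 0, 12, 16, 1, 13, 19, 21, 11, 22, 23],
   [14, 17, 0, 1, 12, 5, 6, 10, 7, 13, 8, 21, 15, 18, 2, 4, 16, 3, 9, 19, 11, 20, 22, 23],
   [0, 1, 2, 3, 4, 5, 6, 7, 8, 9, 10, 11, 12, 13, 14, 15, 16, 17, 18, 19, 20, 21, 22, 23]]

theorem N126_chk : N126.all (fun l => isM24L l && (sameSet (T0l.map (actM l 0)) T0l && actM l 0 8912960 == 8912960)) = true := by decide +kernel

theorem N126_nodup : N126.Nodup := by decide +kernel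

theorem N126_len : N126.length = 126 := by decide +kernel

theorem N126_norm : N126.all (fun n => L7.all (fun h => L7.any (fun h' =>
    compL n h == compL h' n))) = true := by decide +kernel

theorem N126_perm {l : List ℕ} (hl : l ∈ N126) : isM24L l = true := by
  have := List.all_eq_true.mp N126_chk l hl
  rw [Bool.and_eq_true] at this
  exact this.1

theorem N126_mem {l : List ℕ} (hl : l ∈ N126) : permL l ∈ Ktr3 := by
  have := List.all_eq_true.mp N126_chk l hl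
  rw [Bool.and_eq_true] at this
  exact memKtr3 l this.1 this.2

theorem Ktr3_list : ∀ g ∈ Ktr3, ∃ l ∈ N126, g = permL l :=
  subgroup_eq_list Ktr3 N126 126 card_Ktr3
    (fun l hl => ⟨isPermL_of_isM24L (N126_perm hl), N126_mem hl⟩) N126_nodup N126_len

theorem Ktr3_le : Ktr3 ≤ M24 := fun g hg => hg.1.1

/-- The base subgroup of order seven, inside the code's group. -/
def S0 : Subgroup ↥M24 := P7.subgroupOf M24

theorem g7_mem_L7 : g7 ∈ L7 := by decide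

theorem g7_ne : g7 ≠ idL := by decide

theorem mem_S0 {x : ↥M24} : x ∈ S0 ↔ ∃ l ∈ L7, (x : Equiv.Perm GolayPt) = permL l := by
  unfold S0
  rw [Subgroup.mem_subgroupOf]
  exact mem_listSub

theorem card_S0 : Nat.card S0 = 7 := by
  rw [← card_P7]
  exact Nat.card_congr (Subgroup.subgroupOfEquivOfLe P7_le).toEquiv

/-- The generator, as a member of the code's group. -/
noncomputable def g7m : ↥M24 := ⟨permL g7, permL_mem_M24 g7_M24⟩

theorem g7m_mem : g7m ∈ S0 := mem_S0.mpr ⟨g7, g7_mem_L7, rfl⟩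

theorem norm_sub (n : ↥M24) (hn : n ∈ Subgroup.normalizer (S0 : Set ↥M24)) :
    (n : Equiv.Perm GolayPt) ∈ Ktr3 := by
  have h1 : n * g7m * n⁻¹ ∈ S0 := (Subgroup.mem_set_normalizer_iff.mp hn g7m).mp g7m_mem
  obtain ⟨l, hl, he⟩ := mem_S0.mp h1
  have he' : (n : Equiv.Perm GolayPt) * permL g7 * (n : Equiv.Perm GolayPt)⁻¹ = permL l := he
  have hne : l ≠ idL := by
    rintro rfl
    rw [permL_idL] at he'
    have h2 : permL g7 = 1 := by
      have := congrArg (fun z => (n : Equiv.Perm GolayPt)⁻¹ * z * n) he'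
      simpa [mul_assoc] using this
    rw [← permL_idL] at h2
    exact g7_ne (permL_inj (isPermL_of_isM24L g7_M24) isPermL_idL h2)
  exact mem_Ktr3_of_conj n.2 g7_mem_L7 g7_ne hl hne he'

theorem norm_conj_mem {n : Equiv.Perm GolayPt} (hn : n ∈ Ktr3) {h : Equiv.Perm GolayPt}
    (hh : h ∈ P7) : n * h * n⁻¹ ∈ P7 := by
  obtain ⟨nl, hnl, rfl⟩ := Ktr3_list n hn
  obtain ⟨hl, hhl, rfl⟩ := mem_listSub.mp hh
  have := List.all_eq_true.mp (List.all_eq_true.mp N126_norm nl hnl) hl hhl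
  obtain ⟨h', hh', e⟩ := List.any_eq_true.mp this
  rw [beq_iff_eq] at e
  rw [permL_conj (isPermL_of_isM24L (N126_perm hnl)) (L7_perm hhl) (L7_perm hh') e]
  exact mem_listSub.mpr ⟨h', hh', rfl⟩

theorem norm_sup (n : ↥M24) (hn : (n : Equiv.Perm GolayPt) ∈ Ktr3) :
    n ∈ Subgroup.normalizer (S0 : Set ↥M24) := by
  rw [Subgroup.mem_set_normalizer_iff]
  intro h
  constructor
  · intro hh
    exact Subgroup.mem_subgroupOf.mpr (norm_conj_mem hn (Subgroup.mem_subgroupOf.mp hh))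
  · intro hh
    have h2 := norm_conj_mem (Ktr3.inv_mem hn) (Subgroup.mem_subgroupOf.mp hh)
    apply Subgroup.mem_subgroupOf.mpr
    have e : (n : Equiv.Perm GolayPt)⁻¹ * ((n * h * n⁻¹ : ↥M24) : Equiv.Perm GolayPt) *
        (n : Equiv.Perm GolayPt)⁻¹⁻¹ = (h : Equiv.Perm GolayPt) := by
      show (n : Equiv.Perm GolayPt)⁻¹ * ((n : Equiv.Perm GolayPt) * (h : Equiv.Perm GolayPt) *
        (n : Equiv.Perm GolayPt)⁻¹) * (n : Equiv.Perm GolayPt)⁻¹⁻¹ = (h : Equiv.Perm GolayPt)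
      group
    rw [e] at h2
    exact h2

theorem card_norm_S0 : Nat.card ↥(Subgroup.normalizer (S0 : Set ↥M24)) = 126 := by
  have e : Subgroup.normalizer (S0 : Set ↥M24) = Ktr3.subgroupOf M24 := by
    ext n
    rw [Subgroup.mem_subgroupOf]
    exact ⟨norm_sub n, norm_sup n⟩
  rw [e, ← card_Ktr3]
  exact Nat.card_congr (Subgroup.subgroupOfEquivOfLe Ktr3_le).toEquiv

theorem cent_iff (c : ↥M24) :
    c ∈ Subgroup.centralizer (S0 : Set ↥M24) ↔ (c : Equiv.Perm GolayPt) ∈ Kz7 := by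
  rw [Subgroup.mem_centralizer_iff]
  constructor
  · intro h
    have h1 := h g7m g7m_mem
    have h2 : permL g7 * (c : Equiv.Perm GolayPt) = (c : Equiv.Perm GolayPt) * permL g7 :=
      congrArg Subtype.val h1
    have h3 : (c : Equiv.Perm GolayPt) * permL g7 * (c : Equiv.Perm GolayPt)⁻¹ = permL g7 := by
      rw [← h2]; group
    exact ⟨mem_Ktr3_of_conj c.2 g7_mem_L7 g7_ne g7_mem_L7 g7_ne h3, mem_stab_CP.mpr h2.symm⟩
  · intro hc h hh
    obtain ⟨cl, hcl, hce⟩ := Kz7_list _ hc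
    obtain ⟨hl, hhl, hhe⟩ := mem_S0.mp hh
    apply Subtype.ext
    show (h : Equiv.Perm GolayPt) * (c : Equiv.Perm GolayPt) =
      (c : Equiv.Perm GolayPt) * (h : Equiv.Perm GolayPt)
    rw [hce, hhe, permL_mul (L7_perm hhl) (isPermL_of_isM24L (C42_perm hcl)),
      permL_mul (isPermL_of_isM24L (C42_perm hcl)) (L7_perm hhl)]
    congr 1
    have := List.all_eq_true.mp (List.all_eq_true.mp C42_comm cl hcl) hl hhl
    exact beq_iff_eq.mp this

theorem Kz7_le : Kz7 ≤ M24 := fun g hg => hg.1.1.1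

theorem card_cent_S0 : Nat.card ↥(Subgroup.centralizer (S0 : Set ↥M24)) = 42 := by
  have e : Subgroup.centralizer (S0 : Set ↥M24) = Kz7.subgroupOf M24 := by
    ext c
    rw [Subgroup.mem_subgroupOf]
    exact cent_iff c
  rw [e, ← card_Kz7]
  exact Nat.card_congr (Subgroup.subgroupOfEquivOfLe Kz7_le).toEquiv

/-- Two non-commuting members of the centraliser. -/
def xa : List ℕ := [9, 16, 7, 8, 2, 13, 19, 12, 22, 21, 11, 5, 3, 15, 10, 17, 4, 18, 20, 23, 1, 14, 0, 6]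

/-- The second one. -/
def ya : List ℕ := [9, 16, 7, 8, 15, 13, 23, 14, 5, 17, 1, 22, 20, 2, 10, 21, 0, 18, 3, 19, 11, 12, 4, 6]

theorem xa_mem : xa ∈ C42 := by decide +kernel

theorem ya_mem : ya ∈ C42 := by decide +kernel

theorem xy_ne : compL xa ya ≠ compL ya xa := by decide +kernel

theorem nonab_S0 : ∃ x ∈ Subgroup.centralizer (S0 : Set ↥M24),
    ∃ y ∈ Subgroup.centralizer (S0 : Set ↥M24), x * y ≠ y * x := by
  have hx := isPermL_of_isM24L (C42_perm xa_mem)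
  have hy := isPermL_of_isM24L (C42_perm ya_mem)
  refine ⟨⟨permL xa, permL_mem_M24 (C42_perm xa_mem)⟩, (cent_iff _).mpr (C42_mem xa_mem),
    ⟨permL ya, permL_mem_M24 (C42_perm ya_mem)⟩, (cent_iff _).mpr (C42_mem ya_mem), ?_⟩
  intro e
  have e' : permL xa * permL ya = permL ya * permL xa := congrArg Subtype.val e
  rw [permL_mul hx hy, permL_mul hy hx] at e'
  exact xy_ne (permL_inj (isPermL_compL hx hy) (isPermL_compL hy hx) e')

theorem trio_S0 : ∀ n ∈ Subgroup.normalizer (S0 : Set ↥M24),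
    ((n : ↥M24) : Equiv.Perm GolayPt) • obj T0l = obj T0l := by
  intro n hn
  exact MulAction.mem_stabilizer_iff.mp (norm_sub n hn).1.2

/-- The assertion of the statement for a subgroup. -/
def R (S : Subgroup ↥M24) : Prop :=
  Nat.card ↥(Subgroup.normalizer (S : Set ↥M24)) = 126 ∧
  Nat.card ↥(Subgroup.centralizer (S : Set ↥M24)) = 42 ∧
  (∃ x ∈ Subgroup.centralizer (S : Set ↥M24), ∃ y ∈ Subgroup.centralizer (S : Set ↥M24),
    x * y ≠ y * x) ∧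
  ∃ T ∈ trios, ∀ n ∈ Subgroup.normalizer (S : Set ↥M24),
    ((n : ↥M24) : Equiv.Perm GolayPt) • T = T

theorem base : R S0 :=
  ⟨card_norm_S0, card_cent_S0, nonab_S0, obj T0l, mem_trios_T0, trio_S0⟩

theorem transport (S1 S : Subgroup ↥M24) (k : ↥M24) (h : ∀ x, x ∈ S ↔ k * x * k⁻¹ ∈ S1)
    (hR : R S1) : R S := by
  have hN : ∀ n, n ∈ Subgroup.normalizer (S : Set ↥M24) ↔
      k * n * k⁻¹ ∈ Subgroup.normalizer (S1 : Set ↥M24) := by
    intro n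
    rw [Subgroup.mem_set_normalizer_iff, Subgroup.mem_set_normalizer_iff]
    constructor
    · intro hn x0
      have h1 := h (k⁻¹ * x0 * k)
      have h2 := hn (k⁻¹ * x0 * k)
      have h3 := h (n * (k⁻¹ * x0 * k) * n⁻¹)
      have e1 : k * (k⁻¹ * x0 * k) * k⁻¹ = x0 := by group
      have e2 : k * (n * (k⁻¹ * x0 * k) * n⁻¹) * k⁻¹ = k * n * k⁻¹ * x0 * (k * n * k⁻¹)⁻¹ := by
        group
      rw [e1] at h1
      rw [e2] at h3
      exact h1.symm.trans (h2.trans h3)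
    · intro hn x
      have h1 := h x
      have h2 := hn (k * x * k⁻¹)
      have h3 := h (n * x * n⁻¹)
      have e : k * n * k⁻¹ * (k * x * k⁻¹) * (k * n * k⁻¹)⁻¹ = k * (n * x * n⁻¹) * k⁻¹ := by
        group
      rw [e] at h2
      exact h1.trans (h2.trans h3.symm)
  have hC : ∀ c, c ∈ Subgroup.centralizer (S : Set ↥M24) ↔
      k * c * k⁻¹ ∈ Subgroup.centralizer (S1 : Set ↥M24) := by
    intro c
    rw [Subgroup.mem_centralizer_iff, Subgroup.mem_centralizer_iff]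
    constructor
    · intro hc x0 hx0
      have hx : k⁻¹ * x0 * k ∈ S := (h _).mpr (by
        have e : k * (k⁻¹ * x0 * k) * k⁻¹ = x0 := by group
        rw [e]; exact hx0)
      have := hc _ hx
      calc x0 * (k * c * k⁻¹) = k * ((k⁻¹ * x0 * k) * c) * k⁻¹ := by group
        _ = k * (c * (k⁻¹ * x0 * k)) * k⁻¹ := by rw [this]
        _ = k * c * k⁻¹ * x0 := by group
    · intro hc x hx
      have := hc _ ((h x).mp hx)
      calc x * c = k⁻¹ * ((k * x * k⁻¹) * (k * c * k⁻¹)) * k := by group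
        _ = k⁻¹ * ((k * c * k⁻¹) * (k * x * k⁻¹)) * k := by rw [this]
        _ = c * x := by group
  obtain ⟨hn, hc, ⟨x, hx, y, hy, hxy⟩, T, hT, hTn⟩ := hR
  refine ⟨?_, ?_, ?_, ?_⟩
  · rw [← hn]
    exact Nat.card_congr (Equiv.subtypeEquiv (MulAut.conj k).toEquiv (fun n => hN n))
  · rw [← hc]
    exact Nat.card_congr (Equiv.subtypeEquiv (MulAut.conj k).toEquiv (fun c => hC c))
  · refine ⟨k⁻¹ * x * k, (hC _).mpr ?_, k⁻¹ * y * k, (hC _).mpr ?_, ?_⟩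
    · have e : k * (k⁻¹ * x * k) * k⁻¹ = x := by group
      rw [e]; exact hx
    · have e : k * (k⁻¹ * y * k) * k⁻¹ = y := by group
      rw [e]; exact hy
    · intro e
      apply hxy
      calc x * y = k * ((k⁻¹ * x * k) * (k⁻¹ * y * k)) * k⁻¹ := by group
        _ = k * ((k⁻¹ * y * k) * (k⁻¹ * x * k)) * k⁻¹ := by rw [e]
        _ = y * x := by group
  · refine ⟨(k : Equiv.Perm GolayPt)⁻¹ • T, smul_mem_trios (M24.inv_mem k.2) hT, ?_⟩
    intro n hn'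
    have h4 := hTn _ ((hN n).mp hn')
    have e : ((k * n * k⁻¹ : ↥M24) : Equiv.Perm GolayPt) =
        (k : Equiv.Perm GolayPt) * (n : Equiv.Perm GolayPt) * (k : Equiv.Perm GolayPt)⁻¹ := rfl
    rw [e] at h4
    calc (n : Equiv.Perm GolayPt) • ((k : Equiv.Perm GolayPt)⁻¹ • T)
        = (k : Equiv.Perm GolayPt)⁻¹ • (((k : Equiv.Perm GolayPt) * (n : Equiv.Perm GolayPt) *
            (k : Equiv.Perm GolayPt)⁻¹) • T) := by
          rw [← mul_smul, ← mul_smul]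
          congr 1
          group
      _ = (k : Equiv.Perm GolayPt)⁻¹ • T := by rw [h4]

/-- For a subgroup S of order 7 of the group of the length-24 code (a Sylow 7-subgroup): the normaliser of S has order 126, the centraliser of S has order 42 and is non-abelian, and the whole normaliser leaves some trio invariant. (These are the orders of a Frobenius group of order 21 times a symmetric group of degree 3; the isomorphism type itself is not asserted here.) -/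
theorem result (S : Subgroup ↥Cfsg.M24) (hS : Nat.card S = 7) : Nat.card ↥(Subgroup.normalizer (S : Set ↥Cfsg.M24)) = 126 ∧ Nat.card ↥(Subgroup.centralizer (S : Set ↥Cfsg.M24)) = 42 ∧ (∃ x ∈ Subgroup.centralizer (S : Set ↥Cfsg.M24), ∃ y ∈ Subgroup.centralizer (S : Set ↥Cfsg.M24), x * y ≠ y * x) ∧ ∃ T ∈ Cfsg.trios, ∀ n ∈ Subgroup.normalizer (S : Set ↥Cfsg.M24), ((n : ↥Cfsg.M24) : Equiv.Perm Cfsg.GolayPt) • T = T := by
  have : Fact (Nat.Prime 7) := ⟨by norm_num⟩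
  have hp : IsPGroup 7 S := IsPGroup.of_card (n := 1) (by rw [hS]; norm_num)
  obtain ⟨k, hk⟩ := exists_conj_le P7 P7_le 7 1 (by rw [card_P7]; norm_num) fac7 S hp
  apply transport S0 S k _ base
  have hle : S.map (MulAut.conj k).toMonoidHom ≤ S0 := by
    rintro _ ⟨x, hx, rfl⟩
    exact Subgroup.mem_subgroupOf.mpr (hk x hx)
  have hinj : Function.Injective (MulAut.conj k).toMonoidHom := (MulAut.conj k).injective
  have heq : S.map (MulAut.conj k).toMonoidHom = S0 := by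
    apply Subgroup.eq_of_le_of_card_ge hle
    rw [Subgroup.card_map_of_injective hinj, hS, card_S0]
  intro x
  rw [← heq]
  exact (Subgroup.mem_map_iff_mem hinj).symm

end Cfsg.Agent.S5604
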