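import Cfsg.Statements.S5726
import Mathlib

set_option autoImplicit false
open Cfsg

namespace Cfsg.Agent.S5726

/-- If a finite group acts faithfully and transitively on a set with p^k elements, p a prime and k ≥ 1, then some element of order p fixes no point. -/
theorem result {G Ω : Type*} [Group G] [Finite G] [MulAction G Ω] [FaithfulSMul G Ω] [Fintype Ω] (htr : MulAction.IsPretransitive G Ω)
    (p k : ℕ) (hp : p.Prime) (hk : 1 ≤ k) (hΩ : Fintype.card Ω = p ^ k) :
    ∃ g : G, orderOf g = p ∧ ∀ ω : Ω, g • ω ≠ ω := by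
  classical
  have : Fact p.Prime := ⟨hp⟩
  obtain ⟨P⟩ : Nonempty (Sylow p G) := inferInstance
  -- the Sylow subgroup is transitive
  have htrans : ∀ ω : Ω, MulAction.orbit P ω = Set.univ := by
    intro ω
    have hS : (MulAction.stabilizer G ω).index = p ^ k := by
      rw [MulAction.index_stabilizer_of_transitive, Nat.card_eq_fintype_card, hΩ]
    have h1 : (MulAction.stabilizer G ω).relIndex P * (P : Subgroup G).index
        = (P : Subgroup G).relIndex (MulAction.stabilizer G ω) * p ^ k := by
      rw [← hS, ← Subgroup.inf_relIndex_right, Subgroup.relIndex_mul_index inf_le_right,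
        ← Subgroup.inf_relIndex_left (MulAction.stabilizer G ω) P,
        Subgroup.relIndex_mul_index inf_le_left]
    have hcop : (p ^ k).Coprime (P : Subgroup G).index :=
      Nat.Coprime.pow_left k ((Nat.Prime.coprime_iff_not_dvd hp).mpr P.not_dvd_index)
    have hdvd : p ^ k ∣ (MulAction.stabilizer G ω).relIndex P :=
      hcop.dvd_of_dvd_mul_right (h1 ▸ Dvd.intro_left _ rfl)
    have hstab : MulAction.stabilizer P ω = (MulAction.stabilizer G ω).subgroupOf P := by
      ext x
      simp [Subgroup.mem_subgroupOf, MulAction.mem_stabilizer_iff, Subgroup.smul_def]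
    have hidx : (MulAction.orbit P ω).ncard = (MulAction.stabilizer G ω).relIndex P := by
      rw [← MulAction.index_stabilizer, hstab]; rfl
    rw [Set.eq_univ_iff_ncard, Nat.card_eq_fintype_card, hΩ]
    apply le_antisymm
    · have := Set.ncard_le_card (MulAction.orbit P ω)
      rwa [Nat.card_eq_fintype_card, hΩ] at this
    · apply Nat.le_of_dvd
      · rw [Set.ncard_pos]
        exact MulAction.nonempty_orbit ω
      · rw [hidx]; exact hdvd
  -- Ω has at least two points
  have hcard2 : 2 ≤ Fintype.card Ω := by
    rw [hΩ]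
    calc 2 ≤ p := hp.two_le
      _ = p ^ 1 := (pow_one p).symm
      _ ≤ p ^ k := Nat.pow_le_pow_right hp.pos hk
  obtain ⟨ω0⟩ : Nonempty Ω := by
    rw [← Fintype.card_pos_iff]; omega
  have hPnt : Nontrivial P := by
    by_contra hnt
    rw [not_nontrivial_iff_subsingleton] at hnt
    have h1 : MulAction.orbit P ω0 = {ω0} := by
      ext x
      constructor
      · rintro ⟨g, rfl⟩
        show g • ω0 = ω0
        rw [Subsingleton.elim g 1, one_smul]
      · rintro rfl; exact MulAction.mem_orbit_self _
    have h2 := htrans ω0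
    rw [h1] at h2
    have h3 : Fintype.card Ω = 1 := by
      rw [← Nat.card_eq_fintype_card, ← Set.ncard_univ, ← h2, Set.ncard_singleton]
    omega
  have hP : IsPGroup p P := P.2
  have hcen := hP.center_nontrivial
  have hcenP : IsPGroup p (Subgroup.center P) := hP.to_subgroup _
  obtain ⟨n, hn0, hn⟩ := hcenP.nontrivial_iff_card.mp hcen
  have hpdvd : p ∣ Nat.card (Subgroup.center P) := by
    rw [hn]; exact dvd_pow_self p (by omega)
  obtain ⟨z, hz⟩ := exists_prime_orderOf_dvd_card' p hpdvd
  have hzG : orderOf ((z : P) : G) = p := by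
    rw [Subgroup.orderOf_coe, Subgroup.orderOf_coe, hz]
  refine ⟨((z : P) : G), hzG, ?_⟩
  intro ω hω
  have hall : ∀ ω' : Ω, ((z : P) : G) • ω' = (1 : G) • ω' := by
    intro ω'
    have : ω' ∈ MulAction.orbit P ω := by rw [htrans ω]; trivial
    obtain ⟨g, rfl⟩ := this
    have hc : g * (z : P) = (z : P) * g := (Subgroup.mem_center_iff.mp z.2 g)
    have hc' : ((z : P) : G) * (g : G) = (g : G) * ((z : P) : G) := by
      have := congrArg (Subtype.val) hc
      simpa using this.symm
    show ((z : P) : G) • (g • ω) = (1 : G) • (g • ω)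
    rw [one_smul, Subgroup.smul_def, ← mul_smul, hc', mul_smul, hω]
  have h1 : ((z : P) : G) = 1 := FaithfulSMul.eq_of_smul_eq_smul hall
  rw [h1, orderOf_one] at hzG
  exact hp.one_lt.ne hzG

end Cfsg.Agent.S5726
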