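import Cfsg.Statements.S5727
import Mathlib
import Cfsg.Agent.S5726

set_option autoImplicit false
open Cfsg

namespace Cfsg.Agent.S5727

/-- If a finite group acts faithfully and transitively on a set with m·p elements, where p is a prime and 1 ≤ m ≤ p, then some element of order p fixes no point. -/
theorem result {G Ω : Type*} [Group G] [Finite G] [MulAction G Ω] [FaithfulSMul G Ω] [Fintype Ω] (htr : MulAction.IsPretransitive G Ω)
    (p m : ℕ) (hp : p.Prime) (hm : 1 ≤ m) (hmp : m ≤ p) (hΩ : Fintype.card Ω = m * p) :
    ∃ g : G, orderOf g = p ∧ ∀ ω : Ω, g • ω ≠ ω := by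
  classical
  have hpF : Fact p.Prime := ⟨hp⟩
  rcases Nat.lt_or_ge m p with hlt | hge
  swap
  · have hmp' : m = p := le_antisymm hmp hge
    subst hmp'
    exact Cfsg.Agent.S5726.result htr m 2 hp (by norm_num) (by rw [hΩ, sq])
  obtain ⟨P⟩ : Nonempty (Sylow p G) := inferInstance
  have : Fintype P := Fintype.ofFinite P
  have hΩpos : 0 < Fintype.card Ω := by rw [hΩ]; exact Nat.mul_pos hm hp.pos
  obtain ⟨ω0⟩ : Nonempty Ω := Fintype.card_pos_iff.mp hΩpos
  have hPp : IsPGroup p P := P.2
  -- (a) all point stabilisers in P have index p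
  have hidx : ∀ ω : Ω, (MulAction.stabilizer P ω).index = p := by
    intro ω
    have hS : (MulAction.stabilizer G ω).index = m * p := by
      rw [MulAction.index_stabilizer_of_transitive, Nat.card_eq_fintype_card, hΩ]
    have h1 : (MulAction.stabilizer G ω).relIndex P * (P : Subgroup G).index
        = (P : Subgroup G).relIndex (MulAction.stabilizer G ω) * (m * p) := by
      rw [← hS, ← Subgroup.inf_relIndex_right, Subgroup.relIndex_mul_index inf_le_right,
        ← Subgroup.inf_relIndex_left (MulAction.stabilizer G ω) P,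
        Subgroup.relIndex_mul_index inf_le_left]
    have hdvd : p ∣ (MulAction.stabilizer G ω).relIndex P := by
      have : p ∣ (MulAction.stabilizer G ω).relIndex P * (P : Subgroup G).index := by
        rw [h1, ← mul_assoc]; exact Dvd.intro_left _ rfl
      exact (hp.dvd_mul.mp this).resolve_right P.not_dvd_index
    have hstab : MulAction.stabilizer P ω = (MulAction.stabilizer G ω).subgroupOf P := by
      ext x
      simp [Subgroup.mem_subgroupOf, MulAction.mem_stabilizer_iff, Subgroup.smul_def]
    have hidx' : (MulAction.stabilizer P ω).index = (MulAction.stabilizer G ω).relIndex P := by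
      rw [hstab]; rfl
    obtain ⟨j, hj⟩ := hPp.index (MulAction.stabilizer P ω)
    have hle : (MulAction.stabilizer P ω).index ≤ m * p := by
      rw [MulAction.index_stabilizer, ← hΩ, ← Nat.card_eq_fintype_card]
      exact Set.ncard_le_card _
    rw [← hidx', hj] at hdvd
    have hj0 : j ≠ 0 := by
      rintro rfl
      rw [pow_zero] at hdvd
      exact hp.one_lt.ne' (Nat.dvd_one.mp hdvd)
    have hj2 : j < 2 := by
      by_contra h
      push Not at h
      have h2 : p ^ 2 ≤ p ^ j := Nat.pow_le_pow_right hp.pos h
      rw [hj] at hle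
      nlinarith
    have hj1 : j = 1 := by omega
    rw [hj, hj1, pow_one]
  -- (b) these stabilisers are normal
  have hnorm : ∀ ω : Ω, (MulAction.stabilizer P ω).Normal := by
    intro ω
    apply Subgroup.normal_of_index_eq_minFac_card
    rw [hidx ω]
    obtain ⟨n, hn⟩ := IsPGroup.iff_card.mp hPp
    have hn0 : n ≠ 0 := by
      rintro rfl
      have h1 : (MulAction.stabilizer P ω).index ∣ Nat.card P := Subgroup.index_dvd_card _
      rw [hidx ω, hn, pow_zero] at h1
      exact hp.one_lt.ne' (Nat.dvd_one.mp h1)
    rw [hn, Nat.pow_minFac hn0, hp.minFac_eq]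
  -- (c) an element fixing a point fixes its whole orbit
  have hfixorb : ∀ (g : P) (ω : Ω), g • ω = ω → ∀ h : P, g • (h • ω) = h • ω := by
    intro g ω hg h
    have hmem : g ∈ MulAction.stabilizer P ω := hg
    have := (hnorm ω).conj_mem g hmem h⁻¹
    rw [inv_inv, MulAction.mem_stabilizer_iff, mul_smul, mul_smul, inv_smul_eq_iff] at this
    exact this
  -- (d) double counting
  have e1 : ∀ g : P, (MulAction.fixedBy Ω g).ncard = ∑ ω : Ω, (if g • ω = ω then 1 else 0) := by
    intro g
    rw [← Nat.card_coe_set_eq, Nat.card_eq_fintype_card, Fintype.card_subtype, Finset.card_filter]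
    rfl
  have e2 : ∀ ω : Ω, Nat.card (MulAction.stabilizer P ω) = ∑ g : P, (if g • ω = ω then 1 else 0) := by
    intro ω
    rw [Nat.card_eq_fintype_card, Fintype.card_subtype, Finset.card_filter]
    rfl
  have hdc : ∑ g : P, (MulAction.fixedBy Ω g).ncard = m * Nat.card P := by
    have h1 : ∑ g : P, (MulAction.fixedBy Ω g).ncard = ∑ ω : Ω, Nat.card (MulAction.stabilizer P ω) := by
      simp_rw [e1, e2]
      exact Finset.sum_comm
    have h2 : (∑ ω : Ω, Nat.card (MulAction.stabilizer P ω)) * p = (m * Nat.card P) * p := by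
      rw [Finset.sum_mul]
      have : ∀ ω : Ω, Nat.card (MulAction.stabilizer P ω) * p = Nat.card P := by
        intro ω
        have h3 := Subgroup.card_mul_index (MulAction.stabilizer P ω)
        rw [hidx ω] at h3
        exact h3
      simp_rw [this]
      rw [Finset.sum_const, Finset.card_univ, hΩ, smul_eq_mul]
      ring
    rw [h1]
    exact Nat.eq_of_mul_eq_mul_right hp.pos h2
  -- (e) some element of P has no fixed point
  have hex : ∃ g : P, ∀ ω : Ω, g • ω ≠ ω := by
    by_contra hcon
    push Not at hcon
    have hlow : ∀ g : P, p + (if g = 1 then (m - 1) * p else 0) ≤ (MulAction.fixedBy Ω g).ncard := by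
      intro g
      by_cases hg1 : g = 1
      · subst hg1
        rw [if_pos rfl]
        have : MulAction.fixedBy Ω (1 : P) = Set.univ := by
          ext ω; simp [MulAction.mem_fixedBy]
        rw [this, Set.ncard_univ, Nat.card_eq_fintype_card, hΩ]
        have : m = (m - 1) + 1 := by omega
        nlinarith
      · rw [if_neg hg1, add_zero]
        obtain ⟨ω, hω⟩ := hcon g
        have hsub : MulAction.orbit P ω ⊆ MulAction.fixedBy Ω g := by
          rintro _ ⟨h, rfl⟩
          exact hfixorb g ω hω h
        have := Set.ncard_le_ncard hsub (Set.toFinite _)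
        rwa [← MulAction.index_stabilizer, hidx ω] at this
    have hsum : ∑ g : P, (p + (if g = 1 then (m - 1) * p else 0))
        ≤ ∑ g : P, (MulAction.fixedBy Ω g).ncard := Finset.sum_le_sum (fun g _ => hlow g)
    have hlhs : ∑ g : P, (p + (if g = 1 then (m - 1) * p else 0))
        = Nat.card P * p + (m - 1) * p := by
      rw [Finset.sum_add_distrib, Finset.sum_const, Finset.card_univ, smul_eq_mul,
        ← Nat.card_eq_fintype_card]
      congr 1
      simp
    have hsum2 : Nat.card P * p + (m - 1) * p ≤ m * Nat.card P := by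
      rw [← hlhs]
      exact hsum.trans_eq hdc
    have hPpos : 0 < Nat.card P := Nat.card_pos
    nlinarith
  obtain ⟨g, hg⟩ := hex
  have hgp : ((g : G)) ^ p = 1 := by
    apply FaithfulSMul.eq_of_smul_eq_smul (α := Ω)
    intro ω
    rw [one_smul]
    have h1 : g ^ (MulAction.stabilizer P ω).index ∈ MulAction.stabilizer P ω :=
      @Subgroup.pow_index_mem _ _ _ (hnorm ω) g
    rw [hidx ω] at h1
    exact h1
  have hg1 : (g : G) ≠ 1 := by
    intro h
    apply hg ω0
    show (g : G) • ω0 = ω0
    rw [h, one_smul]
  exact ⟨(g : G), orderOf_eq_prime hgp hg1, fun ω => hg ω⟩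

end Cfsg.Agent.S5727
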