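import Cfsg.Statements.S5728
import Mathlib

set_option autoImplicit false
open Cfsg

namespace Cfsg.Agent.S5728

/-- An elusive transitive action. Let p = 2^s − 1 be a prime and let F be the field with p² elements. Inside the group of affine maps x ↦ a·x + b of F (a ≠ 0), consider the subgroup of maps with both coefficients in the prime field. Then every element of prime order of the affine group is conjugate, within the affine group, to an element of that subgroup; equivalently, in the transitive action of the affine group on the cosets of that subgroup (of degree p(p + 1)) every element of prime order fixes a point. -/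
theorem result (p s : ℕ) [Fact p.Prime] (hs : p = 2 ^ s - 1)
    (g : Equiv.Perm (GaloisField p 2)) (hg : g ∈ Cfsg.affineGroup (GaloisField p 2)) (hord : (orderOf g).Prime) :
    ∃ x ∈ Cfsg.affineGroup (GaloisField p 2), ∃ a b : ZMod p, a ≠ 0 ∧
      ∀ y : GaloisField p 2, (x * g * x⁻¹) y = algebraMap (ZMod p) (GaloisField p 2) a * y + algebraMap (ZMod p) (GaloisField p 2) b := by
  classical
  obtain ⟨a, b, hab⟩ := hg
  have hp := (Fact.out : p.Prime)
  by_cases ha : (a : GaloisField p 2) = 1
  · have hb : b ≠ 0 := by
      intro hb
      have h1 : g = 1 := by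
        apply Equiv.ext
        intro y
        rw [hab, ha, hb]
        simp
      rw [h1, orderOf_one] at hord
      exact Nat.not_prime_one hord
    let x : Equiv.Perm (GaloisField p 2) :=
      ⟨fun y => b⁻¹ * y, fun y => b * y, fun y => by field_simp, fun y => by field_simp⟩
    refine ⟨x, ⟨(Units.mk0 b hb)⁻¹, 0, fun y => ?_⟩, 1, 1, one_ne_zero, fun y => ?_⟩
    · show b⁻¹ * y = _
      simp
    · have hxinv : x⁻¹ y = b * y := rfl
      rw [Equiv.Perm.mul_apply, Equiv.Perm.mul_apply, hxinv, hab, ha]
      show b⁻¹ * (1 * (b * y) + b) = _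
      rw [map_one]
      field_simp
  · have h1a : (1 : GaloisField p 2) - a ≠ 0 := by
      intro h
      apply ha
      rw [sub_eq_zero] at h
      exact h.symm
    let y₀ : GaloisField p 2 := b / (1 - a)
    have hy₀ : (a : GaloisField p 2) * y₀ + b - y₀ = 0 := by
      show (a : GaloisField p 2) * (b / (1 - a)) + b - b / (1 - a) = 0
      field_simp
      ring
    let x : Equiv.Perm (GaloisField p 2) :=
      ⟨fun y => y - y₀, fun y => y + y₀, fun y => by simp, fun y => by simp⟩
    have hx : x ∈ Cfsg.affineGroup (GaloisField p 2) := by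
      refine ⟨1, -y₀, fun y => ?_⟩
      show y - y₀ = _
      simp [sub_eq_add_neg]
    have hh : ∀ y, (x * g * x⁻¹) y = (a : GaloisField p 2) * y := by
      intro y
      have hxinv : x⁻¹ y = y + y₀ := rfl
      rw [Equiv.Perm.mul_apply, Equiv.Perm.mul_apply, hxinv, hab]
      show (a : GaloisField p 2) * (y + y₀) + b - y₀ = _
      linear_combination hy₀
    have hpow : ∀ (n : ℕ) (y : GaloisField p 2),
        ((x * g * x⁻¹) ^ n) y = (a : GaloisField p 2) ^ n * y := by
      intro n
      induction n with
      | zero => intro y; simp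
      | succ n ih =>
        intro y
        rw [pow_succ, Equiv.Perm.mul_apply, hh, ih, pow_succ]
        ring
    have hone : (x * g * x⁻¹) ^ orderOf g = 1 := by
      rw [conj_pow, pow_orderOf_eq_one, mul_one, mul_inv_cancel]
    have haℓ : (a : GaloisField p 2) ^ orderOf g = 1 := by
      have h1 := hpow (orderOf g) 1
      rw [hone, mul_one] at h1
      exact h1.symm
    have haℓ' : a ^ orderOf g = 1 := by
      apply Units.ext
      rw [Units.val_pow_eq_pow_val, haℓ]
      rfl
    have ha1 : a ≠ 1 := by
      intro h
      apply ha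
      rw [h]
      rfl
    haveI : Fact (orderOf g).Prime := ⟨hord⟩
    have hord_a : orderOf a = orderOf g := orderOf_eq_prime haℓ' ha1
    have hdvd : orderOf g ∣ p ^ 2 - 1 := by
      have h1 : orderOf a ∣ Nat.card (GaloisField p 2)ˣ := orderOf_dvd_natCard a
      rw [Nat.card_units, GaloisField.card p 2 (by norm_num), hord_a] at h1
      exact h1
    have h2s : 2 ^ s = p + 1 := by
      have h2 := hp.two_le
      generalize 2 ^ s = t at hs
      omega
    have hfac : p ^ 2 - 1 = (p - 1) * 2 ^ s := by
      rw [h2s]
      have h2 := hp.two_le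
      obtain ⟨k, rfl⟩ : ∃ k, p = k + 1 := ⟨p - 1, by omega⟩
      simp only [Nat.add_sub_cancel]
      have h3 : (k + 1) ^ 2 = k * (k + 1 + 1) + 1 := by ring
      rw [h3, Nat.add_sub_cancel]
    have hmem : ∃ a' : ZMod p, algebraMap (ZMod p) (GaloisField p 2) a' = a := by
      rw [hfac] at hdvd
      rcases (Nat.Prime.dvd_mul hord).mp hdvd with h | h
      · have h1 : a ^ (p - 1) = 1 := by
          rw [← hord_a] at h
          exact orderOf_dvd_iff_pow_eq_one.mp h
        have h2 : (a : GaloisField p 2) ^ (p - 1) = 1 := by
          rw [← Units.val_pow_eq_pow_val, h1]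
          rfl
        have h3 : (a : GaloisField p 2) ^ p = a := by
          have h4 : (a : GaloisField p 2) ^ (p - 1 + 1) = a := by rw [pow_succ, h2, one_mul]
          have h6 : p - 1 + 1 = p := by have := hp.two_le; omega
          rw [h6] at h4
          exact h4
        have h5 := (Subfield.mem_bot_iff_pow_eq_self (GaloisField p 2) p).mpr h3
        rw [Subfield.bot_eq_of_zMod_algebra p] at h5
        exact RingHom.mem_fieldRange.mp h5
      · have h1 : orderOf g ∣ 2 := Nat.Prime.dvd_of_dvd_pow hord h
        have h2 : orderOf g = 2 := (Nat.prime_dvd_prime_iff_eq hord Nat.prime_two).mp h1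
        rw [h2] at haℓ
        have h3 : (a : GaloisField p 2) * a = 1 := by rw [← sq]; exact haℓ
        rcases mul_self_eq_one_iff.mp h3 with h4 | h4
        · exact absurd h4 ha
        · exact ⟨-1, by rw [map_neg, map_one, h4]⟩
    obtain ⟨a', ha'⟩ := hmem
    refine ⟨x, hx, a', 0, ?_, fun y => ?_⟩
    · intro h
      rw [h, map_zero] at ha'
      exact a.ne_zero ha'.symm
    · rw [hh, ha', map_zero, add_zero]

end Cfsg.Agent.S5728
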